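import Mathlib

/-!
# Socles and flat base change (depth-zero case of EGA IV 6.3.1 / Matsumura 23.2)

For a local ring `R` and an `R`-module `M`, `HasSocle R M` says that some nonzero element of `M` is
killed by the maximal ideal; over a Noetherian local ring this is `𝔪 ∈ Ass M`.

Main result: for a local homomorphism `A → B` of local rings with `A` Noetherian, a `B`-module `N`
flat over `A` and an `A`-module `M`:
`HasSocle B (N ⊗[A] M) ↔ HasSocle A M ∧ FibreSocle A B N`,
where `FibreSocle A B N` says that `N / 𝔪_A N` has a socle over `B` (stated elementwise).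
-/

set_option autoImplicit false
set_option linter.style.haveILetI false
universe u
open TensorProduct IsLocalRing

namespace Groth.Agent.H7.SocleFlat

section Basic

/-- `M` has a nonzero element killed by the maximal ideal of the local ring `R`. -/
def HasSocle (R : Type*) [CommRing R] [IsLocalRing R] (M : Type*) [AddCommGroup M] [Module R M] :
    Prop :=
  ∃ m : M, m ≠ 0 ∧ ∀ r ∈ maximalIdeal R, r • m = 0

theorem isAssociatedPrime_maximalIdeal_iff (R : Type*) [CommRing R] [IsLocalRing R]
    [IsNoetherianRing R] (M : Type*) [AddCommGroup M] [Module R M] :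
    IsAssociatedPrime (maximalIdeal R) M ↔ HasSocle R M := by
  rw [isAssociatedPrime_iff]
  constructor
  · rintro ⟨-, x, hx⟩
    refine ⟨x, ?_, fun r hr => ?_⟩
    · rintro rfl
      have h1 : (1 : R) ∈ maximalIdeal R := by
        rw [hx, Submodule.mem_colon_singleton, smul_zero]
        exact Submodule.zero_mem _
      exact (maximalIdeal.isMaximal R).ne_top ((Ideal.eq_top_iff_one _).mpr h1)
    · rw [hx, Submodule.mem_colon_singleton, Submodule.mem_bot] at hr
      exact hr
  · rintro ⟨x, hx0, hx⟩
    refine ⟨inferInstance, x, ?_⟩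
    have hle : maximalIdeal R ≤ (⊥ : Submodule R M).colon {x} := fun r hr => by
      rw [Submodule.mem_colon_singleton, Submodule.mem_bot]; exact hx r hr
    have hne : (⊥ : Submodule R M).colon {x} ≠ ⊤ := by
      intro h
      have h1 : (1 : R) ∈ (⊥ : Submodule R M).colon {x} := by rw [h]; exact Submodule.mem_top
      rw [Submodule.mem_colon_singleton, Submodule.mem_bot, one_smul] at h1
      exact hx0 h1
    exact le_antisymm hle (le_maximalIdeal hne)

theorem HasSocle.of_linearEquiv {R : Type*} [CommRing R] [IsLocalRing R] {M M' : Type*}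
    [AddCommGroup M] [Module R M] [AddCommGroup M'] [Module R M'] (e : M ≃ₗ[R] M')
    (h : HasSocle R M) : HasSocle R M' := by
  obtain ⟨m, hm, h⟩ := h
  exact ⟨e m, fun h0 => hm (e.map_eq_zero_iff.mp h0), fun r hr => by
    rw [← map_smul, h r hr, map_zero]⟩

theorem hasSocle_congr {R : Type*} [CommRing R] [IsLocalRing R] {M M' : Type*}
    [AddCommGroup M] [Module R M] [AddCommGroup M'] [Module R M'] (e : M ≃ₗ[R] M') :
    HasSocle R M ↔ HasSocle R M' :=
  ⟨HasSocle.of_linearEquiv e, HasSocle.of_linearEquiv e.symm⟩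

/-- The socle condition does not change along a surjective homomorphism of local rings. -/
theorem hasSocle_iff_of_surjective {B R' : Type*} [CommRing B] [CommRing R'] [IsLocalRing B]
    [IsLocalRing R'] [Algebra B R'] (hs : Function.Surjective (algebraMap B R'))
    (Q : Type*) [AddCommGroup Q] [Module B Q] [Module R' Q] [IsScalarTower B R' Q] :
    HasSocle R' Q ↔ HasSocle B Q := by
  haveI : IsLocalHom (algebraMap B R') := IsLocalHom.of_surjective _ hs
  constructor
  · rintro ⟨m, hm, h⟩
    refine ⟨m, hm, fun b hb => ?_⟩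
    rw [← algebraMap_smul R' b m]
    exact h _ ((mem_maximalIdeal _).mpr
      (map_nonunit (algebraMap B R') b ((mem_maximalIdeal _).mp hb)))
  · rintro ⟨m, hm, h⟩
    refine ⟨m, hm, fun r hr => ?_⟩
    obtain ⟨b, rfl⟩ := hs r
    rw [algebraMap_smul]
    apply h
    rw [mem_maximalIdeal, mem_nonunits_iff]
    intro hb
    exact ((mem_maximalIdeal _).mp hr) (hb.map (algebraMap B R'))

end Basic

section Core

variable (A B : Type u) [CommRing A] [CommRing B] [IsLocalRing A] [IsLocalRing B]
  [Algebra A B]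
  (N : Type u) [AddCommGroup N] [Module A N] [Module B N] [IsScalarTower A B N]
  (M : Type u) [AddCommGroup M] [Module A M]

/-- `N / 𝔪_A N` has a socle over `B`, stated elementwise. -/
def FibreSocle : Prop :=
  ∃ n : N, n ∉ (Ideal.map (algebraMap A B) (maximalIdeal A)) • (⊤ : Submodule B N) ∧
    ∀ b ∈ maximalIdeal B,
      b • n ∈ (Ideal.map (algebraMap A B) (maximalIdeal A)) • (⊤ : Submodule B N)

variable {A B N}

omit [IsLocalRing A] [IsLocalRing B] in
theorem mem_map_smul_top_iff (J : Ideal A) (n : N) :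
    n ∈ (Ideal.map (algebraMap A B) J) • (⊤ : Submodule B N) ↔
      n ∈ J • (⊤ : Submodule A N) := by
  constructor
  · intro h
    have key : ∀ b ∈ Ideal.map (algebraMap A B) J, ∀ n' : N, b • n' ∈ J • (⊤ : Submodule A N) := by
      intro b hb
      refine Submodule.span_induction (p := fun b _ => ∀ n' : N, b • n' ∈ J • (⊤ : Submodule A N))
        ?_ ?_ ?_ ?_ hb
      · rintro _ ⟨a, ha, rfl⟩ n'
        rw [algebraMap_smul]
        exact Submodule.smul_mem_smul ha Submodule.mem_top
      · intro n'
        rw [zero_smul]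
        exact Submodule.zero_mem _
      · intro x y _ _ hx hy n'
        rw [add_smul]
        exact Submodule.add_mem _ (hx n') (hy n')
      · intro c x _ hx n'
        rw [smul_eq_mul, mul_comm, mul_smul]
        exact hx (c • n')
    refine Submodule.smul_induction_on h (fun b hb n' _ => key b hb n') (fun x y hx hy => ?_)
    exact Submodule.add_mem _ hx hy
  · intro h
    refine Submodule.smul_induction_on h (fun a ha n' _ => ?_) (fun x y hx hy => ?_)
    · rw [← algebraMap_smul B a n']
      exact Submodule.smul_mem_smul (Ideal.mem_map_of_mem _ ha) Submodule.mem_top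
    · exact Submodule.add_mem _ hx hy

omit [IsLocalRing B] in
theorem tmul_one_eq_zero_iff (n : N) :
    n ⊗ₜ[A] (1 : A ⧸ maximalIdeal A) = 0 ↔
      n ∈ (Ideal.map (algebraMap A B) (maximalIdeal A)) • (⊤ : Submodule B N) := by
  rw [mem_map_smul_top_iff]
  constructor
  · intro h
    have h1 := congrArg (tensorQuotEquivQuotSMul N (maximalIdeal A)) h
    rw [← map_one (Ideal.Quotient.mk (maximalIdeal A)), tensorQuotEquivQuotSMul_tmul_mk,
      one_smul, map_zero] at h1
    exact (Submodule.Quotient.mk_eq_zero _).mp h1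
  · intro h
    apply (tensorQuotEquivQuotSMul N (maximalIdeal A)).injective
    rw [map_zero, ← map_one (Ideal.Quotient.mk (maximalIdeal A)),
      tensorQuotEquivQuotSMul_tmul_mk, one_smul]
    exact (Submodule.Quotient.mk_eq_zero _).mpr h

omit [IsLocalRing B] [Module B N] [IsScalarTower A B N] [Algebra A B] in
theorem exists_tmul_one (u : N ⊗[A] (A ⧸ maximalIdeal A)) :
    ∃ n : N, u = n ⊗ₜ[A] (1 : A ⧸ maximalIdeal A) := by
  induction u using TensorProduct.induction_on with
  | zero => exact ⟨0, by rw [zero_tmul]⟩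
  | tmul n x =>
    obtain ⟨a, rfl⟩ := Ideal.Quotient.mk_surjective x
    refine ⟨a • n, ?_⟩
    rw [TensorProduct.smul_tmul]
    congr 1
    rw [Algebra.smul_def, mul_one]
    rfl
  | add x y hx hy =>
    obtain ⟨n1, rfl⟩ := hx
    obtain ⟨n2, rfl⟩ := hy
    exact ⟨n1 + n2, by rw [add_tmul]⟩

omit [IsLocalRing A] [IsLocalRing B] in
theorem lTensor_smul {M₁ M₂ : Type u} [AddCommGroup M₁] [Module A M₁] [AddCommGroup M₂]
    [Module A M₂] (f : M₁ →ₗ[A] M₂) (b : B) (t : N ⊗[A] M₁) :
    f.lTensor N (b • t) = b • f.lTensor N t := by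
  induction t using TensorProduct.induction_on with
  | zero => rw [smul_zero, map_zero, smul_zero]
  | tmul n m =>
    rw [TensorProduct.smul_tmul', LinearMap.lTensor_tmul, LinearMap.lTensor_tmul,
      TensorProduct.smul_tmul']
  | add x y hx hy => rw [smul_add, map_add, hx, hy, map_add, smul_add]

variable (N)

/-- If `M` has a socle and the fibre `N / 𝔪_A N` has a socle, then so does `N ⊗[A] M`. -/
theorem hasSocle_tensor_of [Module.Flat A N] (hM : HasSocle A M) (hN : FibreSocle A B N) :
    HasSocle B (N ⊗[A] M) := by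
  obtain ⟨m₀, hm₀, hm₀'⟩ := hM
  obtain ⟨n, hn, hn'⟩ := hN
  have key : ∀ n' ∈ (maximalIdeal A • (⊤ : Submodule A N)), n' ⊗ₜ[A] m₀ = 0 := by
    intro n' h'
    refine Submodule.smul_induction_on h' (fun a ha n'' _ => ?_) (fun x y hx hy => ?_)
    · rw [TensorProduct.smul_tmul, hm₀' a ha, tmul_zero]
    · rw [add_tmul, hx, hy, add_zero]
  refine ⟨n ⊗ₜ m₀, ?_, fun b hb => ?_⟩
  · let g : A ⧸ maximalIdeal A →ₗ[A] M :=
      Submodule.liftQ (maximalIdeal A) (LinearMap.toSpanSingleton A M m₀) (fun a ha => by
        rw [LinearMap.mem_ker, LinearMap.toSpanSingleton_apply]; exact hm₀' a ha)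
    have hgmk : ∀ a : A, g (Submodule.Quotient.mk a) = a • m₀ := fun a => by
      show (Submodule.liftQ _ _ _) (Submodule.Quotient.mk a) = _
      rw [Submodule.liftQ_apply, LinearMap.toSpanSingleton_apply]
    have hg : Function.Injective g := by
      rw [injective_iff_map_eq_zero]
      intro x hx
      obtain ⟨a, rfl⟩ := Submodule.Quotient.mk_surjective _ x
      rw [hgmk] at hx
      by_contra hne
      have ha : a ∉ maximalIdeal A := fun h => hne ((Submodule.Quotient.mk_eq_zero _).mpr h)
      have hu : IsUnit a := by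
        rwa [mem_maximalIdeal, mem_nonunits_iff, not_not] at ha
      exact hm₀ (hu.smul_eq_zero.mp hx)
    have hinj := Module.Flat.lTensor_preserves_injective_linearMap (M := N) g hg
    intro h0
    have h1 : g.lTensor N (n ⊗ₜ (1 : A ⧸ maximalIdeal A)) = 0 := by
      rw [LinearMap.lTensor_tmul]
      have : g 1 = m₀ := by
        have := hgmk 1
        rw [one_smul] at this
        exact this
      rw [this]
      exact h0
    have h2 := hinj (h1.trans (map_zero _).symm)
    exact hn ((tmul_one_eq_zero_iff n).mp h2)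
  · rw [TensorProduct.smul_tmul']
    exact key _ ((mem_map_smul_top_iff _ _).mp (hn' b hb))

/-- If `N ⊗[A] M` has a socle over `B`, then `M` has a socle over `A` and the fibre `N / 𝔪_A N`
has a socle over `B`. -/
theorem of_hasSocle_tensor [IsLocalHom (algebraMap A B)] [IsNoetherianRing A] [Module.Flat A N]
    (h : HasSocle B (N ⊗[A] M)) : HasSocle A M ∧ FibreSocle A B N := by
  classical
  obtain ⟨t, ht, ht'⟩ := h
  obtain ⟨s, hs⟩ : (maximalIdeal A).FG := (isNoetherianRing_iff_ideal_fg A).mp inferInstance _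
  let g : M →ₗ[A] (s → M) := LinearMap.pi (fun i => LinearMap.lsmul A M (i : A))
  have hgker : ∀ m : M, m ∈ LinearMap.ker g ↔ ∀ a ∈ maximalIdeal A, a • m = 0 := by
    intro m
    rw [LinearMap.mem_ker]
    constructor
    · intro hm a ha
      rw [← hs] at ha
      refine Submodule.span_induction (p := fun a _ => a • m = 0) ?_ ?_ ?_ ?_ ha
      · intro x hx
        exact congrFun hm ⟨x, hx⟩
      · exact zero_smul _ _
      · intro x y _ _ hx hy
        rw [add_smul, hx, hy, add_zero]
      · intro c x _ hx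
        rw [smul_eq_mul, mul_smul, hx, smul_zero]
    · intro hm
      funext i
      exact hm i (by rw [← hs]; exact Ideal.subset_span i.2)
  have hat : ∀ a ∈ maximalIdeal A, a • t = 0 := by
    intro a ha
    rw [← algebraMap_smul B a t]
    exact ht' _ ((mem_maximalIdeal _).mpr
      (map_nonunit (algebraMap A B) a ((mem_maximalIdeal _).mp ha)))
  have hgt : g.lTensor N t = 0 := by
    apply (TensorProduct.piRight A A N (fun _ : s => M)).injective
    rw [map_zero]
    funext i
    have hall : ∀ t' : N ⊗[A] M,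
        (TensorProduct.piRight A A N (fun _ : s => M)) (g.lTensor N t') i = (i : A) • t' := by
      intro t'
      induction t' using TensorProduct.induction_on with
      | zero => simp
      | tmul n m => simp [g, TensorProduct.tmul_smul]
      | add x y hx hy => simp only [map_add, Pi.add_apply, smul_add, hx, hy]
    rw [hall]
    exact hat _ (by rw [← hs]; exact Ideal.subset_span i.2)
  have hex := Module.Flat.lTensor_exact N (LinearMap.exact_subtype_ker_map g)
  obtain ⟨t₀, ht₀⟩ := (hex t).mp hgt
  have hinj₀ : Function.Injective ((LinearMap.ker g).subtype.lTensor N) :=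
    Module.Flat.lTensor_preserves_injective_linearMap (M := N) _ (Submodule.injective_subtype _)
  have ht₀ne : t₀ ≠ 0 := by
    rintro rfl
    rw [map_zero] at ht₀
    exact ht ht₀.symm
  have ht₀' : ∀ b ∈ maximalIdeal B, b • t₀ = 0 := by
    intro b hb
    apply hinj₀
    rw [lTensor_smul, ht₀, ht' b hb, map_zero]
  -- `ker g` is a vector space over the residue field
  have htors : Module.IsTorsionBySet A (LinearMap.ker g) (maximalIdeal A : Set A) := by
    intro m a
    apply Subtype.ext
    exact (hgker m.1).mp m.2 a.1 a.2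
  letI : Module (A ⧸ maximalIdeal A) (LinearMap.ker g) := htors.module
  haveI : IsScalarTower A (A ⧸ maximalIdeal A) (LinearMap.ker g) := htors.isScalarTower
  letI : Field (A ⧸ maximalIdeal A) := Ideal.Quotient.field _
  let bas := Module.Free.chooseBasis (A ⧸ maximalIdeal A) (LinearMap.ker g)
  let e₁ : LinearMap.ker g ≃ₗ[A]
      (Module.Free.ChooseBasisIndex (A ⧸ maximalIdeal A) (LinearMap.ker g) →₀
        A ⧸ maximalIdeal A) := bas.repr.restrictScalars A
  let e₂ := TensorProduct.AlgebraTensorModule.congr (LinearEquiv.refl B N) e₁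
  let e₃ := TensorProduct.finsuppRight A B N (A ⧸ maximalIdeal A)
    (Module.Free.ChooseBasisIndex (A ⧸ maximalIdeal A) (LinearMap.ker g))
  have ht₁ne : e₃ (e₂ t₀) ≠ 0 := fun h0 =>
    ht₀ne (e₂.map_eq_zero_iff.mp (e₃.map_eq_zero_iff.mp h0))
  have ht₁' : ∀ b ∈ maximalIdeal B, b • e₃ (e₂ t₀) = 0 := by
    intro b hb
    rw [← map_smul, ← map_smul, ht₀' b hb, map_zero, map_zero]
  obtain ⟨j, hj⟩ : ∃ j, e₃ (e₂ t₀) j ≠ 0 := by
    by_contra hcon
    push Not at hcon
    exact ht₁ne (Finsupp.ext hcon)
  obtain ⟨n, hn⟩ := exists_tmul_one (e₃ (e₂ t₀) j)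
  constructor
  · refine ⟨((bas j : LinearMap.ker g) : M), ?_, ?_⟩
    · intro h0
      exact bas.ne_zero j (Subtype.ext h0)
    · exact (hgker _).mp (bas j).2
  · refine ⟨n, ?_, fun b hb => ?_⟩
    · intro hmem
      exact hj (hn.trans ((tmul_one_eq_zero_iff n).mpr hmem))
    · rw [← tmul_one_eq_zero_iff, ← TensorProduct.smul_tmul', ← hn, ← Finsupp.smul_apply,
        ht₁' b hb, Finsupp.zero_apply]

/-- **Depth-zero flat base change.** -/
theorem hasSocle_tensor_iff [IsLocalHom (algebraMap A B)] [IsNoetherianRing A] [Module.Flat A N] :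
    HasSocle B (N ⊗[A] M) ↔ HasSocle A M ∧ FibreSocle A B N :=
  ⟨of_hasSocle_tensor N M, fun h => hasSocle_tensor_of N M h.1 h.2⟩

end Core

section Quotient

variable {B R' : Type u} [CommRing B] [CommRing R'] [IsLocalRing B] [Algebra B R']
  (N : Type u) [AddCommGroup N] [Module B N]

omit [IsLocalRing B] in
theorem exists_one_tmul (hs : Function.Surjective (algebraMap B R')) (u : R' ⊗[B] N) :
    ∃ n : N, u = (1 : R') ⊗ₜ[B] n := by
  induction u using TensorProduct.induction_on with
  | zero => exact ⟨0, by rw [tmul_zero]⟩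
  | tmul r n =>
    obtain ⟨b, rfl⟩ := hs r
    refine ⟨b • n, ?_⟩
    rw [← TensorProduct.smul_tmul, Algebra.algebraMap_eq_smul_one]
  | add x y hx hy =>
    obtain ⟨n1, rfl⟩ := hx
    obtain ⟨n2, rfl⟩ := hy
    exact ⟨n1 + n2, by rw [tmul_add]⟩

omit [IsLocalRing B] in
theorem one_tmul_eq_zero_iff (hs : Function.Surjective (algebraMap B R')) (I : Ideal B)
    (hker : RingHom.ker (algebraMap B R') = I) (n : N) :
    (1 : R') ⊗ₜ[B] n = 0 ↔ n ∈ I • (⊤ : Submodule B N) := by
  subst hker
  have hs' : Function.Surjective (Algebra.ofId B R') := hs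
  let eq : (B ⧸ RingHom.ker (Algebra.ofId B R')) ≃ₐ[B] R' :=
    Ideal.quotientKerAlgEquivOfSurjective hs'
  let e : (B ⧸ RingHom.ker (Algebra.ofId B R')) ⊗[B] N ≃ₗ[B] R' ⊗[B] N :=
    TensorProduct.congr eq.toLinearEquiv (LinearEquiv.refl B N)
  have he : e ((1 : B ⧸ RingHom.ker (Algebra.ofId B R')) ⊗ₜ[B] n) = (1 : R') ⊗ₜ[B] n := by
    simp [e]
  have hq := quotTensorEquivQuotSMul_mk_one_tmul (M := N) (RingHom.ker (Algebra.ofId B R')) n
  constructor
  · intro h
    rw [← he, e.map_eq_zero_iff] at h
    rw [h, map_zero] at hq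
    exact (Submodule.Quotient.mk_eq_zero _).mp hq.symm
  · intro h
    rw [← he, e.map_eq_zero_iff]
    apply (quotTensorEquivQuotSMul N (RingHom.ker (Algebra.ofId B R'))).injective
    rw [hq, map_zero]
    exact (Submodule.Quotient.mk_eq_zero _).mpr h

/-- The socle condition for the base change of `N` along a surjection `B → R'` with kernel `I`,
stated elementwise in `N`. -/
theorem hasSocle_baseChange_iff (hs : Function.Surjective (algebraMap B R')) (I : Ideal B)
    (hker : RingHom.ker (algebraMap B R') = I) :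
    HasSocle B (R' ⊗[B] N) ↔
      ∃ n : N, n ∉ I • (⊤ : Submodule B N) ∧
        ∀ b ∈ maximalIdeal B, b • n ∈ I • (⊤ : Submodule B N) := by
  constructor
  · rintro ⟨u, hu, hu'⟩
    obtain ⟨n, rfl⟩ := exists_one_tmul N hs u
    refine ⟨n, fun hmem => hu ((one_tmul_eq_zero_iff N hs I hker n).mpr hmem), fun b hb => ?_⟩
    rw [← one_tmul_eq_zero_iff N hs I hker, TensorProduct.tmul_smul]
    exact hu' b hb
  · rintro ⟨n, hn, hn'⟩
    refine ⟨(1 : R') ⊗ₜ[B] n, fun h0 => hn ((one_tmul_eq_zero_iff N hs I hker n).mp h0),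
      fun b hb => ?_⟩
    rw [← TensorProduct.tmul_smul]
    exact (one_tmul_eq_zero_iff N hs I hker _).mpr (hn' b hb)

end Quotient

end Groth.Agent.H7.SocleFlat
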