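import Mathlib
import Groth.Agent.H70.QuasiFlat
import Groth.Agent.H8.TensorStalk
import Groth.Agent.H8.PullbackStalk
import Groth.Agent.H8.Coh
import Groth.Agent.S4357

/-!
# Generizations inside the support of a module flat over the base (EGA IV 2.3.4 / 2.5.x)

* `exists_prime_annihilator_le_comap`: going-down into the support of a finite flat module.
* `mem_support_of_annihilator_le`: a generization `z` of `x` whose prime in `O_{X,x}` contains the
  annihilator of `F_x` lies in the support of `F`.
* `exists_generization_mem_support`: if `F` is coherent and flat over `Y` at `x ∈ Supp F`, every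
  generization of `f x` lifts to a generization of `x` inside `Supp F`.
* `support_tensor_pullback`: `Supp (f^*E ⊗ F) = f⁻¹ (Supp E) ∩ Supp F`.
-/

set_option autoImplicit false
set_option linter.style.haveILetI false
universe u
open CategoryTheory AlgebraicGeometry TopologicalSpace

namespace Groth.Agent.H7.SuppGenerization

section CA

/-- Going-down into the support: for a local homomorphism of local rings `A → B` and a nonzero
finite `B`-module `M` flat over `A`, every prime of `A` is the contraction of a prime of `B`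
containing the annihilator of `M`. -/
theorem exists_prime_annihilator_le_comap {A B : Type u} [CommRing A] [CommRing B]
    [IsLocalRing A] [IsLocalRing B] (φ : A →+* B) [IsLocalHom φ]
    (M : Type u) [AddCommGroup M] [Module B M] [Module.Finite B M] [Nontrivial M]
    (hflat : @Module.Flat A M _ _ (Module.compHom M φ)) (p : PrimeSpectrum A) :
    ∃ q : PrimeSpectrum B, Module.annihilator B M ≤ q.asIdeal ∧ PrimeSpectrum.comap φ q = p := by
  obtain ⟨I, hI⟩ : ∃ I : Ideal B, I = Module.annihilator B M := ⟨_, rfl⟩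
  have hItop : I ≠ ⊤ := by
    intro h
    have h1 : (1 : B) ∈ Module.annihilator B M := by rw [← hI, h]; exact Submodule.mem_top
    obtain ⟨m, hm⟩ := exists_ne (0 : M)
    have := Module.mem_annihilator.mp h1 m
    rw [one_smul] at this
    exact hm this
  have htors : Module.IsTorsionBySet B M (I : Set B) := by
    rw [hI]; exact Module.isTorsionBySet_annihilator B M
  haveI : Nontrivial (B ⧸ I) := Ideal.Quotient.nontrivial_iff.mpr hItop
  haveI : IsLocalRing (B ⧸ I) :=
    IsLocalRing.of_surjective' (Ideal.Quotient.mk I) Ideal.Quotient.mk_surjective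
  haveI : IsLocalHom (Ideal.Quotient.mk I) :=
    IsLocalHom.of_surjective (Ideal.Quotient.mk I) Ideal.Quotient.mk_surjective
  letI modQ : Module (B ⧸ I) M := htors.module
  haveI : IsScalarTower B (B ⧸ I) M := htors.isScalarTower
  haveI : Module.Finite (B ⧸ I) M := Module.Finite.of_restrictScalars_finite B (B ⧸ I) M
  let φ' : A →+* B ⧸ I := (Ideal.Quotient.mk I).comp φ
  haveI : IsLocalHom φ' := RingHom.isLocalHom_comp _ _
  have hmod : (Module.compHom M φ' : Module A M) = Module.compHom M φ := by
    refine Module.ext' _ _ (fun a m => ?_)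
    rfl
  have hflat' : @Module.Flat A M _ _ (Module.compHom M φ') := by
    rw [hmod]; exact hflat
  obtain ⟨q', hq'⟩ := Groth.Agent.H70.QuasiFlat.comap_surjective_of_flat_module φ' M hflat' p
  refine ⟨PrimeSpectrum.comap (Ideal.Quotient.mk I) q', ?_, ?_⟩
  · rw [← hI]
    intro b hb
    show Ideal.Quotient.mk I b ∈ q'.asIdeal
    rw [Ideal.Quotient.eq_zero_iff_mem.mpr hb]
    exact q'.asIdeal.zero_mem
  · rw [← hq']
    rfl

end CA

section Geometry

variable {X : Scheme.{u}}

/-- A generization of `x` whose prime in `O_{X,x}` contains the annihilator of the stalk `F_x`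
lies in the support of the coherent module `F`. -/
theorem mem_support_of_annihilator_le (F : X.Modules) (hF : Coh.IsCoh F) (x : X)
    (q : Spec (X.presheaf.stalk x))
    (hq : Module.annihilator (X.presheaf.stalk x) (F.presheaf.stalk x) ≤ q.asIdeal) :
    X.fromSpecStalk x q ∈ CohB1.support F := by
  haveI : F.IsQuasicoherent := hF.1
  obtain ⟨U, hU, hxU, -⟩ := exists_isAffineOpen_mem_and_subset (x := x)
    (U := (⊤ : X.Opens)) trivial
  obtain ⟨z, hz⟩ : ∃ z : X, z = X.fromSpecStalk x q := ⟨_, rfl⟩
  rw [← hz]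
  have hzx : z ⤳ x := by
    have : z ∈ Set.range (X.fromSpecStalk x) := ⟨q, hz.symm⟩
    rwa [Scheme.range_fromSpecStalk] at this
  have hzU : z ∈ U := hzx.mem_open U.2 hxU
  intro hsub
  haveI hfin : Module.Finite Γ(X, U) Γ(F, U) := Groth.Agent.H8.finite_sections_of_isCoh F hF hU
  -- the prime of `z` in `Γ(X, U)` is not in the support of `Γ(F, U)`
  have hQ : hU.primeIdealOf ⟨z, hzU⟩ ∉ Module.support Γ(X, U) Γ(F, U) := by
    rw [Module.mem_support_iff]
    letI := Groth.Agent.H8.moduleSectionStalk F z hzU
    haveI := Groth.Agent.H8.isLocalizedModule_germₗ F hU z hzU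
    intro hnt
    have e := IsLocalizedModule.iso (hU.primeIdealOf ⟨z, hzU⟩).asIdeal.primeCompl
      (Groth.Agent.H8.germₗ F z hzU)
    haveI : Subsingleton (LocalizedModule (hU.primeIdealOf ⟨z, hzU⟩).asIdeal.primeCompl
      Γ(F, U)) := e.toEquiv.subsingleton
    exact not_subsingleton _ ‹_›
  rw [Module.mem_support_iff_of_finite, SetLike.not_le_iff_exists] at hQ
  obtain ⟨a, ha, haQ⟩ := hQ
  -- the germ of `a` at `x` annihilates `F_x`
  have hb : X.presheaf.germ U x hxU a ∈
      Module.annihilator (X.presheaf.stalk x) (F.presheaf.stalk x) := by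
    rw [Module.mem_annihilator]
    intro t
    obtain ⟨s, hxs, m, hm⟩ := Groth.Agent.H8.exists_germ_smul_eq_germ F hU x hxU t
    have hs : IsUnit (X.presheaf.germ U x hxU s) := (Scheme.mem_basicOpen _ _ _ hxU).mp hxs
    have h1 : X.presheaf.germ U x hxU a • F.presheaf.germ U x hxU m = 0 := by
      rw [← Groth.Agent.H8.germ_smul, Module.mem_annihilator.mp ha m, map_zero]
    rw [← hm, smul_comm] at h1
    exact hs.smul_eq_zero.mp h1
  have hbq : X.presheaf.germ U x hxU a ∈ q.asIdeal := hq hb
  -- identify the prime of `z`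
  have hzeq : hU.fromSpec (Spec.map (X.presheaf.germ U x hxU) q) = z := by
    rw [hz, ← hU.fromSpecStalk_eq_fromSpecStalk hxU, IsAffineOpen.fromSpecStalk,
      Scheme.Hom.comp_apply]
  have hQeq : hU.primeIdealOf ⟨z, hzU⟩ = Spec.map (X.presheaf.germ U x hxU) q := by
    apply hU.fromSpec.isOpenEmbedding.injective
    rw [hzeq]
    exact hU.fromSpec_primeIdealOf ⟨z, hzU⟩
  apply haQ
  rw [hQeq]
  exact hbq

/-- **Going-down inside the support.** If the coherent module `F` is flat over `Y` at a point `x`
of its support, then every generization of `f x` is the image of a generization of `x` lying in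
the support of `F`. -/
theorem exists_generization_mem_support {Y : Scheme.{u}} (f : X ⟶ Y) (F : X.Modules)
    (hF : Coh.IsCoh F) (x : X) (hfl : FlatMod.IsFlatOverAt f F x) (hx : x ∈ CohB1.support F)
    (w : Y) (hw : w ⤳ f x) : ∃ z : X, z ⤳ x ∧ z ∈ CohB1.support F ∧ f z = w := by
  have hw' : w ∈ Set.range (Y.fromSpecStalk (f x)) := by
    rw [Scheme.range_fromSpecStalk]; exact hw
  obtain ⟨p, rfl⟩ := hw'
  haveI := Groth.Agent.H8.finite_stalk_of_isCoh F hF x
  haveI : Nontrivial (F.presheaf.stalk x) := not_subsingleton_iff_nontrivial.mp hx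
  obtain ⟨q, hqI, hq⟩ := exists_prime_annihilator_le_comap (f.stalkMap x).hom
    (F.presheaf.stalk x) hfl p
  refine ⟨X.fromSpecStalk x q, ?_, mem_support_of_annihilator_le F hF x q hqI, ?_⟩
  · have : X.fromSpecStalk x q ∈ Set.range (X.fromSpecStalk x) := ⟨q, rfl⟩
    rw [Scheme.range_fromSpecStalk] at this
    exact this
  · have h1 : (Spec.map (f.stalkMap x) ≫ Y.fromSpecStalk (f x)) q =
        (X.fromSpecStalk x ≫ f) q := by
      rw [Scheme.SpecMap_stalkMap_fromSpecStalk]
    rw [Scheme.Hom.comp_apply, Scheme.Hom.comp_apply] at h1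
    rw [← hq]
    exact h1.symm

/-- The support of `f^*E ⊗ F` is `f⁻¹ (Supp E) ∩ Supp F` (for `E`, `F` of finite type). -/
theorem support_tensor_pullback {Y : Scheme.{u}} (f : X ⟶ Y) (F : X.Modules) (hF : Coh.IsCoh F)
    (E : Y.Modules) (hE : Coh.IsCoh E) :
    CohB1.support (CohB1.tensorMod ((Scheme.Modules.pullback f).obj E) F) =
      f ⁻¹' CohB1.support E ∩ CohB1.support F := by
  haveI : E.IsQuasicoherent := hE.1
  haveI : Coh.IsQCoh E := hE.1
  rw [← Groth.Agent.S4357.result f E hE.2]
  ext z
  obtain ⟨e⟩ := Groth.Agent.H8.nonempty_stalk_tensorMod_equiv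
    ((Scheme.Modules.pullback f).obj E) F z
  haveI : Module.Finite (X.presheaf.stalk z)
      (((Scheme.Modules.pullback f).obj E).presheaf.stalk z) := by
    obtain ⟨E'⟩ := Groth.Agent.H8.nonempty_stalk_pullback_equiv f E z
    letI := (f.stalkMap z).hom.toAlgebra
    haveI : Module.Finite (Y.presheaf.stalk (f z)) (E.presheaf.stalk (f z)) :=
      Groth.Agent.H8.finite_stalk_of_isCoh E hE (f z)
    exact Module.Finite.equiv E'.symm
  haveI := Groth.Agent.H8.finite_stalk_of_isCoh F hF z
  show ¬ Subsingleton _ ↔ (¬ Subsingleton _ ∧ ¬ Subsingleton _)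
  rw [e.toEquiv.subsingleton_congr,
    Groth.Agent.H8.subsingleton_tensorProduct_iff_of_isLocalRing, not_or]

end Geometry

end Groth.Agent.H7.SuppGenerization
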