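import Mathlib
import Groth.Agent.H7.SocleFlat
import Groth.Agent.H7.SuppGenerization
import Groth.Agent.H9.FiberStalk
import Groth.Agent.H8.AssPoints

/-!
# Associated points of `f^*E ⊗ F` for `F` flat over the base (EGA IV 3.3.1)

* `FibAss f F x`: `x` is an associated point of the restriction of `F` to the fibre of `f` through
  `x`, expressed in the stalk `F_x`.
* `mem_ass_tensor_iff`: `x ∈ Ass (f^*E ⊗ F) ↔ f x ∈ Ass E ∧ FibAss f F x`.
* `mem_ass_fibre_iff`: `a ∈ Ass (F|_{f⁻¹(y)}) ↔ FibAss f F (ι a)`.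
* `exists_fibAss_generization`: every point of `Supp F` has a generization in its fibre which is
  an associated point of the fibre module.
-/

set_option autoImplicit false
set_option linter.style.haveILetI false
universe u
open CategoryTheory AlgebraicGeometry TopologicalSpace TensorProduct IsLocalRing

namespace Groth.Agent.H7.AssTensorFlat

open Groth.Agent.H7.SocleFlat

variable {X Y : Scheme.{u}}

/-- `x` is an associated point of the restriction of `F` to the fibre of `f` through `x`: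
`F_x / 𝔪_{f x} F_x` has a socle over `O_{X,x}` (stated elementwise). -/
def FibAss (f : X ⟶ Y) (F : X.Modules) (x : X) : Prop :=
  ∃ n : F.presheaf.stalk x,
    n ∉ (Ideal.map (f.stalkMap x).hom (maximalIdeal (Y.presheaf.stalk (f x)))) •
        (⊤ : Submodule (X.presheaf.stalk x) (F.presheaf.stalk x)) ∧
    ∀ b ∈ maximalIdeal (X.presheaf.stalk x),
      b • n ∈ (Ideal.map (f.stalkMap x).hom (maximalIdeal (Y.presheaf.stalk (f x)))) •
        (⊤ : Submodule (X.presheaf.stalk x) (F.presheaf.stalk x))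

theorem mem_support_of_fibAss (f : X ⟶ Y) (F : X.Modules) (x : X) (h : FibAss f F x) :
    x ∈ CohB1.support F := by
  obtain ⟨n, hn, -⟩ := h
  intro hsub
  apply hn
  rw [Subsingleton.elim n 0]
  exact Submodule.zero_mem _

/-- **EGA IV 3.3.1 (pointwise form).** -/
theorem mem_ass_tensor_iff [IsLocallyNoetherian X] [IsLocallyNoetherian Y] (f : X ⟶ Y)
    (E : Y.Modules) (hE : Coh.IsCoh E) (F : X.Modules) (hfl : FlatMod.IsFlatOver f F) (x : X) :
    x ∈ AssSch.Ass (CohB1.tensorMod ((Scheme.Modules.pullback f).obj E) F) ↔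
      f x ∈ AssSch.Ass E ∧ FibAss f F x := by
  haveI : E.IsQuasicoherent := hE.1
  letI algAB : Algebra (Y.presheaf.stalk (f x)) (X.presheaf.stalk x) :=
    (f.stalkMap x).hom.toAlgebra
  letI modAF : Module (Y.presheaf.stalk (f x)) (F.presheaf.stalk x) :=
    FlatMod.moduleStalkOver f F x
  haveI tower : IsScalarTower (Y.presheaf.stalk (f x)) (X.presheaf.stalk x)
      (F.presheaf.stalk x) := IsScalarTower.of_algebraMap_smul fun _ _ => rfl
  haveI : IsLocalHom (algebraMap (Y.presheaf.stalk (f x)) (X.presheaf.stalk x)) :=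
    (inferInstance : IsLocalHom (f.stalkMap x).hom)
  haveI : Module.Flat (Y.presheaf.stalk (f x)) (F.presheaf.stalk x) := hfl x
  obtain ⟨e1⟩ := Groth.Agent.H8.nonempty_stalk_tensorMod_equiv
    ((Scheme.Modules.pullback f).obj E) F x
  obtain ⟨e2⟩ := Groth.Agent.H8.nonempty_stalk_pullback_equiv f E x
  let e3 := TensorProduct.congr e2
    (LinearEquiv.refl (X.presheaf.stalk x) (F.presheaf.stalk x))
  let e4 := TensorProduct.comm (X.presheaf.stalk x)
    (TensorProduct (Y.presheaf.stalk (f x)) (X.presheaf.stalk x) (E.presheaf.stalk (f x)))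
    (F.presheaf.stalk x)
  let e5 := TensorProduct.AlgebraTensorModule.cancelBaseChange (Y.presheaf.stalk (f x))
    (X.presheaf.stalk x) (X.presheaf.stalk x) (F.presheaf.stalk x) (E.presheaf.stalk (f x))
  have key := hasSocle_tensor_iff (A := Y.presheaf.stalk (f x)) (B := X.presheaf.stalk x)
    (F.presheaf.stalk x) (E.presheaf.stalk (f x))
  show IsAssociatedPrime _ _ ↔ IsAssociatedPrime _ _ ∧ _
  rw [isAssociatedPrime_maximalIdeal_iff, isAssociatedPrime_maximalIdeal_iff,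
    hasSocle_congr (e1 ≪≫ₗ e3 ≪≫ₗ e4 ≪≫ₗ e5)]
  exact key

/-- Associated points of the restriction of `F` to a fibre. -/
theorem mem_ass_fibre_iff [IsLocallyNoetherian X] (f : X ⟶ Y) (F : X.Modules)
    (hF : Coh.IsCoh F) (y : Y) (a : ↥(f.fiber y)) :
    a ∈ AssSch.Ass ((Scheme.Modules.pullback (f.fiberι y)).obj F) ↔
      FibAss f F (f.fiberι y a) := by
  haveI : F.IsQuasicoherent := hF.1
  obtain ⟨hsurj, hker⟩ := Groth.Agent.H9.stalkMap_fiberι_surjective_and_ker_eq f y a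
  letI alg : Algebra (X.presheaf.stalk (f.fiberι y a)) ((f.fiber y).presheaf.stalk a) :=
    ((f.fiberι y).stalkMap a).hom.toAlgebra
  haveI : IsNoetherianRing ((f.fiber y).presheaf.stalk a) :=
    isNoetherianRing_of_surjective _ _ ((f.fiberι y).stalkMap a).hom hsurj
  obtain ⟨e2⟩ := Groth.Agent.H8.nonempty_stalk_pullback_equiv (f.fiberι y) F a
  show IsAssociatedPrime _ _ ↔ _
  rw [isAssociatedPrime_maximalIdeal_iff, hasSocle_congr e2,
    hasSocle_iff_of_surjective (B := X.presheaf.stalk (f.fiberι y a)) hsurj]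
  exact hasSocle_baseChange_iff (F.presheaf.stalk (f.fiberι y a)) hsurj _ hker

section Affine

variable (f : X ⟶ Y) (F : X.Modules) [F.IsQuasicoherent]
  {V : Y.Opens} (hV : IsAffineOpen V) {U : X.Opens} (hU : IsAffineOpen U) (hUV : U ≤ f ⁻¹ᵁ V)

omit [F.IsQuasicoherent] in
theorem stalkMap_germ_appLE (x : X) (hxU : x ∈ U) (a : Γ(Y, V)) :
    (f.stalkMap x).hom (Y.presheaf.germ V (f x) (hUV hxU) a) =
      X.presheaf.germ U x hxU ((f.appLE V U hUV).hom a) := by
  have h1 := Scheme.Hom.germ_stalkMap_apply f V x (hUV hxU) a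
  have h2 := TopCat.Presheaf.germ_res_apply X.presheaf (homOfLE hUV) x hxU (f.app V a)
  exact h1.trans h2.symm

include hV in
omit [F.IsQuasicoherent] in
theorem map_stalkMap_maximalIdeal (x : X) (hxU : x ∈ U) :
    Ideal.map (f.stalkMap x).hom (maximalIdeal (Y.presheaf.stalk (f x))) =
      Ideal.map (X.presheaf.germ U x hxU).hom
        (Ideal.map (f.appLE V U hUV).hom (hV.primeIdealOf ⟨f x, hUV hxU⟩).asIdeal) := by
  letI := Y.presheaf.algebra_section_stalk ⟨f x, hUV hxU⟩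
  haveI := hV.isLocalization_stalk ⟨f x, hUV hxU⟩
  have h1 : maximalIdeal (Y.presheaf.stalk (f x)) =
      Ideal.map (Y.presheaf.germ V (f x) (hUV hxU)).hom
        (hV.primeIdealOf ⟨f x, hUV hxU⟩).asIdeal :=
    (IsLocalization.AtPrime.map_eq_maximalIdeal (hV.primeIdealOf ⟨f x, hUV hxU⟩).asIdeal
      (Y.presheaf.stalk (f x))).symm
  rw [h1, Ideal.map_map, Ideal.map_map]
  congr 1
  ext a
  exact stalkMap_germ_appLE f hUV x hxU a

include hV hU in
/-- A section `m₀` over an affine open whose annihilator modulo `𝔭 N` is the prime of `x₀` gives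
an associated point of the fibre. -/
theorem fibAss_of_germ (x₀ : X) (hx₀ : x₀ ∈ U) (m₀ : Γ(F, U)) (J : Ideal Γ(X, U))
    (hJ : J = Ideal.map (f.appLE V U hUV).hom (hV.primeIdealOf ⟨f x₀, hUV hx₀⟩).asIdeal)
    (h : ∀ r : Γ(X, U), r ∈ (hU.primeIdealOf ⟨x₀, hx₀⟩).asIdeal ↔
      r • m₀ ∈ J • (⊤ : Submodule Γ(X, U) Γ(F, U))) :
    FibAss f F x₀ := by
  letI := X.presheaf.algebra_section_stalk ⟨x₀, hx₀⟩
  haveI := hU.isLocalization_stalk ⟨x₀, hx₀⟩
  have hI : Ideal.map (f.stalkMap x₀).hom (maximalIdeal (Y.presheaf.stalk (f x₀))) =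
      Ideal.map (X.presheaf.germ U x₀ hx₀).hom J := by
    rw [hJ]; exact map_stalkMap_maximalIdeal f hV hUV x₀ hx₀
  have hL : ∀ n' ∈ J • (⊤ : Submodule Γ(X, U) Γ(F, U)),
      F.presheaf.germ U x₀ hx₀ n' ∈ (Ideal.map (X.presheaf.germ U x₀ hx₀).hom J) •
        (⊤ : Submodule (X.presheaf.stalk x₀) (F.presheaf.stalk x₀)) := by
    intro n' hn'
    refine Submodule.smul_induction_on hn' (fun j hj n'' _ => ?_) (fun a b ha hb => ?_)
    · rw [Groth.Agent.H8.germ_smul]
      exact Submodule.smul_mem_smul (Ideal.mem_map_of_mem _ hj) Submodule.mem_top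
    · rw [map_add]; exact Submodule.add_mem _ ha hb
  have hD : ∀ t ∈ (Ideal.map (X.presheaf.germ U x₀ hx₀).hom J) •
        (⊤ : Submodule (X.presheaf.stalk x₀) (F.presheaf.stalk x₀)),
      ∃ s : Γ(X, U), s ∉ (hU.primeIdealOf ⟨x₀, hx₀⟩).asIdeal ∧
        ∃ m' ∈ J • (⊤ : Submodule Γ(X, U) Γ(F, U)),
          X.presheaf.germ U x₀ hx₀ s • t = F.presheaf.germ U x₀ hx₀ m' := by
    intro t ht
    refine Submodule.smul_induction_on ht (fun b hb t' _ => ?_) (fun t₁ t₂ h₁ h₂ => ?_)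
    · obtain ⟨⟨j, s₁⟩, hbs⟩ := (IsLocalization.mem_map_algebraMap_iff
        (hU.primeIdealOf ⟨x₀, hx₀⟩).asIdeal.primeCompl (X.presheaf.stalk x₀)).mp hb
      obtain ⟨a, hxa, m, hm⟩ := Groth.Agent.H8.exists_germ_smul_eq_germ F hU x₀ hx₀ t'
      have ha : a ∈ (hU.primeIdealOf ⟨x₀, hx₀⟩).asIdeal.primeCompl :=
        (Groth.Agent.H8.mem_basicOpen_iff_notMem_primeIdealOf hU x₀ hx₀ a).mp hxa
      refine ⟨s₁.1 * a, (hU.primeIdealOf ⟨x₀, hx₀⟩).asIdeal.primeCompl.mul_mem s₁.2 ha,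
        j.1 • m, Submodule.smul_mem_smul j.2 Submodule.mem_top, ?_⟩
      have hbs' : b * X.presheaf.germ U x₀ hx₀ s₁.1 = X.presheaf.germ U x₀ hx₀ j.1 := hbs
      rw [Groth.Agent.H8.germ_smul, ← hm, ← hbs', map_mul, smul_smul, smul_smul]
      congr 1
      ring
    · obtain ⟨s, hs, m, hm, e⟩ := h₁
      obtain ⟨s', hs', m', hm', e'⟩ := h₂
      refine ⟨s * s', (hU.primeIdealOf ⟨x₀, hx₀⟩).asIdeal.primeCompl.mul_mem hs hs',
        s' • m + s • m', Submodule.add_mem _ (Submodule.smul_mem _ _ hm)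
          (Submodule.smul_mem _ _ hm'), ?_⟩
      rw [map_add, Groth.Agent.H8.germ_smul, Groth.Agent.H8.germ_smul, ← e, ← e', map_mul,
        smul_add, smul_smul, smul_smul]
      congr 2
      exact mul_comm _ _
  refine ⟨F.presheaf.germ U x₀ hx₀ m₀, ?_, ?_⟩
  · rw [hI]
    intro hmem
    obtain ⟨s, hs, m', hm', e⟩ := hD _ hmem
    have h0 : F.presheaf.germ U x₀ hx₀ (s • m₀ - m') = 0 := by
      rw [map_sub, Groth.Agent.H8.germ_smul, e, sub_self]
    obtain ⟨s', hxs', hs'⟩ :=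
      Groth.Agent.H8.exists_smul_eq_zero_of_germ_eq_zero F hU x₀ hx₀ _ h0
    have hs'q : s' ∉ (hU.primeIdealOf ⟨x₀, hx₀⟩).asIdeal :=
      (Groth.Agent.H8.mem_basicOpen_iff_notMem_primeIdealOf hU x₀ hx₀ s').mp hxs'
    have hmem' : (s' * s) • m₀ ∈ J • (⊤ : Submodule Γ(X, U) Γ(F, U)) := by
      have heq : (s' * s) • m₀ = s' • m' := by
        rw [smul_sub, sub_eq_zero] at hs'
        rw [mul_smul]; exact hs'
      rw [heq]; exact Submodule.smul_mem _ _ hm'
    have hin := (h _).mpr hmem'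
    rcases (hU.primeIdealOf ⟨x₀, hx₀⟩).isPrime.mem_or_mem hin with h1 | h1
    · exact hs'q h1
    · exact hs h1
  · rw [hI]
    intro b hb
    have hmax : maximalIdeal (X.presheaf.stalk x₀) =
        Ideal.map (X.presheaf.germ U x₀ hx₀).hom (hU.primeIdealOf ⟨x₀, hx₀⟩).asIdeal :=
      (IsLocalization.AtPrime.map_eq_maximalIdeal (hU.primeIdealOf ⟨x₀, hx₀⟩).asIdeal
        (X.presheaf.stalk x₀)).symm
    rw [hmax] at hb
    refine Submodule.span_induction (p := fun b _ => b • F.presheaf.germ U x₀ hx₀ m₀ ∈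
      (Ideal.map (X.presheaf.germ U x₀ hx₀).hom J) •
        (⊤ : Submodule (X.presheaf.stalk x₀) (F.presheaf.stalk x₀))) ?_ ?_ ?_ ?_ hb
    · rintro _ ⟨r, hr, rfl⟩
      have := hL _ ((h r).mp hr)
      rw [Groth.Agent.H8.germ_smul] at this
      exact this
    · rw [zero_smul]; exact Submodule.zero_mem _
    · intro x y _ _ hx hy
      rw [add_smul]; exact Submodule.add_mem _ hx hy
    · intro c x _ hx
      rw [smul_eq_mul, mul_smul]; exact Submodule.smul_mem _ c hx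

end Affine

/-- Every point of the support of `F` has a generization in its fibre which is an associated
point of the fibre module. -/
theorem exists_fibAss_generization [IsLocallyNoetherian X] (f : X ⟶ Y) (F : X.Modules)
    (hF : Coh.IsCoh F) (w : X) (hw : w ∈ CohB1.support F) :
    ∃ x₀ : X, x₀ ⤳ w ∧ f x₀ = f w ∧ FibAss f F x₀ := by
  haveI : F.IsQuasicoherent := hF.1
  obtain ⟨V, hV, hyV, -⟩ := exists_isAffineOpen_mem_and_subset (x := f w)
    (U := (⊤ : Y.Opens)) trivial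
  obtain ⟨U, hU, hwU, hUV⟩ := exists_isAffineOpen_mem_and_subset (x := w)
    (U := f ⁻¹ᵁ V) hyV
  haveI : IsNoetherianRing Γ(X, U) := IsLocallyNoetherian.component_noetherian ⟨U, hU⟩
  haveI : Module.Finite Γ(X, U) Γ(F, U) := Groth.Agent.H8.finite_sections_of_isCoh F hF hU
  obtain ⟨ρ, hρ⟩ : ∃ ρ : Γ(Y, V) →+* Γ(X, U), ρ = (f.appLE V U hUV).hom := ⟨_, rfl⟩
  obtain ⟨Pw, hPw⟩ : ∃ P : Ideal Γ(X, U), P = (hU.primeIdealOf ⟨w, hwU⟩).asIdeal := ⟨_, rfl⟩
  obtain ⟨pw, hpw'⟩ : ∃ p : Ideal Γ(Y, V), p = (hV.primeIdealOf ⟨f w, hUV hwU⟩).asIdeal :=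
    ⟨_, rfl⟩
  have hpw : Pw.comap ρ = pw := by
    rw [hPw, hρ, hpw']
    exact congrArg PrimeSpectrum.asIdeal
      (IsAffineOpen.comap_primeIdealOf_appLE V hV U hU hUV hwU)
  obtain ⟨J, hJ⟩ : ∃ J : Ideal Γ(X, U), J = Ideal.map ρ pw := ⟨_, rfl⟩
  have hJP : J ≤ Pw := by rw [hJ, Ideal.map_le_iff_le_comap, hpw]
  -- the annihilator of `N / J N` is contained in the prime of `w`
  have hann : Module.annihilator Γ(X, U)
      (Γ(F, U) ⧸ (J • (⊤ : Submodule Γ(X, U) Γ(F, U)))) ≤ Pw := by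
    intro r hr
    by_contra hrP
    apply hw
    have hrN : ∀ n₀ : Γ(F, U), r • n₀ ∈ J • (⊤ : Submodule Γ(X, U) Γ(F, U)) := by
      intro n₀
      have := Module.mem_annihilator.mp hr (Submodule.Quotient.mk n₀)
      rwa [← Submodule.Quotient.mk_smul, Submodule.Quotient.mk_eq_zero] at this
    have hunit : ∀ a : Γ(X, U), a ∉ Pw → IsUnit (X.presheaf.germ U w hwU a) := by
      intro a ha
      rw [← Scheme.mem_basicOpen _ _ _ hwU,
        Groth.Agent.H8.mem_basicOpen_iff_notMem_primeIdealOf hU w hwU a]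
      rw [hPw] at ha
      exact ha
    have hru := hunit r hrP
    haveI := Groth.Agent.H8.finite_stalk_of_isCoh F hF w
    have hle : (⊤ : Submodule (X.presheaf.stalk w) (F.presheaf.stalk w)) ≤
        maximalIdeal (X.presheaf.stalk w) • ⊤ := by
      intro t _
      obtain ⟨s, hws, m, hm⟩ := Groth.Agent.H8.exists_germ_smul_eq_germ F hU w hwU t
      have hsu : IsUnit (X.presheaf.germ U w hwU s) := (Scheme.mem_basicOpen _ _ _ hwU).mp hws
      have h1 : F.presheaf.germ U w hwU (r • m) ∈ maximalIdeal (X.presheaf.stalk w) •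
          (⊤ : Submodule (X.presheaf.stalk w) (F.presheaf.stalk w)) := by
        refine Submodule.smul_induction_on (hrN m) (fun j hj n'' _ => ?_) (fun a b ha hb => ?_)
        · rw [Groth.Agent.H8.germ_smul]
          refine Submodule.smul_mem_smul ?_ Submodule.mem_top
          rw [mem_maximalIdeal, mem_nonunits_iff, ← Scheme.mem_basicOpen _ _ _ hwU,
            Groth.Agent.H8.mem_basicOpen_iff_notMem_primeIdealOf hU w hwU j]
          intro hcon
          apply hcon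
          rw [← hPw]
          exact hJP hj
        · rw [map_add]; exact Submodule.add_mem _ ha hb
      rw [Groth.Agent.H8.germ_smul, ← hm, smul_smul] at h1
      obtain ⟨u, hu'⟩ := hru.mul hsu
      have ht : t = ((u⁻¹ : (X.presheaf.stalk w)ˣ) : X.presheaf.stalk w) •
          ((u : X.presheaf.stalk w) • t) := by
        rw [smul_smul, Units.inv_mul, one_smul]
      rw [ht, hu']
      exact Submodule.smul_mem _ _ h1
    have hbot := Submodule.eq_bot_of_le_smul_of_le_jacobson_bot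
      (maximalIdeal (X.presheaf.stalk w)) ⊤ Module.Finite.fg_top hle
      (IsLocalRing.maximalIdeal_le_jacobson _)
    refine ⟨fun a b => ?_⟩
    have ha : a ∈ (⊤ : Submodule (X.presheaf.stalk w) (F.presheaf.stalk w)) := Submodule.mem_top
    have hb : b ∈ (⊤ : Submodule (X.presheaf.stalk w) (F.presheaf.stalk w)) := Submodule.mem_top
    rw [hbot] at ha hb
    rw [(Submodule.mem_bot _).mp ha, (Submodule.mem_bot _).mp hb]
  haveI : Pw.IsPrime := by rw [hPw]; exact (hU.primeIdealOf ⟨w, hwU⟩).isPrime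
  obtain ⟨𝔮, h𝔮min, h𝔮le⟩ := Ideal.exists_minimalPrimes_le hann
  have h𝔮ass : 𝔮 ∈ associatedPrimes Γ(X, U)
      (Γ(F, U) ⧸ (J • (⊤ : Submodule Γ(X, U) Γ(F, U)))) :=
    Module.associatedPrimes.minimalPrimes_annihilator_subset_associatedPrimes _ _ h𝔮min
  haveI h𝔮prime : 𝔮.IsPrime := h𝔮ass.isPrime
  obtain ⟨-, qbar, hqbar⟩ := isAssociatedPrime_iff.mp h𝔮ass
  obtain ⟨m₀, rfl⟩ := Submodule.Quotient.mk_surjective _ qbar
  have hchar : ∀ r : Γ(X, U), r ∈ 𝔮 ↔ r • m₀ ∈ J • (⊤ : Submodule Γ(X, U) Γ(F, U)) := by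
    intro r
    rw [hqbar, Submodule.mem_colon_singleton, Submodule.mem_bot, ← Submodule.Quotient.mk_smul,
      Submodule.Quotient.mk_eq_zero]
  have hx₀U : Groth.Agent.H8.pointOfPrime hU 𝔮 ∈ U := Groth.Agent.H8.pointOfPrime_mem hU 𝔮
  have hprime : hU.primeIdealOf ⟨Groth.Agent.H8.pointOfPrime hU 𝔮, hx₀U⟩ = ⟨𝔮, h𝔮prime⟩ :=
    Groth.Agent.H8.primeIdealOf_pointOfPrime hU 𝔮
  have hx₀w : Groth.Agent.H8.pointOfPrime hU 𝔮 ⤳ w :=
    Groth.Agent.H8.pointOfPrime_specializes hU 𝔮 w hwU (by rw [← hPw]; exact h𝔮le)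
  have hcomap : 𝔮.comap ρ = pw := by
    apply le_antisymm
    · rw [← hpw]; exact Ideal.comap_mono h𝔮le
    · intro a ha
      rw [Ideal.mem_comap, hchar, hJ]
      exact Submodule.smul_mem_smul (Ideal.mem_map_of_mem ρ ha) Submodule.mem_top
  have hfx₀ : hV.primeIdealOf ⟨f (Groth.Agent.H8.pointOfPrime hU 𝔮), hUV hx₀U⟩ =
      hV.primeIdealOf ⟨f w, hUV hwU⟩ := by
    apply PrimeSpectrum.ext
    rw [← IsAffineOpen.comap_primeIdealOf_appLE V hV U hU hUV hx₀U, hprime, ← hpw', ← hcomap, hρ]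
    rfl
  have hfeq : f (Groth.Agent.H8.pointOfPrime hU 𝔮) = f w := by
    have h1 := hV.fromSpec_primeIdealOf ⟨f (Groth.Agent.H8.pointOfPrime hU 𝔮), hUV hx₀U⟩
    have h2 := hV.fromSpec_primeIdealOf ⟨f w, hUV hwU⟩
    rw [hfx₀] at h1
    exact h1.symm.trans h2
  refine ⟨Groth.Agent.H8.pointOfPrime hU 𝔮, hx₀w, hfeq,
    fibAss_of_germ f F hV hU hUV _ hx₀U m₀ J ?_ ?_⟩
  · rw [hJ, hfx₀, hρ, hpw']
  · intro r
    rw [hprime]
    exact hchar r

end Groth.Agent.H7.AssTensorFlat
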