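import Mathlib

/-!
# S4980: maximal points of the support of a module (definition only)
-/

set_option autoImplicit false
universe u
open CategoryTheory AlgebraicGeometry

namespace Groth.Agent.H7.DvrLen

/-- `v` is a maximal point of the support of `M`. -/
abbrev MaxSupp {W : Scheme.{u}} (M : W.Modules) (v : W) : Prop :=
  Nontrivial (M.presheaf.stalk v) ∧
    ∀ w : W, Nontrivial (M.presheaf.stalk w) → v ∈ closure {w} → w = v

end Groth.Agent.H7.DvrLen
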