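import Mathlib
import Groth.Prelude.Def_FlatMod2
import Groth.Prelude.Def_FDesc
import Groth.Agent.H7.AssTensorFlat
import Groth.Agent.H7.DvrLenDefs
import Groth.Agent.H44.DvrLen_SL
import Groth.Agent.H89.DvrLen_SLG
import Groth.Agent.H89.DvrLen_NI
import Groth.Agent.H68.DvrLen_G1
import Groth.Agent.H42.DvrLen_RCa
import Groth.Agent.H15.DvrLen_RCb
import Groth.Agent.H68.DvrLen_FIN
import Groth.Agent.H68.DvrLen_GZ

set_option autoImplicit false
set_option linter.style.haveILetI false
universe u
open CategoryTheory CategoryTheory.Limits AlgebraicGeometry TopologicalSpace Opposite TensorProduct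
open IsLocalRing

namespace Groth.Agent.H7.DvrLenSkel

open Groth.Agent.H7.DvrLen (MaxSupp)

/-! ## Leaves (re-exports of the providers' theorems) -/

/-- (SL) length of a stalk of the restriction to a fibre. -/
theorem length_stalk_fibre {X Y : Scheme.{u}} (f : X ⟶ Y) (F : X.Modules) [F.IsQuasicoherent]
    (s : Y) (v : f.fiber s) :
    Module.length ((f.fiber s).presheaf.stalk v)
        (((Scheme.Modules.pullback (f.fiberι s)).obj F).presheaf.stalk v) =
      Module.length (X.presheaf.stalk (f.fiberι s v))
        ((F.presheaf.stalk (f.fiberι s v)) ⧸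
          ((Ideal.map (f.stalkMap (f.fiberι s v)).hom
              (maximalIdeal (Y.presheaf.stalk (f (f.fiberι s v))))) •
            (⊤ : Submodule (X.presheaf.stalk (f.fiberι s v)) (F.presheaf.stalk (f.fiberι s v))))) :=
  Groth.Agent.H44.DvrLen_SL.length_stalk_fibre f F s v

/-- (SLG) on the generic fibre (integral base) the stalks do not change. -/
theorem length_stalk_genericFibre {X Y : Scheme.{u}} [IsIntegral Y] (f : X ⟶ Y) (F : X.Modules)
    [F.IsQuasicoherent] (v : f.fiber (genericPoint Y)) :
    Module.length ((f.fiber (genericPoint Y)).presheaf.stalk v)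
        (((Scheme.Modules.pullback (f.fiberι (genericPoint Y))).obj F).presheaf.stalk v) =
      Module.length (X.presheaf.stalk (f.fiberι (genericPoint Y) v))
        (F.presheaf.stalk (f.fiberι (genericPoint Y) v)) :=
  Groth.Agent.H89.DvrLen_SLG.length_stalk_genericFibre f F v

/-- (GZ) the stalk at a generization is the localization of the stalk. -/
theorem length_stalk_fromSpecStalk (X : Scheme.{u}) (F : X.Modules) [F.IsQuasicoherent] (x : X)
    (p : PrimeSpectrum (X.presheaf.stalk x)) :
    Module.length (X.presheaf.stalk ((X.fromSpecStalk x) p))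
        (F.presheaf.stalk ((X.fromSpecStalk x) p)) =
      Module.length (Localization.AtPrime p.asIdeal)
        (LocalizedModule p.asIdeal.primeCompl (F.presheaf.stalk x)) :=
  Groth.Agent.H68.DvrLen_GZ.length_stalk_fromSpecStalk X F x p

/-- (NI) primes of `O_{X,x}` containing `𝔪_{f x} O_{X,x}` are the generizations in the fibre. -/
theorem map_maximalIdeal_le_iff {X S : Scheme.{u}} (f : X ⟶ S) (x : X)
    (p : PrimeSpectrum (X.presheaf.stalk x)) :
    Ideal.map (f.stalkMap x).hom (maximalIdeal (S.presheaf.stalk (f x))) ≤ p.asIdeal ↔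
      f ((X.fromSpecStalk x) p) = f x :=
  Groth.Agent.H89.DvrLen_NI.map_maximalIdeal_le_iff f x p

/-- (G1) a point of the generic fibre specializes to a point of the closed fibre which is a maximal
point of `closure {x'} ∩ f⁻¹(closed point)`. -/
theorem exists_specialization_closedFibre {A : Type u} [CommRing A] [IsDomain A]
    [IsDiscreteValuationRing A] {X : Scheme.{u}} (f : X ⟶ Spec (CommRingCat.of A)) [IsProper f]
    (x' : X) :
    ∃ x : X, f x = closedPoint A ∧ x' ⤳ x ∧
      ∀ w : X, x' ⤳ w → w ⤳ x → f w = closedPoint A → w = x :=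
  Groth.Agent.H68.DvrLen_G1.exists_specialization_closedFibre f x'

/-- (RCa) ring level: socle element. -/
theorem exists_socle_mod {A' R M : Type u} [CommRing A'] [IsDomain A'] [IsDiscreteValuationRing A']
    [CommRing R] [IsLocalRing R] [IsNoetherianRing R] [Algebra A' R]
    [IsLocalHom (algebraMap A' R)] [AddCommGroup M] [Module R M] [Module A' M]
    [IsScalarTower A' R M] [Module.Finite R M] [Module.Flat A' M]
    (p : PrimeSpectrum R)
    (hp1 : Nontrivial (LocalizedModule p.asIdeal.primeCompl M))
    (hp2 : ∀ q : PrimeSpectrum R, q < p → Subsingleton (LocalizedModule q.asIdeal.primeCompl M))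
    (hmin : ∀ q : PrimeSpectrum R, p ≤ q →
      (maximalIdeal A').map (algebraMap A' R) ≤ q.asIdeal → q.asIdeal = maximalIdeal R) :
    ∃ n : M, n ∉ ((maximalIdeal A').map (algebraMap A' R)) • (⊤ : Submodule R M) ∧
      ∀ b ∈ maximalIdeal R, b • n ∈ ((maximalIdeal A').map (algebraMap A' R)) • (⊤ : Submodule R M) :=
  Groth.Agent.H42.DvrLen.exists_socle_mod p hp1 hp2 hmin

/-- (RCb) ring level: lengths at minimal primes of the support not containing the uniformizer. -/
theorem sum_length_localization_le {A' R M : Type u} [CommRing A'] [IsDomain A']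
    [IsDiscreteValuationRing A'] [CommRing R] [IsLocalRing R] [IsNoetherianRing R] [Algebra A' R]
    [IsLocalHom (algebraMap A' R)] [AddCommGroup M] [Module R M] [Module A' M]
    [IsScalarTower A' R M] [Module.Finite R M] [Module.Flat A' M]
    (T : Finset (PrimeSpectrum R))
    (hT : ∀ p ∈ T, ¬ (maximalIdeal A').map (algebraMap A' R) ≤ p.asIdeal ∧
      ∀ q : PrimeSpectrum R, q < p → Subsingleton (LocalizedModule q.asIdeal.primeCompl M)) :
    ∑ p ∈ T, Module.length (Localization.AtPrime p.asIdeal)
        (LocalizedModule p.asIdeal.primeCompl M) ≤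
      Module.length R (M ⧸ ((maximalIdeal A').map (algebraMap A' R)) • (⊤ : Submodule R M)) :=
  Groth.Agent.H15.DvrLen_RCb.sum_length_localization_le T hT

/-- (FIN) finitely many maximal points of the support on a fibre. -/
theorem finite_maxSupp_fibre {A : Type u} [CommRing A] [IsNoetherianRing A] {X : Scheme.{u}}
    (f : X ⟶ Spec (CommRingCat.of A)) [IsProper f] (F : X.Modules) (hF : Coh.IsCoh F)
    (s : ↥(Spec (CommRingCat.of A))) :
    Finite {v : ↥(f.fiber s) // MaxSupp ((Scheme.Modules.pullback (f.fiberι s)).obj F) v} :=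
  Groth.Agent.H68.DvrLen_FIN.finite_maxSupp_fibre f F hF s

end Groth.Agent.H7.DvrLenSkel
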