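import Mathlib.Topology.Constructible
import Mathlib.Topology.LocallyConstant.Basic
import Mathlib.AlgebraicGeometry.Morphisms.FinitePresentation
import Mathlib.AlgebraicGeometry.Morphisms.QuasiSeparated
import Mathlib.AlgebraicGeometry.Properties
import Mathlib.Order.Interval.Finset.Basic
import Mathlib.Data.Int.Interval

set_option autoImplicit false
set_option linter.style.haveILetI false
universe u

namespace Groth.Agent.H7

open AlgebraicGeometry CategoryTheory Topology Set.Notation

/-! ### Integer valued functions with locally constructible level sets -/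

/-- A function all of whose level sets are locally constructible. -/
def CFun {T : Type*} [TopologicalSpace T] (w : T → ℤ) : Prop :=
  ∀ n : ℤ, IsLocallyConstructible {x | w x = n}

section Top

variable {T : Type*} [TopologicalSpace T]

theorem isLocallyConstructible_compl {s : Set T} (hs : IsLocallyConstructible s) :
    IsLocallyConstructible sᶜ := by
  intro x
  obtain ⟨U, hxU, hU, hsU⟩ := hs x
  refine ⟨U, hxU, hU, ?_⟩
  have : U ↓∩ sᶜ = (U ↓∩ s)ᶜ := rfl
  rw [this]
  exact isConstructible_compl.mpr hsU

theorem isLocallyConstructible_of_isClopen {s : Set T} (hs : IsClopen s) :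
    IsLocallyConstructible s :=
  IsRetrocompact.isLocallyConstructible hs.isOpen (fun _ hK _ => hK.inter_left hs.isClosed)

theorem cfun_const (c : ℤ) : CFun (fun _ : T => c) := by
  intro n
  by_cases h : c = n
  · have : {_x : T | c = n} = Set.univ := Set.eq_univ_of_forall fun _ => h
    rw [this]
    exact IsLocallyConstructible.univ
  · have : {_x : T | c = n} = ∅ := Set.eq_empty_of_forall_notMem fun _ hx => h hx
    rw [this]
    exact IsLocallyConstructible.empty

theorem cfun_of_isLocallyConstant {J : T → ℤ} (hJ : IsLocallyConstant J) : CFun J :=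
  fun n => isLocallyConstructible_of_isClopen (hJ.isClopen_fiber n)

theorem CFun.neg {w : T → ℤ} (h : CFun w) : CFun (fun x => - w x) := by
  intro n
  have : {x | - w x = n} = {x | w x = -n} := by
    ext x
    constructor
    · intro hx
      have hx' : - w x = n := hx
      show w x = -n
      omega
    · intro hx
      have hx' : w x = -n := hx
      show - w x = n
      omega
  rw [this]
  exact h _

theorem CFun.add_of_bounded {w₁ w₂ : T → ℤ} (h₁ : CFun w₁) (h₂ : CFun w₂) (M : ℤ)
    (hb : ∀ x, |w₂ x| ≤ M) : CFun (fun x => w₁ x + w₂ x) := by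
  intro n
  have : {x | w₁ x + w₂ x = n} =
      ⋃ b ∈ (↑(Finset.Icc (-M) M) : Set ℤ), ({x | w₁ x = n - b} ∩ {x | w₂ x = b}) := by
    ext x
    simp only [Set.mem_iUnion, Set.mem_inter_iff, exists_prop]
    constructor
    · intro hx
      have hx' : w₁ x + w₂ x = n := hx
      refine ⟨w₂ x, ?_, ?_, rfl⟩
      · rw [Finset.mem_coe, Finset.mem_Icc]
        exact abs_le.mp (hb x)
      · show w₁ x = n - w₂ x
        omega
    · rintro ⟨b, -, hx1, hx2⟩
      have hx1' : w₁ x = n - b := hx1
      have hx2' : w₂ x = b := hx2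
      show w₁ x + w₂ x = n
      omega
  rw [this]
  exact IsLocallyConstructible.biUnion (Finset.finite_toSet _) fun b _ => (h₁ _).inter (h₂ b)

theorem CFun.sub_of_bounded {w₁ w₂ : T → ℤ} (h₁ : CFun w₁) (h₂ : CFun w₂) (M : ℤ)
    (hb : ∀ x, |w₂ x| ≤ M) : CFun (fun x => w₁ x - w₂ x) := by
  have := CFun.add_of_bounded h₁ h₂.neg M (fun x => by rw [abs_neg]; exact hb x)
  simpa [sub_eq_add_neg] using this

/-- Cutting off by a locally constructible set. -/
theorem CFun.indicator {g : T → ℤ} (hg : CFun g) {E : Set T} (hE : IsLocallyConstructible E)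
    [DecidablePred (· ∈ E)] : CFun (fun z => if z ∈ E then g z else 0) := by
  intro n
  by_cases hn : n = 0
  · subst hn
    have : {z | (if z ∈ E then g z else 0) = 0} = (E ∩ {z | g z = 0}) ∪ Eᶜ := by
      ext z
      by_cases hz : z ∈ E
      · simp [hz]
      · simp [hz]
    rw [this]
    exact (hE.inter (hg 0)).union (isLocallyConstructible_compl hE)
  · have : {z | (if z ∈ E then g z else 0) = n} = E ∩ {z | g z = n} := by
      ext z
      by_cases hz : z ∈ E
      · simp [hz]
      · simp only [Set.mem_ofPred_eq, hz, if_false, Set.mem_inter_iff, false_and, iff_false]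
        exact fun h => hn h.symm
    rw [this]
    exact hE.inter (hg n)

theorem CFun.of_eq {w₁ w₂ : T → ℤ} (h₁ : CFun w₁) (h : ∀ x, w₂ x = w₁ x) : CFun w₂ := by
  have : w₂ = w₁ := funext h
  rw [this]
  exact h₁

end Top

section Scheme

variable {X Y : Scheme.{u}}

/-- Preimages of locally constructible sets under morphisms of schemes. -/
theorem isLocallyConstructible_preimage (f : X ⟶ Y) {s : Set Y}
    (hs : IsLocallyConstructible s) : IsLocallyConstructible (f ⁻¹' s) := by
  intro x
  obtain ⟨U, hxU, hU, hsU⟩ := hs (f x)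
  refine ⟨f ⁻¹' U, f.continuous.continuousAt.preimage_mem_nhds hxU, hU.preimage f.continuous, ?_⟩
  have key := (f ∣_ (⟨U, hU⟩ : Y.Opens)).isConstructible_preimage (s := U ↓∩ s) hsU
  have heq : ((f ∣_ (⟨U, hU⟩ : Y.Opens)) ⁻¹' (U ↓∩ s)) =
      {z : ↥(f ⁻¹ᵁ (⟨U, hU⟩ : Y.Opens)) | f z.1 ∈ s} := by
    ext z
    show ((f ∣_ (⟨U, hU⟩ : Y.Opens)) z).1 ∈ s ↔ f z.1 ∈ s
    rw [morphismRestrict_base_coe]
  rw [heq] at key
  exact key

theorem CFun.comp_hom {w : Y → ℤ} (hw : CFun w) (f : X ⟶ Y) : CFun (fun x => w (f x)) :=
  fun n => isLocallyConstructible_preimage f (hw n)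

/-- Chevalley's theorem. -/
theorem isLocallyConstructible_image (f : X ⟶ Y) [LocallyOfFinitePresentation f]
    [QuasiCompact f] {s : Set X} (hs : IsLocallyConstructible s) :
    IsLocallyConstructible (f '' s) :=
  f.isLocallyConstructible_image hs

/-- Extension by zero from a quasi-compact open of an affine scheme. -/
theorem CFun.extend_opens [IsAffine X] (W : X.Opens) (hW : IsCompact (W : Set X)) (g : X → ℤ)
    (hg0 : ∀ z, z ∉ W → g z = 0) (hgW : CFun (fun z : (W : Scheme.{u}) => g (W.ι z))) :
    CFun g := by
  haveI : CompactSpace (W : Scheme.{u}) := isCompact_iff_compactSpace.mp hW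
  haveI : QuasiSeparatedSpace (W : Scheme.{u}) :=
    QuasiSeparatedSpace.of_isOpenEmbedding W.ι.isOpenEmbedding
  have hretro : IsRetrocompact (Set.range W.ι) := by
    rw [Scheme.Opens.range_ι]
    exact hW.isRetrocompact W.isOpen
  have himg : ∀ n, IsLocallyConstructible (W.ι '' {z | g (W.ι z) = n}) := fun n =>
    (((hgW n).isConstructible).image_of_isOpenEmbedding W.ι.isOpenEmbedding
      hretro).isLocallyConstructible
  have hWlc : IsLocallyConstructible (W : Set X) :=
    (hW.isConstructible W.isOpen).isLocallyConstructible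
  intro n
  have hcase : ∀ z, z ∈ W → (g z = n ↔ z ∈ W.ι '' {z | g (W.ι z) = n}) := by
    intro z hz
    constructor
    · intro h
      exact ⟨⟨z, hz⟩, h, rfl⟩
    · rintro ⟨z', hz', rfl⟩
      exact hz'
  have hmemW : ∀ z, z ∈ W.ι '' {z | g (W.ι z) = n} → z ∈ W := by
    rintro _ ⟨z', -, rfl⟩
    exact z'.2
  by_cases hn : n = 0
  · have : {z | g z = n} = (W.ι '' {z | g (W.ι z) = n}) ∪ (W : Set X)ᶜ := by
      ext z
      by_cases hz : z ∈ W
      · simp only [Set.mem_ofPred_eq, Set.mem_union, Set.mem_compl_iff, SetLike.mem_coe]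
        rw [hcase z hz]
        tauto
      · simp only [Set.mem_ofPred_eq, Set.mem_union, Set.mem_compl_iff, SetLike.mem_coe]
        constructor
        · intro _; exact Or.inr hz
        · intro _; rw [hg0 z hz, hn]
    rw [this]
    exact (himg n).union (isLocallyConstructible_compl hWlc)
  · have : {z | g z = n} = W.ι '' {z | g (W.ι z) = n} := by
      ext z
      by_cases hz : z ∈ W
      · exact hcase z hz
      · constructor
        · intro h
          have h' : g z = n := h
          rw [hg0 z hz] at h'
          exact (hn h'.symm).elim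
        · intro h
          exact (hz (hmemW z h)).elim
    rw [this]
    exact himg n

end Scheme

end Groth.Agent.H7
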