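import Mathlib
import Groth.Agent.H7.CFun

set_option autoImplicit false
universe u

namespace Groth.Agent.H7

open AlgebraicGeometry CategoryTheory Limits TopologicalSpace Topology

/-- Locally of finite presentation cancels against locally of finite type. -/
theorem locallyOfFinitePresentation_of_comp' {X Y Z : Scheme.{u}} (f : X ⟶ Y) (g : Y ⟶ Z)
    [hfg : LocallyOfFinitePresentation (f ≫ g)] [hg : LocallyOfFiniteType g] :
    LocallyOfFinitePresentation f := by
  have hQ : RingHom.StableUnderCompositionWithLocalizationAwaySource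
      @RingHom.FinitePresentation := by
    intro R S T _ _ _ _ r _ φ hφ
    exact RingHom.finitePresentation_stableUnderComposition _ _
      (RingHom.finitePresentation_holdsForLocalizationAway S r) hφ
  rw [HasRingHomProperty.iff_exists_appLE (P := @LocallyOfFinitePresentation) hQ]
  intro x
  obtain ⟨W, hW, hxW, -⟩ := Opens.isBasis_iff_nbhd.mp Z.isBasis_affineOpens
    (Opens.mem_top (g (f x)))
  obtain ⟨U, hU, hxU, hUW⟩ := Opens.isBasis_iff_nbhd.mp Y.isBasis_affineOpens
    (show f x ∈ g ⁻¹ᵁ W from hxW)
  obtain ⟨V, hV, hxV, hVU⟩ := Opens.isBasis_iff_nbhd.mp X.isBasis_affineOpens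
    (show x ∈ f ⁻¹ᵁ U from hxU)
  refine ⟨⟨U, hU⟩, ⟨V, hV⟩, hxV, hVU, ?_⟩
  have h1 := HasRingHomProperty.appLE @LocallyOfFinitePresentation (f ≫ g) hfg ⟨W, hW⟩ ⟨V, hV⟩
    (hVU.trans (f.preimage_mono hUW))
  have h2 := HasRingHomProperty.appLE @LocallyOfFiniteType g hg ⟨W, hW⟩ ⟨U, hU⟩ hUW
  rw [← Scheme.Hom.appLE_comp_appLE f g W U V hUW hVU, CommRingCat.hom_comp] at h1
  exact RingHom.FinitePresentation.of_comp_finiteType _ h1 h2

/-- the induced morphism on fibres over `s` -/
noncomputable abbrev fibreMap {X Y S : Scheme.{u}} (f : X ⟶ Y) (g : Y ⟶ S) (s : S) :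
    pullback (f ≫ g) (S.fromSpecResidueField s) ⟶ pullback g (S.fromSpecResidueField s) :=
  pullback.lift (pullback.fst (f ≫ g) (S.fromSpecResidueField s) ≫ f)
    (pullback.snd (f ≫ g) (S.fromSpecResidueField s))
    ((Category.assoc _ _ _).trans pullback.condition)

lemma isPullback_fibreMap {X Y S : Scheme.{u}} (f : X ⟶ Y) (g : Y ⟶ S) (s : S) :
    IsPullback (fibreMap f g s) (pullback.fst (f ≫ g) (S.fromSpecResidueField s))
      (pullback.fst g (S.fromSpecResidueField s)) f := by
  have hfst : fibreMap f g s ≫ pullback.fst g _ = pullback.fst (f ≫ g) _ ≫ f :=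
    pullback.lift_fst _ _ _
  have hsnd : fibreMap f g s ≫ pullback.snd g _ = pullback.snd (f ≫ g) _ :=
    pullback.lift_snd _ _ _
  have t : IsPullback (pullback.snd g (S.fromSpecResidueField s))
      (pullback.fst g (S.fromSpecResidueField s)) (S.fromSpecResidueField s) g :=
    (IsPullback.of_hasPullback g (S.fromSpecResidueField s)).flip
  have s' : IsPullback (fibreMap f g s ≫ pullback.snd g (S.fromSpecResidueField s))
      (pullback.fst (f ≫ g) (S.fromSpecResidueField s)) (S.fromSpecResidueField s) (f ≫ g) := by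
    rw [hsnd]
    exact (IsPullback.of_hasPullback (f ≫ g) (S.fromSpecResidueField s)).flip
  exact IsPullback.of_right s' hfst t

lemma surjective_fibreMap_iff {X Y S : Scheme.{u}} (f : X ⟶ Y) (g : Y ⟶ S) (s : S) :
    Function.Surjective (fibreMap f g s).base ↔ ∀ y : Y, g y = s → y ∈ Set.range f := by
  have hfst : fibreMap f g s ≫ pullback.fst g _ = pullback.fst (f ≫ g) _ ≫ f :=
    pullback.lift_fst _ _ _
  constructor
  · intro hsurj y hy
    obtain ⟨y', hy'1, -⟩ := Scheme.Pullback.exists_preimage_pullback (f := g)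
      (g := S.fromSpecResidueField s) y (IsLocalRing.closedPoint (S.residueField s))
      (by rw [Scheme.fromSpecResidueField_apply]; exact hy)
    obtain ⟨x', hx'⟩ := hsurj y'
    refine ⟨pullback.fst (f ≫ g) (S.fromSpecResidueField s) x', ?_⟩
    have := congrArg (fun φ : pullback (f ≫ g) (S.fromSpecResidueField s) ⟶ Y => φ x') hfst
    simp only [Scheme.Hom.comp_apply] at this
    rw [← this]
    show (pullback.fst g (S.fromSpecResidueField s)) ((fibreMap f g s).base x') = y
    rw [hx', hy'1]
  · intro h y'
    have hgy : g (pullback.fst g (S.fromSpecResidueField s) y') = s := by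
      have := congrArg (fun φ : pullback g (S.fromSpecResidueField s) ⟶ S => φ y')
        (pullback.condition (f := g) (g := S.fromSpecResidueField s))
      simp only [Scheme.Hom.comp_apply] at this
      rw [this, Scheme.fromSpecResidueField_apply]
    obtain ⟨x, hx⟩ := h _ hgy
    obtain ⟨p, hp1, -⟩ := Scheme.exists_preimage_of_isPullback
      (isPullback_fibreMap f g s) y' x hx.symm
    exact ⟨p, hp1⟩

theorem isLocallyConstructible_setOf_surjective_fibreMap {X Y S : Scheme.{u}} (f : X ⟶ Y)
    (g : Y ⟶ S) [LocallyOfFinitePresentation g] [QuasiCompact g] [QuasiSeparated g]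
    [LocallyOfFinitePresentation (f ≫ g)] [QuasiCompact (f ≫ g)] :
    IsLocallyConstructible {s : S | Function.Surjective (fibreMap f g s).base} := by
  haveI : LocallyOfFinitePresentation f := locallyOfFinitePresentation_of_comp' f g
  haveI : QuasiCompact f := QuasiCompact.of_comp f g
  have h1 : IsLocallyConstructible (Set.range f) := by
    have := f.isLocallyConstructible_image (s := Set.univ) IsLocallyConstructible.univ
    rwa [Set.image_univ] at this
  have h2 : IsLocallyConstructible (g '' (Set.range f)ᶜ) :=
    g.isLocallyConstructible_image (isLocallyConstructible_compl h1)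
  have h3 := isLocallyConstructible_compl h2
  convert h3 using 1
  ext s
  simp only [Set.mem_setOf_eq, Set.mem_compl_iff, Set.mem_image, not_exists, not_and]
  rw [surjective_fibreMap_iff]
  constructor
  · intro h y hy hgy
    exact hy (h y hgy)
  · intro h y hgy
    by_contra hy
    exact h y hy hgy

end Groth.Agent.H7
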