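import Mathlib
import Groth.Agent.H7.FibreSurj

set_option autoImplicit false
universe u v

namespace Groth.Agent.H7

open AlgebraicGeometry CategoryTheory Limits TopologicalSpace Topology

section cat
variable {C : Type u} [Category.{v} C] [HasPullbacks C]

set_option backward.isDefEq.respectTransparency false in
/-- The diagonal of a base change is the base change of the diagonal. -/
lemma isPullback_diagonal_of_isPullback {X' X Y' Y : C} {f' : X' ⟶ Y'} {pX : X' ⟶ X}
    {pY : Y' ⟶ Y} {f : X ⟶ Y} (sq : IsPullback f' pX pY f) :
    IsPullback (pullback.diagonal f') pX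
      (pullback.map f' f' f f pX pX pY sq.w sq.w) (pullback.diagonal f) := by
  have hw : pullback.diagonal f' ≫ pullback.map f' f' f f pX pX pY sq.w sq.w =
      pX ≫ pullback.diagonal f := by
    apply pullback.hom_ext <;> simp
  refine ⟨⟨hw⟩, ⟨PullbackCone.IsLimit.mk _ (fun c => c.fst ≫ pullback.fst f' f') ?_ ?_ ?_⟩⟩
  · intro c
    have h1 : c.fst ≫ pullback.fst f' f' ≫ pX = c.snd := by
      have := c.condition =≫ pullback.fst f f
      simpa using this
    have h2 : c.fst ≫ pullback.snd f' f' ≫ pX = c.snd := by
      have := c.condition =≫ pullback.snd f f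
      simpa using this
    have h3 : c.fst ≫ pullback.fst f' f' = c.fst ≫ pullback.snd f' f' := by
      apply sq.hom_ext
      · simp only [Category.assoc, pullback.condition]
      · simp only [Category.assoc, h1, h2]
    apply pullback.hom_ext
    · simp
    · simp [h3]
  · intro c
    have := c.condition =≫ pullback.fst f f
    simpa using this
  · intro c m hm _
    rw [← hm]
    simp

end cat

set_option backward.isDefEq.respectTransparency false in
lemma universallyInjective_fibreMap_iff {X Y S : Scheme.{u}} (f : X ⟶ Y) (g : Y ⟶ S) (s : S) :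
    UniversallyInjective (fibreMap f g s) ↔
      ∀ w : ↥(pullback f f), (pullback.fst f f ≫ f ≫ g) w = s →
        w ∈ Set.range (pullback.diagonal f) := by
  constructor
  · rintro hUI w rfl
    have h2 := ((tfae_universallyInjective
      (fibreMap f g ((pullback.fst f f ≫ f ≫ g) w))).out 0 1).mp hUI
    have hψ : Spec.map ((pullback.fst f f ≫ f ≫ g).residueFieldMap w) ≫
        S.fromSpecResidueField ((pullback.fst f f ≫ f ≫ g) w) =
          (pullback f f).fromSpecResidueField w ≫ (pullback.fst f f ≫ f ≫ g) :=
      Scheme.Hom.SpecMap_residueFieldMap_fromSpecResidueField _ w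
    have hψ' : Spec.map ((pullback.fst f f ≫ f ≫ g).residueFieldMap w) ≫
        S.fromSpecResidueField ((pullback.fst f f ≫ f ≫ g) w) =
          (pullback f f).fromSpecResidueField w ≫ (pullback.snd f f ≫ f ≫ g) := by
      rw [hψ, pullback.condition_assoc]
    have h12 : pullback.lift ((pullback f f).fromSpecResidueField w ≫ pullback.fst f f)
        (Spec.map ((pullback.fst f f ≫ f ≫ g).residueFieldMap w))
        (by rw [hψ]; simp) ≫ fibreMap f g ((pullback.fst f f ≫ f ≫ g) w) =
        pullback.lift ((pullback f f).fromSpecResidueField w ≫ pullback.snd f f)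
        (Spec.map ((pullback.fst f f ≫ f ≫ g).residueFieldMap w))
        (by rw [hψ']; simp) ≫ fibreMap f g ((pullback.fst f f ≫ f ≫ g) w) := by
      apply pullback.hom_ext
      · simp [fibreMap, pullback.condition]
      · simp [fibreMap]
    have h3 := h2 ((pullback f f).residueField w) h12
    have h4 : (pullback f f).fromSpecResidueField w ≫ pullback.fst f f =
        (pullback f f).fromSpecResidueField w ≫ pullback.snd f f := by
      have := congrArg (· ≫ pullback.fst (f ≫ g)
        (S.fromSpecResidueField ((pullback.fst f f ≫ f ≫ g) w))) h3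
      simpa using this
    have h5 : (pullback f f).fromSpecResidueField w =
        ((pullback f f).fromSpecResidueField w ≫ pullback.fst f f) ≫ pullback.diagonal f := by
      apply pullback.hom_ext
      · simp
      · simp [h4]
    refine ⟨((pullback f f).fromSpecResidueField w ≫ pullback.fst f f)
      (IsLocalRing.closedPoint ((pullback f f).residueField w)), ?_⟩
    rw [← Scheme.Hom.comp_apply, ← h5, Scheme.fromSpecResidueField_apply]
  · intro hrange
    rw [UniversallyInjective.iff_diagonal]
    refine ⟨fun z => ?_⟩
    have sq := isPullback_fibreMap f g s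
    have key := isPullback_diagonal_of_isPullback sq
    have hqs : (pullback.fst f f ≫ f ≫ g)
        ((pullback.map (fibreMap f g s) (fibreMap f g s) f f
          (pullback.fst (f ≫ g) (S.fromSpecResidueField s))
          (pullback.fst (f ≫ g) (S.fromSpecResidueField s))
          (pullback.fst g (S.fromSpecResidueField s)) sq.w sq.w) z) = s := by
      have e : pullback.map (fibreMap f g s) (fibreMap f g s) f f
          (pullback.fst (f ≫ g) (S.fromSpecResidueField s))
          (pullback.fst (f ≫ g) (S.fromSpecResidueField s))
          (pullback.fst g (S.fromSpecResidueField s)) sq.w sq.w ≫ pullback.fst f f ≫ f ≫ g =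
          (pullback.fst (fibreMap f g s) (fibreMap f g s) ≫
            pullback.snd (f ≫ g) (S.fromSpecResidueField s)) ≫ S.fromSpecResidueField s := by
        simp [pullback.condition]
      have := congrArg (fun φ : pullback (fibreMap f g s) (fibreMap f g s) ⟶ S => φ z) e
      simp only [Scheme.Hom.comp_apply] at this ⊢
      rw [this, Scheme.fromSpecResidueField_apply]
    obtain ⟨x, hx⟩ := hrange _ hqs
    obtain ⟨p, hp, -⟩ := Scheme.exists_preimage_of_isPullback key z x hx.symm
    exact ⟨p, hp⟩

theorem isLocallyConstructible_setOf_universallyInjective_fibreMap {X Y S : Scheme.{u}}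
    (f : X ⟶ Y) (g : Y ⟶ S) [LocallyOfFinitePresentation g] [QuasiCompact g] [QuasiSeparated g]
    [LocallyOfFinitePresentation (f ≫ g)] [QuasiCompact (f ≫ g)] [QuasiSeparated (f ≫ g)] :
    IsLocallyConstructible {s : S | UniversallyInjective (fibreMap f g s)} := by
  have : LocallyOfFinitePresentation f := locallyOfFinitePresentation_of_comp' f g
  have : QuasiCompact f := QuasiCompact.of_comp f g
  have : QuasiSeparated f := QuasiSeparated.of_comp f g
  have e : pullback.diagonal f ≫ (pullback.fst f f ≫ f ≫ g) = f ≫ g := by simp
  have i1 : LocallyOfFinitePresentation (pullback.diagonal f ≫ (pullback.fst f f ≫ f ≫ g)) := by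
    rw [e]; infer_instance
  have i2 : QuasiCompact (pullback.diagonal f ≫ (pullback.fst f f ≫ f ≫ g)) := by
    rw [e]; infer_instance
  have h := isLocallyConstructible_setOf_surjective_fibreMap (pullback.diagonal f)
    (pullback.fst f f ≫ f ≫ g)
  convert h using 1
  ext s
  simp only [Set.mem_setOf_eq]
  rw [universallyInjective_fibreMap_iff, surjective_fibreMap_iff]

end Groth.Agent.H7
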