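import Mathlib
import Groth.Agent.H7.FibreSurj

set_option autoImplicit false
universe u

namespace Groth.Agent.H7

open AlgebraicGeometry CategoryTheory Limits TopologicalSpace Topology TensorProduct Set.Notation

/-- quasi-finiteness at a point in terms of the subspace topology of the set-theoretic fibre -/
lemma quasiFiniteAt_iff_isOpen_singleton_preimage {X Y : Scheme.{u}} (f : X ⟶ Y)
    [LocallyOfFiniteType f] (x : X) (y : Y) (h : f x = y) :
    f.QuasiFiniteAt x ↔ IsOpen ({⟨x, h⟩} : Set (f ⁻¹' {y})) := by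
  subst h
  rw [Scheme.Hom.quasiFiniteAt_iff_isOpen_singleton_asFiber,
    ← (f.fiberHomeo (f x)).isOpen_image]
  simp only [Set.image_singleton, Scheme.Hom.asFiber, Homeomorph.apply_symm_apply]

lemma quasiFiniteAt_fiberι_iff {X Y : Scheme.{u}} (f : X ⟶ Y) [LocallyOfFiniteType f] (y : Y)
    (z : f.fiber y) : f.QuasiFiniteAt (f.fiberι y z) ↔ IsOpen ({z} : Set (f.fiber y)) := by
  have hx : f (f.fiberι y z) = y := by
    have : f.fiberι y z ∈ f ⁻¹' {y} := by
      rw [← Scheme.Hom.range_fiberι]; exact ⟨z, rfl⟩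
    exact this
  rw [quasiFiniteAt_iff_isOpen_singleton_preimage f _ y hx]
  have := (f.fiberHomeo y).isOpen_image (s := {z})
  rw [Set.image_singleton] at this
  exact this

set_option backward.isDefEq.respectTransparency false in
lemma exists_fibre_comparison {X' X Y' Y : Scheme.{u}} {g' : X' ⟶ X} {f' : X' ⟶ Y'}
    {f : X ⟶ Y} {g : Y' ⟶ Y} (sq : IsPullback g' f' f g) (y' : Y') :
    ∃ ρ : f'.fiber y' ⟶ f.fiber (g y'),
      ρ ≫ f.fiberι (g y') = f'.fiberι y' ≫ g' ∧ UniversallyOpen ρ := by
  have hsq := isPullback_fiberToSpecResidueField_of_isPullback sq y'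
  have hU : UniversallyOpen (Spec.map (g.residueFieldMap y')) := inferInstance
  refine ⟨_, ?_, MorphismProperty.of_isPullback (P := @UniversallyOpen) hsq.flip hU⟩
  simp [Scheme.Hom.fiberι]

/-- Quasi-finiteness at a point is insensitive to base change. -/
theorem quasiFiniteAt_iff_of_isPullback {X' X Y' Y : Scheme.{u}} {g' : X' ⟶ X} {f' : X' ⟶ Y'}
    {f : X ⟶ Y} {g : Y' ⟶ Y} (sq : IsPullback g' f' f g) [LocallyOfFiniteType f] (x' : X') :
    f'.QuasiFiniteAt x' ↔ f.QuasiFiniteAt (g' x') := by
  haveI : LocallyOfFiniteType f' := MorphismProperty.of_isPullback sq ‹_›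
  constructor
  · intro h
    obtain ⟨ρ, hρ, hρo⟩ := exists_fibre_comparison sq (f' x')
    have h1 : IsOpen {f'.asFiber x'} :=
      Scheme.Hom.quasiFiniteAt_iff_isOpen_singleton_asFiber.mp h
    have h2 : IsOpen (ρ '' {f'.asFiber x'}) := ρ.isOpenMap _ h1
    rw [Set.image_singleton] at h2
    have h3 := (quasiFiniteAt_fiberι_iff f (g (f' x')) (ρ (f'.asFiber x'))).mpr h2
    have h4 : f.fiberι (g (f' x')) (ρ (f'.asFiber x')) = g' x' := by
      have := congrArg (fun φ : f'.fiber (f' x') ⟶ X => φ (f'.asFiber x')) hρ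
      simp only [Scheme.Hom.comp_apply] at this
      rw [this, Scheme.Hom.fiberι_asFiber]
    rwa [h4] at h3
  · intro h
    have hxU : g' x' ∈ f.quasiFiniteLocus := h
    have hpb : IsPullback (g' ∣_ f.quasiFiniteLocus) ((g' ⁻¹ᵁ f.quasiFiniteLocus).ι ≫ f')
        (f.quasiFiniteLocus.ι ≫ f) g :=
      (isPullback_morphismRestrict g' f.quasiFiniteLocus).paste_vert sq
    haveI : LocallyQuasiFinite ((g' ⁻¹ᵁ f.quasiFiniteLocus).ι ≫ f') :=
      MorphismProperty.of_isPullback hpb
        (inferInstance : LocallyQuasiFinite (f.quasiFiniteLocus.ι ≫ f))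
    have h5 := ((g' ⁻¹ᵁ f.quasiFiniteLocus).ι ≫ f').quasiFiniteAt ⟨x', hxU⟩
    rw [Scheme.Hom.quasiFiniteAt_comp_iff_of_isOpenImmersion] at h5
    exact h5

/-- The quasi-finite locus of a base change of a finite type algebra over a Noetherian ring. -/
theorem isLocallyConstructible_quasiFiniteLocus_of_noetherian_model (R₀ R S₀ : Type u)
    [CommRing R₀] [CommRing R] [CommRing S₀] [Algebra R₀ R] [Algebra R₀ S₀] [IsNoetherianRing R₀]
    [Algebra.FiniteType R₀ S₀] :
    IsLocallyConstructible {x : Spec (.of (R ⊗[R₀] S₀)) |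
      (Spec.map (CommRingCat.ofHom
        (Algebra.TensorProduct.includeLeftRingHom : R →+* R ⊗[R₀] S₀))).QuasiFiniteAt x} := by
  haveI : LocallyOfFiniteType (Spec.map (CommRingCat.ofHom (algebraMap R₀ S₀))) := by
    rw [HasRingHomProperty.Spec_iff (P := @LocallyOfFiniteType)]
    exact RingHom.finiteType_algebraMap.mpr inferInstance
  have sq : IsPullback
      (Spec.map (CommRingCat.ofHom (S := R ⊗[R₀] S₀)
        (Algebra.TensorProduct.includeRight (R := R₀) (A := R) (B := S₀)).toRingHom))
      (Spec.map (CommRingCat.ofHom (S := R ⊗[R₀] S₀)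
        (Algebra.TensorProduct.includeLeftRingHom : R →+* R ⊗[R₀] S₀)))
      (Spec.map (CommRingCat.ofHom (algebraMap R₀ S₀)))
      (Spec.map (CommRingCat.ofHom (algebraMap R₀ R))) :=
    (isPullback_SpecMap_of_isPushout _ _ _ _ (CommRingCat.isPushout_tensorProduct R₀ R S₀)).flip
  haveI : IsNoetherianRing S₀ := Algebra.FiniteType.isNoetherianRing R₀ S₀
  haveI : NoetherianSpace (Spec (CommRingCat.of S₀)) :=
    inferInstanceAs (NoetherianSpace (PrimeSpectrum S₀))
  have h0 : IsLocallyConstructible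
      ((Spec.map (CommRingCat.ofHom (algebraMap R₀ S₀))).quasiFiniteLocus :
        Set (Spec (CommRingCat.of S₀))) :=
    IsRetrocompact.isLocallyConstructible (Opens.isOpen _)
      (fun V _ _ => NoetherianSpace.isCompact _)
  have h1 := isLocallyConstructible_preimage (Spec.map (CommRingCat.ofHom (S := R ⊗[R₀] S₀)
        (Algebra.TensorProduct.includeRight (R := R₀) (A := R) (B := S₀)).toRingHom)) h0
  convert h1 using 1
  ext x
  exact quasiFiniteAt_iff_of_isPullback sq x

/-- The quasi-finite locus of a finitely presented ring map is constructible. -/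
theorem isLocallyConstructible_quasiFiniteLocus_Spec {R S : CommRingCat.{u}} (φ : R ⟶ S)
    (hφ : φ.hom.FinitePresentation) :
    IsLocallyConstructible {x : Spec S | (Spec.map φ).QuasiFiniteAt x} := by
  algebraize [φ.hom]
  haveI : Algebra.FinitePresentation R S := hφ
  let P := Algebra.Presentation.ofFinitePresentation R S
  haveI : IsNoetherianRing P.Core := Algebra.FiniteType.isNoetherianRing ℤ P.Core
  let e := P.tensorModelOfHasCoeffsEquiv P.Core
  have h1 := isLocallyConstructible_quasiFiniteLocus_of_noetherian_model P.Core R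
    (P.ModelOfHasCoeffs P.Core)
  let ε : CommRingCat.of (R ⊗[P.Core] P.ModelOfHasCoeffs P.Core) ≅ S :=
    e.toRingEquiv.toCommRingCatIso
  have hcomp : φ = CommRingCat.ofHom (S := R ⊗[P.Core] P.ModelOfHasCoeffs P.Core)
      (Algebra.TensorProduct.includeLeftRingHom :
        R →+* R ⊗[P.Core] P.ModelOfHasCoeffs P.Core) ≫ ε.hom := by
    ext r
    exact (e.commutes r).symm
  have h2 := isLocallyConstructible_preimage (Spec.map ε.hom) h1
  convert h2 using 1
  ext x
  show (Spec.map φ).QuasiFiniteAt x ↔ _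
  rw [hcomp, Spec.map_comp, Scheme.Hom.quasiFiniteAt_comp_iff_of_isOpenImmersion]
  rfl

/-- The quasi-finite locus of a morphism locally of finite presentation is locally
constructible. -/
theorem isLocallyConstructible_setOf_quasiFiniteAt {X Y : Scheme.{u}} (f : X ⟶ Y)
    [LocallyOfFinitePresentation f] :
    IsLocallyConstructible {x : X | f.QuasiFiniteAt x} := by
  have key : ∀ x : X, ∃ W : X.Opens, x ∈ W ∧
      IsLocallyConstructible ((W : Set X) ↓∩ {x : X | f.QuasiFiniteAt x}) := by
    intro x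
    obtain ⟨U, hU, hxU, -⟩ := Opens.isBasis_iff_nbhd.mp Y.isBasis_affineOpens
      (Opens.mem_top (f x))
    obtain ⟨W, hW, hxW, hWU⟩ := Opens.isBasis_iff_nbhd.mp X.isBasis_affineOpens
      (show x ∈ f ⁻¹ᵁ U from hxU)
    refine ⟨W, hxW, ?_⟩
    have hφ : (f.appLE U W hWU).hom.FinitePresentation :=
      HasRingHomProperty.appLE @LocallyOfFinitePresentation f inferInstance ⟨U, hU⟩ ⟨W, hW⟩ hWU
    have h1 := isLocallyConstructible_quasiFiniteLocus_Spec (f.appLE U W hWU) hφ
    have h2 := isLocallyConstructible_preimage hW.isoSpec.hom h1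
    have h3 : ((W : Set X) ↓∩ {x : X | f.QuasiFiniteAt x}) =
        (hW.isoSpec.hom ⁻¹' {x | (Spec.map (f.appLE U W hWU)).QuasiFiniteAt x} :
          Set ↥(W : Scheme.{u})) := by
      ext w
      show f.QuasiFiniteAt ((Scheme.Opens.ι W) w) ↔
        (Spec.map (f.appLE U W hWU)).QuasiFiniteAt (hW.isoSpec.hom w)
      have e1 : (Scheme.Opens.ι W) ≫ f = hW.isoSpec.hom ≫ (Spec.map (f.appLE U W hWU) ≫ hU.fromSpec) := by
        rw [IsAffineOpen.SpecMap_appLE_fromSpec f hU hW hWU, ← Category.assoc,
          hW.isoSpec_hom_fromSpec]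
      rw [← Scheme.Hom.quasiFiniteAt_comp_iff_of_isOpenImmersion (f := (Scheme.Opens.ι W)) (g := f), e1,
        Scheme.Hom.quasiFiniteAt_comp_iff_of_isOpenImmersion, Scheme.Hom.quasiFiniteAt_comp_iff]
    rw [h3]
    exact h2
  choose W hxW hW using key
  exact IsLocallyConstructible.of_isOpenCover (U := W) (IsOpenCover.mk (by
      rw [eq_top_iff]; intro x _; exact Opens.mem_iSup.mpr ⟨x, hxW x⟩)) hW

lemma locallyQuasiFinite_fibreMap_iff {X Y S : Scheme.{u}} (f : X ⟶ Y) (g : Y ⟶ S)
    [LocallyOfFiniteType f] (s : S) :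
    LocallyQuasiFinite (fibreMap f g s) ↔ ∀ x : X, (f ≫ g) x = s → f.QuasiFiniteAt x := by
  have sq := (isPullback_fibreMap f g s).flip
  haveI : LocallyOfFiniteType (fibreMap f g s) := MorphismProperty.of_isPullback sq ‹_›
  rw [← Scheme.Hom.quasiFiniteLocus_eq_top_iff]
  constructor
  · intro h x hx
    obtain ⟨x', hx'1, -⟩ := Scheme.Pullback.exists_preimage_pullback (f := f ≫ g)
      (g := S.fromSpecResidueField s) x (IsLocalRing.closedPoint (S.residueField s))
      (by rw [Scheme.fromSpecResidueField_apply]; exact hx)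
    have h1 : (fibreMap f g s).QuasiFiniteAt x' := by
      have : x' ∈ (fibreMap f g s).quasiFiniteLocus := by rw [h]; trivial
      exact this
    rw [quasiFiniteAt_iff_of_isPullback sq x', hx'1] at h1
    exact h1
  · intro h
    rw [eq_top_iff]
    intro x' _
    show (fibreMap f g s).QuasiFiniteAt x'
    rw [quasiFiniteAt_iff_of_isPullback sq x']
    apply h
    have := congrArg (fun φ : pullback (f ≫ g) (S.fromSpecResidueField s) ⟶ S => φ x')
        (pullback.condition (f := f ≫ g) (g := S.fromSpecResidueField s))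
    simp only [Scheme.Hom.comp_apply] at this ⊢
    rw [this, Scheme.fromSpecResidueField_apply]

theorem isLocallyConstructible_setOf_locallyQuasiFinite_fibreMap {X Y S : Scheme.{u}}
    (f : X ⟶ Y) (g : Y ⟶ S) [LocallyOfFinitePresentation g]
    [LocallyOfFinitePresentation (f ≫ g)] [QuasiCompact (f ≫ g)] :
    IsLocallyConstructible {s : S | LocallyQuasiFinite (fibreMap f g s)} := by
  haveI : LocallyOfFinitePresentation f := locallyOfFinitePresentation_of_comp' f g
  have h1 := isLocallyConstructible_setOf_quasiFiniteAt f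
  have h2 : IsLocallyConstructible ((f ≫ g) '' {x : X | f.QuasiFiniteAt x}ᶜ) :=
    (f ≫ g).isLocallyConstructible_image (isLocallyConstructible_compl h1)
  have h3 := isLocallyConstructible_compl h2
  convert h3 using 1
  ext s
  simp only [Set.mem_setOf_eq, Set.mem_compl_iff, Set.mem_image, not_exists, not_and]
  rw [locallyQuasiFinite_fibreMap_iff]
  constructor
  · intro h x hx hs
    exact hx (h x hs)
  · intro h x hs
    by_contra hx
    exact h x hx hs

end Groth.Agent.H7
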