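import Mathlib
import Groth.Agent.H11.GenFree2

set_option autoImplicit false
universe u

namespace Groth.Agent.H7

open AlgebraicGeometry CategoryTheory Limits TopologicalSpace Topology

/-- Over a ring whose nilradical is a prime `p₀`, a finite type algebra has, over a nonempty basic
open of the base, every prime in the closure of the generic fibre. -/
theorem exists_forall_mem_closure_fibre {R S : Type u} [CommRing R] [CommRing S] [Algebra R S]
    [Algebra.FiniteType R S] (p₀ : Ideal R) [hp₀ : p₀.IsPrime] (hnil : p₀ ≤ nilradical R) :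
    ∃ f : R, f ∉ p₀ ∧ ∀ q : PrimeSpectrum S, algebraMap R S f ∉ q.asIdeal →
      q ∈ closure {q' : PrimeSpectrum S | q'.asIdeal.comap (algebraMap R S) = p₀} := by
  classical
  have hJnil : p₀.map (algebraMap R S) ≤ nilradical S := by
    rw [Ideal.map_le_iff_le_comap]
    intro x hx
    exact (mem_nilradical.mp (hnil hx)).map (algebraMap R S)
  haveI : Algebra.FiniteType R (S ⧸ p₀.map (algebraMap R S)) :=
    Algebra.FiniteType.of_surjective (Ideal.Quotient.mkₐ R (p₀.map (algebraMap R S)))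
      (Ideal.Quotient.mkₐ_surjective R _)
  haveI : Algebra.FiniteType (R ⧸ p₀) (S ⧸ p₀.map (algebraMap R S)) :=
    Algebra.FiniteType.of_restrictScalars_finiteType R _ _
  obtain ⟨f', hf'0, hfree⟩ := Groth.Agent.H11.exists_gfree (R := R ⧸ p₀)
    (S := S ⧸ p₀.map (algebraMap R S)) (M := S ⧸ p₀.map (algebraMap R S))
  obtain ⟨f, rfl⟩ := Ideal.Quotient.mk_surjective f'
  have hfp : f ∉ p₀ := fun h => hf'0 (Ideal.Quotient.eq_zero_iff_mem.mpr h)
  refine ⟨f, hfp, fun q hq => ?_⟩
  rw [← PrimeSpectrum.zeroLocus_vanishingIdeal_eq_closure, PrimeSpectrum.mem_zeroLocus]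
  intro s hs
  rw [SetLike.mem_coe, PrimeSpectrum.mem_vanishingIdeal] at hs
  -- step 1: some `r ∉ p₀` kills a power of `s`
  obtain ⟨r, hr, m, hrm⟩ : ∃ r : R, r ∉ p₀ ∧ ∃ m : ℕ, algebraMap R S r * s ^ m = 0 := by
    let M := Algebra.algebraMapSubmonoid S p₀.primeCompl
    have hnilp : IsNilpotent (algebraMap S (Localization M) s) := by
      rw [nilpotent_iff_mem_prime]
      intro Q hQ
      have hQ' : (Q.comap (algebraMap S (Localization M))).IsPrime := Ideal.IsPrime.comap _
      have hdisj : Disjoint (M : Set S) (Q.comap (algebraMap S (Localization M)) : Set S) :=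
        ((IsLocalization.isPrime_iff_isPrime_disjoint M (Localization M) Q).mp hQ).2
      have hmem := hs ⟨Q.comap (algebraMap S (Localization M)), hQ'⟩ (by
        show Ideal.comap (algebraMap R S) (Q.comap (algebraMap S (Localization M))) = p₀
        apply le_antisymm
        · intro x hx
          by_contra hxp
          exact Set.disjoint_left.mp hdisj ⟨x, hxp, rfl⟩ hx
        · intro x hx
          have hx' : IsNilpotent (algebraMap R S x) := (mem_nilradical.mp (hnil hx)).map _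
          exact nilradical_le_prime (Q.comap (algebraMap S (Localization M)))
            (mem_nilradical.mpr hx'))
      exact hmem
    obtain ⟨m, hm⟩ := hnilp
    rw [← map_pow, IsLocalization.map_eq_zero_iff M] at hm
    obtain ⟨⟨c, r, hr, rfl⟩, hc⟩ := hm
    exact ⟨r, hr, m, hc⟩
  -- step 2: torsion-freeness of the generic model
  have h1 : (Ideal.Quotient.mk p₀ r) • (Ideal.Quotient.mk (p₀.map (algebraMap R S)) s) ^ m = 0 := by
    rw [← map_pow, Ideal.Quotient.mk_smul_mk_quotient_map_quotient, hrm, map_zero]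
  have hr' : Ideal.Quotient.mk p₀ r ≠ 0 := fun h => hr (Ideal.Quotient.eq_zero_iff_mem.mp h)
  obtain ⟨k, hk⟩ := hfree.torsion_killed _ _ hr' h1
  have h2 : algebraMap R S f ^ k * s ^ m ∈ p₀.map (algebraMap R S) := by
    rw [← Ideal.Quotient.eq_zero_iff_mem]
    rw [← map_pow (Ideal.Quotient.mk p₀), ← map_pow (Ideal.Quotient.mk (p₀.map (algebraMap R S))),
      Ideal.Quotient.mk_smul_mk_quotient_map_quotient, map_pow] at hk
    exact hk
  have h3 : algebraMap R S f ^ k * s ^ m ∈ q.asIdeal := nilradical_le_prime q.asIdeal (hJnil h2)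
  rcases q.2.mem_or_mem h3 with h | h
  · exact absurd (q.2.mem_of_pow_mem _ h) hq
  · exact q.2.mem_of_pow_mem _ h


/-- For a finite type morphism to an irreducible scheme, over a nonempty open of the base every
point lies in the closure of the generic fibre. -/
theorem exists_opens_preimage_subset_closure_genericFibre {X Y : Scheme.{u}} (f : X ⟶ Y)
    [IrreducibleSpace ↑Y] [LocallyOfFiniteType f] [QuasiCompact f] :
    ∃ V : Y.Opens, (V : Set Y).Nonempty ∧
      f ⁻¹' (V : Set Y) ⊆ closure (f ⁻¹' {genericPoint Y}) := by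
  classical
  obtain ⟨U, hU, hηU, -⟩ := Opens.isBasis_iff_nbhd.mp Y.isBasis_affineOpens
    (Opens.mem_top (genericPoint Y))
  -- the prime of the generic point
  let p₀ : PrimeSpectrum Γ(Y, U) := hU.primeIdealOf ⟨genericPoint Y, hηU⟩
  have hp₀ : hU.fromSpec p₀ = genericPoint Y := hU.fromSpec_primeIdealOf ⟨genericPoint Y, hηU⟩
  have hnil : p₀.asIdeal ≤ nilradical Γ(Y, U) := by
    intro x hx
    rw [mem_nilradical, nilpotent_iff_mem_prime]
    intro P hP
    have h1 : genericPoint Y ⤳ hU.fromSpec ⟨P, hP⟩ :=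
      (genericPoint_spec Y).specializes (Set.mem_univ _)
    rw [← hp₀, hU.fromSpec.isOpenEmbedding.isInducing.specializes_iff] at h1
    have h2 : p₀ ≤ (⟨P, hP⟩ : PrimeSpectrum Γ(Y, U)) :=
      (PrimeSpectrum.le_iff_specializes p₀ ⟨P, hP⟩).mpr h1
    exact h2 hx
  -- finite affine cover of the preimage
  have hcpt : IsCompact (f ⁻¹' (U : Set Y)) :=
    QuasiCompact.isCompact_preimage (f := f) _ U.isOpen hU.isCompact
  obtain ⟨s, hsfin, hs⟩ := (isCompact_and_isOpen_iff_finite_and_eq_biUnion_affineOpens).mp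
    ⟨hcpt, (f ⁻¹ᵁ U).isOpen⟩
  have hle : ∀ W ∈ s, (W : X.Opens) ≤ f ⁻¹ᵁ U := by
    intro W hW x hx
    show x ∈ f ⁻¹' (U : Set Y)
    rw [hs]
    exact Set.mem_biUnion hW hx
  have key : ∀ W : X.affineOpens, W ∈ s → ∃ r : Γ(Y, U), r ∉ p₀.asIdeal ∧
      ∀ x : X, x ∈ (W : X.Opens) → f x ∈ Y.basicOpen r →
        x ∈ closure (f ⁻¹' {genericPoint Y}) := by
    intro W hW
    have e := hle W hW
    have hft : (f.appLE U W e).hom.FiniteType :=
      HasRingHomProperty.appLE @LocallyOfFiniteType f inferInstance ⟨U, hU⟩ W e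
    letI := (f.appLE U W e).hom.toAlgebra
    haveI : Algebra.FiniteType Γ(Y, U) Γ(X, W) := hft
    obtain ⟨r, hr, hcl⟩ := exists_forall_mem_closure_fibre (R := Γ(Y, U)) (S := Γ(X, W))
      p₀.asIdeal hnil
    refine ⟨r, hr, fun x hxW hfx => ?_⟩
    have hsq := IsAffineOpen.SpecMap_appLE_fromSpec f hU W.2 e
    have hxq : W.2.fromSpec (W.2.primeIdealOf ⟨x, hxW⟩) = x :=
      W.2.fromSpec_primeIdealOf ⟨x, hxW⟩
    have hpt : ∀ q' : PrimeSpectrum Γ(X, W),
        f (W.2.fromSpec q') = hU.fromSpec (Spec.map (f.appLE U W e) q') := by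
      intro q'
      have := congrArg (fun φ : Spec Γ(X, W) ⟶ Y => φ q') hsq
      simp only [Scheme.Hom.comp_apply] at this
      exact this.symm
    have hrq : algebraMap Γ(Y, U) Γ(X, W) r ∉ (W.2.primeIdealOf ⟨x, hxW⟩).asIdeal := by
      rw [← hxq, hpt] at hfx
      have h2 : Spec.map (f.appLE U W e) (W.2.primeIdealOf ⟨x, hxW⟩) ∈
          hU.fromSpec ⁻¹ᵁ Y.basicOpen r := hfx
      rw [hU.fromSpec_preimage_basicOpen] at h2
      exact h2
    have hqcl := hcl _ hrq
    have himg : W.2.fromSpec (W.2.primeIdealOf ⟨x, hxW⟩) ∈ closure (W.2.fromSpec ''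
        {q' : PrimeSpectrum Γ(X, W) |
          q'.asIdeal.comap (algebraMap Γ(Y, U) Γ(X, W)) = p₀.asIdeal}) :=
      image_closure_subset_closure_image W.2.fromSpec.continuous ⟨_, hqcl, rfl⟩
    rw [hxq] at himg
    refine closure_mono ?_ himg
    rintro _ ⟨q', hq', rfl⟩
    show f (W.2.fromSpec q') = genericPoint Y
    rw [hpt q', ← hp₀]
    congr 1
    exact PrimeSpectrum.ext hq'
  choose! r hr hrcl using key
  have hR : (∏ W ∈ hsfin.toFinset, r W) ∉ p₀.asIdeal := by
    rw [Ideal.IsPrime.prod_mem_iff]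
    rintro ⟨W, hW, hWr⟩
    exact hr W (hsfin.mem_toFinset.mp hW) hWr
  refine ⟨Y.basicOpen (∏ W ∈ hsfin.toFinset, r W), ⟨genericPoint Y, ?_⟩, ?_⟩
  · have h2 : p₀ ∈ hU.fromSpec ⁻¹ᵁ Y.basicOpen (∏ W ∈ hsfin.toFinset, r W) := by
      rw [hU.fromSpec_preimage_basicOpen]
      exact hR
    rw [← hp₀]
    exact h2
  · intro x hx
    have hxV : f x ∈ Y.basicOpen (∏ W ∈ hsfin.toFinset, r W) := hx
    have hxU : x ∈ f ⁻¹' (U : Set Y) := Y.basicOpen_le _ hxV
    rw [hs] at hxU
    obtain ⟨W, hW, hxW⟩ := Set.mem_iUnion₂.mp hxU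
    obtain ⟨c, hc⟩ := Finset.dvd_prod_of_mem r (hsfin.mem_toFinset.mpr hW)
    rw [hc, Scheme.basicOpen_mul] at hxV
    exact hrcl W hW x hxW hxV.1

end Groth.Agent.H7
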