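import Mathlib
import Groth.Agent.H11.GenFree2
import Groth.Agent.H9.FiberStalk

set_option autoImplicit false
set_option linter.style.haveILetI false
universe u

namespace Groth.Agent.H7

open AlgebraicGeometry CategoryTheory Limits TopologicalSpace Topology IsLocalRing

/-- Ring-level spreading out of an element which is nonzero in the generic fibre: over a nonempty
basic open of the base, it stays nonzero at some point of every fibre. -/
theorem exists_open_nonzero_fibre {R S : Type u} [CommRing R] [CommRing S] [Algebra R S]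
    [Algebra.FiniteType R S] (p₀ : Ideal R) [hp₀ : p₀.IsPrime] (s : S)
    (hs : ∀ t : R, t ∉ p₀ → algebraMap R S t * s ∉ p₀.map (algebraMap R S)) :
    ∃ h : R, h ∉ p₀ ∧ ∀ p : Ideal R, p.IsPrime → p₀ ≤ p → h ∉ p →
      ∃ q : Ideal S, q.IsPrime ∧ q.comap (algebraMap R S) = p ∧
        ∀ u : S, u ∉ q → u * s ∉ p.map (algebraMap R S) := by
  classical
  haveI : Algebra.FiniteType R (S ⧸ p₀.map (algebraMap R S)) :=
    Algebra.FiniteType.of_surjective (Ideal.Quotient.mkₐ R (p₀.map (algebraMap R S)))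
      (Ideal.Quotient.mkₐ_surjective R _)
  haveI : Algebra.FiniteType (R ⧸ p₀) (S ⧸ p₀.map (algebraMap R S)) :=
    Algebra.FiniteType.of_restrictScalars_finiteType R _ _
  obtain ⟨f', hf'0, hfree⟩ := Groth.Agent.H11.exists_gfree (R := R ⧸ p₀)
    (S := S ⧸ p₀.map (algebraMap R S)) (M := S ⧸ p₀.map (algebraMap R S))
  obtain ⟨ι, b, hb, hsp⟩ := hfree
  obtain ⟨f, rfl⟩ := Ideal.Quotient.mk_surjective f'
  have hfp : f ∉ p₀ := fun h => hf'0 (Ideal.Quotient.eq_zero_iff_mem.mpr h)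
  have hinj : Function.Injective (Finsupp.linearCombination (R ⧸ p₀) b) := hb
  -- coordinates of `s`
  obtain ⟨k, hk⟩ := hsp (Ideal.Quotient.mk (p₀.map (algebraMap R S)) s)
  obtain ⟨c, hc⟩ := Finsupp.mem_span_range_iff_exists_finsupp.mp hk
  rw [← Finsupp.linearCombination_apply] at hc
  have hc0 : c ≠ 0 := by
    rintro rfl
    rw [map_zero] at hc
    have h1 : algebraMap R S (f ^ k) * s ∈ p₀.map (algebraMap R S) := by
      rw [← Ideal.Quotient.eq_zero_iff_mem, ← Ideal.Quotient.mk_smul_mk_quotient_map_quotient,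
        map_pow]
      exact hc.symm
    exact hs (f ^ k) (fun h => hfp (hp₀.mem_of_pow_mem k h)) h1
  obtain ⟨i0, hi0⟩ : ∃ i0, c i0 ≠ 0 := by
    by_contra hall
    push Not at hall
    exact hc0 (Finsupp.ext hall)
  obtain ⟨a, ha⟩ := Ideal.Quotient.mk_surjective (c i0)
  have hap : a ∉ p₀ := fun h => hi0 (by rw [← ha]; exact Ideal.Quotient.eq_zero_iff_mem.mpr h)
  refine ⟨f * a, fun h => (hp₀.mem_or_mem h).elim hfp hap, fun p hp hle hh => ?_⟩
  have hfp' : f ∉ p := fun h => hh (p.mul_mem_right a h)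
  have hap' : a ∉ p := fun h => hh (p.mul_mem_left f h)
  -- membership in the image of `p` in `R ⧸ p₀`
  have hmemp : ∀ x : R, Ideal.Quotient.mk p₀ x ∈ p.map (Ideal.Quotient.mk p₀) → x ∈ p := by
    intro x hx
    obtain ⟨x', hx', hxx'⟩ := (Ideal.mem_map_iff_of_surjective (Ideal.Quotient.mk p₀)
      Ideal.Quotient.mk_surjective).mp hx
    have h1 : x' - x ∈ p₀ := Ideal.Quotient.eq.mp hxx'
    have h2 : x = x' - (x' - x) := by ring
    rw [h2]
    exact p.sub_mem hx' (hle h1)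
  -- key claim
  have claimB : ∀ x ∈ (p • ⊤ : Submodule R S), ∃ (K : ℕ) (d : ι →₀ (R ⧸ p₀)),
      (∀ i, d i ∈ p.map (Ideal.Quotient.mk p₀)) ∧
      Finsupp.linearCombination (R ⧸ p₀) b d =
        (Ideal.Quotient.mk p₀ f) ^ K • Ideal.Quotient.mk (p₀.map (algebraMap R S)) x := by
    intro x hx
    refine Submodule.smul_induction_on hx ?_ ?_
    · intro π hπ y _
      obtain ⟨K, hK⟩ := hsp (Ideal.Quotient.mk (p₀.map (algebraMap R S)) y)
      obtain ⟨e, he⟩ := Finsupp.mem_span_range_iff_exists_finsupp.mp hK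
      rw [← Finsupp.linearCombination_apply] at he
      refine ⟨K, Ideal.Quotient.mk p₀ π • e, fun i => ?_, ?_⟩
      · rw [Finsupp.smul_apply, smul_eq_mul]
        exact Ideal.mul_mem_right _ _ (Ideal.mem_map_of_mem _ hπ)
      · rw [map_smul, he, Algebra.smul_def π y,
          ← Ideal.Quotient.mk_smul_mk_quotient_map_quotient, smul_comm]
    · rintro x y ⟨K₁, d₁, hd₁, h₁⟩ ⟨K₂, d₂, hd₂, h₂⟩
      refine ⟨K₁ + K₂, (Ideal.Quotient.mk p₀ f) ^ K₂ • d₁ + (Ideal.Quotient.mk p₀ f) ^ K₁ • d₂,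
        fun i => ?_, ?_⟩
      · rw [Finsupp.add_apply, Finsupp.smul_apply, Finsupp.smul_apply, smul_eq_mul, smul_eq_mul]
        exact Ideal.add_mem _ (Ideal.mul_mem_left _ _ (hd₁ i)) (Ideal.mul_mem_left _ _ (hd₂ i))
      · rw [map_add, map_smul, map_smul, h₁, h₂, map_add, smul_add, smul_smul, smul_smul,
          ← pow_add, ← pow_add, add_comm K₂ K₁]
  -- the colon ideal
  let J : Ideal S := Submodule.comap (LinearMap.mulRight S s) (p.map (algebraMap R S))
  have hJmem : ∀ u : S, u ∈ J ↔ u * s ∈ p.map (algebraMap R S) := fun u => Iff.rfl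
  have hdisj : Disjoint (J : Set S) (Submonoid.map (algebraMap R S) p.primeCompl : Set S) := by
    rw [Set.disjoint_left]
    rintro _ huJ ⟨t, ht, rfl⟩
    have ht' : t ∉ p := ht
    have h1 : algebraMap R S t * s ∈ (p • ⊤ : Submodule R S) := by
      rw [Ideal.smul_top_eq_map]
      exact (hJmem _).mp huJ
    obtain ⟨K, d, hd, hdK⟩ := claimB _ h1
    rw [← Ideal.Quotient.mk_smul_mk_quotient_map_quotient] at hdK
    -- compare coordinates
    have h2 : Finsupp.linearCombination (R ⧸ p₀) b ((Ideal.Quotient.mk p₀ f) ^ k • d) =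
        Finsupp.linearCombination (R ⧸ p₀) b
          (((Ideal.Quotient.mk p₀ f) ^ K * Ideal.Quotient.mk p₀ t) • c) := by
      rw [map_smul, map_smul, hdK, hc, smul_smul, smul_smul, smul_smul]
      congr 1
      ring
    have h3 := hinj h2
    have h4 := DFunLike.congr_fun h3 i0
    rw [Finsupp.smul_apply, Finsupp.smul_apply, smul_eq_mul, smul_eq_mul, ← ha, ← map_pow,
      ← map_pow, ← map_mul, ← map_mul] at h4
    have h5 : Ideal.Quotient.mk p₀ (f ^ K * t * a) ∈ p.map (Ideal.Quotient.mk p₀) := by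
      rw [← h4]
      exact Ideal.mul_mem_left _ _ (hd i0)
    have h6 := hmemp _ h5
    rcases hp.mem_or_mem h6 with h7 | h7
    · rcases hp.mem_or_mem h7 with h8 | h8
      · exact hfp' (hp.mem_of_pow_mem K h8)
      · exact ht' h8
    · exact hap' h7
  obtain ⟨q, hqp, hJq, hqM⟩ := Ideal.exists_le_prime_disjoint J _ hdisj
  refine ⟨q, hqp, ?_, fun u hu huI => hu (hJq ((hJmem u).mpr huI))⟩
  apply le_antisymm
  · intro x hx
    by_contra hxp
    exact Set.disjoint_left.mp hqM hx ⟨x, hxp, rfl⟩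
  · intro x hx
    apply hJq
    rw [hJmem]
    exact Ideal.mul_mem_right _ _ (Ideal.mem_map_of_mem _ hx)

/-- A nilpotent nonzero element of a quotient of a localization at a prime. -/
theorem not_isReduced_quotient_of_localization {S B : Type u} [CommRing S] [CommRing B]
    [Algebra S B] (q : Ideal S) [q.IsPrime] [IsLocalization.AtPrime B q] (I : Ideal S) (s : S)
    (N : ℕ) (hN : s ^ N ∈ I) (hs : ∀ u : S, u ∉ q → u * s ∉ I) :
    ¬ IsReduced (B ⧸ Ideal.map (algebraMap S B) I) := by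
  intro hred
  have hnil : IsNilpotent (Ideal.Quotient.mk (Ideal.map (algebraMap S B) I) (algebraMap S B s)) := by
    refine ⟨N, ?_⟩
    rw [← map_pow, ← map_pow, Ideal.Quotient.eq_zero_iff_mem]
    exact Ideal.mem_map_of_mem _ hN
  have h0 := hred.eq_zero _ hnil
  rw [Ideal.Quotient.eq_zero_iff_mem, IsLocalization.mem_map_algebraMap_iff q.primeCompl] at h0
  obtain ⟨⟨a, m⟩, ham⟩ := h0
  rw [← map_mul, IsLocalization.eq_iff_exists q.primeCompl] at ham
  obtain ⟨m', hm'⟩ := ham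
  refine hs ((m' : S) * (m : S)) (fun h => ?_) ?_
  · rcases (inferInstance : q.IsPrime).mem_or_mem h with h1 | h1
    · exact m'.2 h1
    · exact m.2 h1
  · have : (m' : S) * (m : S) * s = (m' : S) * (a : S) := by
      rw [← hm']
      ring
    rw [this]
    exact I.mul_mem_left _ a.2

/-- The ideal generated by the maximal ideal of the base point in the local ring of `X` at `x`,
computed on affine opens. -/
theorem map_stalkMap_maximalIdeal_eq {X Y : Scheme.{u}} (f : X ⟶ Y) (x : X) {W : Y.Opens}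
    (hW : IsAffineOpen W) {U : X.Opens} (e : U ≤ f ⁻¹ᵁ W) (hx : x ∈ U) :
    Ideal.map (f.stalkMap x).hom (maximalIdeal (Y.presheaf.stalk (f x))) =
      Ideal.map (X.presheaf.germ U x hx).hom
        (Ideal.map (f.appLE W U e).hom (hW.primeIdealOf ⟨f x, e hx⟩).asIdeal) := by
  letI := Y.presheaf.algebra_section_stalk ⟨f x, e hx⟩
  haveI := hW.isLocalization_stalk ⟨f x, e hx⟩
  have hm : maximalIdeal (Y.presheaf.stalk (f x)) =
      Ideal.map (Y.presheaf.germ W (f x) (e hx)).hom (hW.primeIdealOf ⟨f x, e hx⟩).asIdeal :=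
    (IsLocalization.AtPrime.map_eq_maximalIdeal (hW.primeIdealOf ⟨f x, e hx⟩).asIdeal
      (Y.presheaf.stalk (f x))).symm
  rw [hm, Ideal.map_map, Ideal.map_map]
  congr 1
  have hcat : Y.presheaf.germ W (f x) (e hx) ≫ f.stalkMap x =
      f.appLE W U e ≫ X.presheaf.germ U x hx := by
    rw [Scheme.Hom.germ_stalkMap, Scheme.Hom.appLE, Category.assoc, TopCat.Presheaf.germ_res]
  have := congrArg CommRingCat.Hom.hom hcat
  simpa only [CommRingCat.hom_comp] using this

/-- If the generic fibre of a morphism locally of finite type to an irreducible scheme is not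
reduced, no fibre over some nonempty open is reduced. -/
theorem not_isReduced_fibre_near_generic {X Y : Scheme.{u}} (f : X ⟶ Y) [IrreducibleSpace ↑Y]
    [LocallyOfFiniteType f] (h : ¬ IsReduced (f.fiber (genericPoint ↑Y))) :
    ∃ V : Y.Opens, (V : Set ↑Y).Nonempty ∧ ∀ y ∈ V, ¬ IsReduced (f.fiber y) := by
  -- a point of the generic fibre with non-reduced local ring
  obtain ⟨z, hz⟩ : ∃ z : ↥(f.fiber (genericPoint ↑Y)),
      ¬ _root_.IsReduced ((f.fiber (genericPoint ↑Y)).presheaf.stalk z) := by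
    by_contra hall
    push Not at hall
    exact h (isReduced_of_isReduced_stalk _)
  set x₀ := (f.fiberι (genericPoint ↑Y)) z with hx₀
  have hfx₀ : f x₀ = genericPoint ↑Y := by
    have : x₀ ∈ f ⁻¹' {genericPoint ↑Y} := by
      rw [← Scheme.Hom.range_fiberι]
      exact ⟨z, rfl⟩
    exact this
  have hnr₀ : ¬ _root_.IsReduced (X.presheaf.stalk x₀ ⧸ Ideal.map (f.stalkMap x₀).hom
      (maximalIdeal (Y.presheaf.stalk (f x₀)))) := by
    intro hR
    have e := Groth.Agent.H9.fiberStalkEquiv f (genericPoint ↑Y) z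
    exact hz (isReduced_of_injective e.symm e.symm.injective)
  -- affine opens
  obtain ⟨W, hW, hxW, -⟩ := Opens.isBasis_iff_nbhd.mp Y.isBasis_affineOpens
    (Opens.mem_top (f x₀))
  obtain ⟨U, hU, hxU, hUW⟩ := Opens.isBasis_iff_nbhd.mp X.isBasis_affineOpens
    (show x₀ ∈ f ⁻¹ᵁ W from hxW)
  set φ := (f.appLE W U hUW).hom with hφ
  set q₀ := hU.primeIdealOf ⟨x₀, hxU⟩ with hq₀
  set p₀ := hW.primeIdealOf ⟨f x₀, hUW hxU⟩ with hp₀
  have hq₀p₀ : q₀.asIdeal.comap φ = p₀.asIdeal :=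
    congrArg PrimeSpectrum.asIdeal
      (IsAffineOpen.comap_primeIdealOf_appLE W hW U hU hUW hxU)
  rw [map_stalkMap_maximalIdeal_eq f x₀ hW hUW hxU] at hnr₀
  letI := X.presheaf.algebra_section_stalk ⟨x₀, hxU⟩
  haveI := hU.isLocalization_stalk ⟨x₀, hxU⟩
  -- extract a nilpotent, nonzero element
  obtain ⟨β', hβ'nil, hβ'0⟩ : ∃ β' : X.presheaf.stalk x₀ ⧸ Ideal.map (X.presheaf.germ U x₀ hxU).hom
      (Ideal.map φ p₀.asIdeal), IsNilpotent β' ∧ β' ≠ 0 := by
    by_contra hall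
    push Not at hall
    exact hnr₀ ((isReduced_iff _).mpr hall)
  obtain ⟨β, rfl⟩ := Ideal.Quotient.mk_surjective β'
  obtain ⟨N, hN⟩ := hβ'nil
  rw [← map_pow, Ideal.Quotient.eq_zero_iff_mem] at hN
  rw [Ne, Ideal.Quotient.eq_zero_iff_mem] at hβ'0
  obtain ⟨⟨s, u⟩, hsu⟩ := IsLocalization.surj q₀.asIdeal.primeCompl β
  have huunit : IsUnit (algebraMap Γ(X, U) (X.presheaf.stalk x₀) (u : Γ(X, U))) :=
    IsLocalization.map_units _ u
  have hσN : (algebraMap Γ(X, U) (X.presheaf.stalk x₀) s) ^ N ∈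
      Ideal.map (algebraMap Γ(X, U) (X.presheaf.stalk x₀)) (Ideal.map φ p₀.asIdeal) := by
    rw [← hsu, mul_pow]
    exact Ideal.mul_mem_right _ _ hN
  have hσ0 : algebraMap Γ(X, U) (X.presheaf.stalk x₀) s ∉
      Ideal.map (algebraMap Γ(X, U) (X.presheaf.stalk x₀)) (Ideal.map φ p₀.asIdeal) := by
    intro hmem
    apply hβ'0
    rw [← hsu] at hmem
    exact (Ideal.mul_unit_mem_iff_mem _ huunit).mp hmem
  -- clear denominators
  rw [← map_pow, IsLocalization.mem_map_algebraMap_iff q₀.asIdeal.primeCompl] at hσN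
  obtain ⟨⟨a, m⟩, ham⟩ := hσN
  rw [← map_mul, IsLocalization.eq_iff_exists q₀.asIdeal.primeCompl] at ham
  obtain ⟨m', hm'⟩ := ham
  have hu'q : (m' : Γ(X, U)) * (m : Γ(X, U)) ∉ q₀.asIdeal := fun hmem =>
    (q₀.isPrime.mem_or_mem hmem).elim m'.2 m.2
  have hu's : (m' : Γ(X, U)) * (m : Γ(X, U)) * s ^ N ∈ Ideal.map φ p₀.asIdeal := by
    have : (m' : Γ(X, U)) * (m : Γ(X, U)) * s ^ N = (m' : Γ(X, U)) * (a : Γ(X, U)) := by
      rw [← hm']
      ring
    rw [this]
    exact Ideal.mul_mem_left _ _ a.2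
  set s₁ := (m' : Γ(X, U)) * (m : Γ(X, U)) * s with hs₁
  have hs₁N : s₁ ^ (N + 1) ∈ Ideal.map φ p₀.asIdeal := by
    have : s₁ ^ (N + 1) = (((m' : Γ(X, U)) * (m : Γ(X, U))) ^ N * s) *
        ((m' : Γ(X, U)) * (m : Γ(X, U)) * s ^ N) := by
      rw [hs₁]
      ring
    rw [this]
    exact Ideal.mul_mem_left _ _ hu's
  letI : Algebra Γ(Y, W) Γ(X, U) := φ.toAlgebra
  have halg : algebraMap Γ(Y, W) Γ(X, U) = φ := rfl
  have hs₁0 : ∀ t : Γ(Y, W), t ∉ p₀.asIdeal →
      algebraMap Γ(Y, W) Γ(X, U) t * s₁ ∉ p₀.asIdeal.map (algebraMap Γ(Y, W) Γ(X, U)) := by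
    intro t ht hmem
    apply hσ0
    have htq : φ t ∉ q₀.asIdeal := fun h' => ht (by rw [← hq₀p₀]; exact h')
    have hv : φ t * ((m' : Γ(X, U)) * (m : Γ(X, U))) ∉ q₀.asIdeal := fun hmem' =>
      (q₀.isPrime.mem_or_mem hmem').elim htq hu'q
    have hvunit : IsUnit (algebraMap Γ(X, U) (X.presheaf.stalk x₀)
        (φ t * ((m' : Γ(X, U)) * (m : Γ(X, U))))) :=
      IsLocalization.map_units _ (⟨_, hv⟩ : q₀.asIdeal.primeCompl)
    have h1 : algebraMap Γ(X, U) (X.presheaf.stalk x₀)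
        (φ t * ((m' : Γ(X, U)) * (m : Γ(X, U))) * s) ∈
        Ideal.map (algebraMap Γ(X, U) (X.presheaf.stalk x₀)) (Ideal.map φ p₀.asIdeal) := by
      refine Ideal.mem_map_of_mem _ ?_
      have : φ t * ((m' : Γ(X, U)) * (m : Γ(X, U))) * s = algebraMap Γ(Y, W) Γ(X, U) t * s₁ := by
        rw [hs₁, halg]
        ring
      rw [this]
      exact hmem
    rw [map_mul, mul_comm] at h1
    exact (Ideal.mul_unit_mem_iff_mem _ hvunit).mp h1
  haveI : Algebra.FiniteType Γ(Y, W) Γ(X, U) :=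
    HasRingHomProperty.appLE @LocallyOfFiniteType f inferInstance ⟨W, hW⟩ ⟨U, hU⟩ hUW
  obtain ⟨hh, hhp₀, hspread⟩ := exists_open_nonzero_fibre (R := Γ(Y, W)) (S := Γ(X, U))
    p₀.asIdeal s₁ hs₁0
  -- the open set
  refine ⟨⟨hW.fromSpec '' (PrimeSpectrum.basicOpen hh : Set (PrimeSpectrum Γ(Y, W))),
    hW.fromSpec.isOpenEmbedding.isOpenMap _ (PrimeSpectrum.basicOpen hh).isOpen⟩,
    ⟨_, ⟨p₀, hhp₀, rfl⟩⟩, ?_⟩
  rintro _ ⟨ppt, hppt, rfl⟩
  have hjp₀ : hW.fromSpec p₀ = f x₀ := hW.fromSpec_primeIdealOf ⟨f x₀, hUW hxU⟩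
  have hle : p₀.asIdeal ≤ ppt.asIdeal := by
    have h1 : f x₀ ⤳ hW.fromSpec ppt := by
      rw [hfx₀]
      exact genericPoint_specializes _
    have h2 : (show ↥(Spec Γ(Y, W)) from p₀) ⤳ (show ↥(Spec Γ(Y, W)) from ppt) :=
      (hW.fromSpec.isOpenEmbedding.isInducing.specializes_iff).mp (by rw [hjp₀]; exact h1)
    exact (PrimeSpectrum.le_iff_specializes p₀ ppt).mpr h2
  obtain ⟨q, hqp, hqcomap, hqs⟩ := hspread ppt.asIdeal ppt.isPrime hle hppt
  -- the point of `X`
  set qpt : PrimeSpectrum Γ(X, U) := ⟨q, hqp⟩ with hqpt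
  set x := hU.fromSpec qpt with hx
  have hxU' : x ∈ U := by
    have : x ∈ Set.range hU.fromSpec := ⟨qpt, rfl⟩
    rwa [hU.range_fromSpec] at this
  have hqx : hU.primeIdealOf ⟨x, hxU'⟩ = qpt :=
    hU.fromSpec.isOpenEmbedding.injective (hU.fromSpec_primeIdealOf ⟨x, hxU'⟩)
  have hfx : f x = hW.fromSpec ppt := by
    have h1 := congrArg (fun ψ : Spec Γ(X, U) ⟶ Y => ψ qpt)
      (IsAffineOpen.SpecMap_appLE_fromSpec f hW hU hUW)
    simp only [Scheme.Hom.comp_apply] at h1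
    rw [hx, ← h1]
    congr 1
    exact PrimeSpectrum.ext hqcomap
  have hpx : (hW.primeIdealOf ⟨f x, hUW hxU'⟩).asIdeal = ppt.asIdeal := by
    have h1 := congrArg PrimeSpectrum.asIdeal
      (IsAffineOpen.comap_primeIdealOf_appLE W hW U hU hUW hxU')
    rw [← h1, hqx]
    exact hqcomap
  rw [← hfx]
  intro hR
  -- non-reducedness of the local ring of the fibre
  have hnr : ¬ _root_.IsReduced (X.presheaf.stalk x ⧸ Ideal.map (f.stalkMap x).hom
      (maximalIdeal (Y.presheaf.stalk (f x)))) := by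
    rw [map_stalkMap_maximalIdeal_eq f x hW hUW hxU', hpx]
    letI := X.presheaf.algebra_section_stalk ⟨x, hxU'⟩
    haveI := hU.isLocalization_stalk ⟨x, hxU'⟩
    haveI : (hU.primeIdealOf ⟨x, hxU'⟩).asIdeal.IsPrime := (hU.primeIdealOf ⟨x, hxU'⟩).isPrime
    refine not_isReduced_quotient_of_localization (hU.primeIdealOf ⟨x, hxU'⟩).asIdeal
      (Ideal.map φ ppt.asIdeal) s₁ (N + 1) (Ideal.map_mono hle hs₁N) ?_
    intro u hu
    rw [hqx] at hu
    exact hqs u hu
  apply hnr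
  have e := Groth.Agent.H9.fiberStalkEquiv f (f x) (f.asFiber x)
  have hxx : (f.fiberι (f x)) (f.asFiber x) = x := f.fiberι_asFiber x
  revert e
  rw [hxx]
  intro e
  exact isReduced_of_injective e e.injective

end Groth.Agent.H7
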