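import Mathlib
import Groth.Agent.H7.GenericClosure
import Groth.Agent.H7.NonReducedFibre

set_option autoImplicit false
set_option linter.style.haveILetI false
universe u

namespace Groth.Agent.H7

open AlgebraicGeometry CategoryTheory Limits TopologicalSpace Topology IsLocalRing

/-- A finite partition of a space into nonempty closed subsets bounds the number of connected
components from below. -/
theorem card_le_card_connectedComponents_of_partition {A : Type*} [TopologicalSpace A]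
    {P : Type*} [Finite P] (S : P → Set A) (hclosed : ∀ c, IsClosed (S c))
    (hcov : ∀ a, ∃ c, a ∈ S c) (hdisj : ∀ c c', c ≠ c' → Disjoint (S c) (S c'))
    (hne : ∀ c, (S c).Nonempty) : ENat.card P ≤ ENat.card (ConnectedComponents A) := by
  have hopen : ∀ c, IsOpen (S c) := by
    intro c
    have : S c = (⋃ c' : {c' : P // c' ≠ c}, S c'.1)ᶜ := by
      ext a
      constructor
      · intro ha hmem
        obtain ⟨c', hc'⟩ := Set.mem_iUnion.mp hmem
        exact Set.disjoint_left.mp (hdisj c c'.1 c'.2.symm) ha hc'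
      · intro ha
        obtain ⟨c', hc'⟩ := hcov a
        by_cases h : c' = c
        · exact h ▸ hc'
        · exact absurd (Set.mem_iUnion.mpr ⟨⟨c', h⟩, hc'⟩) ha
    rw [this]
    exact (isClosed_iUnion_of_finite fun c' : {c' : P // c' ≠ c} => hclosed c'.1).isOpen_compl
  choose a ha using hne
  refine ENat.card_le_card_of_injective (f := fun c => (a c : ConnectedComponents A)) ?_
  intro c c' h
  by_contra hcc
  have h1 : a c ∈ connectedComponent (a c') := ConnectedComponents.coe_eq_coe'.mp h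
  have h2 : connectedComponent (a c') ⊆ S c' :=
    isPreconnected_connectedComponent.subset_isClopen ⟨hclosed c', hopen c'⟩
      ⟨a c', mem_connectedComponent, ha c'⟩
  exact Set.disjoint_left.mp (hdisj c c' hcc) (ha c) (h2 h1)

/-- The image of a morphism locally of finite type to an irreducible scheme which contains the
generic point contains an open neighbourhood of the generic point. -/
theorem exists_opens_subset_range_of_generic_mem {T Y : Scheme.{u}} (g : T ⟶ Y)
    [IrreducibleSpace ↑Y] [LocallyOfFiniteType g] (t₀ : T) (ht₀ : g t₀ = genericPoint ↑Y) :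
    ∃ V : Y.Opens, genericPoint ↑Y ∈ V ∧ (V : Set Y) ⊆ Set.range g := by
  obtain ⟨W, hW, hxW, -⟩ := Opens.isBasis_iff_nbhd.mp Y.isBasis_affineOpens
    (Opens.mem_top (g t₀))
  obtain ⟨U, hU, hxU, hUW⟩ := Opens.isBasis_iff_nbhd.mp T.isBasis_affineOpens
    (show t₀ ∈ g ⁻¹ᵁ W from hxW)
  set φ := (g.appLE W U hUW).hom with hφ
  set q₀ := hU.primeIdealOf ⟨t₀, hxU⟩ with hq₀
  set p₀ := hW.primeIdealOf ⟨g t₀, hUW hxU⟩ with hp₀
  have hq₀p₀ : q₀.asIdeal.comap φ = p₀.asIdeal :=
    congrArg PrimeSpectrum.asIdeal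
      (IsAffineOpen.comap_primeIdealOf_appLE W hW U hU hUW hxU)
  letI : Algebra Γ(Y, W) Γ(T, U) := φ.toAlgebra
  have halg : algebraMap Γ(Y, W) Γ(T, U) = φ := rfl
  haveI : Algebra.FiniteType Γ(Y, W) Γ(T, U) :=
    HasRingHomProperty.appLE @LocallyOfFiniteType g inferInstance ⟨W, hW⟩ ⟨U, hU⟩ hUW
  have hs1 : ∀ t : Γ(Y, W), t ∉ p₀.asIdeal →
      algebraMap Γ(Y, W) Γ(T, U) t * 1 ∉ p₀.asIdeal.map (algebraMap Γ(Y, W) Γ(T, U)) := by
    intro t ht hmem
    apply ht
    rw [mul_one, halg] at hmem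
    have hle : p₀.asIdeal.map φ ≤ q₀.asIdeal := by
      rw [Ideal.map_le_iff_le_comap, hq₀p₀]
    rw [← hq₀p₀]
    exact hle hmem
  obtain ⟨hh, hhp₀, hspread⟩ := exists_open_nonzero_fibre (R := Γ(Y, W)) (S := Γ(T, U))
    p₀.asIdeal 1 hs1
  have hjp₀ : hW.fromSpec p₀ = g t₀ := hW.fromSpec_primeIdealOf ⟨g t₀, hUW hxU⟩
  refine ⟨⟨hW.fromSpec '' (PrimeSpectrum.basicOpen hh : Set (PrimeSpectrum Γ(Y, W))),
    hW.fromSpec.isOpenEmbedding.isOpenMap _ (PrimeSpectrum.basicOpen hh).isOpen⟩,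
    ⟨p₀, hhp₀, hjp₀.trans ht₀⟩, ?_⟩
  rintro _ ⟨ppt, hppt, rfl⟩
  have hle : p₀.asIdeal ≤ ppt.asIdeal := by
    have h1 : g t₀ ⤳ hW.fromSpec ppt := by
      rw [ht₀]
      exact genericPoint_specializes _
    have h2 : (show ↥(Spec Γ(Y, W)) from p₀) ⤳ (show ↥(Spec Γ(Y, W)) from ppt) :=
      (hW.fromSpec.isOpenEmbedding.isInducing.specializes_iff).mp (by rw [hjp₀]; exact h1)
    exact (PrimeSpectrum.le_iff_specializes p₀ ppt).mpr h2
  obtain ⟨q, hqp, hqcomap, -⟩ := hspread ppt.asIdeal ppt.isPrime hle hppt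
  refine ⟨hU.fromSpec (⟨q, hqp⟩ : PrimeSpectrum Γ(T, U)), ?_⟩
  have h1 := congrArg (fun ψ : Spec Γ(T, U) ⟶ Y => ψ (⟨q, hqp⟩ : PrimeSpectrum Γ(T, U)))
    (IsAffineOpen.SpecMap_appLE_fromSpec g hW hU hUW)
  simp only [Scheme.Hom.comp_apply] at h1
  rw [← h1]
  congr 1
  exact PrimeSpectrum.ext hqcomap

/-- A closed subset missing the generic fibre misses the preimage of a neighbourhood of the
generic point. -/
theorem exists_opens_forall_notMem_of_closed {X Y : Scheme.{u}} (f : X ⟶ Y)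
    [IrreducibleSpace ↑Y] [LocallyOfFiniteType f] [QuasiCompact f] (E : Set X) (hE : IsClosed E)
    (hEη : ∀ x ∈ E, f x ≠ genericPoint ↑Y) :
    ∃ V : Y.Opens, genericPoint ↑Y ∈ V ∧ ∀ x ∈ E, f x ∉ V := by
  let I := Scheme.IdealSheafData.vanishingIdeal (⟨E, hE⟩ : Closeds X)
  have hrange : Set.range I.subschemeι = E := by
    rw [Scheme.IdealSheafData.range_subschemeι, Scheme.IdealSheafData.coe_support_vanishingIdeal]
    rfl
  obtain ⟨V, hVne, hV⟩ := exists_opens_preimage_subset_closure_genericFibre (I.subschemeι ≫ f)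
  have hempty : (I.subschemeι ≫ f) ⁻¹' {genericPoint ↑Y} = ∅ := by
    rw [Set.eq_empty_iff_forall_notMem]
    intro e he
    have h1 : I.subschemeι e ∈ E := by
      rw [← hrange]
      exact ⟨e, rfl⟩
    exact hEη _ h1 he
  rw [hempty, closure_empty] at hV
  obtain ⟨v, hv⟩ := hVne
  refine ⟨V, (genericPoint_specializes v).mem_open V.2 hv, fun x hx hfx => ?_⟩
  obtain ⟨e, rfl⟩ : x ∈ Set.range I.subschemeι := by rw [hrange]; exact hx
  exact hV (show e ∈ (I.subschemeι ≫ f) ⁻¹' (V : Set Y) from hfx)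

/-- EGA IV 9.7.8-type statement for connected components. -/
theorem le_card_connectedComponents_fibre_near_generic {X Y : Scheme.{u}} (f : X ⟶ Y)
    [IrreducibleSpace ↑Y] [LocallyOfFiniteType f] [QuasiCompact f] (n : ℕ)
    (h : ENat.card (_root_.ConnectedComponents ↑(f.fiber (genericPoint ↑Y))) = n) :
    ∃ V : Y.Opens, (V : Set ↑Y).Nonempty ∧
      ∀ y ∈ V, (n : ℕ∞) ≤ ENat.card (_root_.ConnectedComponents ↑(f.fiber y)) := by
  haveI : Finite (_root_.ConnectedComponents ↑(f.fiber (genericPoint ↑Y))) := by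
    have h1 : ENat.card (_root_.ConnectedComponents ↑(f.fiber (genericPoint ↑Y))) ≠ ⊤ := by
      rw [h]
      exact ENat.natCast_ne_top n
    rwa [Ne, ENat.card_eq_top, not_infinite_iff_finite] at h1
  let Z : _root_.ConnectedComponents ↑(f.fiber (genericPoint ↑Y)) →
      Set ↑(f.fiber (genericPoint ↑Y)) := fun c => ConnectedComponents.mk ⁻¹' {c}
  have hZclosed : ∀ c, IsClosed (Z c) := by
    intro c
    obtain ⟨z, rfl⟩ := ConnectedComponents.surjective_coe c
    show IsClosed (ConnectedComponents.mk ⁻¹' {ConnectedComponents.mk z})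
    rw [connectedComponents_preimage_singleton]
    exact isClosed_connectedComponent
  have hZne : ∀ c, (Z c).Nonempty := by
    intro c
    obtain ⟨z, rfl⟩ := ConnectedComponents.surjective_coe c
    exact ⟨z, rfl⟩
  let T : _root_.ConnectedComponents ↑(f.fiber (genericPoint ↑Y)) → Set X :=
    fun c => closure ((f.fiberι (genericPoint ↑Y)) '' Z c)
  have hTη : ∀ c x, x ∈ T c → f x = genericPoint ↑Y →
      ∃ z ∈ Z c, (f.fiberι (genericPoint ↑Y)) z = x := by
    intro c x hxT hfx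
    obtain ⟨z, rfl⟩ : x ∈ Set.range (f.fiberι (genericPoint ↑Y)) := by
      rw [Scheme.Hom.range_fiberι]
      exact hfx
    refine ⟨z, ?_, rfl⟩
    have h1 := (f.fiberι (genericPoint ↑Y)).isEmbedding.isInducing.closure_eq_preimage_closure_image
      (Z c)
    rw [(hZclosed c).closure_eq] at h1
    rw [h1]
    exact hxT
  -- the bad closed set
  let E : Set X := ⋃ pr : {pr : _root_.ConnectedComponents ↑(f.fiber (genericPoint ↑Y)) ×
      _root_.ConnectedComponents ↑(f.fiber (genericPoint ↑Y)) // pr.1 ≠ pr.2},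
      T pr.1.1 ∩ T pr.1.2
  have hEclosed : IsClosed E :=
    isClosed_iUnion_of_finite fun pr => isClosed_closure.inter isClosed_closure
  have hEη : ∀ x ∈ E, f x ≠ genericPoint ↑Y := by
    intro x hx hfx
    obtain ⟨pr, hx1, hx2⟩ := Set.mem_iUnion.mp hx
    obtain ⟨z1, hz1, hz1x⟩ := hTη _ x hx1 hfx
    obtain ⟨z2, hz2, hz2x⟩ := hTη _ x hx2 hfx
    have hzz : z1 = z2 :=
      (f.fiberι (genericPoint ↑Y)).isEmbedding.injective (hz1x.trans hz2x.symm)
    apply pr.2
    have e1 : ConnectedComponents.mk z1 = pr.1.1 := hz1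
    have e2 : ConnectedComponents.mk z2 = pr.1.2 := hz2
    rw [← e1, ← e2, hzz]
  obtain ⟨V₁, hV₁ne, hV₁⟩ := exists_opens_preimage_subset_closure_genericFibre f
  have hV₁η : genericPoint ↑Y ∈ V₁ := by
    obtain ⟨v, hv⟩ := hV₁ne
    exact (genericPoint_specializes v).mem_open V₁.2 hv
  obtain ⟨V₂, hV₂η, hV₂⟩ := exists_opens_forall_notMem_of_closed f E hEclosed hEη
  have hV₃ : ∀ c : _root_.ConnectedComponents ↑(f.fiber (genericPoint ↑Y)),
      ∃ V : Y.Opens, genericPoint ↑Y ∈ V ∧ (V : Set Y) ⊆ f '' T c := by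
    intro c
    let I := Scheme.IdealSheafData.vanishingIdeal (⟨T c, isClosed_closure⟩ : Closeds X)
    have hrange : Set.range I.subschemeι = T c := by
      rw [Scheme.IdealSheafData.range_subschemeι,
        Scheme.IdealSheafData.coe_support_vanishingIdeal]
      rfl
    obtain ⟨z, hz⟩ := hZne c
    have hzT : (f.fiberι (genericPoint ↑Y)) z ∈ T c := subset_closure ⟨z, hz, rfl⟩
    obtain ⟨t₀, ht₀⟩ : (f.fiberι (genericPoint ↑Y)) z ∈ Set.range I.subschemeι := by
      rw [hrange]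
      exact hzT
    have hfz : f ((f.fiberι (genericPoint ↑Y)) z) = genericPoint ↑Y := by
      have : (f.fiberι (genericPoint ↑Y)) z ∈ f ⁻¹' {genericPoint ↑Y} := by
        rw [← Scheme.Hom.range_fiberι]
        exact ⟨z, rfl⟩
      exact this
    have hgt₀ : (I.subschemeι ≫ f) t₀ = genericPoint ↑Y := by
      rw [Scheme.Hom.comp_apply, ht₀]
      exact hfz
    obtain ⟨V, hVη, hV⟩ := exists_opens_subset_range_of_generic_mem (I.subschemeι ≫ f) t₀ hgt₀
    refine ⟨V, hVη, fun y hy => ?_⟩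
    obtain ⟨t, rfl⟩ := hV hy
    refine ⟨I.subschemeι t, ?_, rfl⟩
    rw [← hrange]
    exact ⟨t, rfl⟩
  choose V₃ hV₃η hV₃sub using hV₃
  refine ⟨⟨(V₁ : Set Y) ∩ (V₂ : Set Y) ∩ ⋂ c, (V₃ c : Set Y),
    (V₁.2.inter V₂.2).inter (isOpen_iInter_of_finite fun c => (V₃ c).2)⟩,
    ⟨genericPoint ↑Y, ⟨hV₁η, hV₂η⟩, Set.mem_iInter.mpr hV₃η⟩, ?_⟩
  rintro y ⟨⟨hy1, hy2⟩, hy3⟩
  rw [← h]
  have hfι : ∀ w : ↑(f.fiber y), f ((f.fiberι y) w) = y := by
    intro w
    have : (f.fiberι y) w ∈ f ⁻¹' {y} := by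
      rw [← Scheme.Hom.range_fiberι]
      exact ⟨w, rfl⟩
    exact this
  refine card_le_card_connectedComponents_of_partition (fun c => (f.fiberι y) ⁻¹' T c)
    (fun c => isClosed_closure.preimage (f.fiberι y).continuous) ?_ ?_ ?_
  · intro w
    have hx : (f.fiberι y) w ∈ f ⁻¹' (V₁ : Set Y) := by
      show f ((f.fiberι y) w) ∈ V₁
      rw [hfι w]
      exact hy1
    have h1 := hV₁ hx
    have h2 : f ⁻¹' {genericPoint ↑Y} = ⋃ c, (f.fiberι (genericPoint ↑Y)) '' Z c := by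
      rw [← Set.image_iUnion]
      have : ⋃ c, Z c = Set.univ := by
        rw [Set.eq_univ_iff_forall]
        intro z
        exact Set.mem_iUnion.mpr ⟨ConnectedComponents.mk z, rfl⟩
      rw [this, Set.image_univ, Scheme.Hom.range_fiberι]
    rw [h2, closure_iUnion_of_finite] at h1
    obtain ⟨c, hc⟩ := Set.mem_iUnion.mp h1
    exact ⟨c, hc⟩
  · intro c c' hcc
    rw [Set.disjoint_left]
    intro w hw hw'
    have hE : (f.fiberι y) w ∈ E := Set.mem_iUnion.mpr ⟨⟨(c, c'), hcc⟩, hw, hw'⟩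
    have := hV₂ _ hE
    rw [hfι w] at this
    exact this hy2
  · intro c
    have hyc : y ∈ (V₃ c : Set Y) := Set.mem_iInter.mp hy3 c
    obtain ⟨x, hxT, hfx⟩ := hV₃sub c hyc
    obtain ⟨w, hw⟩ : x ∈ Set.range (f.fiberι y) := by
      rw [Scheme.Hom.range_fiberι]
      exact hfx
    exact ⟨w, show (f.fiberι y) w ∈ T c from hw ▸ hxT⟩

end Groth.Agent.H7
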