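import Mathlib

set_option autoImplicit false
set_option linter.style.haveILetI false
universe u

namespace Groth.Agent.H7

open CategoryTheory Limits TensorProduct

/-- Base change of an algebra along an extension of fields (both algebras over a base ring)
is injective. -/
theorem tensorMap_injective_of_field {R : Type u} [CommRing R] (B : Type u) [CommRing B]
    [Algebra R B] (L K : Type u) [Field L] [Field K] [Algebra R L] [Algebra R K]
    (lam : L →ₐ[R] K) :
    Function.Injective (Algebra.TensorProduct.map lam (AlgHom.id R B)) := by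
  letI : Algebra L K := lam.toRingHom.toAlgebra
  haveI : IsScalarTower R L K :=
    IsScalarTower.of_algebraMap_eq (fun r => (lam.commutes r).symm)
  have h1 : Function.Injective
      (Algebra.TensorProduct.includeRight : L ⊗[R] B →ₐ[L] K ⊗[L] (L ⊗[R] B)) :=
    Algebra.TensorProduct.includeRight_injective (algebraMap L K).injective
  have h2 := (Algebra.TensorProduct.cancelBaseChange R L L K B).injective
  have h3 : ∀ x : L ⊗[R] B, Algebra.TensorProduct.map lam (AlgHom.id R B) x =
      Algebra.TensorProduct.cancelBaseChange R L L K B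
        ((Algebra.TensorProduct.includeRight : L ⊗[R] B →ₐ[L] K ⊗[L] (L ⊗[R] B)) x) := by
    intro x
    induction x using TensorProduct.induction_on with
    | zero => simp
    | tmul l b =>
      simp only [Algebra.TensorProduct.map_tmul, Algebra.TensorProduct.includeRight_apply,
        Algebra.TensorProduct.cancelBaseChange_tmul, AlgHom.coe_id, id_eq, Algebra.smul_def,
        mul_one]
      rfl
    | add x y hx hy => simp only [map_add, hx, hy]
  intro x y hxy
  rw [h3, h3] at hxy
  exact h1 (h2 hxy)

/-- An element of `K ⊗ B` is defined over any subfield containing finitely many elements. -/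
theorem exists_finset_forall_mem_range_map {R : Type u} [CommRing R] (B K : Type u) [CommRing B]
    [Algebra R B] [Field K] [Algebra R K] (t : K ⊗[R] B) :
    ∃ s : Finset K, ∀ (L : Type u) [Field L] [Algebra R L] (lam : L →ₐ[R] K),
      (↑s : Set K) ⊆ Set.range lam →
        t ∈ Set.range (Algebra.TensorProduct.map lam (AlgHom.id R B)) := by
  classical
  induction t using TensorProduct.induction_on with
  | zero => exact ⟨∅, fun L _ _ lam _ => ⟨0, map_zero _⟩⟩
  | tmul k b =>
    refine ⟨{k}, fun L _ _ lam hs => ?_⟩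
    obtain ⟨l, hl⟩ := hs (show k ∈ ((({k} : Finset K)) : Set K) by simp)
    exact ⟨l ⊗ₜ b, by simp [hl]⟩
  | add x y hx hy =>
    obtain ⟨s1, h1⟩ := hx
    obtain ⟨s2, h2⟩ := hy
    refine ⟨s1 ∪ s2, fun L _ _ lam hs => ?_⟩
    obtain ⟨a, ha⟩ := h1 L lam (fun k hk => hs (by
      rw [Finset.coe_union]; exact Or.inl hk))
    obtain ⟨b, hb⟩ := h2 L lam (fun k hk => hs (by
      rw [Finset.coe_union]; exact Or.inr hk))
    exact ⟨a + b, by rw [map_add, ha, hb]⟩

/-- If `K ⊗ B` is not reduced, then `L ⊗ B` is not reduced for every subfield `L` of `K`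
containing a suitable finite set. -/
theorem exists_finset_not_isReduced {R : Type u} [CommRing R] (B K : Type u) [CommRing B]
    [Algebra R B] [Field K] [Algebra R K] (h : ¬ IsReduced (K ⊗[R] B)) :
    ∃ s : Finset K, ∀ (L : Type u) [Field L] [Algebra R L] (lam : L →ₐ[R] K),
      (↑s : Set K) ⊆ Set.range lam → ¬ IsReduced (L ⊗[R] B) := by
  obtain ⟨t, ht0, htnil⟩ := exists_isNilpotent_of_not_isReduced h
  obtain ⟨s, hs⟩ := exists_finset_forall_mem_range_map B K t
  refine ⟨s, fun L _ _ lam hsl hred => ?_⟩
  obtain ⟨t', rfl⟩ := hs L lam hsl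
  have hinj := tensorMap_injective_of_field B L K lam
  have h1 : IsNilpotent t' := (IsNilpotent.map_iff hinj).mp htnil
  have h2 := hred.eq_zero _ h1
  exact ht0 (by rw [h2, map_zero])

/-- Pushout form of `exists_finset_not_isReduced`. -/
theorem exists_finset_not_isReduced_pushout {R B P : CommRingCat.{u}} {K : Type u} [Field K]
    {φ : R ⟶ B} {ψ : R ⟶ CommRingCat.of K} {α : B ⟶ P} {β : CommRingCat.of K ⟶ P}
    (hPO : IsPushout φ ψ α β) (hP : ¬ IsReduced P) :
    ∃ s : Finset K, ∀ (L : Type u) [Field L] (ψ' : R ⟶ CommRingCat.of L)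
      (lam : CommRingCat.of L ⟶ CommRingCat.of K), ψ' ≫ lam = ψ →
      (↑s : Set K) ⊆ Set.range lam.hom →
      ∀ (P' : CommRingCat.{u}) (α' : B ⟶ P') (β' : CommRingCat.of L ⟶ P'),
        IsPushout φ ψ' α' β' → ¬ IsReduced P' := by
  letI : Algebra R B := φ.hom.toAlgebra
  letI : Algebra R K := ψ.hom.toAlgebra
  have hT : IsPushout ψ φ
      (CommRingCat.ofHom (S := K ⊗[R] B) Algebra.TensorProduct.includeLeftRingHom)
      (CommRingCat.ofHom (S := K ⊗[R] B) Algebra.TensorProduct.includeRight.toRingHom) :=
    CommRingCat.isPushout_tensorProduct R K B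
  let e : P ≅ CommRingCat.of (K ⊗[R] B) := hPO.flip.isoIsPushout _ _ hT
  have hKB : ¬ IsReduced (K ⊗[R] B) := fun hred => by
    haveI : IsReduced ↑(CommRingCat.of (K ⊗[R] B)) := hred
    exact hP (isReduced_of_injective e.commRingCatIsoToRingEquiv
      e.commRingCatIsoToRingEquiv.injective)
  obtain ⟨s, hs⟩ := exists_finset_not_isReduced B K hKB
  refine ⟨s, fun L _ ψ' lam hcomp hrange P' α' β' hPO' hred => ?_⟩
  letI : Algebra R L := ψ'.hom.toAlgebra
  let lamA : L →ₐ[R] K :=
    { lam.hom with
      commutes' := fun r => by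
        have h1 := congrArg (fun χ : R ⟶ CommRingCat.of K => χ.hom r) hcomp
        exact h1 }
  have hT' : IsPushout ψ' φ
      (CommRingCat.ofHom (S := L ⊗[R] B) Algebra.TensorProduct.includeLeftRingHom)
      (CommRingCat.ofHom (S := L ⊗[R] B) Algebra.TensorProduct.includeRight.toRingHom) :=
    CommRingCat.isPushout_tensorProduct R L B
  let e' : P' ≅ CommRingCat.of (L ⊗[R] B) := hPO'.flip.isoIsPushout _ _ hT'
  refine hs L lamA hrange ?_
  haveI : IsReduced ↑P' := hred
  exact isReduced_of_injective e'.symm.commRingCatIsoToRingEquiv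
    e'.symm.commRingCatIsoToRingEquiv.injective

end Groth.Agent.H7
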