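import Mathlib
import Groth.Agent.H7.ConnCompFibre
import Groth.Agent.H7.GeomRedAlg

set_option autoImplicit false
set_option linter.style.haveILetI false
universe u

namespace Groth.Agent.H7

open AlgebraicGeometry CategoryTheory Limits TopologicalSpace Topology

/-- A morphism from an affine scheme landing in an affine open is computed on sections. -/
theorem SpecMap_appLE_top_fromSpec {Y : Scheme.{u}} {A : CommRingCat.{u}} (q : Spec A ⟶ Y)
    {W : Y.Opens} (hW : IsAffineOpen W) (hq : (⊤ : (Spec A).Opens) ≤ q ⁻¹ᵁ W) :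
    Spec.map (q.appLE W ⊤ hq ≫ (Scheme.ΓSpecIso A).hom) ≫ hW.fromSpec = q := by
  rw [Spec.map_comp, Category.assoc,
    IsAffineOpen.SpecMap_appLE_fromSpec q hW (isAffineOpen_top _) hq,
    IsAffineOpen.fromSpec_top, Scheme.isoSpec_Spec_inv, ← Spec.map_comp_assoc, Iso.inv_hom_id,
    Spec.map_id, Category.id_comp]

/-- Sections of a base change to an affine scheme over affine opens form a pushout square. -/
theorem isPushout_sections_of_isPullback_Spec {X Y Z : Scheme.{u}} {A : CommRingCat.{u}}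
    {f : X ⟶ Y} {q : Spec A ⟶ Y} {fstX : Z ⟶ X} {snd : Z ⟶ Spec A}
    (H : IsPullback fstX snd f q) {W : Y.Opens} (hW : IsAffineOpen W) {U : X.Opens}
    (hU : IsAffineOpen U) (hUW : U ≤ f ⁻¹ᵁ W) (hq : (⊤ : (Spec A).Opens) ≤ q ⁻¹ᵁ W) :
    IsAffineOpen (fstX ⁻¹ᵁ U ⊓ snd ⁻¹ᵁ ⊤) ∧
    IsPushout (f.appLE W U hUW) (q.appLE W ⊤ hq ≫ (Scheme.ΓSpecIso A).hom)
      (fstX.appLE U (fstX ⁻¹ᵁ U ⊓ snd ⁻¹ᵁ ⊤) inf_le_left)
      ((Scheme.ΓSpecIso A).inv ≫ snd.appLE ⊤ (fstX ⁻¹ᵁ U ⊓ snd ⁻¹ᵁ ⊤) inf_le_right) := by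
  have hUT : IsAffineOpen (⊤ : (Spec A).Opens) := isAffineOpen_top _
  have hiso := isIso_pushoutSection_of_isAffineOpen H hq hUW
    (UY := fstX ⁻¹ᵁ U ⊓ snd ⁻¹ᵁ ⊤) rfl hW hUT hU
  have hPO := (isIso_pushoutSection_iff H hq hUW (UY := fstX ⁻¹ᵁ U ⊓ snd ⁻¹ᵁ ⊤) rfl).mp hiso
  refine ⟨?_, ?_⟩
  · have : IsAffine _ := hW
    have : IsAffine _ := hUT
    have : IsAffine _ := hU
    exact .of_isIso (Scheme.Hom.isPullback_resLE H hq hUW rfl).isoPullback.hom
  · exact hPO.of_iso (Iso.refl _) (Iso.refl _) (Scheme.ΓSpecIso A) (Iso.refl _) (by simp)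
      (by simp) (by simp) (by simp)

set_option backward.isDefEq.respectTransparency false in
/-- If the generic fibre of a morphism locally of finite type to an irreducible scheme is not
geometrically reduced, then no fibre over some nonempty open is geometrically reduced. -/
theorem not_geometricallyReduced_fibre_near_generic {X Y : Scheme.{u}} (f : X ⟶ Y)
    [IrreducibleSpace ↑Y] [LocallyOfFiniteType f]
    (h : ¬ GeometricallyReduced (f.fiberToSpecResidueField (genericPoint ↑Y))) :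
    ∃ V : Y.Opens, (V : Set ↑Y).Nonempty ∧
      ∀ y ∈ V, ¬ GeometricallyReduced (f.fiberToSpecResidueField y) := by
  classical
  set η := genericPoint ↑Y with hη
  -- Part 1: a field extension making the generic fibre non-reduced
  obtain ⟨K, instK, y, Z, fst, snd, hpb, hZ⟩ : ∃ (K : Type u) (_ : Field K)
      (y : Spec (CommRingCat.of K) ⟶ Spec (Y.residueField η)) (Z : Scheme.{u})
      (fst : Z ⟶ f.fiber η) (snd : Z ⟶ Spec (CommRingCat.of K)),
      IsPullback fst snd (f.fiberToSpecResidueField η) y ∧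
        ¬ AlgebraicGeometry.IsReduced Z := by
    by_contra hcon
    apply h
    refine ⟨fun K _ y Z fst snd hpb => ?_⟩
    by_contra hZ
    exact hcon ⟨K, inferInstance, y, Z, fst, snd, hpb, hZ⟩
  set yK : Spec (CommRingCat.of K) ⟶ Y := y ≫ Y.fromSpecResidueField η with hyK
  set fstX : Z ⟶ X := fst ≫ f.fiberι η with hfstX
  have HPB : IsPullback fstX snd f yK :=
    hpb.paste_horiz (IsPullback.of_hasPullback f (Y.fromSpecResidueField η))
  have hyKpt : ∀ t : Spec (CommRingCat.of K), yK t = η := by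
    intro t
    rw [hyK, Scheme.Hom.comp_apply, Scheme.fromSpecResidueField_apply]
  obtain ⟨z, hz⟩ : ∃ z : Z, ¬ _root_.IsReduced (Z.presheaf.stalk z) := by
    by_contra hall
    push Not at hall
    exact hZ (isReduced_of_isReduced_stalk _)
  have hfz : f (fstX z) = η := by
    have h1 := congrArg (fun φ : Z ⟶ Y => φ z) HPB.w
    simp only [Scheme.Hom.comp_apply] at h1
    rw [h1]
    exact hyKpt _
  obtain ⟨W, hW', hxW, -⟩ := Opens.isBasis_iff_nbhd.mp Y.isBasis_affineOpens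
    (Opens.mem_top (f (fstX z)))
  have hW : IsAffineOpen W := hW'
  obtain ⟨U, hU', hxU, hUW⟩ := Opens.isBasis_iff_nbhd.mp X.isBasis_affineOpens
    (show fstX z ∈ f ⁻¹ᵁ W from hxW)
  have hU : IsAffineOpen U := hU'
  have hηW : η ∈ W := hfz ▸ hxW
  have hUST : (⊤ : (Spec (CommRingCat.of K)).Opens) ≤ yK ⁻¹ᵁ W := by
    intro t _
    show yK t ∈ W
    rw [hyKpt]
    exact hηW
  obtain ⟨hUZ, hPO⟩ := isPushout_sections_of_isPullback_Spec HPB hW hU hUW hUST
  have hzUZ : z ∈ fstX ⁻¹ᵁ U ⊓ snd ⁻¹ᵁ ⊤ := ⟨hxU, trivial⟩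
  have hΓ : ¬ _root_.IsReduced Γ(Z, fstX ⁻¹ᵁ U ⊓ snd ⁻¹ᵁ ⊤) := by
    intro hred
    apply hz
    letI := Z.presheaf.algebra_section_stalk ⟨z, hzUZ⟩
    haveI := hUZ.isLocalization_stalk ⟨z, hzUZ⟩
    exact isReduced_localizationPreserves (hUZ.primeIdealOf ⟨z, hzUZ⟩).asIdeal.primeCompl _ hred
  obtain ⟨s, hs⟩ := exists_finset_not_isReduced_pushout hPO hΓ
  -- Part 2: a finitely generated subalgebra of `K`
  set ψ : Γ(Y, W) ⟶ CommRingCat.of K :=
    yK.appLE W ⊤ hUST ≫ (Scheme.ΓSpecIso (CommRingCat.of K)).hom with hψ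
  have hyKψ : Spec.map ψ ≫ hW.fromSpec = yK := SpecMap_appLE_top_fromSpec yK hW hUST
  letI algK : Algebra Γ(Y, W) K := ψ.hom.toAlgebra
  set R' : Subalgebra Γ(Y, W) K := Algebra.adjoin Γ(Y, W) (↑s : Set K) with hR'
  haveI : Algebra.FiniteType Γ(Y, W) R' := Algebra.FiniteType.adjoin_of_finite s.finite_toSet
  set Y' : Scheme.{u} := Spec (CommRingCat.of R') with hY'
  set ι : CommRingCat.of R' ⟶ CommRingCat.of K := CommRingCat.ofHom R'.val.toRingHom with hι
  set ρ₀ : Γ(Y, W) ⟶ CommRingCat.of R' := CommRingCat.ofHom (algebraMap Γ(Y, W) R') with hρ₀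
  have hρ₀ι : ρ₀ ≫ ι = ψ := by
    ext r
    rfl
  set g : Y' ⟶ Y := Spec.map ρ₀ ≫ hW.fromSpec with hg
  haveI : LocallyOfFiniteType (Spec.map ρ₀) :=
    (HasRingHomProperty.Spec_iff (P := @LocallyOfFiniteType)).mpr
      (show RingHom.FiniteType (algebraMap Γ(Y, W) R') from
        RingHom.finiteType_algebraMap.mpr inferInstance)
  haveI : LocallyOfFiniteType g := by
    rw [hg]
    infer_instance
  haveI : IsDomain ↑(CommRingCat.of R') := inferInstanceAs (IsDomain R')
  haveI : IsIntegral Y' := (affine_isIntegral_iff _).mpr inferInstance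
  set yK' : Spec (CommRingCat.of K) ⟶ Y' := Spec.map ι with hyK'
  have hyK'g : yK' ≫ g = yK := by
    rw [hyK', hg, ← Category.assoc, ← Spec.map_comp, hρ₀ι, hyKψ]
  set y' : Y' := yK' (IsLocalRing.closedPoint K) with hy'
  set φ' : Y'.residueField y' ⟶ CommRingCat.of K :=
    Y'.descResidueField (Scheme.stalkClosedPointTo yK') with hφ'
  have hfac : Spec.map φ' ≫ Y'.fromSpecResidueField y' = yK' :=
    Scheme.descResidueField_stalkClosedPointTo_fromSpecResidueField K Y' yK'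
  have hy'gen : y' = genericPoint ↑Y' := by
    have h1 : genericPoint ↑Y' = (⊥ : PrimeSpectrum R') :=
      genericPoint_eq_bot_of_affine (CommRingCat.of R')
    rw [h1]
    have hmax : IsLocalRing.maximalIdeal K = ⊥ :=
      IsLocalRing.isField_iff_maximalIdeal_eq.mp (Field.toIsField K)
    apply PrimeSpectrum.ext
    show Ideal.comap ι.hom (IsLocalRing.maximalIdeal K) = ⊥
    rw [hmax]
    exact (RingHom.injective_iff_ker_eq_bot _).mp Subtype.val_injective
  obtain ⟨ρ, hρ⟩ := Spec.map_surjective (Y'.fromSpecResidueField y')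
  have hρφ : ρ ≫ φ' = ι := by
    apply Spec.map_injective
    rw [Spec.map_comp, hρ, hfac]
  set q : Spec (Y'.residueField y') ⟶ Y := Y'.fromSpecResidueField y' ≫ g with hq
  have hqW : (⊤ : (Spec (Y'.residueField y')).Opens) ≤ q ⁻¹ᵁ W := by
    intro t _
    show q t ∈ W
    have h1 : q t ∈ Set.range hW.fromSpec := by
      rw [hq, hg]
      simp only [Scheme.Hom.comp_apply]
      exact ⟨_, rfl⟩
    rwa [hW.range_fromSpec] at h1
  -- Part 3: the generic fibre of the base change is not reduced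
  set f' : pullback f g ⟶ Y' := pullback.snd f g with hf'
  haveI : LocallyOfFiniteType f' := by
    rw [hf']
    infer_instance
  have HF : IsPullback (f'.fiberι y' ≫ pullback.fst f g) (f'.fiberToSpecResidueField y') f q :=
    (IsPullback.of_hasPullback f' (Y'.fromSpecResidueField y')).paste_horiz
      (IsPullback.of_hasPullback f g)
  obtain ⟨hUF, hPOF⟩ := isPushout_sections_of_isPullback_Spec HF hW hU hUW hqW
  set ψ' : Γ(Y, W) ⟶ Y'.residueField y' :=
    q.appLE W ⊤ hqW ≫ (Scheme.ΓSpecIso (Y'.residueField y')).hom with hψ'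
  have hqψ' : Spec.map ψ' ≫ hW.fromSpec = q := SpecMap_appLE_top_fromSpec q hW hqW
  have hψ'eq : ψ' = ρ₀ ≫ ρ := by
    apply Spec.map_injective
    rw [← cancel_mono hW.fromSpec, hqψ', Spec.map_comp, Category.assoc, hρ, hq, hg]
  have hcomp : ψ' ≫ φ' = ψ := by
    rw [hψ'eq, Category.assoc, hρφ, hρ₀ι]
  have hrange : (↑s : Set K) ⊆ Set.range φ'.hom := by
    intro k hk
    have hkR' : k ∈ R' := Algebra.subset_adjoin hk
    refine ⟨ρ.hom ⟨k, hkR'⟩, ?_⟩
    have h1 := congrArg (fun χ : CommRingCat.of R' ⟶ CommRingCat.of K => χ.hom ⟨k, hkR'⟩) hρφ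
    exact h1
  have hΓF := hs (Y'.residueField y') ψ' φ' hcomp hrange _ _ _ hPOF
  have hgenfib : ¬ AlgebraicGeometry.IsReduced (f'.fiber y') := fun hred => hΓF inferInstance
  rw [hy'gen] at hgenfib
  -- Part 4: spreading out
  obtain ⟨V', hV'ne, hV'⟩ := not_isReduced_fibre_near_generic f' hgenfib
  have hη'V' : genericPoint ↑Y' ∈ V' := by
    obtain ⟨v, hv⟩ := hV'ne
    exact (genericPoint_specializes v).mem_open V'.2 hv
  have hgη : g (genericPoint ↑Y') = η := by
    rw [← hy'gen, hy']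
    have h1 := congrArg (fun χ : Spec (CommRingCat.of K) ⟶ Y => χ (IsLocalRing.closedPoint K))
      hyK'g
    simp only [Scheme.Hom.comp_apply] at h1
    rw [h1]
    exact hyKpt _
  obtain ⟨V, hηV, hVsub⟩ := exists_opens_subset_range_of_generic_mem (V'.ι ≫ g)
    (⟨genericPoint ↑Y', hη'V'⟩ : ↥V') (by
      rw [Scheme.Hom.comp_apply]
      exact hgη)
  refine ⟨V, ⟨η, hηV⟩, fun yy hyy hGR => ?_⟩
  obtain ⟨v, rfl⟩ := hVsub hyy
  have hGR' : GeometricallyReduced (f.fiberToSpecResidueField (g (V'.ι v))) := hGR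
  refine hV' (V'.ι v) v.2 ?_
  exact hGR'.geometrically_isReduced _ _ _
    (isPullback_fiberToSpecResidueField_of_isPullback (IsPullback.of_hasPullback f g) (V'.ι v))

end Groth.Agent.H7
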