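import Mathlib
import Groth.Prelude.Def_EGA43
import Groth.Agent.S3404
import Groth.Agent.H9.FiberStalk

set_option autoImplicit false
set_option linter.style.haveILetI false
universe u

namespace Groth.Agent.H7

open AlgebraicGeometry CategoryTheory Limits TopologicalSpace Topology IsLocalRing

/-- Flatness over a DVR from reducedness of the closed fibre and liftability of the generic
point at the minimal primes of the closed fibre (EGA IV 15.2.2-type argument). -/
theorem flat_of_reduced_fibre_of_generizations {R B : Type u} [CommRing R] [IsDomain R]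
    [IsDiscreteValuationRing R] [CommRing B] [IsLocalRing B] [IsNoetherianRing B]
    (φ : R →+* B) [IsLocalHom φ]
    (hred : IsReduced (B ⧸ Ideal.map φ (maximalIdeal R)))
    (hgen : ∀ q ∈ (Ideal.map φ (maximalIdeal R)).minimalPrimes,
      ∃ q' : Ideal B, q'.IsPrime ∧ q' ≤ q ∧ Ideal.comap φ q' ≠ maximalIdeal R) :
    φ.Flat := by
  letI : Algebra R B := φ.toAlgebra
  show Module.Flat R B
  obtain ⟨ϖ, hϖ⟩ := IsDiscreteValuationRing.exists_irreducible R
  have hm : maximalIdeal R = Ideal.span {ϖ} := hϖ.maximalIdeal_eq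
  have hI : Ideal.map φ (maximalIdeal R) = Ideal.span {φ ϖ} := by
    rw [hm, Ideal.map_span, Set.image_singleton]
  have hϖm : φ ϖ ∈ maximalIdeal B := by
    rw [mem_maximalIdeal, mem_nonunits_iff]
    exact fun h => hϖ.not_isUnit (isUnit_of_map_unit φ ϖ h)
  let T : Ideal B :=
    { carrier := {b | ∃ k : ℕ, (φ ϖ) ^ k * b = 0}
      add_mem' := by
        rintro a b ⟨k, hk⟩ ⟨l, hl⟩
        exact ⟨k + l, by linear_combination (φ ϖ) ^ l * hk + (φ ϖ) ^ k * hl⟩
      zero_mem' := ⟨0, by simp⟩
      smul_mem' := by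
        rintro c b ⟨k, hk⟩
        exact ⟨k, by rw [smul_eq_mul]; linear_combination c * hk⟩ }
  have hTmem : ∀ b, b ∈ T ↔ ∃ k : ℕ, (φ ϖ) ^ k * b = 0 := fun b => Iff.rfl
  have hTle : T ≤ Ideal.span {φ ϖ} • T := by
    intro b hb
    obtain ⟨k, hk⟩ := (hTmem b).mp hb
    have hbq : ∀ q ∈ (Ideal.map φ (maximalIdeal R)).minimalPrimes, b ∈ q := by
      intro q hq
      obtain ⟨q', hq'p, hq'q, hq'c⟩ := hgen q hq
      have hϖq' : φ ϖ ∉ q' := by
        intro hmem
        apply hq'c
        have hle : maximalIdeal R ≤ Ideal.comap φ q' := by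
          rw [hm, Ideal.span_singleton_le_iff_mem]
          exact hmem
        exact ((maximalIdeal.isMaximal R).eq_of_le (Ideal.comap_ne_top φ hq'p.ne_top) hle).symm
      have h0 : (φ ϖ) ^ k * b ∈ q' := by rw [hk]; exact q'.zero_mem
      rcases hq'p.mem_or_mem h0 with h1 | h1
      · exact absurd (hq'p.mem_of_pow_mem k h1) hϖq'
      · exact hq'q h1
    have hbI : b ∈ Ideal.map φ (maximalIdeal R) := by
      have hrad : (Ideal.map φ (maximalIdeal R)).radical = Ideal.map φ (maximalIdeal R) :=
        ((Ideal.isRadical_iff_quotient_reduced _).mpr hred).radical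
      rw [← hrad, ← Ideal.sInf_minimalPrimes, Ideal.mem_sInf]
      exact fun {q} hq => hbq q hq
    rw [hI, Ideal.mem_span_singleton'] at hbI
    obtain ⟨b₁, hb₁⟩ := hbI
    have hb₁T : b₁ ∈ T := by
      refine (hTmem b₁).mpr ⟨k + 1, ?_⟩
      rw [pow_succ, mul_assoc, mul_comm (φ ϖ) b₁, hb₁, hk]
    rw [← hb₁, mul_comm, ← smul_eq_mul]
    exact Submodule.smul_mem_smul (Ideal.mem_span_singleton_self _) hb₁T
  have hT : T = ⊥ := by
    refine Submodule.eq_bot_of_le_smul_of_le_jacobson_bot (Ideal.span {φ ϖ}) T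
      (IsNoetherian.noetherian T) hTle ?_
    rw [IsLocalRing.jacobson_eq_maximalIdeal ⊥ bot_ne_top, Ideal.span_singleton_le_iff_mem]
    exact hϖm
  rw [Module.Flat.flat_iff_torsion_eq_bot_of_isBezout, eq_bot_iff]
  intro b hb
  obtain ⟨a, ha⟩ := (Submodule.mem_torsion_iff b).mp hb
  have ha0 : (a : R) ≠ 0 := nonZeroDivisors.coe_ne_zero a
  obtain ⟨n, u, hu⟩ := IsDiscreteValuationRing.eq_unit_mul_pow_irreducible ha0 hϖ
  have h1 : φ (a : R) * b = 0 := by
    have := ha
    rwa [Submonoid.smul_def, Algebra.smul_def, RingHom.algebraMap_toAlgebra] at this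
  rw [hu, map_mul, map_pow, mul_assoc] at h1
  have hunit : IsUnit (φ (u : R)) := (u.isUnit).map φ
  have h2 : (φ ϖ) ^ n * b = 0 := hunit.mul_right_eq_zero.mp h1
  have h3 : b ∈ T := (hTmem b).mpr ⟨n, h2⟩
  rw [hT] at h3
  exact h3

/-- A generization `jX t` of `x` lies in the fibre through `x` iff the prime `t` lies over the
maximal ideal. -/
theorem map_fromSpecStalk_eq_iff {X Y : Scheme.{u}} (f : X ⟶ Y) (x : X)
    (t : Spec (X.presheaf.stalk x)) :
    f (X.fromSpecStalk x t) = f x ↔
      Ideal.comap (f.stalkMap x).hom t.asIdeal = maximalIdeal (Y.presheaf.stalk (f x)) := by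
  have hcomm := congrArg (fun φ : Spec (X.presheaf.stalk x) ⟶ Y => φ t)
    (Scheme.SpecMap_stalkMap_fromSpecStalk (f := f) (x := x))
  simp only [Scheme.Hom.comp_apply] at hcomm
  rw [← hcomm]
  constructor
  · intro h
    have h2 : Y.fromSpecStalk (f x) (Spec.map (f.stalkMap x) t) =
        Y.fromSpecStalk (f x) (closedPoint _) := h.trans Scheme.fromSpecStalk_closedPoint.symm
    have h3 := (Y.fromSpecStalk (f x)).isEmbedding.injective h2
    exact congrArg PrimeSpectrum.asIdeal h3
  · intro h
    have h3 : Spec.map (f.stalkMap x) t = closedPoint _ := PrimeSpectrum.ext h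
    rw [h3]
    exact Scheme.fromSpecStalk_closedPoint

set_option backward.isDefEq.respectTransparency false in
/-- EGA IV 15.2.3-type statement: over a DVR, openness at the generic points of the fibre
components through `x` and reducedness of the fibre at `x` give flatness at `x`. -/
theorem flat_stalkMap_of_isOpenAt_generic_of_reduced_fibre_dvr {A : Type u} [CommRing A]
    [IsDomain A] [IsDiscreteValuationRing A] {X : Scheme.{u}}
    (f : X ⟶ Spec (CommRingCat.of A)) [LocallyOfFiniteType f] (x : X)
    (hx : f.base x = IsLocalRing.closedPoint A)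
    (h : ∀ z : ↥(f.fiber (f.base x)), f.asFiber x ∈ closure {z} →
      (∀ z' : ↥(f.fiber (f.base x)), z ∈ closure {z'} → z' = z) →
      EGA43.IsOpenAt f.base ((f.fiberι (f.base x)).base z))
    (hred : _root_.IsReduced ((f.fiber (f.base x)).presheaf.stalk (f.asFiber x))) :
    (f.stalkMap x).hom.Flat := by
  letI : Algebra A ((Spec (CommRingCat.of A)).presheaf.stalk (f.base x)) :=
    StructureSheaf.stalkAlgebra (R := A) (f.base x)
  haveI : (f.base x).asIdeal.IsPrime := (f.base x).isPrime
  haveI : IsLocalization.AtPrime ((Spec (CommRingCat.of A)).presheaf.stalk (f.base x))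
      (f.base x).asIdeal := StructureSheaf.IsLocalization.to_stalk (R := A) (f.base x)
  haveI : IsDomain ((Spec (CommRingCat.of A)).presheaf.stalk (f.base x)) :=
    IsLocalization.isDomain_of_atPrime _ (f.base x).asIdeal
  have hne : (f.base x).asIdeal ≠ ⊥ := by
    rw [hx]
    exact IsDiscreteValuationRing.not_a_field A
  haveI : IsDiscreteValuationRing ((Spec (CommRingCat.of A)).presheaf.stalk (f.base x)) :=
    IsLocalization.AtPrime.isDiscreteValuationRing_of_dedekind_domain A hne _
  haveI : IsLocallyNoetherian X := LocallyOfFiniteType.isLocallyNoetherian f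
  refine flat_of_reduced_fibre_of_generizations (f.stalkMap x).hom ?_ ?_
  · have e := Groth.Agent.H9.fiberStalkEquiv f (f.base x) (f.asFiber x)
    have hxx : (f.fiberι (f.base x)).base (f.asFiber x) = x := f.fiberι_asFiber x
    revert e
    rw [hxx]
    intro e
    exact isReduced_of_injective e e.injective
  · intro q hq
    have hqp : q.IsPrime := hq.1.1
    let qpt : Spec (X.presheaf.stalk x) := ⟨q, hqp⟩
    have hξx : X.fromSpecStalk x qpt ⤳ x := by
      have : X.fromSpecStalk x qpt ∈ Set.range (X.fromSpecStalk x) := ⟨qpt, rfl⟩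
      rwa [Scheme.range_fromSpecStalk] at this
    have hfξ : f (X.fromSpecStalk x qpt) = f x := by
      rw [map_fromSpecStalk_eq_iff]
      exact ((maximalIdeal.isMaximal _).eq_of_le (Ideal.comap_ne_top _ hqp.ne_top)
        (Ideal.map_le_iff_le_comap.mp hq.1.2)).symm
    obtain ⟨z, hz⟩ : X.fromSpecStalk x qpt ∈ Set.range (f.fiberι (f x)) := by
      rw [Scheme.Hom.range_fiberι]
      exact hfξ
    have hz1 : f.asFiber x ∈ closure {z} := by
      rw [← specializes_iff_mem_closure,
        ← (f.fiberι (f x)).isEmbedding.isInducing.specializes_iff, hz, Scheme.Hom.fiberι_asFiber]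
      exact hξx
    have hz2 : ∀ z' : ↥(f.fiber (f x)), z ∈ closure {z'} → z' = z := by
      intro z' hz'
      rw [← specializes_iff_mem_closure] at hz'
      have h1 : f.fiberι (f x) z' ⤳ X.fromSpecStalk x qpt := by
        rw [← hz]
        exact hz'.map (f.fiberι (f x)).continuous
      obtain ⟨t', ht'⟩ : f.fiberι (f x) z' ∈ Set.range (X.fromSpecStalk x) := by
        rw [Scheme.range_fromSpecStalk]
        exact h1.trans hξx
      have h2 : t' ⤳ qpt := by
        rw [← (X.fromSpecStalk x).isEmbedding.isInducing.specializes_iff, ht']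
        exact h1
      have h3 : t'.asIdeal ≤ q := (PrimeSpectrum.le_iff_specializes t' qpt).mpr h2
      have h4 : f (X.fromSpecStalk x t') = f x := by
        rw [ht']
        have : f.fiberι (f x) z' ∈ f ⁻¹' {f x} := by
          rw [← Scheme.Hom.range_fiberι]
          exact ⟨z', rfl⟩
        exact this
      rw [map_fromSpecStalk_eq_iff] at h4
      have h5 : Ideal.map (f.stalkMap x).hom (maximalIdeal _) ≤ t'.asIdeal :=
        Ideal.map_le_iff_le_comap.mpr h4.ge
      have h6 : q ≤ t'.asIdeal := hq.2 ⟨t'.isPrime, h5⟩ h3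
      have h7 : t' = qpt := PrimeSpectrum.ext (le_antisymm h3 h6)
      apply (f.fiberι (f x)).isEmbedding.injective
      rw [hz, ← ht', h7]
    have hopen : EGA43.IsOpenAt f.base (X.fromSpecStalk x qpt) := by
      have := h z hz1 hz2
      rwa [show (f.fiberι (f.base x)).base z = X.fromSpecStalk x qpt from hz] at this
    have hgen := (Groth.Agent.S3404.result f (X.fromSpecStalk x qpt)).1 hopen
    have hη : (show ↥(Spec (CommRingCat.of A)) from
        (⟨⊥, Ideal.isPrime_bot⟩ : PrimeSpectrum A)) ⤳ f.base (X.fromSpecStalk x qpt) := by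
      rw [show f.base (X.fromSpecStalk x qpt) = IsLocalRing.closedPoint A from hfξ.trans hx]
      exact (PrimeSpectrum.le_iff_specializes (⟨⊥, Ideal.isPrime_bot⟩ : PrimeSpectrum A)
        (IsLocalRing.closedPoint A)).mp bot_le
    obtain ⟨ξ'', hξ''1, hξ''2⟩ := hgen _ hη
    obtain ⟨t'', ht''⟩ : ξ'' ∈ Set.range (X.fromSpecStalk x) := by
      rw [Scheme.range_fromSpecStalk]
      exact hξ''1.trans hξx
    refine ⟨t''.asIdeal, t''.isPrime, ?_, ?_⟩
    · have h2 : t'' ⤳ qpt := by
        rw [← (X.fromSpecStalk x).isEmbedding.isInducing.specializes_iff, ht'']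
        exact hξ''1
      exact (PrimeSpectrum.le_iff_specializes t'' qpt).mpr h2
    · intro hc
      have h4 : f (X.fromSpecStalk x t'') = f x := (map_fromSpecStalk_eq_iff f x t'').mpr hc
      rw [ht''] at h4
      have h5 : (⟨⊥, Ideal.isPrime_bot⟩ : PrimeSpectrum A) = IsLocalRing.closedPoint A :=
        hξ''2.symm.trans (h4.trans hx)
      exact IsDiscreteValuationRing.not_a_field A (congrArg PrimeSpectrum.asIdeal h5).symm

end Groth.Agent.H7
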