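import Mathlib.AlgebraicGeometry.ResidueField
import Mathlib.RingTheory.LocalRing.ResidueField.Ideal

set_option autoImplicit false
universe u

namespace Groth.Agent.H7

open AlgebraicGeometry CategoryTheory Limits

set_option backward.isDefEq.respectTransparency false in
/-- Compatibility of `Scheme.Hom.residueFieldMap` for `Spec.map φ` with `Ideal.ResidueField.map`. -/
theorem Spec_residueFieldMap_eq {A R : CommRingCat.{u}} (φ : A ⟶ R) (P : Spec R) :
    (Scheme.Spec.residueFieldIso A (Spec.map φ P)).inv ≫ (Spec.map φ).residueFieldMap P ≫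
      (Scheme.Spec.residueFieldIso R P).hom =
    CommRingCat.ofHom (Ideal.ResidueField.map (Spec.map φ P).asIdeal P.asIdeal φ.hom rfl) := by
  have key : CommRingCat.ofHom (algebraMap A (Spec.map φ P).asIdeal.ResidueField) ≫
      (Scheme.Spec.residueFieldIso A (Spec.map φ P)).inv ≫ (Spec.map φ).residueFieldMap P ≫
        (Scheme.Spec.residueFieldIso R P).hom =
      φ ≫ CommRingCat.ofHom (algebraMap R P.asIdeal.ResidueField) := by
    rw [Scheme.Spec.algebraMap_residueFieldIso_inv_assoc]
    have h1 : (Spec A).presheaf.germ ⊤ (Spec.map φ P) trivial ≫ (Spec A).residue (Spec.map φ P) =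
        (Spec A).Γevaluation (Spec.map φ P) := rfl
    rw [reassoc_of% h1, Scheme.Γevaluation_naturality_assoc]
    have h3 := Scheme.ΓSpecIso_inv_naturality φ
    rw [← Category.assoc, ← h3, Category.assoc]
    have h2 : (Scheme.ΓSpecIso R).inv ≫ (Spec R).Γevaluation P =
        CommRingCat.ofHom (algebraMap R _) ≫ (Scheme.Spec.residueFieldIso R P).inv := by
      rw [Scheme.Spec.algebraMap_residueFieldIso_inv]
      rfl
    rw [reassoc_of% h2, Iso.inv_hom_id, Category.comp_id]
  ext1
  apply Ideal.ResidueField.ringHom_ext
  have := congrArg CommRingCat.Hom.hom key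
  simp only [CommRingCat.hom_comp, CommRingCat.hom_ofHom] at this ⊢
  rw [this]
  ext a
  simp

set_option backward.isDefEq.respectTransparency false in
theorem Spec_residueFieldMap_bijective_iff {A R : CommRingCat.{u}} (φ : A ⟶ R) (P : Spec R) :
    Function.Bijective ((Spec.map φ).residueFieldMap P) ↔
      Function.Bijective (Ideal.ResidueField.map (Spec.map φ P).asIdeal P.asIdeal φ.hom rfl) := by
  have h := Spec_residueFieldMap_eq φ P
  have h' : (Spec.map φ).residueFieldMap P =
      (Scheme.Spec.residueFieldIso A (Spec.map φ P)).hom ≫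
        CommRingCat.ofHom (Ideal.ResidueField.map (Spec.map φ P).asIdeal P.asIdeal φ.hom rfl) ≫
          (Scheme.Spec.residueFieldIso R P).inv := by
    rw [← h]; simp
  rw [h']
  have e1 := (ConcreteCategory.bijective_of_isIso (Scheme.Spec.residueFieldIso A (Spec.map φ P)).hom)
  have e2 := (ConcreteCategory.bijective_of_isIso (Scheme.Spec.residueFieldIso R P).inv)
  simp only [CommRingCat.hom_comp, CommRingCat.hom_ofHom, RingHom.coe_comp]
  constructor
  · intro H
    have H1 := (Function.Bijective.of_comp_iff' e2 _).mp H
    exact (Function.Bijective.of_comp_iff _ e1).mp H1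
  · intro H
    exact e2.comp (H.comp e1)

theorem residueField_map_bijective_congr {A R : Type*} [CommRing A] [CommRing R]
    (I I' : Ideal A) [I.IsPrime] [I'.IsPrime] (J : Ideal R) [J.IsPrime] (f : A →+* R)
    (hf : I = J.comap f) (hf' : I' = J.comap f) :
    Function.Bijective (Ideal.ResidueField.map I J f hf) ↔
      Function.Bijective (Ideal.ResidueField.map I' J f hf') := by
  subst hf'
  subst hf
  rfl

end Groth.Agent.H7
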