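import Mathlib.FieldTheory.SeparableDegree
import Mathlib.RingTheory.LocalRing.ResidueField.Ideal
import Mathlib.RingTheory.Artinian.Module
import Mathlib.RingTheory.Spectrum.Prime.Basic
import Mathlib.RingTheory.KrullDimension.Zero
import Mathlib.Algebra.BigOperators.Finprod

set_option autoImplicit false
set_option linter.style.haveILetI false
universe u

namespace Groth.Agent.H7

/-- The separable degree of a ring homomorphism between fields. -/
noncomputable def sepDegHom {K L : Type u} [Field K] [Field L] (φ : K →+* L) : ℕ :=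
  letI := φ.toAlgebra
  Field.finSepDegree K L

/-- Ring homs over a fixed embedding of the base are algebra homs. -/
def ringHomEquivAlgHom {F E Ω : Type u} [Field F] [Field E] [Field Ω] (φ : F →+* E)
    (ι : F →+* Ω) :
    {σ : E →+* Ω // σ.comp φ = ι} ≃ @AlgHom F E Ω _ _ _ φ.toAlgebra ι.toAlgebra :=
  letI := φ.toAlgebra
  letI := ι.toAlgebra
  { toFun := fun σ => { σ.1 with commutes' := fun r => congr($(σ.2) r) }
    invFun := fun σ => ⟨σ.toRingHom, RingHom.ext fun r => σ.commutes r⟩
    left_inv := fun σ => by ext; rfl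
    right_inv := fun σ => by ext; rfl }

theorem card_ringHom_eq_sepDegHom {F E Ω : Type u} [Field F] [Field E] [Field Ω] [IsAlgClosed Ω]
    (φ : F →+* E) (ι : F →+* Ω) (halg : φ.IsIntegral) :
    Nat.card {σ : E →+* Ω // σ.comp φ = ι} = sepDegHom φ := by
  letI := φ.toAlgebra
  letI := ι.toAlgebra
  have : Algebra.IsAlgebraic F E := by
    have : Algebra.IsIntegral F E := ⟨halg⟩
    infer_instance
  rw [sepDegHom, Field.finSepDegree_eq_of_isAlgClosed F E Ω]
  exact Nat.card_congr (ringHomEquivAlgHom φ ι)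

theorem finite_ringHom {F E Ω : Type u} [Field F] [Field E] [Field Ω]
    (φ : F →+* E) (ι : F →+* Ω) (hfin : φ.Finite) :
    Finite {σ : E →+* Ω // σ.comp φ = ι} := by
  letI := φ.toAlgebra
  letI := ι.toAlgebra
  have : FiniteDimensional F E := hfin
  have : Finite (E →ₐ[F] Ω) := Fintype.finite (minpoly.AlgHom.fintype F E Ω)
  exact Finite.of_equiv _ (ringHomEquivAlgHom φ ι).symm

/-- Semilinear invariance of the separable degree. -/
theorem sepDegHom_eq_of_equiv {K₁ L₁ K₂ L₂ : Type u} [Field K₁] [Field L₁] [Field K₂] [Field L₂]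
    (φ₁ : K₁ →+* L₁) (φ₂ : K₂ →+* L₂) (α : K₁ ≃+* K₂) (β : L₁ ≃+* L₂)
    (h : ∀ x, β (φ₁ x) = φ₂ (α x)) : sepDegHom φ₁ = sepDegHom φ₂ := by
  letI a1 := φ₁.toAlgebra
  letI a2 := φ₂.toAlgebra
  letI a3 : Algebra K₁ L₂ := (φ₂.comp α.toRingHom).toAlgebra
  let β' : L₁ ≃ₐ[K₁] L₂ := { β with commutes' := fun r => h r }
  have e1 : Field.finSepDegree K₁ L₁ = Field.finSepDegree K₁ L₂ :=
    Field.finSepDegree_eq_of_equiv K₁ L₁ L₂ β'
  have e2 : Field.finSepDegree K₁ L₂ = Field.finSepDegree K₂ L₂ := by
    unfold Field.finSepDegree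
    refine Nat.card_congr
      { toFun := fun σ => { σ.toRingHom with commutes' := fun r => ?_ }
        invFun := fun σ => { σ.toRingHom with commutes' := fun r => ?_ }
        left_inv := fun σ => by ext; rfl
        right_inv := fun σ => by ext; rfl }
    · obtain ⟨s, rfl⟩ := α.surjective r
      have := σ.commutes s
      simp only [IsScalarTower.algebraMap_apply K₁ L₂ (AlgebraicClosure L₂),
        IsScalarTower.algebraMap_apply K₂ L₂ (AlgebraicClosure L₂)] at this ⊢
      exact this
    · have := σ.commutes (α r)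
      simp only [IsScalarTower.algebraMap_apply K₁ L₂ (AlgebraicClosure L₂),
        IsScalarTower.algebraMap_apply K₂ L₂ (AlgebraicClosure L₂)] at this ⊢
      exact this
  exact e1.trans e2

end Groth.Agent.H7
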