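import Groth.Prelude.Def_MoreMor
import Mathlib.AlgebraicGeometry.Morphisms.QuasiFinite
import Mathlib.AlgebraicGeometry.Pullbacks
import Mathlib.FieldTheory.IsAlgClosed.AlgebraicClosure
import Groth.Agent.H7.SepDegree

set_option autoImplicit false
set_option linter.style.haveILetI false
universe u

namespace Groth.Agent.H7

open AlgebraicGeometry CategoryTheory Limits IsLocalRing

section RingLevel

/-- A quasi-finite local homomorphism of local rings induces a finite residue field extension. -/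
theorem finite_residueField_of_quasiFinite {R S : Type u} [CommRing R] [CommRing S]
    [IsLocalRing R] [IsLocalRing S] [Algebra R S] [IsLocalHom (algebraMap R S)]
    [Algebra.QuasiFinite R S] :
    Module.Finite (ResidueField R) (ResidueField S) := by
  have h1 : Algebra.QuasiFinite R (ResidueField S) :=
    inferInstanceAs (Algebra.QuasiFinite R (S ⧸ maximalIdeal S))
  have h2 : Algebra.QuasiFinite (ResidueField R) (ResidueField S) :=
    Algebra.QuasiFinite.of_restrictScalars R _ _
  exact Module.Finite.of_quasiFinite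

end RingLevel

variable {U V : Scheme.{u}}

/-- Residue field extensions of a locally quasi-finite morphism are finite. -/
theorem finite_residueFieldMap (π : U ⟶ V) (x : U) (hq : π.QuasiFiniteAt x) :
    (π.residueFieldMap x).hom.Finite := by
  letI := (π.stalkMap x).hom.toAlgebra
  have hloc : IsLocalHom (algebraMap (V.presheaf.stalk (π x)) (U.presheaf.stalk x)) :=
    inferInstanceAs (IsLocalHom (π.stalkMap x).hom)
  have hqf : Algebra.QuasiFinite (V.presheaf.stalk (π x)) (U.presheaf.stalk x) := hq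
  have hfin := finite_residueField_of_quasiFinite (R := V.presheaf.stalk (π x))
    (S := U.presheaf.stalk x)
  have key : (algebraMap (ResidueField (V.presheaf.stalk (π x)))
      (ResidueField (U.presheaf.stalk x))).Finite := RingHom.finite_algebraMap.mpr hfin
  exact key

/-- The weighted term in the fibre integral. -/
noncomputable def fibreTerm (π : U ⟶ V) (w : U → ℤ) (x : U) : ℤ :=
  w x * (sepDegHom (π.residueFieldMap x).hom : ℤ)

theorem fibreIntegral_eq_finsum_mem (π : U ⟶ V) (w : U → ℤ) (v : V) :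
    MoreMor.fibreIntegral π w v = ∑ᶠ x ∈ π ⁻¹' {v}, fibreTerm π w x := by
  rw [← finsum_set_coe_eq_finsum_mem]
  rfl

theorem fibreTerm_nonneg (π : U ⟶ V) (w : U → ℤ) (x : U) (hw : 0 ≤ w x) : 0 ≤ fibreTerm π w x :=
  mul_nonneg hw (Int.natCast_nonneg _)

/-- The geometric points of `U` at `x` over a geometric point of `V` (abstractly: a morphism from
the spectrum of a field). -/
noncomputable def geomPtOfEmb (π : U ⟶ V) (x : U) {Ω : Type u} [Field Ω]
    (ι : V.residueField (π x) ⟶ .of Ω)
    (σ : {σ : U.residueField x →+* Ω // σ.comp (π.residueFieldMap x).hom = ι.hom}) :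
    {s : Spec (.of Ω) ⟶ U // s ≫ π = Spec.map ι ≫ V.fromSpecResidueField (π x) ∧
      s (closedPoint Ω) = x} :=
  ⟨Spec.map (CommRingCat.ofHom σ.1) ≫ U.fromSpecResidueField x, by
    constructor
    · rw [Category.assoc, ← Scheme.Hom.SpecMap_residueFieldMap_fromSpecResidueField,
        ← Spec.map_comp_assoc]
      congr 2
      apply CommRingCat.hom_ext
      rw [CommRingCat.hom_comp, CommRingCat.hom_ofHom]
      exact σ.2
    · exact U.fromSpecResidueField_apply x _⟩

theorem bijective_geomPtOfEmb (π : U ⟶ V) (x : U) {Ω : Type u} [Field Ω]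
    (ι : V.residueField (π x) ⟶ .of Ω) : Function.Bijective (geomPtOfEmb π x ι) := by
  constructor
  · intro σ₁ σ₂ h
    have h1 : Spec.map (CommRingCat.ofHom σ₁.1) ≫ U.fromSpecResidueField x =
        Spec.map (CommRingCat.ofHom σ₂.1) ≫ U.fromSpecResidueField x := congrArg Subtype.val h
    rw [cancel_mono] at h1
    have h2 := Spec.map_injective h1
    exact Subtype.ext (congrArg CommRingCat.Hom.hom h2)
  · rintro ⟨s, hs1, hs2⟩
    obtain ⟨⟨x', D⟩, rfl⟩ := (Scheme.SpecToEquivOfField Ω U).symm.surjective s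
    have hx : x' = x := by simpa using hs2
    subst hx
    simp only [Scheme.SpecToEquivOfField_symm_apply] at hs1
    have h2 : Spec.map (π.residueFieldMap x' ≫ D) ≫ V.fromSpecResidueField (π x') =
        Spec.map ι ≫ V.fromSpecResidueField (π x') := by
      rw [Spec.map_comp, Category.assoc, Scheme.Hom.SpecMap_residueFieldMap_fromSpecResidueField,
        ← Category.assoc]
      exact hs1
    rw [cancel_mono] at h2
    have h3 := Spec.map_injective h2
    refine ⟨⟨D.hom, ?_⟩, ?_⟩
    · rw [← CommRingCat.hom_comp, h3]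
    · apply Subtype.ext
      simp [geomPtOfEmb]

theorem finite_and_card_geomPts_at (π : U ⟶ V) (x : U) (v : V) (hx : π x = v) {Ω : Type u}
    [Field Ω] [IsAlgClosed Ω] (ι : V.residueField v ⟶ .of Ω)
    (hfin : (π.residueFieldMap x).hom.Finite) :
    Finite {s : Spec (.of Ω) ⟶ U // s ≫ π = Spec.map ι ≫ V.fromSpecResidueField v ∧
      s (closedPoint Ω) = x} ∧
    Nat.card {s : Spec (.of Ω) ⟶ U // s ≫ π = Spec.map ι ≫ V.fromSpecResidueField v ∧
      s (closedPoint Ω) = x} = sepDegHom (π.residueFieldMap x).hom := by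
  subst hx
  let e := Equiv.ofBijective _ (bijective_geomPtOfEmb π x ι)
  have := finite_ringHom (π.residueFieldMap x).hom ι.hom hfin
  exact ⟨Finite.of_equiv _ e,
    (Nat.card_congr e.symm).trans (card_ringHom_eq_sepDegHom _ _ hfin.to_isIntegral)⟩

theorem sepDegHom_ne_zero {K L : Type u} [Field K] [Field L] (φ : K →+* L) (h : φ.Finite) :
    sepDegHom φ ≠ 0 := by
  letI := φ.toAlgebra
  have : FiniteDimensional K L := h
  exact NeZero.ne (Field.finSepDegree K L)

/-- The map from geometric points to the fibre. -/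
noncomputable def geomPtsToFibre (π : U ⟶ V) (v : V) {Ω : Type u} [Field Ω] (ι : V.residueField v ⟶ .of Ω)
    (s : {s : Spec (.of Ω) ⟶ U // s ≫ π = Spec.map ι ≫ V.fromSpecResidueField v}) :
    {x : U // π x = v} :=
  ⟨s.1 (closedPoint Ω), by
    have := congrArg (fun t : Spec (.of Ω) ⟶ V => t (closedPoint Ω)) s.2
    simpa using this⟩

theorem geomPts_fibre_finite_and_card (π : U ⟶ V) (v : V) {Ω : Type u} [Field Ω] [IsAlgClosed Ω]
    (ι : V.residueField v ⟶ .of Ω) (x : {x : U // π x = v})
    (hfin : (π.residueFieldMap x.1).hom.Finite) :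
    Finite {s // geomPtsToFibre π v ι s = x} ∧
      Nat.card {s // geomPtsToFibre π v ι s = x} = sepDegHom (π.residueFieldMap x.1).hom := by
  let e : {s // geomPtsToFibre π v ι s = x} ≃
      {s : Spec (.of Ω) ⟶ U // s ≫ π = Spec.map ι ≫ V.fromSpecResidueField v ∧
        s (closedPoint Ω) = x.1} :=
    { toFun := fun s => ⟨s.1.1, s.1.2, congrArg Subtype.val s.2⟩
      invFun := fun s => ⟨⟨s.1, s.2.1⟩, Subtype.ext s.2.2⟩
      left_inv := fun s => rfl
      right_inv := fun s => rfl }
  obtain ⟨h1, h2⟩ := finite_and_card_geomPts_at π x.1 v x.2 ι hfin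
  exact ⟨Finite.of_equiv _ e.symm, (Nat.card_congr e).trans h2⟩

theorem geomPtsToFibre_surjective (π : U ⟶ V) (v : V) {Ω : Type u} [Field Ω] [IsAlgClosed Ω]
    (ι : V.residueField v ⟶ .of Ω)
    (hfin : ∀ x, π x = v → (π.residueFieldMap x).hom.Finite) :
    Function.Surjective (geomPtsToFibre π v ι) := by
  intro x
  obtain ⟨h1, h2⟩ := geomPts_fibre_finite_and_card π v ι x (hfin x.1 x.2)
  have hne : Nat.card {s // geomPtsToFibre π v ι s = x} ≠ 0 := by
    rw [h2]; exact sepDegHom_ne_zero _ (hfin x.1 x.2)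
  obtain ⟨⟨s, hs⟩⟩ := (Nat.card_ne_zero.mp hne).1
  exact ⟨s, hs⟩

/-- The fibre integral is the sum of the weights over the geometric fibre. -/
theorem fibreIntegral_eq_finsum_geomPts (π : U ⟶ V) (w : U → ℤ) (v : V) {Ω : Type u} [Field Ω]
    [IsAlgClosed Ω] (ι : V.residueField v ⟶ .of Ω) (hfib : (π ⁻¹' {v}).Finite)
    (hfin : ∀ x, π x = v → (π.residueFieldMap x).hom.Finite) :
    Finite {s : Spec (.of Ω) ⟶ U // s ≫ π = Spec.map ι ≫ V.fromSpecResidueField v} ∧
    MoreMor.fibreIntegral π w v =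
      ∑ᶠ s : {s : Spec (.of Ω) ⟶ U // s ≫ π = Spec.map ι ≫ V.fromSpecResidueField v},
        w (s.1 (closedPoint Ω)) := by
  classical
  have hFib : Finite {x : U // π x = v} := hfib.to_subtype
  have hS_u := fun x : {x : U // π x = v} =>
    geomPts_fibre_finite_and_card π v ι x (hfin x.1 x.2)
  have hfibres : ∀ x, Finite {s // geomPtsToFibre π v ι s = x} := fun x => (hS_u x).1
  have hS : Finite {s : Spec (.of Ω) ⟶ U // s ≫ π = Spec.map ι ≫ V.fromSpecResidueField v} :=
    Finite.of_equiv _ (Equiv.sigmaFiberEquiv (geomPtsToFibre π v ι))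
  refine ⟨hS, ?_⟩
  haveI := Fintype.ofFinite {x : U // π x = v}
  haveI := Fintype.ofFinite
    {s : Spec (.of Ω) ⟶ U // s ≫ π = Spec.map ι ≫ V.fromSpecResidueField v}
  rw [MoreMor.fibreIntegral, finsum_eq_sum_of_fintype, finsum_eq_sum_of_fintype,
    ← Fintype.sum_fiberwise (geomPtsToFibre π v ι)]
  refine Finset.sum_congr rfl fun x _ => ?_
  have h1 : ∀ s : {s // geomPtsToFibre π v ι s = x}, w (s.1.1 (closedPoint Ω)) = w x.1 :=
    fun s => congrArg w (congrArg Subtype.val s.2)
  rw [Finset.sum_congr rfl (fun s _ => h1 s), Finset.sum_const, Finset.card_univ,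
    ← Nat.card_eq_fintype_card, (hS_u x).2, nsmul_eq_mul, mul_comm]
  rfl

/-- Base change for fibre integrals (and finiteness of the fibres of the base change). -/
theorem fibreIntegral_baseChange_aux {U' V' : Scheme.{u}} (π : U ⟶ V) [LocallyQuasiFinite π]
    (π' : U' ⟶ V') (h : U' ⟶ U) (g : V' ⟶ V) (hc : IsPullback h π' π g) (w : ↑U → ℤ) (v' : V')
    (hfib : (π ⁻¹' {g v'}).Finite) {Ω : Type u} [Field Ω] [IsAlgClosed Ω]
    (ι' : V'.residueField v' ⟶ .of Ω) :
    (π' ⁻¹' {v'}).Finite ∧
      MoreMor.fibreIntegral π' (w ∘ ⇑h) v' = MoreMor.fibreIntegral π w (g v') := by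
  have hπ' : LocallyQuasiFinite π' :=
    MorphismProperty.of_isPullback (P := @LocallyQuasiFinite) hc inferInstance
  let ι : V.residueField (g v') ⟶ .of Ω := g.residueFieldMap v' ≫ ι'
  have hy : (Spec.map ι' ≫ V'.fromSpecResidueField v') ≫ g =
      Spec.map ι ≫ V.fromSpecResidueField (g v') := by
    rw [Category.assoc, ← Scheme.Hom.SpecMap_residueFieldMap_fromSpecResidueField,
      ← Spec.map_comp_assoc]
  let e : {s' : Spec (.of Ω) ⟶ U' // s' ≫ π' = Spec.map ι' ≫ V'.fromSpecResidueField v'} ≃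
      {s : Spec (.of Ω) ⟶ U // s ≫ π = Spec.map ι ≫ V.fromSpecResidueField (g v')} :=
    { toFun := fun s' => ⟨s'.1 ≫ h, by rw [Category.assoc, hc.w, ← Category.assoc, s'.2, hy]⟩
      invFun := fun s => ⟨hc.lift s.1 (Spec.map ι' ≫ V'.fromSpecResidueField v')
        (by rw [s.2, hy]), hc.lift_snd _ _ _⟩
      left_inv := fun s' => Subtype.ext (hc.hom_ext (by simp) (by simp [s'.2]))
      right_inv := fun s => Subtype.ext (hc.lift_fst _ _ _) }
  have hres : ∀ x, π x = g v' → (π.residueFieldMap x).hom.Finite :=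
    fun x _ => finite_residueFieldMap π x (π.quasiFiniteAt x)
  have hres' : ∀ x, π' x = v' → (π'.residueFieldMap x).hom.Finite :=
    fun x _ => finite_residueFieldMap π' x (π'.quasiFiniteAt x)
  obtain ⟨hS, hI⟩ := fibreIntegral_eq_finsum_geomPts π w (g v') ι hfib hres
  have hS' : Finite {s' : Spec (.of Ω) ⟶ U' //
      s' ≫ π' = Spec.map ι' ≫ V'.fromSpecResidueField v'} := Finite.of_equiv _ e.symm
  have hfib' : (π' ⁻¹' {v'}).Finite := by
    refine (Set.finite_range (fun s => (geomPtsToFibre π' v' ι' s).1)).subset ?_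
    intro x hx
    obtain ⟨s, hs⟩ := geomPtsToFibre_surjective π' v' ι' hres' ⟨x, hx⟩
    exact ⟨s, congrArg Subtype.val hs⟩
  refine ⟨hfib', ?_⟩
  obtain ⟨-, hI'⟩ := fibreIntegral_eq_finsum_geomPts π' (w ∘ ⇑h) v' ι' hfib' hres'
  rw [hI, hI']
  exact finsum_eq_of_bijective e e.bijective (fun s' => rfl)

/-- Base change for fibre integrals (and finiteness of the fibres of the base change). -/
theorem fibreIntegral_baseChange {U' V' : Scheme.{u}} (π : U ⟶ V) [LocallyQuasiFinite π]
    (π' : U' ⟶ V') (h : U' ⟶ U) (g : V' ⟶ V) (hc : IsPullback h π' π g) (w : ↑U → ℤ) (v' : V')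
    (hfib : (π ⁻¹' {g v'}).Finite) :
    (π' ⁻¹' {v'}).Finite ∧
      MoreMor.fibreIntegral π' (w ∘ ⇑h) v' = MoreMor.fibreIntegral π w (g v') :=
  fibreIntegral_baseChange_aux π π' h g hc w v' hfib
    (Ω := AlgebraicClosure (V'.residueField v'))
    (CommRingCat.ofHom (algebraMap (V'.residueField v') (AlgebraicClosure (V'.residueField v'))))

end Groth.Agent.H7
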