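import Mathlib.AlgebraicGeometry.PullbackCarrier
import Mathlib.RingTheory.LocalRing.ResidueField.Ideal

set_option autoImplicit false
universe u

namespace Groth.Agent.H7

open AlgebraicGeometry CategoryTheory Limits Scheme.Pullback

variable {X Y S : Scheme.{u}} {f : X ⟶ S} {g : Y ⟶ S}

lemma isIso_tensorInl (T : Triplet f g) (h : Function.Bijective (g.residueFieldMap T.y)) :
    IsIso T.tensorInl := by
  have : IsIso (g.residueFieldMap T.y) := (ConcreteCategory.isIso_iff_bijective _).mpr h
  have : IsIso ((S.residueFieldCongr T.hy).inv ≫ g.residueFieldMap T.y) := inferInstance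
  exact (IsPushout.of_hasPushout _ _).isIso_inl_of_isIso

lemma subsingleton_Spec_tensor (T : Triplet f g)
    (h : Function.Bijective (g.residueFieldMap T.y)) : Subsingleton ↥(Spec T.tensor) := by
  have := isIso_tensorInl T h
  have hinj : Function.Injective (Spec.map T.tensorInl) :=
    (Spec.map T.tensorInl).homeomorph.injective
  have : Subsingleton ↥(Spec (X.residueField T.x)) :=
    inferInstanceAs (Subsingleton (PrimeSpectrum (X.residueField T.x)))
  exact hinj.subsingleton

/-- If `g` induces an isomorphism of residue fields at `y`, a point of `X ×[S] Y` over `y` is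
determined by its image in `X`. -/
theorem eq_of_fst_eq_of_snd_eq (t₁ t₂ : ↑(pullback f g))
    (h1 : pullback.fst f g t₁ = pullback.fst f g t₂)
    (h2 : pullback.snd f g t₁ = pullback.snd f g t₂)
    (h : Function.Bijective (g.residueFieldMap (pullback.snd f g t₂))) : t₁ = t₂ := by
  apply carrierEquiv.injective
  apply carrierEquiv_eq_iff.mpr
  have e : Triplet.ofPoint t₁ = Triplet.ofPoint t₂ := Triplet.ext h1 h2
  refine ⟨e, ?_⟩
  have := subsingleton_Spec_tensor (Triplet.ofPoint t₂) h
  exact @Subsingleton.elim _ this _ _

set_option backward.isDefEq.respectTransparency false in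
theorem bijective_residueFieldMap_fst_aux (T : Triplet f g) (p : ↥(Spec T.tensor))
    (h : Function.Bijective (g.residueFieldMap (pullback.snd f g (T.SpecTensorTo p)))) :
    Function.Bijective ((pullback.fst f g).residueFieldMap (T.SpecTensorTo p)) := by
  have hiso : IsIso (Triplet.ofPoint (T.SpecTensorTo p)).tensorInl :=
    isIso_tensorInl (Triplet.ofPoint (T.SpecTensorTo p)) h
  let c := Triplet.tensorCongr (T.ofPoint_SpecTensorTo p).symm
  -- `T.tensor` is a field
  let e : X.residueField (pullback.fst f g (T.SpecTensorTo p)) ≅ T.tensor :=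
    asIso (Triplet.ofPoint (T.SpecTensorTo p)).tensorInl ≪≫ c.symm
  have hF : IsField T.tensor :=
    e.commRingCatIsoToRingEquiv.symm.toMulEquiv.isField (Field.toIsField _)
  have hmax : p.asIdeal.IsMaximal := by
    let _ := hF.toField
    have : p.asIdeal = ⊥ := Ideal.eq_bot_of_prime _
    rw [this]
    exact Ideal.bot_isMaximal
  have hsurj : Function.Surjective (ofPointTensor (T.SpecTensorTo p)) := by
    have H := Triplet.Spec_ofPointTensor_SpecTensorTo T p
    rw [← Scheme.Spec.map_residueFieldIso_inv_eq_fromSpecResidueField, ← Spec.map_comp,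
      ← Spec.map_comp, ← Spec.map_comp] at H
    have H' := Spec.map_injective H
    have hs : Function.Surjective (algebraMap T.tensor p.asIdeal.ResidueField) :=
      Ideal.algebraMap_residueField_surjective _
    intro y
    obtain ⟨z, hz⟩ := hs ((Scheme.Spec.residueFieldIso T.tensor p).hom
      ((Scheme.Hom.residueFieldMap T.SpecTensorTo p) y))
    refine ⟨c.hom z, ?_⟩
    have inj : Function.Injective (Scheme.Hom.residueFieldMap T.SpecTensorTo p) :=
      RingHom.injective _
    apply inj
    have := congrArg (fun φ => φ z) (congrArg (fun φ => (CommRingCat.Hom.hom φ : _ → _)) H')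
    simp only [CommRingCat.hom_comp, RingHom.coe_comp, Function.comp_apply,
      CommRingCat.hom_ofHom] at this
    rw [this, hz]
    simp
  have hfac : (Triplet.ofPoint (T.SpecTensorTo p)).tensorInl ≫ ofPointTensor (T.SpecTensorTo p) =
      (pullback.fst f g).residueFieldMap (T.SpecTensorTo p) :=
    pushout.inl_desc _ _ _
  rw [← hfac]
  refine ⟨?_, hsurj.comp (ConcreteCategory.bijective_of_isIso _).surjective⟩
  rw [hfac]
  exact RingHom.injective _

/-- If `g` induces an isomorphism of residue fields at the image `y` of `t`, then
`X ×[S] Y ⟶ X` induces an isomorphism of residue fields at `t`. -/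
theorem bijective_residueFieldMap_fst (t : ↑(pullback f g))
    (h : Function.Bijective (g.residueFieldMap (pullback.snd f g t))) :
    Function.Bijective ((pullback.fst f g).residueFieldMap t) := by
  have key := bijective_residueFieldMap_fst_aux (Triplet.ofPoint t) (SpecOfPoint t)
    (by rwa [SpecTensorTo_SpecOfPoint])
  rwa [SpecTensorTo_SpecOfPoint] at key

end Groth.Agent.H7
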