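import Mathlib.AlgebraicGeometry.Morphisms.UniversallyOpen
import Mathlib.AlgebraicGeometry.AffineSpace
import Mathlib.AlgebraicGeometry.PullbackCarrier
import Mathlib.RingTheory.TensorProduct.MvPolynomial
import Mathlib.LinearAlgebra.TensorProduct.Finiteness
import Mathlib.Algebra.Category.Ring.Constructions
import Mathlib.RingTheory.Spectrum.Prime.Topology

set_option autoImplicit false
set_option linter.style.haveILetI false
universe u

namespace Groth.Agent.H7

open AlgebraicGeometry CategoryTheory Limits

section Ring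

open MvPolynomial TensorProduct

attribute [local instance] MvPolynomial.algebraMvPolynomial in
/-- The canonical pushout square of polynomial rings. -/
theorem isPushout_mvPolynomial (A C : Type u) [CommRing A] [CommRing C] [Algebra A C] (n : ℕ) :
    IsPushout (CommRingCat.ofHom (algebraMap A C))
      (CommRingCat.ofHom (MvPolynomial.C : A →+* MvPolynomial (Fin n) A))
      (CommRingCat.ofHom (MvPolynomial.C : C →+* MvPolynomial (Fin n) C))
      (CommRingCat.ofHom (MvPolynomial.map (σ := Fin n) (algebraMap A C))) :=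
  CommRingCat.isPushout_of_isPushout A C (MvPolynomial (Fin n) A) (MvPolynomial (Fin n) C)

/-- Pasting: a commutative square over the polynomial square whose outer rectangle is a pushout
gives a pullback square of spectra. -/
theorem isPullback_Spec_poly {A C : Type u} [CommRing A] [CommRing C] [Algebra A C] (n : ℕ)
    {B' S' : Type u} [CommRing B'] [CommRing S']
    (ψ : MvPolynomial (Fin n) A →+* B') (Ψ : MvPolynomial (Fin n) C →+* S') (ι : B' →+* S')
    (hcomm : Ψ.comp (MvPolynomial.map (algebraMap A C)) = ι.comp ψ)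
    (hout : IsPushout (CommRingCat.ofHom (algebraMap A C))
      (CommRingCat.ofHom (ψ.comp MvPolynomial.C))
      (CommRingCat.ofHom (Ψ.comp MvPolynomial.C)) (CommRingCat.ofHom ι)) :
    IsPullback (Spec.map (CommRingCat.ofHom Ψ)) (Spec.map (CommRingCat.ofHom ι))
      (Spec.map (CommRingCat.ofHom (MvPolynomial.map (σ := Fin n) (algebraMap A C))))
      (Spec.map (CommRingCat.ofHom ψ)) := by
  have hright := isPullback_SpecMap_of_isPushout _ _ _ _ (isPushout_mvPolynomial A C n)
  have houter := isPullback_SpecMap_of_isPushout _ _ _ _ hout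
  refine IsPullback.of_right ?_ ?_ hright
  · rw [← Spec.map_comp, ← Spec.map_comp, ← CommRingCat.ofHom_comp, ← CommRingCat.ofHom_comp]
    exact houter
  · rw [← Spec.map_comp, ← Spec.map_comp, ← CommRingCat.ofHom_comp, ← CommRingCat.ofHom_comp,
      hcomm]

/-- Ring-level core: if the images of the "generic linear form" basic opens in all polynomial
rings are open, then every base change of `Spec C → Spec A` to an affine scheme is open. -/
theorem isOpenMap_comap_includeLeft_of_poly {A C B : Type u} [CommRing A] [CommRing C]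
    [CommRing B] [Algebra A C] [Algebra A B]
    (H : ∀ (n : ℕ) (c : Fin n → C),
      IsOpen (PrimeSpectrum.comap (MvPolynomial.map (σ := Fin n) (algebraMap A C)) ''
        (PrimeSpectrum.basicOpen (∑ j : Fin n, MvPolynomial.X j * MvPolynomial.C (c j)) :
          Set (PrimeSpectrum (MvPolynomial (Fin n) C))))) :
    IsOpenMap (PrimeSpectrum.comap
      (Algebra.TensorProduct.includeLeftRingHom : B →+* B ⊗[A] C)) := by
  rw [PrimeSpectrum.isTopologicalBasis_basic_opens.isOpenMap_iff]
  rintro _ ⟨h, rfl⟩
  obtain ⟨n, β, c, rfl⟩ := TensorProduct.exists_sum_tmul_eq h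
  let ψ : MvPolynomial (Fin n) A →+* B := MvPolynomial.eval₂Hom (algebraMap A B) β
  let Ψ : MvPolynomial (Fin n) C →+* B ⊗[A] C :=
    MvPolynomial.eval₂Hom
      (Algebra.TensorProduct.includeRight (R := A) (A := B) (B := C)).toRingHom
      (fun j => β j ⊗ₜ[A] (1 : C))
  have hψC : ψ.comp MvPolynomial.C = algebraMap A B := by
    ext a
    simp [ψ]
  have hΨC : Ψ.comp MvPolynomial.C =
      (Algebra.TensorProduct.includeRight (R := A) (A := B) (B := C)).toRingHom := by
    ext a
    simp [Ψ]
  have hcomm : Ψ.comp (MvPolynomial.map (algebraMap A C)) =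
      (Algebra.TensorProduct.includeLeftRingHom : B →+* B ⊗[A] C).comp ψ := by
    apply MvPolynomial.ringHom_ext
    · intro a
      simp [ψ, Ψ, Algebra.TensorProduct.tmul_one_eq_one_tmul]
    · intro j
      simp [ψ, Ψ]
  have hΨh : Ψ (∑ j : Fin n, MvPolynomial.X j * MvPolynomial.C (c j)) = ∑ j, β j ⊗ₜ[A] c j := by
    simp [Ψ, Algebra.TensorProduct.tmul_mul_tmul]
  have hout : IsPushout (CommRingCat.ofHom (algebraMap A C))
      (CommRingCat.ofHom (ψ.comp MvPolynomial.C))
      (CommRingCat.ofHom (Ψ.comp MvPolynomial.C))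
      (CommRingCat.ofHom (Algebra.TensorProduct.includeLeftRingHom : B →+* B ⊗[A] C)) := by
    rw [hψC, hΨC]
    exact (CommRingCat.isPushout_tensorProduct A B C).flip
  have hpb := isPullback_Spec_poly n ψ Ψ Algebra.TensorProduct.includeLeftRingHom hcomm hout
  have himg := Scheme.image_preimage_eq_of_isPullback hpb
    (PrimeSpectrum.basicOpen (∑ j : Fin n, MvPolynomial.X j * MvPolynomial.C (c j)) :
      Set (PrimeSpectrum (MvPolynomial (Fin n) C)))
  have hpre : PrimeSpectrum.comap Ψ ⁻¹'
      (PrimeSpectrum.basicOpen (∑ j : Fin n, MvPolynomial.X j * MvPolynomial.C (c j)) :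
        Set (PrimeSpectrum (MvPolynomial (Fin n) C))) =
      (PrimeSpectrum.basicOpen (∑ j, β j ⊗ₜ[A] c j) : Set (PrimeSpectrum (B ⊗[A] C))) := by
    rw [← hΨh]
    rfl
  have hset : PrimeSpectrum.comap (Algebra.TensorProduct.includeLeftRingHom : B →+* B ⊗[A] C) ''
      (PrimeSpectrum.basicOpen (∑ j, β j ⊗ₜ[A] c j) : Set (PrimeSpectrum (B ⊗[A] C))) =
      PrimeSpectrum.comap ψ ⁻¹'
        (PrimeSpectrum.comap (MvPolynomial.map (σ := Fin n) (algebraMap A C)) ''
          (PrimeSpectrum.basicOpen (∑ j : Fin n, MvPolynomial.X j * MvPolynomial.C (c j)) :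
            Set (PrimeSpectrum (MvPolynomial (Fin n) C)))) := by
    rw [← hpre]
    exact himg
  rw [hset]
  exact (H n c).preimage (PrimeSpectrum.continuous_comap ψ)

/-- **Universal openness from polynomial rings** (ring form). -/
theorem universallyOpen_Spec_of_poly {A C : Type u} [CommRing A] [CommRing C] [Algebra A C]
    (H : ∀ (n : ℕ) (c : Fin n → C),
      IsOpen (PrimeSpectrum.comap (MvPolynomial.map (σ := Fin n) (algebraMap A C)) ''
        (PrimeSpectrum.basicOpen (∑ j : Fin n, MvPolynomial.X j * MvPolynomial.C (c j)) :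
          Set (PrimeSpectrum (MvPolynomial (Fin n) C))))) :
    UniversallyOpen (Spec.map (CommRingCat.ofHom (algebraMap A C))) := by
  refine ⟨MorphismProperty.universally_mk' _ _ fun {T} g _ ↦ ?_⟩
  wlog hT : ∃ R, T = Spec R generalizing T
  · refine (IsZariskiLocalAtTarget.iff_of_openCover
      (P := topologically @IsOpenMap) T.affineCover).mpr fun i ↦ ?_
    refine (MorphismProperty.cancel_left_of_respectsIso _
      ((pullbackRightPullbackFstIso ..).inv ≫ (pullbackSymmetry ..).hom) _).mp ?_
    simpa [Scheme.Cover.pullbackHom] using! this _ _ ⟨_, rfl⟩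
  obtain ⟨R, rfl⟩ := hT
  obtain ⟨γ, rfl⟩ := Spec.map_surjective g
  letI : Algebra A R := γ.hom.toAlgebra
  refine (MorphismProperty.cancel_left_of_respectsIso _ (pullbackSpecIso A R C).inv _).mp ?_
  convert_to! topologically _
    (Spec.map <| CommRingCat.ofHom (Algebra.TensorProduct.includeLeftRingHom : R →+* R ⊗[A] C))
  · exact pullbackSpecIso_inv_fst ..
  exact isOpenMap_comap_includeLeft_of_poly H

/-- If `Spec B → Spec A` is universally open, the induced maps on polynomial rings are open. -/
theorem isOpenMap_comap_map_of_universallyOpen {A B : Type u} [CommRing A] [CommRing B]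
    [Algebra A B] (n : ℕ) [UniversallyOpen (Spec.map (CommRingCat.ofHom (algebraMap A B)))] :
    IsOpenMap (PrimeSpectrum.comap (MvPolynomial.map (σ := Fin n) (algebraMap A B))) := by
  have hright := isPullback_SpecMap_of_isPushout _ _ _ _ (isPushout_mvPolynomial A B n)
  haveI : UniversallyOpen
      (Spec.map (CommRingCat.ofHom (MvPolynomial.map (σ := Fin n) (algebraMap A B)))) :=
    MorphismProperty.of_isPullback (P := @UniversallyOpen) hright inferInstance
  exact (Spec.map (CommRingCat.ofHom (MvPolynomial.map (σ := Fin n) (algebraMap A B)))).isOpenMap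

/-- If `b₁, …, b_d` generate `B` as an `A`-module and the image of `D(Σ xᵢ bᵢ)` in
`Spec A[x₁, …, x_d]` is open, then `Spec B → Spec A` is universally open. -/
theorem universallyOpen_Spec_of_linear_form {A B : Type u} [CommRing A] [CommRing B]
    [Algebra A B] {d : ℕ} (b : Fin d → B) (hb : Submodule.span A (Set.range b) = ⊤)
    (hopen : IsOpen (PrimeSpectrum.comap (MvPolynomial.map (σ := Fin d) (algebraMap A B)) ''
      (PrimeSpectrum.basicOpen (∑ i : Fin d, MvPolynomial.X i * MvPolynomial.C (b i)) :
        Set (PrimeSpectrum (MvPolynomial (Fin d) B))))) :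
    UniversallyOpen (Spec.map (CommRingCat.ofHom (algebraMap A B))) := by
  refine universallyOpen_Spec_of_poly fun n c => ?_
  have hc : ∀ j, ∃ a : Fin d → A, ∑ i, a i • b i = c j := fun j =>
    (Submodule.mem_span_range_iff_exists_fun A).mp (by rw [hb]; trivial)
  choose a ha using hc
  let φ : MvPolynomial (Fin d) A →+* MvPolynomial (Fin n) A :=
    MvPolynomial.eval₂Hom MvPolynomial.C
      (fun i => ∑ j, MvPolynomial.C (a j i) * MvPolynomial.X j)
  let Φ : MvPolynomial (Fin d) B →+* MvPolynomial (Fin n) B :=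
    MvPolynomial.eval₂Hom MvPolynomial.C
      (fun i => ∑ j, MvPolynomial.C (algebraMap A B (a j i)) * MvPolynomial.X j)
  have hφC : φ.comp MvPolynomial.C = MvPolynomial.C := by
    refine RingHom.ext fun x => ?_
    simp [φ]
  have hΦC : Φ.comp MvPolynomial.C = MvPolynomial.C := by
    refine RingHom.ext fun x => ?_
    simp [Φ]
  have hcomm : Φ.comp (MvPolynomial.map (algebraMap A B)) =
      (MvPolynomial.map (σ := Fin n) (algebraMap A B)).comp φ := by
    apply MvPolynomial.ringHom_ext
    · intro x
      simp [φ, Φ]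
    · intro i
      simp [φ, Φ]
  have hout : IsPushout (CommRingCat.ofHom (algebraMap A B))
      (CommRingCat.ofHom (φ.comp MvPolynomial.C))
      (CommRingCat.ofHom (Φ.comp MvPolynomial.C))
      (CommRingCat.ofHom (MvPolynomial.map (σ := Fin n) (algebraMap A B))) := by
    rw [hφC, hΦC]
    exact isPushout_mvPolynomial A B n
  have hpb := isPullback_Spec_poly d φ Φ (MvPolynomial.map (σ := Fin n) (algebraMap A B))
    hcomm hout
  have himg := Scheme.image_preimage_eq_of_isPullback hpb
    (PrimeSpectrum.basicOpen (∑ i : Fin d, MvPolynomial.X i * MvPolynomial.C (b i)) :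
      Set (PrimeSpectrum (MvPolynomial (Fin d) B)))
  have hΦh : Φ (∑ i : Fin d, MvPolynomial.X i * MvPolynomial.C (b i)) =
      ∑ j : Fin n, MvPolynomial.X j * MvPolynomial.C (c j) := by
    have h1 : Φ (∑ i : Fin d, MvPolynomial.X i * MvPolynomial.C (b i)) =
        ∑ i, (∑ j, MvPolynomial.C (algebraMap A B (a j i)) * MvPolynomial.X j) *
          MvPolynomial.C (b i) := by
      simp [Φ]
    rw [h1]
    have h2 : ∀ j, (MvPolynomial.C (c j) : MvPolynomial (Fin n) B) =
        ∑ i, MvPolynomial.C (algebraMap A B (a j i)) * MvPolynomial.C (b i) := by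
      intro j
      rw [← ha j, map_sum]
      refine Finset.sum_congr rfl fun i _ => ?_
      rw [Algebra.smul_def, map_mul]
    simp_rw [h2, Finset.mul_sum, Finset.sum_mul]
    rw [Finset.sum_comm]
    refine Finset.sum_congr rfl fun j _ => Finset.sum_congr rfl fun i _ => by ring
  have hpre : PrimeSpectrum.comap Φ ⁻¹'
      (PrimeSpectrum.basicOpen (∑ i : Fin d, MvPolynomial.X i * MvPolynomial.C (b i)) :
        Set (PrimeSpectrum (MvPolynomial (Fin d) B))) =
      (PrimeSpectrum.basicOpen (∑ j : Fin n, MvPolynomial.X j * MvPolynomial.C (c j)) :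
        Set (PrimeSpectrum (MvPolynomial (Fin n) B))) := by
    rw [← hΦh]
    rfl
  have hset : PrimeSpectrum.comap (MvPolynomial.map (σ := Fin n) (algebraMap A B)) ''
      (PrimeSpectrum.basicOpen (∑ j : Fin n, MvPolynomial.X j * MvPolynomial.C (c j)) :
        Set (PrimeSpectrum (MvPolynomial (Fin n) B))) =
      PrimeSpectrum.comap φ ⁻¹'
        (PrimeSpectrum.comap (MvPolynomial.map (σ := Fin d) (algebraMap A B)) ''
          (PrimeSpectrum.basicOpen (∑ i : Fin d, MvPolynomial.X i * MvPolynomial.C (b i)) :
            Set (PrimeSpectrum (MvPolynomial (Fin d) B)))) := by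
    rw [← hpre]
    exact himg
  rw [hset]
  exact hopen.preimage (PrimeSpectrum.continuous_comap φ)

end Ring

section SchemeLevel

theorem isOpenImmersion_affineSpace_map (n : Type u) {X Y : Scheme.{u}} (j : X ⟶ Y)
    [IsOpenImmersion j] : IsOpenImmersion (AffineSpace.map n j) :=
  MorphismProperty.of_isPullback (P := @IsOpenImmersion)
    (AffineSpace.isPullback_map (n := n) j).flip inferInstance

theorem universallyOpen_affineSpace_map (n : Type u) {X Y : Scheme.{u}} (f : X ⟶ Y)
    [UniversallyOpen f] : UniversallyOpen (AffineSpace.map n f) :=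
  MorphismProperty.of_isPullback (P := @UniversallyOpen)
    (AffineSpace.isPullback_map (n := n) f).flip inferInstance

theorem isOpenMap_affineSpace_map_of_isPullback (n : Type u) {X' S' X S : Scheme.{u}}
    {i' : X' ⟶ X} {f' : X' ⟶ S'} {f : X ⟶ S} {j : S' ⟶ S} [IsOpenImmersion j]
    (h : IsPullback i' f' f j) (H : IsOpenMap ⇑(AffineSpace.map n f)) :
    IsOpenMap ⇑(AffineSpace.map n f') := by
  haveI : IsOpenImmersion i' :=
    MorphismProperty.of_isPullback (P := @IsOpenImmersion) h.flip inferInstance
  haveI := isOpenImmersion_affineSpace_map n i'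
  haveI := isOpenImmersion_affineSpace_map n j
  have hcomm : AffineSpace.map n i' ≫ AffineSpace.map n f =
      AffineSpace.map n f' ≫ AffineSpace.map n j := by
    rw [← AffineSpace.map_comp, ← AffineSpace.map_comp, h.w]
  have hpt : ∀ p, AffineSpace.map n f (AffineSpace.map n i' p) =
      AffineSpace.map n j (AffineSpace.map n f' p) := fun p =>
    congrArg (fun φ : AffineSpace n X' ⟶ AffineSpace n S => φ p) hcomm
  intro O hO
  have h1 : IsOpen (AffineSpace.map n f '' (AffineSpace.map n i' '' O)) :=
    H _ ((AffineSpace.map n i').isOpenEmbedding.isOpenMap _ hO)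
  have h2 : AffineSpace.map n f '' (AffineSpace.map n i' '' O) =
      AffineSpace.map n j '' (AffineSpace.map n f' '' O) := by
    ext z
    constructor
    · rintro ⟨_, ⟨p, hp, rfl⟩, rfl⟩
      exact ⟨_, ⟨p, hp, rfl⟩, (hpt p).symm⟩
    · rintro ⟨_, ⟨p, hp, rfl⟩, rfl⟩
      exact ⟨_, ⟨p, hp, rfl⟩, hpt p⟩
  rw [← Set.preimage_image_eq (AffineSpace.map n f' '' O)
    (AffineSpace.map n j).isOpenEmbedding.injective, ← h2]
  exact h1.preimage (AffineSpace.map n j).continuous

theorem isOpenMap_comap_map_of_affineSpace {A C : CommRingCat.{u}} (φ : A ⟶ C) (n : ℕ)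
    (H : IsOpenMap ⇑(AffineSpace.map (ULift.{u} (Fin n)) (Spec.map φ))) :
    IsOpenMap (PrimeSpectrum.comap (MvPolynomial.map (σ := Fin n) φ.hom)) := by
  have h1 : IsOpenMap (PrimeSpectrum.comap (MvPolynomial.map (σ := ULift.{u} (Fin n)) φ.hom)) :=
    (MorphismProperty.arrow_mk_iso_iff (topologically @IsOpenMap)
      (AffineSpace.mapSpecMap (n := ULift.{u} (Fin n)) φ)).mp H
  have hup : Function.Bijective
      (MvPolynomial.rename (R := A) (ULift.up : Fin n → ULift.{u} (Fin n))).toRingHom :=
    (MvPolynomial.renameEquiv A Equiv.ulift.symm).bijective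
  have hdown : Function.Bijective
      (MvPolynomial.rename (R := C) (ULift.down : ULift.{u} (Fin n) → Fin n)).toRingHom :=
    (MvPolynomial.renameEquiv C Equiv.ulift).bijective
  have hfac : MvPolynomial.map (σ := Fin n) φ.hom =
      ((MvPolynomial.rename (R := C) (ULift.down : ULift.{u} (Fin n) → Fin n)).toRingHom.comp
        (MvPolynomial.map (σ := ULift.{u} (Fin n)) φ.hom)).comp
        (MvPolynomial.rename (R := A) (ULift.up : Fin n → ULift.{u} (Fin n))).toRingHom := by
    refine RingHom.ext fun p => ?_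
    simp only [RingHom.coe_comp, AlgHom.toRingHom_eq_coe, RingHom.coe_coe, Function.comp_apply,
      MvPolynomial.map_rename, MvPolynomial.rename_rename]
    exact (MvPolynomial.rename_id_apply _).symm
  rw [hfac]
  exact (PrimeSpectrum.isHomeomorph_comap_of_bijective hup).isOpenMap.comp
    (h1.comp (PrimeSpectrum.isHomeomorph_comap_of_bijective hdown).isOpenMap)

/-- **A morphism is universally open if all the induced morphisms of affine spaces are open.** -/
theorem universallyOpen_of_isOpenMap_affineSpace_map {X S : Scheme.{u}} (f : X ⟶ S)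
    (H : ∀ n : ℕ, IsOpenMap ⇑(AffineSpace.map (ULift.{u} (Fin n)) f)) : UniversallyOpen f := by
  wlog hS : ∃ A, S = Spec A generalizing X S
  · rw [IsZariskiLocalAtTarget.iff_of_openCover (P := @UniversallyOpen) S.affineCover]
    intro i
    dsimp only [Scheme.Cover.pullbackHom]
    refine this _ (fun n => ?_) ⟨_, rfl⟩
    exact isOpenMap_affineSpace_map_of_isPullback _
      (IsPullback.of_hasPullback f (S.affineCover.f i)) (H n)
  obtain ⟨A, rfl⟩ := hS
  wlog hX : ∃ C, X = Spec C generalizing X
  · rw [IsZariskiLocalAtSource.iff_of_openCover (P := @UniversallyOpen) X.affineCover]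
    intro i
    refine this _ (fun n => ?_) ⟨_, rfl⟩
    haveI := isOpenImmersion_affineSpace_map (ULift.{u} (Fin n)) (X.affineCover.f i)
    rw [AffineSpace.map_comp]
    exact (H n).comp (AffineSpace.map _ (X.affineCover.f i)).isOpenEmbedding.isOpenMap
  obtain ⟨C, rfl⟩ := hX
  obtain ⟨φ, rfl⟩ := Spec.map_surjective f
  letI : Algebra A C := φ.hom.toAlgebra
  have key : UniversallyOpen (Spec.map (CommRingCat.ofHom (algebraMap A C))) :=
    universallyOpen_Spec_of_poly fun n c =>
      isOpenMap_comap_map_of_affineSpace φ n (H n) _ (PrimeSpectrum.basicOpen _).isOpen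
  exact key

end SchemeLevel

end Groth.Agent.H7
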