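import Mathlib
import Groth.Prelude.Def_EGA43
import Groth.Agent.H7.UnivOpenPoly

set_option autoImplicit false
set_option linter.style.haveILetI false
universe u

namespace Groth.Agent.H7

open AlgebraicGeometry CategoryTheory Limits TopologicalSpace Topology

section Top

variable {α β α' β' : Type*} [TopologicalSpace α] [TopologicalSpace β] [TopologicalSpace α']
  [TopologicalSpace β']

/-- Transfer of openness at a point along a commutative square whose right side is open. -/
theorem isOpenAt_of_comm (ψ : α → β) (ψ' : α' → β') (γ : α' → α) (j : β' → β)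
    (hγ : Continuous γ) (hj : IsOpenMap j) (hcomm : ∀ t, ψ (γ t) = j (ψ' t)) (t₀ : α')
    (h : EGA43.IsOpenAt ψ' t₀) : EGA43.IsOpenAt ψ (γ t₀) := by
  intro N hN
  have h1 := h _ (hγ.continuousAt hN)
  have h2 := hj.image_mem_nhds h1
  rw [← hcomm] at h2
  refine Filter.mem_of_superset h2 ?_
  rintro _ ⟨_, ⟨t, ht, rfl⟩, rfl⟩
  exact ⟨γ t, ht, hcomm t⟩

/-- Transfer of openness at a point, backwards along a commutative square whose left side is
open and right side is injective. -/
theorem isOpenAt_of_comm' (ψ : α → β) (ψ' : α' → β') (γ : α' → α) (j : β' → β)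
    (hγ : IsOpenMap γ) (hj : Continuous j) (hinj : Function.Injective j)
    (hcomm : ∀ t, ψ (γ t) = j (ψ' t)) (t₀ : α')
    (h : EGA43.IsOpenAt ψ (γ t₀)) : EGA43.IsOpenAt ψ' t₀ := by
  intro N hN
  have h1 := h _ (hγ.image_mem_nhds hN)
  rw [hcomm] at h1
  have h2 := hj.continuousAt h1
  refine Filter.mem_of_superset h2 ?_
  rintro b ⟨_, ⟨t, ht, rfl⟩, hb⟩
  exact ⟨t, ht, hinj ((hcomm t).symm.trans hb)⟩

end Top

section Ring

open MvPolynomial TensorProduct

attribute [local instance] MvPolynomial.algebraMvPolynomial in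
/-- The canonical pushout square of polynomial rings (arbitrary variables). -/
theorem isPushout_mvPolynomial' (A C : Type u) [CommRing A] [CommRing C] [Algebra A C]
    (σ : Type u) :
    IsPushout (CommRingCat.ofHom (algebraMap A C))
      (CommRingCat.ofHom (MvPolynomial.C : A →+* MvPolynomial σ A))
      (CommRingCat.ofHom (MvPolynomial.C : C →+* MvPolynomial σ C))
      (CommRingCat.ofHom (MvPolynomial.map (σ := σ) (algebraMap A C))) :=
  CommRingCat.isPushout_of_isPushout A C (MvPolynomial σ A) (MvPolynomial σ C)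

theorem isPullback_Spec_poly' {A C : Type u} [CommRing A] [CommRing C] [Algebra A C] (σ : Type u)
    {B' S' : Type u} [CommRing B'] [CommRing S']
    (ψ : MvPolynomial σ A →+* B') (Ψ : MvPolynomial σ C →+* S') (ι : B' →+* S')
    (hcomm : Ψ.comp (MvPolynomial.map (algebraMap A C)) = ι.comp ψ)
    (hout : IsPushout (CommRingCat.ofHom (algebraMap A C))
      (CommRingCat.ofHom (ψ.comp MvPolynomial.C))
      (CommRingCat.ofHom (Ψ.comp MvPolynomial.C)) (CommRingCat.ofHom ι)) :
    IsPullback (Spec.map (CommRingCat.ofHom Ψ)) (Spec.map (CommRingCat.ofHom ι))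
      (Spec.map (CommRingCat.ofHom (MvPolynomial.map (σ := σ) (algebraMap A C))))
      (Spec.map (CommRingCat.ofHom ψ)) := by
  have hright := isPullback_SpecMap_of_isPushout _ _ _ _ (isPushout_mvPolynomial' A C σ)
  have houter := isPullback_SpecMap_of_isPushout _ _ _ _ hout
  refine IsPullback.of_right ?_ ?_ hright
  · rw [← Spec.map_comp, ← Spec.map_comp, ← CommRingCat.ofHom_comp, ← CommRingCat.ofHom_comp]
    exact houter
  · rw [← Spec.map_comp, ← Spec.map_comp, ← CommRingCat.ofHom_comp, ← CommRingCat.ofHom_comp,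
      hcomm]

/-- Ring-level core of the pointwise polynomial criterion. -/
theorem isOpenAt_comap_includeLeft_of_poly {A C B : Type u} [CommRing A] [CommRing C]
    [CommRing B] [Algebra A C] [Algebra A B] (q' : PrimeSpectrum (B ⊗[A] C))
    (H : ∀ (n : ℕ) (P : PrimeSpectrum (MvPolynomial (ULift.{u} (Fin n)) C)),
      PrimeSpectrum.comap (MvPolynomial.C : C →+* MvPolynomial (ULift.{u} (Fin n)) C) P =
        PrimeSpectrum.comap
          (Algebra.TensorProduct.includeRight (R := A) (A := B) (B := C)).toRingHom q' →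
      EGA43.IsOpenAt (PrimeSpectrum.comap
        (MvPolynomial.map (σ := ULift.{u} (Fin n)) (algebraMap A C))) P) :
    EGA43.IsOpenAt (PrimeSpectrum.comap
      (Algebra.TensorProduct.includeLeftRingHom : B →+* B ⊗[A] C)) q' := by
  intro N hN
  obtain ⟨_, ⟨h, rfl⟩, hq'h, hhN⟩ :=
    PrimeSpectrum.isTopologicalBasis_basic_opens.mem_nhds_iff.mp hN
  obtain ⟨n, β, c, rfl⟩ := TensorProduct.exists_sum_tmul_eq h
  let ψ : MvPolynomial (ULift.{u} (Fin n)) A →+* B :=
    MvPolynomial.eval₂Hom (algebraMap A B) (fun j => β j.down)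
  let Ψ : MvPolynomial (ULift.{u} (Fin n)) C →+* B ⊗[A] C :=
    MvPolynomial.eval₂Hom
      (Algebra.TensorProduct.includeRight (R := A) (A := B) (B := C)).toRingHom
      (fun j => β j.down ⊗ₜ[A] (1 : C))
  have hψC : ψ.comp MvPolynomial.C = algebraMap A B := by
    ext a
    simp [ψ]
  have hΨC : Ψ.comp MvPolynomial.C =
      (Algebra.TensorProduct.includeRight (R := A) (A := B) (B := C)).toRingHom := by
    ext a
    simp [Ψ]
  have hcomm : Ψ.comp (MvPolynomial.map (algebraMap A C)) =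
      (Algebra.TensorProduct.includeLeftRingHom : B →+* B ⊗[A] C).comp ψ := by
    apply MvPolynomial.ringHom_ext
    · intro a
      simp [ψ, Ψ, Algebra.TensorProduct.tmul_one_eq_one_tmul]
    · intro j
      simp [ψ, Ψ]
  have hΨh : Ψ (∑ j : ULift.{u} (Fin n), MvPolynomial.X j * MvPolynomial.C (c j.down)) =
      ∑ j, β j ⊗ₜ[A] c j := by
    have h1 : Ψ (∑ j : ULift.{u} (Fin n), MvPolynomial.X j * MvPolynomial.C (c j.down)) =
        ∑ j : ULift.{u} (Fin n), β j.down ⊗ₜ[A] c j.down := by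
      simp [Ψ, Algebra.TensorProduct.tmul_mul_tmul]
    rw [h1]
    exact Fintype.sum_equiv Equiv.ulift _ _ (fun _ => rfl)
  have hout : IsPushout (CommRingCat.ofHom (algebraMap A C))
      (CommRingCat.ofHom (ψ.comp MvPolynomial.C))
      (CommRingCat.ofHom (Ψ.comp MvPolynomial.C))
      (CommRingCat.ofHom (Algebra.TensorProduct.includeLeftRingHom : B →+* B ⊗[A] C)) := by
    rw [hψC, hΨC]
    exact (CommRingCat.isPushout_tensorProduct A B C).flip
  have hpb := isPullback_Spec_poly' (ULift.{u} (Fin n)) ψ Ψ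
    Algebra.TensorProduct.includeLeftRingHom hcomm hout
  set Hh : MvPolynomial (ULift.{u} (Fin n)) C :=
    ∑ j : ULift.{u} (Fin n), MvPolynomial.X j * MvPolynomial.C (c j.down) with hHh
  have himg := Scheme.image_preimage_eq_of_isPullback hpb
    (PrimeSpectrum.basicOpen Hh : Set (PrimeSpectrum (MvPolynomial (ULift.{u} (Fin n)) C)))
  have hpre : PrimeSpectrum.comap Ψ ⁻¹'
      (PrimeSpectrum.basicOpen Hh : Set (PrimeSpectrum (MvPolynomial (ULift.{u} (Fin n)) C))) =
      (PrimeSpectrum.basicOpen (∑ j, β j ⊗ₜ[A] c j) : Set (PrimeSpectrum (B ⊗[A] C))) := by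
    rw [← hΨh]
    rfl
  have hset : PrimeSpectrum.comap (Algebra.TensorProduct.includeLeftRingHom : B →+* B ⊗[A] C) ''
      (PrimeSpectrum.basicOpen (∑ j, β j ⊗ₜ[A] c j) : Set (PrimeSpectrum (B ⊗[A] C))) =
      PrimeSpectrum.comap ψ ⁻¹'
        (PrimeSpectrum.comap (MvPolynomial.map (σ := ULift.{u} (Fin n)) (algebraMap A C)) ''
          (PrimeSpectrum.basicOpen Hh :
            Set (PrimeSpectrum (MvPolynomial (ULift.{u} (Fin n)) C)))) := by
    rw [← hpre]
    exact himg
  -- the point of the polynomial ring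
  have hP₀mem : PrimeSpectrum.comap Ψ q' ∈
      (PrimeSpectrum.basicOpen Hh : Set (PrimeSpectrum (MvPolynomial (ULift.{u} (Fin n)) C))) := by
    have : q' ∈ PrimeSpectrum.comap Ψ ⁻¹'
        (PrimeSpectrum.basicOpen Hh :
          Set (PrimeSpectrum (MvPolynomial (ULift.{u} (Fin n)) C))) := by
      rw [hpre]
      exact hq'h
    exact this
  have hP₀C : PrimeSpectrum.comap (MvPolynomial.C : C →+* MvPolynomial (ULift.{u} (Fin n)) C)
      (PrimeSpectrum.comap Ψ q') = PrimeSpectrum.comap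
        (Algebra.TensorProduct.includeRight (R := A) (A := B) (B := C)).toRingHom q' := by
    rw [← PrimeSpectrum.comap_comp_apply, hΨC]
  have hopen := H n (PrimeSpectrum.comap Ψ q') hP₀C _
    ((PrimeSpectrum.basicOpen Hh).isOpen.mem_nhds hP₀mem)
  have hpt : PrimeSpectrum.comap (MvPolynomial.map (σ := ULift.{u} (Fin n)) (algebraMap A C))
      (PrimeSpectrum.comap Ψ q') = PrimeSpectrum.comap ψ (PrimeSpectrum.comap
        (Algebra.TensorProduct.includeLeftRingHom : B →+* B ⊗[A] C) q') := by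
    rw [← PrimeSpectrum.comap_comp_apply, ← PrimeSpectrum.comap_comp_apply, hcomm]
  rw [hpt] at hopen
  have hnb := (PrimeSpectrum.continuous_comap ψ).continuousAt hopen
  rw [Filter.mem_map, ← hset] at hnb
  exact Filter.mem_of_superset hnb (Set.image_mono hhN)

end Ring

section SchemeLevel

set_option backward.isDefEq.respectTransparency false in
/-- **Pointwise polynomial criterion**: a morphism is universally open at `x` as soon as all the
induced morphisms of affine spaces are open at all points above `x`. -/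
theorem isUnivOpenAt_of_isOpenAt_affineSpace_map {X S : Scheme.{u}} (f : X ⟶ S) (x : X)
    (H : ∀ (n : ℕ) (p : ↥(𝔸(ULift.{u} (Fin n); X))), (𝔸(ULift.{u} (Fin n); X) ↘ X) p = x →
      EGA43.IsOpenAt ⇑(AffineSpace.map (ULift.{u} (Fin n)) f) p) :
    EGA43.IsUnivOpenAt f x := by
  intro Y' g x' hx'
  have hx'' : (pullback.fst f g) x' = x := hx'
  obtain ⟨W, hW, hxW, -⟩ := Opens.isBasis_iff_nbhd.mp S.isBasis_affineOpens
    (Opens.mem_top (f x))
  obtain ⟨U, hU, hxU, hUW⟩ := Opens.isBasis_iff_nbhd.mp X.isBasis_affineOpens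
    (show x ∈ f ⁻¹ᵁ W from hxW)
  have hcond : f ((pullback.fst f g) x') = g ((pullback.snd f g) x') := by
    have := congrArg (fun φ : pullback f g ⟶ S => φ x') (pullback.condition (f := f) (g := g))
    simpa only [Scheme.Hom.comp_apply] using this
  have hy' : g ((pullback.snd f g) x') ∈ W := by
    rw [← hcond, hx'']
    exact hxW
  obtain ⟨W', hW', hyW', hW'W⟩ := Opens.isBasis_iff_nbhd.mp Y'.isBasis_affineOpens
    (show (pullback.snd f g) x' ∈ g ⁻¹ᵁ W from hy')
  have hrU : Set.range (hU.fromSpec ≫ f) ⊆ Set.range hW.fromSpec := by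
    rw [hW.range_fromSpec]
    rintro _ ⟨t, rfl⟩
    have ht : hU.fromSpec t ∈ (U : Set X) := by
      rw [← hU.range_fromSpec]
      exact ⟨t, rfl⟩
    exact hUW ht
  have hrW' : Set.range (hW'.fromSpec ≫ g) ⊆ Set.range hW.fromSpec := by
    rw [hW.range_fromSpec]
    rintro _ ⟨t, rfl⟩
    have ht : hW'.fromSpec t ∈ (W' : Set Y') := by
      rw [← hW'.range_fromSpec]
      exact ⟨t, rfl⟩
    exact hW'W ht
  obtain ⟨f₀, hf₀⟩ : ∃ f₀ : Spec Γ(X, U) ⟶ Spec Γ(S, W), f₀ ≫ hW.fromSpec = hU.fromSpec ≫ f :=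
    ⟨IsOpenImmersion.lift hW.fromSpec (hU.fromSpec ≫ f) hrU, IsOpenImmersion.lift_fac _ _ _⟩
  obtain ⟨g₀, hg₀⟩ : ∃ g₀ : Spec Γ(Y', W') ⟶ Spec Γ(S, W),
      g₀ ≫ hW.fromSpec = hW'.fromSpec ≫ g :=
    ⟨IsOpenImmersion.lift hW.fromSpec (hW'.fromSpec ≫ g) hrW', IsOpenImmersion.lift_fac _ _ _⟩
  obtain ⟨φ, rfl⟩ := Spec.map_surjective f₀
  obtain ⟨γ, rfl⟩ := Spec.map_surjective g₀
  -- the comparison map of fibre products
  let θ' : pullback (Spec.map φ) (Spec.map γ) ⟶ pullback f g :=
    pullback.map (Spec.map φ) (Spec.map γ) f g hU.fromSpec hW'.fromSpec hW.fromSpec hf₀ hg₀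
  have hθ'fst : θ' ≫ pullback.fst f g = pullback.fst _ _ ≫ hU.fromSpec :=
    pullback.lift_fst _ _ _
  have hθ'snd : θ' ≫ pullback.snd f g = pullback.snd _ _ ≫ hW'.fromSpec :=
    pullback.lift_snd _ _ _
  have hx'r : x' ∈ Set.range θ' := by
    rw [Scheme.Pullback.range_map]
    refine ⟨?_, ?_⟩
    · show (pullback.fst f g) x' ∈ Set.range hU.fromSpec
      rw [hx'', hU.range_fromSpec]
      exact hxU
    · show (pullback.snd f g) x' ∈ Set.range hW'.fromSpec
      rw [hW'.range_fromSpec]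
      exact hyW'
  obtain ⟨x₁, rfl⟩ := hx'r
  refine isOpenAt_of_comm _ (pullback.snd (Spec.map φ) (Spec.map γ)) θ' hW'.fromSpec
    θ'.continuous hW'.fromSpec.isOpenEmbedding.isOpenMap (fun t => ?_) x₁ ?_
  · have := congrArg (fun ρ : pullback (Spec.map φ) (Spec.map γ) ⟶ Y' => ρ t) hθ'snd
    simpa only [Scheme.Hom.comp_apply] using this
  -- now the affine situation
  letI : Algebra Γ(S, W) Γ(X, U) := φ.hom.toAlgebra
  letI : Algebra Γ(S, W) Γ(Y', W') := γ.hom.toAlgebra
  have hsq : IsPullback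
      (Spec.map (CommRingCat.ofHom (Algebra.TensorProduct.includeRight
        (R := Γ(S, W)) (A := Γ(Y', W')) (B := Γ(X, U))).toRingHom))
      (Spec.map (CommRingCat.ofHom (Algebra.TensorProduct.includeLeftRingHom :
        Γ(Y', W') →+* TensorProduct Γ(S, W) Γ(Y', W') Γ(X, U))))
      (Spec.map φ) (Spec.map γ) :=
    isPullback_SpecMap_of_isPushout _ _ _ _
      (CommRingCat.isPushout_tensorProduct Γ(S, W) Γ(Y', W') Γ(X, U)).flip
  have hx₂ : hsq.isoPullback.hom (hsq.isoPullback.inv x₁) = x₁ := Scheme.inv_hom_apply _ _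
  rw [← hx₂]
  refine isOpenAt_of_comm _ (Spec.map (CommRingCat.ofHom
      (Algebra.TensorProduct.includeLeftRingHom :
        Γ(Y', W') →+* TensorProduct Γ(S, W) Γ(Y', W') Γ(X, U)))) hsq.isoPullback.hom id
    hsq.isoPullback.hom.continuous IsOpenMap.id (fun t => ?_) _ ?_
  · have := congrArg (fun ρ : Spec (CommRingCat.of (TensorProduct Γ(S, W) Γ(Y', W') Γ(X, U))) ⟶
      Spec Γ(Y', W') => ρ t) hsq.isoPullback_hom_snd
    simp only [Scheme.Hom.comp_apply] at this
    exact this
  -- apply the ring-level criterion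
  refine isOpenAt_comap_includeLeft_of_poly (A := Γ(S, W)) (C := Γ(X, U)) (B := Γ(Y', W'))
    (hsq.isoPullback.inv x₁) (fun n P hP => ?_)
  -- transfer the hypothesis
  have hfstx₁ : hU.fromSpec ((pullback.fst (Spec.map φ) (Spec.map γ)) x₁) = x := by
    have := congrArg (fun ρ : pullback (Spec.map φ) (Spec.map γ) ⟶ X => ρ x₁) hθ'fst
    simp only [Scheme.Hom.comp_apply] at this
    rw [← this]
    exact hx''
  have hfst₂ : (Spec.map (CommRingCat.ofHom (Algebra.TensorProduct.includeRight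
        (R := Γ(S, W)) (A := Γ(Y', W')) (B := Γ(X, U))).toRingHom)) (hsq.isoPullback.inv x₁) =
      (pullback.fst (Spec.map φ) (Spec.map γ)) x₁ := by
    have := congrArg (fun ρ : pullback (Spec.map φ) (Spec.map γ) ⟶ Spec Γ(X, U) => ρ x₁)
      hsq.isoPullback_inv_fst
    simp only [Scheme.Hom.comp_apply] at this
    exact this
  have hover : (𝔸(ULift.{u} (Fin n); X) ↘ X)
      ((AffineSpace.map (ULift.{u} (Fin n)) hU.fromSpec)
        ((AffineSpace.SpecIso (ULift.{u} (Fin n)) Γ(X, U)).inv P)) = x := by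
    have h1 := congrArg (fun ρ : 𝔸(ULift.{u} (Fin n); Spec Γ(X, U)) ⟶ X =>
      ρ ((AffineSpace.SpecIso (ULift.{u} (Fin n)) Γ(X, U)).inv P))
      (AffineSpace.map_over (n := ULift.{u} (Fin n)) hU.fromSpec)
    have h2 := congrArg (fun ρ : Spec (CommRingCat.of (MvPolynomial (ULift.{u} (Fin n)) Γ(X, U))) ⟶
      Spec Γ(X, U) => ρ P) (AffineSpace.SpecIso_inv_over (n := ULift.{u} (Fin n)) Γ(X, U))
    simp only [Scheme.Hom.comp_apply] at h1 h2
    rw [h1, h2, ← hfstx₁, ← hfst₂]
    congr 1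
  have hH := H n _ hover
  haveI := isOpenImmersion_affineSpace_map (ULift.{u} (Fin n)) hU.fromSpec
  haveI := isOpenImmersion_affineSpace_map (ULift.{u} (Fin n)) hW.fromSpec
  have hcommA : AffineSpace.map (ULift.{u} (Fin n)) hU.fromSpec ≫
      AffineSpace.map (ULift.{u} (Fin n)) f =
      AffineSpace.map (ULift.{u} (Fin n)) (Spec.map φ) ≫
        AffineSpace.map (ULift.{u} (Fin n)) hW.fromSpec := by
    rw [← AffineSpace.map_comp, ← AffineSpace.map_comp, hf₀]
  have h3 : EGA43.IsOpenAt ⇑(AffineSpace.map (ULift.{u} (Fin n)) (Spec.map φ))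
      ((AffineSpace.SpecIso (ULift.{u} (Fin n)) Γ(X, U)).inv P) := by
    refine isOpenAt_of_comm' ⇑(AffineSpace.map (ULift.{u} (Fin n)) f) _
      ⇑(AffineSpace.map (ULift.{u} (Fin n)) hU.fromSpec)
      ⇑(AffineSpace.map (ULift.{u} (Fin n)) hW.fromSpec)
      (AffineSpace.map _ hU.fromSpec).isOpenEmbedding.isOpenMap
      (AffineSpace.map _ hW.fromSpec).continuous
      (AffineSpace.map _ hW.fromSpec).isOpenEmbedding.injective (fun t => ?_) _ hH
    have := congrArg (fun ρ : 𝔸(ULift.{u} (Fin n); Spec Γ(X, U)) ⟶ 𝔸(ULift.{u} (Fin n); S) =>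
      ρ t) hcommA
    simpa only [Scheme.Hom.comp_apply] using this
  have hcommB : (AffineSpace.SpecIso (ULift.{u} (Fin n)) Γ(X, U)).inv ≫
      AffineSpace.map (ULift.{u} (Fin n)) (Spec.map φ) =
      Spec.map (CommRingCat.ofHom (MvPolynomial.map (σ := ULift.{u} (Fin n)) φ.hom)) ≫
        (AffineSpace.SpecIso (ULift.{u} (Fin n)) Γ(S, W)).inv := by
    rw [AffineSpace.map_SpecMap, Iso.inv_hom_id_assoc]
  have h4 : EGA43.IsOpenAt
      ⇑(Spec.map (CommRingCat.ofHom (MvPolynomial.map (σ := ULift.{u} (Fin n)) φ.hom))) P := by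
    refine isOpenAt_of_comm' ⇑(AffineSpace.map (ULift.{u} (Fin n)) (Spec.map φ)) _
      ⇑(AffineSpace.SpecIso (ULift.{u} (Fin n)) Γ(X, U)).inv
      ⇑(AffineSpace.SpecIso (ULift.{u} (Fin n)) Γ(S, W)).inv
      (AffineSpace.SpecIso _ _).inv.isOpenEmbedding.isOpenMap
      (AffineSpace.SpecIso _ _).inv.continuous
      (AffineSpace.SpecIso _ _).inv.isOpenEmbedding.injective (fun t => ?_) _ h3
    have := congrArg (fun ρ : Spec (CommRingCat.of (MvPolynomial (ULift.{u} (Fin n)) Γ(X, U))) ⟶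
      𝔸(ULift.{u} (Fin n); Spec Γ(S, W)) => ρ t) hcommB
    simpa only [Scheme.Hom.comp_apply] using this
  exact h4

end SchemeLevel

end Groth.Agent.H7
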