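import Groth.Agent.H69.ChevGeneral
import Groth.Agent.H25.UnivOpenAt
import Groth.Agent.H7.UnivOpenAtPoly

/-!
# Pointwise form of Chevalley's criterion for universal openness (helper7)
-/

set_option autoImplicit false
set_option linter.style.haveILetI false
set_option linter.unusedSectionVars false
open AlgebraicGeometry CategoryTheory Limits

universe u

namespace Groth.Agent.H7

open Groth.Agent.H69.GeomUnibranch Groth.Agent.H25

/-- If `j ≫ f` is universally open at `u`, then `f` is universally open at `j u`. -/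
theorem isUnivOpenAt_of_comp_left {U X Y : Scheme.{u}} (j : U ⟶ X) (f : X ⟶ Y) (u : U)
    (h : EGA43.IsUnivOpenAt (j ≫ f) u) : EGA43.IsUnivOpenAt f (j.base u) := by
  intro Y' g x' hx'
  have s := IsPullback.of_hasPullback (j ≫ f) g
  have t := IsPullback.of_hasPullback f g
  have top := IsPullback.of_bot' s t
  obtain ⟨q, hq1, hq2⟩ := Scheme.exists_preimage_of_isPullback top u x' hx'.symm
  have h1 := h Y' g q hq1
  have h2 : (pullback.snd (j ≫ f) g).base =
      (pullback.snd f g).base ∘ (t.lift (pullback.fst (j ≫ f) g ≫ j) (pullback.snd (j ≫ f) g)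
        (by rw [Category.assoc, s.w])).base := by
    funext a
    have := congrArg (fun φ : pullback (j ≫ f) g ⟶ Y' => φ.base a)
      (t.lift_snd (pullback.fst (j ≫ f) g ≫ j) (pullback.snd (j ≫ f) g)
        (by rw [Category.assoc, s.w]))
    simpa only [Scheme.Hom.comp_apply, Function.comp_apply] using this.symm
  rw [h2] at h1
  have h3 := isOpenAt_of_comp _ _ (Scheme.Hom.continuous _) q h1
  rw [hq2] at h3
  exact h3

/-- Universal openness at a point is stable under composition. -/
theorem isUnivOpenAt_comp {X Y Z : Scheme.{u}} (f : X ⟶ Y) (g : Y ⟶ Z) (x : X)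
    (hf : EGA43.IsUnivOpenAt f x) (hg : EGA43.IsUnivOpenAt g (f.base x)) :
    EGA43.IsUnivOpenAt (f ≫ g) x := by
  intro Z' h x' hx'
  have t := IsPullback.of_hasPullback g h
  have s := IsPullback.of_hasPullback f (pullback.fst g h)
  have big := s.paste_vert t
  set e := big.isoPullback with he
  have he1 : e.hom ≫ pullback.fst (f ≫ g) h = pullback.fst f (pullback.fst g h) :=
    big.isoPullback_hom_fst
  have he2 : e.hom ≫ pullback.snd (f ≫ g) h =
      pullback.snd f (pullback.fst g h) ≫ pullback.snd g h := big.isoPullback_hom_snd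
  obtain ⟨p₁, hp₁⟩ : ∃ p₁, e.hom.base p₁ = x' := ⟨e.inv.base x', by
    rw [← Scheme.Hom.comp_apply, Iso.inv_hom_id]; rfl⟩
  have hp₁x : (pullback.fst f (pullback.fst g h)).base p₁ = x := by
    rw [← he1, Scheme.Hom.comp_apply, hp₁]
    exact hx'
  have h1 : EGA43.IsOpenAt (pullback.snd f (pullback.fst g h)).base p₁ :=
    hf _ (pullback.fst g h) p₁ hp₁x
  have h2 : EGA43.IsOpenAt (pullback.snd g h).base
      ((pullback.snd f (pullback.fst g h)).base p₁) := by
    apply hg _ h
    rw [← Scheme.Hom.comp_apply, ← s.w, Scheme.Hom.comp_apply, hp₁x]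
  have h3 := isOpenAt_comp _ _ _ h1 h2
  have h4 : (pullback.snd g h).base ∘ (pullback.snd f (pullback.fst g h)).base =
      (pullback.snd (f ≫ g) h).base ∘ e.hom.base := by
    funext a
    have := congrArg (fun φ : pullback f (pullback.fst g h) ⟶ Z' => φ.base a) he2
    simpa only [Scheme.Hom.comp_apply, Function.comp_apply] using this.symm
  rw [h4] at h3
  have h5 := isOpenAt_of_comp _ _ (Scheme.Hom.continuous _) p₁ h3
  rw [hp₁] at h5
  exact h5

/-- A maximal point of affine space over `X` lies over a maximal point of `X`. -/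
theorem isMaxPt_over_of_isMaxPt {X : Scheme.{u}} (σ : Type u) (η' : ↥𝔸(σ; X)) (hη' : IsMaxPt η') :
    IsMaxPt ((𝔸(σ; X) ↘ X).base η') := by
  have hopenX : IsOpenMap (𝔸(σ; X) ↘ X).base := AffineSpace.isOpenMap_over X
  intro ξ' hξ'
  have hT : IsIrreducible ((𝔸(σ; X) ↘ X).base ⁻¹' closure {ξ'}) :=
    (𝔸(σ; X) ↘ X).isIrreducible_preimage hopenX isIrreducible_singleton.closure
  have hηT : η' ∈ (𝔸(σ; X) ↘ X).base ⁻¹' closure {ξ'} :=
    specializes_iff_mem_closure.mp hξ'
  obtain ⟨t, ht⟩ := (𝔸(σ; X) ↘ X).surjective ξ'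
  have htT : t ∈ (𝔸(σ; X) ↘ X).base ⁻¹' closure {ξ'} := by
    change (𝔸(σ; X) ↘ X).base t ∈ closure {ξ'}
    rw [ht]
    exact subset_closure rfl
  have h2 : η' ⤳ t := hη'.specializes_of_mem hT hηT htT
  have h3 := h2.map (𝔸(σ; X) ↘ X).continuous
  rw [ht] at h3
  exact (hξ'.antisymm h3).eq

/-- If a maximal point of affine space over `X` lies over a point with maximal image in `Y`, then
its image in affine space over `Y` is maximal. -/
theorem isMaxPt_affineSpace_map_of_isMaxPt {X Y : Scheme.{u}} (σ : Type u) (f : X ⟶ Y)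
    (η' : ↥𝔸(σ; X)) (hη' : IsMaxPt η') (h2 : IsMaxPt (f.base ((𝔸(σ; X) ↘ X).base η'))) :
    IsMaxPt ((AffineSpace.map σ f).base η') := by
  have hopenX : IsOpenMap (𝔸(σ; X) ↘ X).base := AffineSpace.isOpenMap_over X
  intro ω hω
  have hover : (𝔸(σ; Y) ↘ Y).base ((AffineSpace.map σ f).base η') =
      f.base ((𝔸(σ; X) ↘ X).base η') := by
    rw [← Scheme.Hom.comp_apply, AffineSpace.map_over, Scheme.Hom.comp_apply]
  have h3 : (𝔸(σ; Y) ↘ Y).base ω = f.base ((𝔸(σ; X) ↘ X).base η') := by
    apply h2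
    rw [← hover]
    exact hω.map (𝔸(σ; Y) ↘ Y).continuous
  obtain ⟨η'', hη''1, hη''2⟩ := Scheme.exists_preimage_of_isPullback
    (AffineSpace.isPullback_map (n := σ) f) ω ((𝔸(σ; X) ↘ X).base η') h3
  have hF : IsIrreducible ((𝔸(σ; X) ↘ X).base ⁻¹' {(𝔸(σ; X) ↘ X).base η'}) :=
    (𝔸(σ; X) ↘ X).isIrreducible_preimage hopenX isIrreducible_singleton
  have h4 : η' ⤳ η'' := hη'.specializes_of_mem hF rfl hη''2
  have h5 := h4.map (AffineSpace.map σ f).continuous
  rw [hη''1] at h5
  exact (hω.antisymm h5).eq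

/-- **Pointwise criterion for quasi-finite morphisms**: a locally quasi-finite morphism to a
locally Noetherian scheme is universally open at a point `w` whose image is geometrically
unibranch, provided the maximal generizations of `w` map to maximal points. -/
theorem isUnivOpenAt_of_locallyQuasiFinite_of_isGeomUnibranch {W T : Scheme.{u}} (G : W ⟶ T)
    [LocallyQuasiFinite G] [LocallyOfFiniteType G] [IsLocallyNoetherian T] (w : W)
    (hT : CAlg2.IsGeomUnibranch (T.presheaf.stalk (G.base w)))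
    (hdom : ∀ η : W, IsMaxPt η → η ⤳ w → IsMaxPt (G.base η)) : EGA43.IsUnivOpenAt G w := by
  apply isUnivOpenAt_of_isOpenAt_affineSpace_map
  intro n p hp
  haveI : LocallyOfFiniteType (AffineSpace.map (ULift.{u} (Fin n)) G) :=
    MorphismProperty.of_isPullback (P := @LocallyOfFiniteType)
      (AffineSpace.isPullback_map G).flip inferInstance
  haveI : LocallyQuasiFinite (AffineSpace.map (ULift.{u} (Fin n)) G) :=
    MorphismProperty.of_isPullback (P := @LocallyQuasiFinite)
      (AffineSpace.isPullback_map G).flip inferInstance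
  haveI : IsLocallyNoetherian 𝔸(ULift.{u} (Fin n); T) :=
    LocallyOfFiniteType.isLocallyNoetherian (𝔸(ULift.{u} (Fin n); T) ↘ T)
  obtain ⟨η', hη'max, hη'p⟩ := exists_isMaxPt_specializes p
  have hover : (𝔸(ULift.{u} (Fin n); T) ↘ T).base
      ((AffineSpace.map (ULift.{u} (Fin n)) G).base p) = G.base w := by
    rw [← Scheme.Hom.comp_apply, AffineSpace.map_over, Scheme.Hom.comp_apply]
    exact congrArg G.base hp
  have key : ∀ t : T, t = G.base w → CAlg2.IsGeomUnibranch (T.presheaf.stalk t) := by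
    rintro _ rfl
    exact hT
  have hη'w : (𝔸(ULift.{u} (Fin n); W) ↘ W).base η' ⤳ w := by
    have := hη'p.map (𝔸(ULift.{u} (Fin n); W) ↘ W).continuous
    rw [show (𝔸(ULift.{u} (Fin n); W) ↘ W).base p = w from hp] at this
    exact this
  exact isOpenAt_of_quasiFiniteAt_of_isUnibranch' (AffineSpace.map (ULift.{u} (Fin n)) G) p
    ((AffineSpace.map (ULift.{u} (Fin n)) G).quasiFiniteAt p)
    (isGeomUnibranch_affineSpace_stalk _ _ (key _ hover)).1 η' hη'p
    (isMaxPt_affineSpace_map_of_isMaxPt _ G η' hη'max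
      (hdom _ (isMaxPt_over_of_isMaxPt _ η' hη'max) hη'w))

/-- A universally open morphism is universally open at every point. -/
theorem isUnivOpenAt_of_universallyOpen' {X Y : Scheme.{u}} (f : X ⟶ Y) [UniversallyOpen f]
    (x : X) : EGA43.IsUnivOpenAt f x := by
  intro Y' g x' _ S hS
  exact (pullback.snd f g).isOpenMap.image_mem_nhds hS

open Groth.Agent.H9.FibDim Groth.Agent.H54 Groth.Agent.H9.FibreFormula Groth.Agent.H9.Equidim
  Groth.Agent.H69.Chev in
/-- Geometric unibranchness ascends to `Spec` of a polynomial ring over an affine open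
(pointwise form). -/
theorem isGeomUnibranch_Spec_mvPolynomial_stalk' {Y : Scheme.{u}} (σ : Type u) (V : Y.Opens)
    (hV : IsAffineOpen V) (z : ↥(Spec (.of (MvPolynomial σ Γ(Y, V)))))
    (hy : CAlg2.IsGeomUnibranch (Y.presheaf.stalk (hV.fromSpec.base
      (PrimeSpectrum.comap (MvPolynomial.C : Γ(Y, V) →+* MvPolynomial σ Γ(Y, V)) z)))) :
    CAlg2.IsGeomUnibranch ((Spec (.of (MvPolynomial σ Γ(Y, V)))).presheaf.stalk z) := by
  set z₀ : PrimeSpectrum Γ(Y, V) :=
    PrimeSpectrum.comap (MvPolynomial.C : Γ(Y, V) →+* MvPolynomial σ Γ(Y, V)) z with hz₀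
  have hyV : hV.fromSpec.base z₀ ∈ V := by
    have := Set.mem_range_self (f := hV.fromSpec.base) z₀
    rw [hV.range_fromSpec] at this
    exact this
  have hC : z₀ = hV.primeIdealOf ⟨hV.fromSpec.base z₀, hyV⟩ := by
    apply hV.fromSpec.isOpenEmbedding.injective
    rw [hV.fromSpec_primeIdealOf]
  letI algRP : Algebra (MvPolynomial σ Γ(Y, V))
      ((Spec (.of (MvPolynomial σ Γ(Y, V)))).presheaf.stalk z) :=
    StructureSheaf.stalkAlgebra (R := MvPolynomial σ Γ(Y, V)) z
  haveI hlocRP : IsLocalization.AtPrime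
      ((Spec (.of (MvPolynomial σ Γ(Y, V)))).presheaf.stalk z) z.asIdeal :=
    StructureSheaf.IsLocalization.to_stalk (R := MvPolynomial σ Γ(Y, V)) z
  letI algY := Y.presheaf.algebra_section_stalk ⟨hV.fromSpec.base z₀, hyV⟩
  haveI hlocY := hV.isLocalization_stalk ⟨hV.fromSpec.base z₀, hyV⟩
  exact isGeomUnibranch_mvPolynomial σ z.asIdeal
    (hV.primeIdealOf ⟨hV.fromSpec.base z₀, hyV⟩).asIdeal
    (congrArg PrimeSpectrum.asIdeal hC)
    (Y.presheaf.stalk (hV.fromSpec.base z₀))
    ((Spec (.of (MvPolynomial σ Γ(Y, V)))).presheaf.stalk z) hy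

open Groth.Agent.H9.FibDim Groth.Agent.H54 Groth.Agent.H9.FibreFormula Groth.Agent.H9.Equidim
  Groth.Agent.H69.Chev in
/-- **Chevalley's criterion, pointwise**: a morphism locally of finite type over a locally
Noetherian scheme which is equidimensional at `x` is universally open at `x` as soon as the local
ring of the target at `f x` is geometrically unibranch. -/
theorem isUnivOpenAt_of_isEquidimAt_of_isGeomUnibranch {X Y : Scheme.{u}} [IsLocallyNoetherian Y]
    (f : X ⟶ Y) [LocallyOfFiniteType f] (x : X) (h : EGA43.IsEquidimAt f x)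
    (hy : CAlg2.IsGeomUnibranch (Y.presheaf.stalk (f.base x))) : EGA43.IsUnivOpenAt f x := by
  obtain ⟨e, U₀, hxU₀, hdimU₀, hmaxU₀⟩ := Groth.Agent.H69.Chev.exists_of_isEquidimAt' f x h
  obtain ⟨V, hV, hxV, -⟩ :=
    exists_isAffineOpen_mem_and_subset (X := Y) (x := f.base x) (U := ⊤) trivial
  obtain ⟨U, hU, hxU, hUV'⟩ :=
    exists_isAffineOpen_mem_and_subset (X := X) (x := x) (U := U₀ ⊓ f ⁻¹ᵁ V) ⟨hxU₀, hxV⟩
  have hUU₀ : U ≤ U₀ := hUV'.trans inf_le_left
  have hUV : U ≤ f ⁻¹ᵁ V := hUV'.trans inf_le_right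
  letI algRS : Algebra Γ(Y, V) Γ(X, U) := (f.appLE V U hUV).hom.toAlgebra
  haveI : Algebra.FiniteType Γ(Y, V) Γ(X, U) := f.finiteType_appLE hV hU hUV
  haveI hRnoeth : IsNoetherianRing Γ(Y, V) := IsLocallyNoetherian.component_noetherian ⟨V, hV⟩
  obtain ⟨q, rfl⟩ : x ∈ Set.range hU.fromSpec.base := by rw [hU.range_fromSpec]; exact hxU
  have hmemU : ∀ q₁ : Spec Γ(X, U), hU.fromSpec.base q₁ ∈ U := by
    intro q₁
    have := Set.mem_range_self (f := hU.fromSpec.base) q₁
    rw [hU.range_fromSpec] at this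
    exact this
  have htfd : ∀ q₁ : Spec Γ(X, U),
      tfd (PrimeSpectrum.comap (algebraMap Γ(Y, V) Γ(X, U))) q₁ = (e : WithBot ℕ∞) := by
    intro q₁
    have := fibreDimAt_fromSpec f hU hV hUV q₁
    rw [hdimU₀ _ (hUU₀ (hmemU q₁))] at this
    exact this.symm
  obtain ⟨Q, hQ⟩ := exists_fiber_prime (q.asIdeal.under Γ(Y, V)) q.asIdeal
  have hQdim : FlatMor.localDim (PrimeSpectrum ((q.asIdeal.under Γ(Y, V)).Fiber Γ(X, U))) Q =
      (e : WithBot ℕ∞) := by
    rw [localDim_fiber_eq_tfd _ q rfl Q hQ]; exact htfd q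
  obtain ⟨g, hgq, φ, hφft, hφqf⟩ := Groth.Agent.S9175.result Γ(Y, V) Γ(X, U)
    (q.asIdeal.under Γ(Y, V)) q.asIdeal Q hQ e hQdim
  -- the open piece `W = Spec S_g`
  let j : Spec (.of (Localization.Away g)) ⟶ X :=
    Spec.map (CommRingCat.ofHom (algebraMap Γ(X, U) (Localization.Away g))) ≫ hU.fromSpec
  haveI : IsOpenImmersion hU.fromSpec := hU.isOpenImmersion_fromSpec
  haveI : IsOpenImmersion hV.fromSpec := hV.isOpenImmersion_fromSpec
  haveI hjo : IsOpenImmersion j := inferInstance
  obtain ⟨q', hq'⟩ : ∃ q' : PrimeSpectrum (Localization.Away g),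
      PrimeSpectrum.comap (algebraMap Γ(X, U) (Localization.Away g)) q' = q := by
    have hrange := PrimeSpectrum.localization_away_comap_range (Localization.Away g) g
    have : q ∈ Set.range (PrimeSpectrum.comap (algebraMap Γ(X, U) (Localization.Away g))) := by
      rw [hrange]; exact hgq
    exact this
  have hjq' : j.base q' = hU.fromSpec.base q := by
    show hU.fromSpec.base ((Spec.map (CommRingCat.ofHom
      (algebraMap Γ(X, U) (Localization.Away g)))).base q') = _
    rw [← hq']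
    rfl
  have hjU₀ : ∀ w : ↥(Spec (.of (Localization.Away g))), j.base w ∈ U₀ := by
    intro w
    exact hUU₀ (hmemU ((Spec.map (CommRingCat.ofHom
      (algebraMap Γ(X, U) (Localization.Away g)))).base w))
  -- the polynomial ring in universe `u`
  let ρ : MvPolynomial (ULift.{u} (Fin e)) Γ(Y, V) ≃ₐ[Γ(Y, V)] MvPolynomial (Fin e) Γ(Y, V) :=
    MvPolynomial.renameEquiv Γ(Y, V) (Equiv.ulift : ULift.{u} (Fin e) ≃ Fin e)
  let φ' : MvPolynomial (ULift.{u} (Fin e)) Γ(Y, V) →+* Localization.Away g :=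
    φ.toRingHom.comp ρ.toRingEquiv.toRingHom
  have hφ'qf : φ'.QuasiFinite := RingHom.QuasiFinite.respectsIso.2 _ ρ.toRingEquiv hφqf
  have hφ'ft : φ'.FiniteType := RingHom.finiteType_respectsIso.2 _ ρ.toRingEquiv hφft
  have hφ'C : ∀ r : Γ(Y, V), φ' (algebraMap Γ(Y, V) _ r) =
      algebraMap Γ(Y, V) (Localization.Away g) r := by
    intro r
    show φ (ρ (algebraMap Γ(Y, V) _ r)) = _
    rw [AlgEquiv.commutes, AlgHom.commutes]
  let G : Spec (.of (Localization.Away g)) ⟶
      Spec (.of (MvPolynomial (ULift.{u} (Fin e)) Γ(Y, V))) := Spec.map (CommRingCat.ofHom φ')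
  let π : Spec (.of (MvPolynomial (ULift.{u} (Fin e)) Γ(Y, V))) ⟶ Spec Γ(Y, V) :=
    Spec.map (CommRingCat.ofHom (algebraMap Γ(Y, V) (MvPolynomial (ULift.{u} (Fin e)) Γ(Y, V))))
  have hfac : j ≫ f = G ≫ π ≫ hV.fromSpec := by
    have h1 := IsAffineOpen.SpecMap_appLE_fromSpec f hV hU hUV
    show (Spec.map _ ≫ hU.fromSpec) ≫ f = Spec.map _ ≫ Spec.map _ ≫ hV.fromSpec
    rw [Category.assoc, ← h1, ← Category.assoc, ← Category.assoc, ← Spec.map_comp, ← Spec.map_comp]
    congr 2
    ext r
    show algebraMap Γ(X, U) (Localization.Away g) ((f.appLE V U hUV).hom r) =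
      φ' (algebraMap Γ(Y, V) _ r)
    rw [hφ'C]
    exact (IsScalarTower.algebraMap_apply Γ(Y, V) Γ(X, U) (Localization.Away g) r).symm
  haveI : Algebra.FiniteType Γ(Y, V) (Localization.Away g) :=
    Algebra.FiniteType.trans (R := Γ(Y, V)) (S := Γ(X, U)) (A := Localization.Away g)
      inferInstance inferInstance
  -- maximal points map to maximal points
  have hdom : ∀ w : ↥(Spec (.of (Localization.Away g))), IsMaxPt w → IsMaxPt (G.base w) := by
    intro w hw
    set ξ' : PrimeSpectrum (Localization.Away g) := w with hξ'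
    have hξmin : ∀ q₁ : PrimeSpectrum (Localization.Away g), q₁ ≤ ξ' → q₁ = ξ' := by
      intro q₁ hle
      have h1 : q₁ ⤳ ξ' := (PrimeSpectrum.le_iff_specializes q₁ ξ').mp hle
      exact hw q₁ h1
    have hξtfd : (e : WithBot ℕ∞) ≤
        tfd (PrimeSpectrum.comap (algebraMap Γ(Y, V) (Localization.Away g))) ξ' := by
      rw [tfd_eq_of_square (PrimeSpectrum.comap (algebraMap Γ(Y, V) Γ(X, U)))
        (PrimeSpectrum.comap (algebraMap Γ(Y, V) (Localization.Away g)))
        (PrimeSpectrum.comap (algebraMap Γ(X, U) (Localization.Away g))) id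
        (PrimeSpectrum.localization_away_isOpenEmbedding (Localization.Away g) g)
        Function.injective_id (fun a' => by
          simp only [id]
          rw [IsScalarTower.algebraMap_eq Γ(Y, V) Γ(X, U) (Localization.Away g),
            PrimeSpectrum.comap_comp_apply]) ξ']
      exact (htfd _).ge
    have hM := comap_eq_map_C_of_le_tfd e φ hφqf ξ' hξmin hξtfd
    -- `j ξ'` is a maximal point of `X`
    have hjmax : ∀ t : X, t ⤳ j.base w → t = j.base w := by
      intro t ht
      have htr : t ∈ Set.range j.base :=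
        ht.mem_open j.isOpenEmbedding.isOpen_range (Set.mem_range_self w)
      obtain ⟨t', rfl⟩ := htr
      have := j.isOpenEmbedding.isInducing.specializes_iff.mp ht
      rw [hw t' this]
    have hfmax : IsMaxPt (f.base (j.base w)) := hmaxU₀ _ (hjU₀ w) hjmax
    -- the image of `ξ'` in `Spec R`
    set r₀ : PrimeSpectrum Γ(Y, V) :=
      PrimeSpectrum.comap (algebraMap Γ(Y, V) (Localization.Away g)) ξ' with hr₀
    have h4 : f.base (j.base w) = hV.fromSpec.base r₀ := by
      rw [← Scheme.Hom.comp_apply, hfac]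
      show hV.fromSpec.base (π.base (G.base ξ')) = _
      congr 1
      show PrimeSpectrum.comap (algebraMap Γ(Y, V) _) (PrimeSpectrum.comap φ' ξ') = _
      rw [← PrimeSpectrum.comap_comp_apply]
      congr 1
      ext r
      exact hφ'C r
    have hr₀max : ∀ s : PrimeSpectrum Γ(Y, V), s ≤ r₀ → s = r₀ := by
      intro s hs
      have h1 : s ⤳ r₀ := (PrimeSpectrum.le_iff_specializes s r₀).mp hs
      have h2 : hV.fromSpec.base s ⤳ hV.fromSpec.base r₀ := h1.map hV.fromSpec.continuous
      rw [← h4] at h2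
      have h3 := hfmax _ h2
      rw [h4] at h3
      exact hV.fromSpec.isOpenEmbedding.injective h3
    -- maximality of `G ξ'`
    intro P' hP'
    let P'' : PrimeSpectrum (MvPolynomial (ULift.{u} (Fin e)) Γ(Y, V)) := P'
    let ζ' : PrimeSpectrum (MvPolynomial (ULift.{u} (Fin e)) Γ(Y, V)) := PrimeSpectrum.comap φ' ξ'
    have hP'' : P'' ⤳ ζ' := hP'
    have hle : P''.asIdeal ≤ ζ'.asIdeal := (PrimeSpectrum.le_iff_specializes P'' ζ').mpr hP''
    have hP'R : PrimeSpectrum.comap (algebraMap Γ(Y, V)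
        (MvPolynomial (ULift.{u} (Fin e)) Γ(Y, V))) P'' = r₀ := by
      apply hr₀max
      intro r hr
      have h1 : algebraMap Γ(Y, V) _ r ∈ ζ'.asIdeal := hle hr
      have h2 : φ' (algebraMap Γ(Y, V) _ r) ∈ ξ'.asIdeal := h1
      rw [hφ'C] at h2
      exact h2
    have hge : ζ'.asIdeal ≤ P''.asIdeal := by
      intro b hb
      have hb' : ρ b ∈ ξ'.asIdeal.comap φ.toRingHom := hb
      rw [hM] at hb'
      let P : Ideal (MvPolynomial (Fin e) Γ(Y, V)) :=
        Ideal.comap ρ.symm.toRingEquiv.toRingHom P''.asIdeal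
      have h1 : Ideal.map (MvPolynomial.C : Γ(Y, V) →+* MvPolynomial (Fin e) Γ(Y, V))
          (ξ'.asIdeal.under Γ(Y, V)) ≤ P := by
        rw [Ideal.map_le_iff_le_comap]
        intro r hr
        have hr' : r ∈ r₀.asIdeal := hr
        rw [← hP'R] at hr'
        have h2 : algebraMap Γ(Y, V) (MvPolynomial (ULift.{u} (Fin e)) Γ(Y, V)) r ∈
            P''.asIdeal := hr'
        show ρ.symm (MvPolynomial.C r) ∈ P''.asIdeal
        have h3 : ρ.symm (MvPolynomial.C r) =
            algebraMap Γ(Y, V) (MvPolynomial (ULift.{u} (Fin e)) Γ(Y, V)) r :=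
          ρ.symm.commutes r
        rw [h3]
        exact h2
      have h2 : ρ b ∈ P := h1 hb'
      have h3 : ρ.symm (ρ b) ∈ P''.asIdeal := h2
      rwa [AlgEquiv.symm_apply_apply] at h3
    show P'' = ζ'
    exact PrimeSpectrum.ext (le_antisymm hle hge)
  haveI : LocallyQuasiFinite G := (HasRingHomProperty.Spec_iff (P := @LocallyQuasiFinite)).mpr hφ'qf
  haveI : LocallyOfFiniteType G := (HasRingHomProperty.Spec_iff (P := @LocallyOfFiniteType)).mpr hφ'ft
  haveI : IsNoetherianRing (MvPolynomial (ULift.{u} (Fin e)) Γ(Y, V)) := inferInstance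
  haveI : IsLocallyNoetherian (Spec (.of (MvPolynomial (ULift.{u} (Fin e)) Γ(Y, V)))) :=
    inferInstance
  haveI : LocallyQuasiFinite G := (HasRingHomProperty.Spec_iff (P := @LocallyQuasiFinite)).mpr hφ'qf
  haveI : LocallyOfFiniteType G := (HasRingHomProperty.Spec_iff (P := @LocallyOfFiniteType)).mpr hφ'ft
  haveI : IsNoetherianRing (MvPolynomial (ULift.{u} (Fin e)) Γ(Y, V)) := inferInstance
  haveI : IsLocallyNoetherian (Spec (.of (MvPolynomial (ULift.{u} (Fin e)) Γ(Y, V)))) :=
    inferInstance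
  haveI : Flat π := (HasRingHomProperty.Spec_iff (P := @Flat)).mpr
    (RingHom.flat_algebraMap_iff.mpr inferInstance)
  haveI : LocallyOfFinitePresentation π :=
    (HasRingHomProperty.Spec_iff (P := @LocallyOfFinitePresentation)).mpr
      (RingHom.finitePresentation_algebraMap.mpr inferInstance)
  -- the image of `G q'` in `Y` is `f x`
  have hpt : hV.fromSpec.base (PrimeSpectrum.comap
      (MvPolynomial.C : Γ(Y, V) →+* MvPolynomial (ULift.{u} (Fin e)) Γ(Y, V)) (G.base q')) =
      f.base (hU.fromSpec.base q) := by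
    have h1 := congrArg (fun ψ : Spec (.of (Localization.Away g)) ⟶ Y => ψ.base q') hfac
    simp only [Scheme.Hom.comp_apply] at h1
    rw [hjq'] at h1
    rw [h1]
    rfl
  have key : ∀ t : Y, t = f.base (hU.fromSpec.base q) →
      CAlg2.IsGeomUnibranch (Y.presheaf.stalk t) := by
    rintro _ rfl
    exact hy
  have hG : EGA43.IsUnivOpenAt G q' :=
    isUnivOpenAt_of_locallyQuasiFinite_of_isGeomUnibranch G q'
      (isGeomUnibranch_Spec_mvPolynomial_stalk' (ULift.{u} (Fin e)) V hV _ (key _ hpt))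
      (fun η hη _ => hdom η hη)
  have hπ : EGA43.IsUnivOpenAt (π ≫ hV.fromSpec) (G.base q') :=
    isUnivOpenAt_of_universallyOpen' _ _
  have h1 := isUnivOpenAt_comp G (π ≫ hV.fromSpec) q' hG hπ
  rw [← hfac] at h1
  have h2 := isUnivOpenAt_of_comp_left j f q' h1
  rw [hjq'] at h2
  exact h2

end Groth.Agent.H7
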