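import Mathlib

/-!
# Primes of coheight one avoiding an ideal (helper7)

* `exists_prime_maximal_not_le`: in a Noetherian local ring `B`, for an ideal `I` and a prime
  `q₀ ⊉ I` there is a prime `q ⊇ q₀`, `q ⊉ I`, such that the only prime `⊇ q + I` is the maximal
  ideal (Krull's principal ideal theorem + prime avoidance).
-/

set_option autoImplicit false
set_option linter.style.haveILetI false

namespace Groth.Agent.H7

open IsLocalRing

/-- In a domain, a nonzero prime contained in a prime of height `≤ 1` equals it. -/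
theorem eq_of_le_of_height_le_one {D : Type*} [CommRing D] [IsDomain D] {P Q : Ideal D}
    [P.IsPrime] [Q.IsPrime] (hQ : Q.height ≤ 1) (hP : P ≠ ⊥) (h : P ≤ Q) : P = Q := by
  by_contra hne
  have hlt : P < Q := lt_of_le_of_ne h hne
  have hQ' : Q.height ≤ ((1 : ℕ) : ℕ∞) := by exact_mod_cast hQ
  have h1 : P.height < ((1 : ℕ) : ℕ∞) :=
    (Ideal.height_le_iff (n := 1)).mp hQ' P inferInstance hlt
  have h0 : P.height ≤ ((0 : ℕ) : ℕ∞) := by
    have h1' : P.height < 1 := by exact_mod_cast h1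
    rw [Order.lt_one_iff] at h1'
    rw [h1']
    simp
  have h2 := (Ideal.height_le_iff (n := 0)).mp h0 ⊥ Ideal.isPrime_bot (bot_lt_iff_ne_bot.mpr hP)
  simp at h2

/-- In a Noetherian local domain, if a non-maximal prime contains the nonzero ideal `J`, then some
nonzero prime does not contain `J`. -/
theorem exists_prime_ne_bot_not_le {D : Type*} [CommRing D] [IsDomain D] [IsNoetherianRing D]
    [IsLocalRing D] (J : Ideal D) (hJ : J ≠ ⊥) (Q' : Ideal D) [hQ'p : Q'.IsPrime] (hJQ : J ≤ Q')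
    (hQ' : Q' ≠ maximalIdeal D) :
    ∃ Q'' : Ideal D, Q''.IsPrime ∧ Q'' ≠ ⊥ ∧ ¬ J ≤ Q'' := by
  classical
  have hQ'bot : Q' ≠ ⊥ := fun h => hJ (le_bot_iff.mp (h ▸ hJQ))
  have hQ'lt : Q' < maximalIdeal D := lt_of_le_of_ne (le_maximalIdeal hQ'p.ne_top) hQ'
  have hmbot : maximalIdeal D ≠ ⊥ := fun h => hQ'bot (le_bot_iff.mp (h ▸ hQ'lt.le))
  have hht : ¬ (maximalIdeal D).height ≤ 1 := fun h =>
    hQ' (eq_of_le_of_height_le_one h hQ'bot hQ'lt.le)
  have hfin : J.minimalPrimes.Finite := Ideal.finite_minimalPrimes_of_isNoetherianRing D J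
  set s : Finset (Ideal D) :=
    insert ⊥ (hfin.toFinset.filter (fun P => P ≠ maximalIdeal D)) with hs
  have hprime : ∀ P ∈ s, P.IsPrime := by
    intro P hP
    rcases Finset.mem_insert.mp hP with rfl | hP
    · exact Ideal.isPrime_bot
    · exact (hfin.mem_toFinset.mp (Finset.mem_filter.mp hP).1).1.1
  have hnot : ¬ ((maximalIdeal D : Set D) ⊆
      ⋃ P ∈ (↑s : Set (Ideal D)), ((P : Ideal D) : Set D)) := by
    intro hsub
    obtain ⟨P, hP, hle⟩ := (Ideal.subset_union_prime (s := s) (f := fun P : Ideal D => P) ⊤ ⊤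
      (fun P hP _ _ => hprime P hP)).mp hsub
    rcases Finset.mem_insert.mp hP with rfl | hP'
    · exact hmbot (le_bot_iff.mp hle)
    · have hPne := (Finset.mem_filter.mp hP').2
      have hPp := hprime P hP
      exact hPne ((maximalIdeal.isMaximal D).eq_of_le hPp.ne_top hle).symm
  obtain ⟨a, ha, hau⟩ := Set.not_subset.mp hnot
  have ha' : ∀ P ∈ s, a ∉ P := fun P hP haP =>
    hau (Set.mem_iUnion₂.mpr ⟨P, Finset.mem_coe.mpr hP, haP⟩)
  have ha0 : a ≠ 0 := fun h =>
    ha' ⊥ (Finset.mem_insert_self _ _) (by rw [h]; exact Ideal.zero_mem _)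
  obtain ⟨Q'', hQ''min, hQ''le⟩ :=
    Ideal.exists_minimalPrimes_le (I := Ideal.span {a}) (J := maximalIdeal D)
      ((Ideal.span_singleton_le_iff_mem _).mpr ha)
  haveI hQ''p : Q''.IsPrime := hQ''min.1.1
  have haQ'' : a ∈ Q'' := hQ''min.1.2 (Ideal.mem_span_singleton_self a)
  have hQ''ht : Q''.height ≤ 1 :=
    Ideal.height_le_one_of_isPrincipal_of_mem_minimalPrimes (Ideal.span {a}) Q'' hQ''min
  refine ⟨Q'', hQ''p, fun h => ha0 ?_, fun hJQ'' => ?_⟩
  · rw [h] at haQ''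
    exact Ideal.mem_bot.mp haQ''
  obtain ⟨P, hPmin, hPle⟩ := Ideal.exists_minimalPrimes_le hJQ''
  haveI hPp : P.IsPrime := hPmin.1.1
  have hPbot : P ≠ ⊥ := fun h => hJ (le_bot_iff.mp (h ▸ hPmin.1.2))
  have hPQ : P = Q'' := eq_of_le_of_height_le_one hQ''ht hPbot hPle
  by_cases hPm : P = maximalIdeal D
  · exact hht (by rw [← hPm, hPQ]; exact hQ''ht)
  · have hPs : P ∈ s :=
      Finset.mem_insert_of_mem (Finset.mem_filter.mpr ⟨hfin.mem_toFinset.mpr hPmin, hPm⟩)
    exact ha' P hPs (hPQ ▸ haQ'')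

/-- **Core lemma.** In a Noetherian local ring `B`, let `I` be an ideal and `q₀` a prime not
containing `I`. Then there is a prime `q ⊇ q₀` not containing `I` such that the maximal ideal is the
only prime containing `q + I`. -/
theorem exists_prime_maximal_not_le {B : Type*} [CommRing B] [IsNoetherianRing B] [IsLocalRing B]
    (I : Ideal B) (q₀ : Ideal B) [hq₀ : q₀.IsPrime] (h₀ : ¬ I ≤ q₀) :
    ∃ q : Ideal B, q.IsPrime ∧ q₀ ≤ q ∧ ¬ I ≤ q ∧
      ∀ q' : Ideal B, q'.IsPrime → q ≤ q' → I ≤ q' → q' = maximalIdeal B := by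
  classical
  let S : Set (Ideal B) := {q | q.IsPrime ∧ q₀ ≤ q ∧ ¬ I ≤ q}
  have hSne : S.Nonempty := ⟨q₀, hq₀, le_rfl, h₀⟩
  obtain ⟨q, ⟨hqp, hq₀q, hIq⟩, hqmax⟩ :=
    set_has_maximal_iff_noetherian.mpr (inferInstance : IsNoetherian B B) S hSne
  refine ⟨q, hqp, hq₀q, hIq, fun q' hq'p hqq' hIq' => ?_⟩
  by_contra hne
  haveI := hqp
  haveI : IsDomain (B ⧸ q) := Ideal.Quotient.isDomain q
  haveI : IsLocalRing (B ⧸ q) :=
    IsLocalRing.of_surjective' (Ideal.Quotient.mk q) Ideal.Quotient.mk_surjective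
  have hker : RingHom.ker (Ideal.Quotient.mk q) = q := Ideal.mk_ker
  have hqle : ∀ Q : Ideal (B ⧸ q), q ≤ Q.comap (Ideal.Quotient.mk q) := by
    intro Q
    conv_lhs => rw [← hker, RingHom.ker_eq_comap_bot]
    exact Ideal.comap_mono bot_le
  have hcm : ∀ P : Ideal B, q ≤ P →
      (P.map (Ideal.Quotient.mk q)).comap (Ideal.Quotient.mk q) = P := by
    intro P hP
    rw [Ideal.comap_map_of_surjective _ Ideal.Quotient.mk_surjective,
      ← RingHom.ker_eq_comap_bot, hker, sup_eq_left]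
    exact hP
  have hJ : I.map (Ideal.Quotient.mk q) ≠ ⊥ := by
    intro h
    rw [Ideal.map_eq_bot_iff_le_ker, hker] at h
    exact hIq h
  haveI hQ'p : (q'.map (Ideal.Quotient.mk q)).IsPrime :=
    Ideal.map_isPrime_of_surjective Ideal.Quotient.mk_surjective (by rw [hker]; exact hqq')
  have hQ'ne : q'.map (Ideal.Quotient.mk q) ≠ maximalIdeal (B ⧸ q) := by
    intro h
    apply hne
    have h1 := hcm q' hqq'
    rw [h] at h1
    rw [← h1]
    haveI : ((maximalIdeal (B ⧸ q)).comap (Ideal.Quotient.mk q)).IsMaximal :=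
      Ideal.comap_isMaximal_of_surjective _ Ideal.Quotient.mk_surjective
    exact IsLocalRing.eq_maximalIdeal this
  obtain ⟨Q'', hQ''p, hQ''bot, hJQ''⟩ :=
    exists_prime_ne_bot_not_le (I.map (Ideal.Quotient.mk q)) hJ
      (q'.map (Ideal.Quotient.mk q)) (Ideal.map_mono hIq') hQ'ne
  haveI := hQ''p
  have hmem : Q''.comap (Ideal.Quotient.mk q) ∈ S :=
    ⟨Ideal.comap_isPrime _ _, hq₀q.trans (hqle Q''),
      fun h => hJQ'' (Ideal.map_le_iff_le_comap.mpr h)⟩
  apply hqmax _ hmem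
  refine lt_of_le_of_ne (hqle Q'') ?_
  intro h
  apply hQ''bot
  apply Ideal.comap_injective_of_surjective (Ideal.Quotient.mk q) Ideal.Quotient.mk_surjective
  rw [← h, ← RingHom.ker_eq_comap_bot, hker]

end Groth.Agent.H7
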