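import Mathlib
import Groth.Agent.H7.DimOnePrime

/-!
# Quasi-sections through a point (helper7)

Scheme-level consequences of `exists_prime_maximal_not_le`: for `f : X ⟶ Y` locally of finite type
over a locally Noetherian base, a point `x` closed in its fibre and a generization `ξ` of `x` with
`f ξ ≠ f x`, there is `x₁` with `ξ ⤳ x₁ ⤳ x`, `f x₁ ≠ f x`, such that the closure of `x₁`
(reduced structure) is quasi-finite over `Y` at `x`.
-/

set_option autoImplicit false
set_option linter.style.haveILetI false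
universe u

namespace Groth.Agent.H7

open AlgebraicGeometry CategoryTheory TopologicalSpace IsLocalRing

section Topology

theorem isClosed_singleton_of_forall_specializes {S : Type*} [TopologicalSpace S] {a : S}
    (h : ∀ b, a ⤳ b → b = a) : IsClosed ({a} : Set S) := by
  rw [← closure_subset_iff_isClosed]
  intro b hb
  exact h b (specializes_iff_mem_closure.mpr hb)

theorem eq_of_specializes_of_isClosed_singleton {S : Type*} [TopologicalSpace S] {a : S}
    (h : IsClosed ({a} : Set S)) (b : S) (hb : a ⤳ b) : b = a := by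
  have h1 : b ∈ closure ({a} : Set S) := specializes_iff_mem_closure.mp hb
  rw [h.closure_eq] at h1
  exact h1

theorem irreducibleSpace_of_forall_specializes {S : Type*} [TopologicalSpace S] (s₀ : S)
    (h : ∀ s, s₀ ⤳ s) : IrreducibleSpace S := by
  have hcl : closure ({s₀} : Set S) = Set.univ :=
    Set.eq_univ_of_forall fun s => specializes_iff_mem_closure.mp (h s)
  have h1 : IsIrreducible (closure ({s₀} : Set S)) := isIrreducible_singleton.closure
  rw [hcl] at h1
  exact (irreducibleSpace_def S).mpr h1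

/-- In a Noetherian quasi-sober space, a closed point without proper generizations is open. -/
theorem isOpen_singleton_of_noetherianSpace {S : Type*} [TopologicalSpace S] [NoetherianSpace S]
    [QuasiSober S] (a : S) (hcl : IsClosed ({a} : Set S)) (hgen : ∀ b : S, b ⤳ a → b = a) :
    IsOpen ({a} : Set S) := by
  classical
  have hfin : (irreducibleComponents S).Finite := NoetherianSpace.finite_irreducibleComponents
  set W : Set S := ⋃ C ∈ {C ∈ irreducibleComponents S | a ∉ C}, C with hW
  have hWcl : IsClosed W :=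
    (hfin.subset (fun C hC => hC.1)).isClosed_biUnion
      (fun C hC => isClosed_of_mem_irreducibleComponents C hC.1)
  have haW : a ∉ W := by
    intro h
    obtain ⟨C, hC, haC⟩ := Set.mem_iUnion₂.mp h
    exact hC.2 haC
  have hsub : Wᶜ ⊆ {a} := by
    intro b hb
    by_contra hba
    have hC := irreducibleComponent_mem_irreducibleComponents b
    have hbC : b ∈ irreducibleComponent b := mem_irreducibleComponent
    have haC : a ∈ irreducibleComponent b := by
      by_contra haC
      exact hb (Set.mem_iUnion₂.mpr ⟨_, ⟨hC, haC⟩, hbC⟩)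
    obtain ⟨c, hc⟩ := QuasiSober.sober (isIrreducible_irreducibleComponent (x := b))
      isClosed_irreducibleComponent
    have hca : c ⤳ a := by
      rw [specializes_iff_mem_closure, hc.def]
      exact haC
    have hca' : c = a := hgen c hca
    have h2 : irreducibleComponent b = {a} := by
      rw [← hc.def, hca']
      exact hcl.closure_eq
    rw [h2] at hbC
    exact hba hbC
  have h3 : ({a} : Set S) = Wᶜ :=
    Set.Subset.antisymm (Set.singleton_subset_iff.mpr haW) hsub
  rw [h3]
  exact hWcl.isOpen_compl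

end Topology

/-- In a locally Noetherian scheme, a closed point without proper generizations is open. -/
theorem isOpen_singleton_of_isLocallyNoetherian {F : Scheme.{u}} [IsLocallyNoetherian F] (a : F)
    (hcl : IsClosed ({a} : Set F)) (hgen : ∀ b : F, b ⤳ a → b = a) : IsOpen ({a} : Set F) := by
  obtain ⟨U, hU, haU, -⟩ := exists_isAffineOpen_mem_and_subset (X := F) (x := a) (U := ⊤) trivial
  haveI : IsNoetherianRing Γ(F, U) := IsLocallyNoetherian.component_noetherian ⟨U, hU⟩
  haveI : NoetherianSpace U := noetherianSpace_of_isAffineOpen U hU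
  obtain ⟨a', rfl⟩ : a ∈ Set.range U.ι := by
    rw [Scheme.Opens.range_ι]
    exact haU
  have h1 : IsOpen ({a'} : Set U.toScheme) := by
    apply isOpen_singleton_of_noetherianSpace
    · have h2 : ({a'} : Set U.toScheme) = U.ι ⁻¹' {U.ι a'} := by
        ext b
        constructor
        · intro h
          rw [Set.mem_singleton_iff] at h
          rw [h]
          exact rfl
        · intro h
          exact U.ι.isOpenEmbedding.injective h
      rw [h2]
      exact hcl.preimage U.ι.continuous
    · intro b hb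
      exact U.ι.isOpenEmbedding.injective (hgen _ (hb.map U.ι.continuous))
  have h4 := U.ι.isOpenEmbedding.isOpenMap _ h1
  rwa [Set.image_singleton] at h4

theorem isReduced_vanishingIdeal_subscheme {X : Scheme.{u}} (C : TopologicalSpace.Closeds X) :
    IsReduced (Scheme.IdealSheafData.vanishingIdeal C).subscheme := by
  have : ∀ U, IsReduced
      ((Scheme.IdealSheafData.vanishingIdeal C).subschemeCover.openCover.X U) := by
    intro U
    show IsReduced (Spec (CommRingCat.of
      (Γ(X, U.1) ⧸ (Scheme.IdealSheafData.vanishingIdeal C).ideal U)))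
    have hrad : ((Scheme.IdealSheafData.vanishingIdeal C).ideal U).IsRadical := by
      rw [Scheme.IdealSheafData.vanishingIdeal_ideal]
      exact PrimeSpectrum.isRadical_vanishingIdeal _
    have : _root_.IsReduced (Γ(X, U.1) ⧸ (Scheme.IdealSheafData.vanishingIdeal C).ideal U) :=
      (Ideal.isRadical_iff_quotient_reduced _).mp hrad
    infer_instance
  exact IsReduced.of_openCover _ (Scheme.IdealSheafData.vanishingIdeal C).subschemeCover.openCover

theorem map_fromSpecStalk_eq_iff' {X Y : Scheme.{u}} (f : X ⟶ Y) (x : X)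
    (t : Spec (X.presheaf.stalk x)) :
    f (X.fromSpecStalk x t) = f x ↔
      Ideal.comap (f.stalkMap x).hom t.asIdeal = maximalIdeal (Y.presheaf.stalk (f x)) := by
  have hcomm := congrArg (fun φ : Spec (X.presheaf.stalk x) ⟶ Y => φ t)
    (Scheme.SpecMap_stalkMap_fromSpecStalk (f := f) (x := x))
  simp only [Scheme.Hom.comp_apply] at hcomm
  rw [← hcomm]
  constructor
  · intro h
    have h2 : Y.fromSpecStalk (f x) (Spec.map (f.stalkMap x) t) =
        Y.fromSpecStalk (f x) (closedPoint _) := h.trans Scheme.fromSpecStalk_closedPoint.symm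
    have h3 := (Y.fromSpecStalk (f x)).isEmbedding.injective h2
    exact congrArg PrimeSpectrum.asIdeal h3
  · intro h
    have h3 : Spec.map (f.stalkMap x) t = closedPoint _ := PrimeSpectrum.ext h
    rw [h3]
    exact Scheme.fromSpecStalk_closedPoint

/-- A generization `ξ` of `x` outside the fibre through `x` can be specialized to a point `x₁`
still outside that fibre, such that `x` is the only point of the fibre between `x₁` and `x`. -/
theorem exists_specialization_maximal {X Y : Scheme.{u}} (f : X ⟶ Y) (x ξ : X) (hξx : ξ ⤳ x)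
    [IsNoetherianRing (X.presheaf.stalk x)] (hne : f ξ ≠ f x) :
    ∃ x₁ : X, ξ ⤳ x₁ ∧ x₁ ⤳ x ∧ f x₁ ≠ f x ∧
      ∀ z : X, x₁ ⤳ z → z ⤳ x → f z = f x → z = x := by
  obtain ⟨q₀, hq₀⟩ : ξ ∈ Set.range (X.fromSpecStalk x) := by
    rw [Scheme.range_fromSpecStalk]
    exact hξx
  have key : ∀ t : Spec (X.presheaf.stalk x), f (X.fromSpecStalk x t) = f x ↔
      (maximalIdeal (Y.presheaf.stalk (f x))).map (f.stalkMap x).hom ≤ t.asIdeal := by
    intro t
    rw [map_fromSpecStalk_eq_iff', Ideal.map_le_iff_le_comap]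
    constructor
    · intro h
      exact h.ge
    · intro h
      exact ((maximalIdeal.isMaximal _).eq_of_le (Ideal.comap_ne_top _ t.isPrime.ne_top) h).symm
  have h₀ : ¬ (maximalIdeal (Y.presheaf.stalk (f x))).map (f.stalkMap x).hom ≤ q₀.asIdeal :=
    fun h => hne (by rw [← hq₀]; exact (key q₀).mpr h)
  haveI := q₀.isPrime
  obtain ⟨q, hqp, hq₀q, hIq, hmax⟩ := exists_prime_maximal_not_le _ q₀.asIdeal h₀
  let qpt : Spec (X.presheaf.stalk x) := ⟨q, hqp⟩
  refine ⟨X.fromSpecStalk x qpt, ?_, ?_, ?_, ?_⟩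
  · rw [← hq₀]
    have h1 : q₀ ⤳ qpt := (PrimeSpectrum.le_iff_specializes q₀ qpt).mp hq₀q
    exact h1.map (X.fromSpecStalk x).continuous
  · have h1 : X.fromSpecStalk x qpt ∈ Set.range (X.fromSpecStalk x) := ⟨qpt, rfl⟩
    rw [Scheme.range_fromSpecStalk] at h1
    exact h1
  · intro h
    exact hIq ((key qpt).mp h)
  · intro z hz1 hz2 hfz
    obtain ⟨t, rfl⟩ : z ∈ Set.range (X.fromSpecStalk x) := by
      rw [Scheme.range_fromSpecStalk]
      exact hz2
    have h2 : qpt ⤳ t := (X.fromSpecStalk x).isEmbedding.isInducing.specializes_iff.mp hz1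
    have h3 : q ≤ t.asIdeal := (PrimeSpectrum.le_iff_specializes qpt t).mpr h2
    have h4 := hmax t.asIdeal t.isPrime h3 ((key t).mp hfz)
    have h5 : t = closedPoint _ := PrimeSpectrum.ext h4
    rw [h5]
    exact Scheme.fromSpecStalk_closedPoint

/-- If the local ring at `y` has dimension `≤ 1`, a proper generization `y₁` of `y` which is a
specialization of `η` equals `η`. -/
theorem eq_of_specializes_of_ringKrullDim_le_one {Y : Scheme.{u}} (y η y₁ : Y)
    (hdim : ringKrullDim (Y.presheaf.stalk y) ≤ 1) (h1 : η ⤳ y₁) (h2 : y₁ ⤳ y) (hne : y₁ ≠ y) :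
    y₁ = η := by
  obtain ⟨p₁, rfl⟩ : y₁ ∈ Set.range (Y.fromSpecStalk y) := by
    rw [Scheme.range_fromSpecStalk]
    exact h2
  obtain ⟨pη, rfl⟩ : η ∈ Set.range (Y.fromSpecStalk y) := by
    rw [Scheme.range_fromSpecStalk]
    exact h1.trans h2
  have h3 : pη ⤳ p₁ := (Y.fromSpecStalk y).isEmbedding.isInducing.specializes_iff.mp h1
  have hle : pη.asIdeal ≤ p₁.asIdeal := (PrimeSpectrum.le_iff_specializes pη p₁).mpr h3
  have hK : Ring.KrullDimLE 1 (Y.presheaf.stalk y) :=
    Ring.krullDimLE_iff.mpr (by exact_mod_cast hdim)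
  rcases Ring.krullDimLE_one_iff.mp hK p₁.asIdeal p₁.isPrime with hmin | hmax
  · have h4 : p₁.asIdeal ≤ pη.asIdeal := hmin.2 ⟨pη.isPrime, bot_le⟩ hle
    have h5 : p₁ = pη := PrimeSpectrum.ext (le_antisymm h4 hle)
    rw [h5]
  · exfalso
    apply hne
    have h5 : p₁ = closedPoint _ := PrimeSpectrum.ext (IsLocalRing.eq_maximalIdeal hmax)
    rw [h5]
    exact Scheme.fromSpecStalk_closedPoint

/-- Combination of the two previous lemmas: over a base whose local ring at `f x` has dimension
`≤ 1` and with `f ξ` a generic point of `Y`. -/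
theorem exists_generic_fibre_point {X Y : Scheme.{u}} (f : X ⟶ Y) (x ξ : X) (hξx : ξ ⤳ x)
    [IsNoetherianRing (X.presheaf.stalk x)]
    (hdim : ringKrullDim (Y.presheaf.stalk (f x)) ≤ 1) :
    ∃ x₁ : X, ξ ⤳ x₁ ∧ x₁ ⤳ x ∧ f x₁ = f ξ ∧
      ∀ z : X, x₁ ⤳ z → z ⤳ x → f z = f x → z = x := by
  by_cases h : f ξ = f x
  · exact ⟨x, hξx, specializes_rfl, h.symm, fun z hz1 hz2 _ => (hz2.antisymm hz1).eq⟩
  · obtain ⟨x₁, h1, h2, h3, h4⟩ := exists_specialization_maximal f x ξ hξx h
    exact ⟨x₁, h1, h2, eq_of_specializes_of_ringKrullDim_le_one (f x) (f ξ) (f x₁) hdim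
      (h1.map f.continuous) (h2.map f.continuous) h3, h4⟩

set_option backward.isDefEq.respectTransparency false in
/-- The closure of `x₁` (any closed subscheme structure) is quasi-finite over `Y` at a point `x`
closed in its fibre such that no other point of the fibre lies between `x₁` and `x`. -/
theorem quasiFiniteAt_of_closure {X Y Z : Scheme.{u}} [IsLocallyNoetherian Y] (f : X ⟶ Y)
    [LocallyOfFiniteType f] (ι : Z ⟶ X) [IsClosedImmersion ι] (x₁ : X) (zx : Z)
    (hrange : Set.range ι = closure {x₁})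
    (hclosed : ∀ x' : X, f x' = f (ι zx) → ι zx ⤳ x' → x' = ι zx)
    (hgen : ∀ z : X, x₁ ⤳ z → z ⤳ ι zx → f z = f (ι zx) → z = ι zx) :
    (ι ≫ f).QuasiFiniteAt zx := by
  rw [Scheme.Hom.quasiFiniteAt_iff_isOpen_singleton_asFiber]
  haveI : IsLocallyNoetherian ((ι ≫ f).fiber ((ι ≫ f) zx)) :=
    inferInstanceAs (IsLocallyNoetherian
      (Limits.pullback (ι ≫ f) (Y.fromSpecResidueField ((ι ≫ f) zx))))
  have hgz : ∀ b : (ι ≫ f).fiber ((ι ≫ f) zx),
      f (ι ((ι ≫ f).fiberι ((ι ≫ f) zx) b)) = f (ι zx) := by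
    intro b
    have h1 : (ι ≫ f).fiberι ((ι ≫ f) zx) b ∈ (ι ≫ f) ⁻¹' {(ι ≫ f) zx} := by
      rw [← Scheme.Hom.range_fiberι]
      exact ⟨b, rfl⟩
    exact h1
  have hinj : ∀ b : (ι ≫ f).fiber ((ι ≫ f) zx),
      ι ((ι ≫ f).fiberι ((ι ≫ f) zx) b) = ι zx → b = (ι ≫ f).asFiber zx := by
    intro b hb
    apply ((ι ≫ f).fiberι ((ι ≫ f) zx)).isEmbedding.injective
    rw [Scheme.Hom.fiberι_asFiber]
    exact ι.isClosedEmbedding.injective hb
  apply isOpen_singleton_of_isLocallyNoetherian
  · apply isClosed_singleton_of_forall_specializes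
    intro b hb
    apply hinj
    apply hclosed _ (hgz b)
    have h1 := hb.map ((ι ≫ f).fiberι ((ι ≫ f) zx)).continuous
    rw [Scheme.Hom.fiberι_asFiber] at h1
    exact h1.map ι.continuous
  · intro b hb
    apply hinj
    have h1 := hb.map ((ι ≫ f).fiberι ((ι ≫ f) zx)).continuous
    rw [Scheme.Hom.fiberι_asFiber] at h1
    have h2 : ι ((ι ≫ f).fiberι ((ι ≫ f) zx) b) ⤳ ι zx := h1.map ι.continuous
    refine hgen _ ?_ h2 (hgz b)
    rw [specializes_iff_mem_closure, ← hrange]
    exact ⟨_, rfl⟩

set_option backward.isDefEq.respectTransparency false in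
/-- **Quasi-sections.** With `x₁ ⤳ x` as in `exists_specialization_maximal` and `x` closed in its
fibre, an affine open piece `T` of the closure of `x₁` (reduced structure) containing `x` and `x₁`
is quasi-finite over `Y`; moreover `x₁` is closed in its fibre. -/
theorem exists_quasiFinite_immersion {X Y : Scheme.{u}} [IsLocallyNoetherian Y] (f : X ⟶ Y)
    [LocallyOfFiniteType f] (x₁ x : X) (hx₁x : x₁ ⤳ x)
    (hclosed : ∀ x' : X, f x' = f x → x ⤳ x' → x' = x)
    (hgen : ∀ z : X, x₁ ⤳ z → z ⤳ x → f z = f x → z = x) :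
    (∃ (T : Scheme.{u}) (i : T ⟶ X), IsImmersion i ∧ IrreducibleSpace ↥T ∧ IsReduced T ∧
      x ∈ Set.range i ∧ x₁ ∈ Set.range i ∧ Set.range i ⊆ closure {x₁} ∧
      LocallyQuasiFinite (i ≫ f) ∧ CompactSpace ↥T) ∧
    (∀ z : X, f z = f x₁ → x₁ ⤳ z → z = x₁) := by
  obtain ⟨I, hI⟩ : ∃ I : X.IdealSheafData,
      I = Scheme.IdealSheafData.vanishingIdeal ⟨closure {x₁}, isClosed_closure⟩ := ⟨_, rfl⟩
  haveI : IsReduced I.subscheme := hI ▸ isReduced_vanishingIdeal_subscheme _
  have hrange : Set.range I.subschemeι = closure {x₁} := by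
    rw [Scheme.IdealSheafData.range_subschemeι, hI,
      Scheme.IdealSheafData.coe_support_vanishingIdeal]
    rfl
  obtain ⟨zx, hzx⟩ : x ∈ Set.range I.subschemeι := by
    rw [hrange]
    exact specializes_iff_mem_closure.mp hx₁x
  obtain ⟨z₁, hz₁⟩ : x₁ ∈ Set.range I.subschemeι := by
    rw [hrange]
    exact subset_closure rfl
  subst hzx
  have hspec : ∀ t : I.subscheme, z₁ ⤳ t := by
    intro t
    rw [← I.subschemeι.isEmbedding.isInducing.specializes_iff, hz₁, specializes_iff_mem_closure,
      ← hrange]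
    exact ⟨t, rfl⟩
  have hqf : (I.subschemeι ≫ f).QuasiFiniteAt zx :=
    quasiFiniteAt_of_closure f I.subschemeι x₁ zx hrange hclosed hgen
  obtain ⟨T, hT, hzxT, hTW⟩ := exists_isAffineOpen_mem_and_subset (X := I.subscheme) (x := zx)
    (U := (I.subschemeι ≫ f).quasiFiniteLocus) hqf
  have hz₁T : z₁ ∈ T := (hspec zx).mem_open T.isOpen hzxT
  constructor
  · refine ⟨T.toScheme, T.ι ≫ I.subschemeι, inferInstance, ?_, inferInstance, ?_, ?_, ?_, ?_, ?_⟩
    · refine irreducibleSpace_of_forall_specializes (⟨z₁, hz₁T⟩ : T) fun t => ?_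
      rw [← Topology.IsInducing.subtypeVal.specializes_iff]
      exact hspec t.1
    · exact ⟨⟨zx, hzxT⟩, rfl⟩
    · exact ⟨⟨z₁, hz₁T⟩, hz₁⟩
    · rintro _ ⟨t, rfl⟩
      rw [← hrange]
      exact ⟨T.ι t, rfl⟩
    · rw [Category.assoc, ← Scheme.Hom.quasiFiniteLocus_eq_top_iff,
        Scheme.Hom.quasiFiniteLocus_comp]
      ext t
      simpa using hTW t.2
    · exact isCompact_iff_compactSpace.mp hT.isCompact
  · intro z hfz hz
    have hz₁W : (I.subschemeι ≫ f).QuasiFiniteAt z₁ := hTW hz₁T
    have hcl : IsClosed {(I.subschemeι ≫ f).asFiber z₁} :=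
      hz₁W.isClopen_singleton_asFiber.1
    obtain ⟨z', rfl⟩ : z ∈ Set.range I.subschemeι := by
      rw [hrange]
      exact specializes_iff_mem_closure.mp hz
    have hgz' : (I.subschemeι ≫ f) z' = (I.subschemeι ≫ f) z₁ := by
      show f (I.subschemeι z') = f (I.subschemeι z₁)
      rw [hz₁]
      exact hfz
    obtain ⟨b, rfl⟩ : z' ∈ Set.range ((I.subschemeι ≫ f).fiberι ((I.subschemeι ≫ f) z₁)) := by
      rw [Scheme.Hom.range_fiberι]
      exact hgz'
    have h1 : (I.subschemeι ≫ f).asFiber z₁ ⤳ b := by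
      rw [← ((I.subschemeι ≫ f).fiberι
        ((I.subschemeι ≫ f) z₁)).isEmbedding.isInducing.specializes_iff,
        Scheme.Hom.fiberι_asFiber]
      exact hspec _
    have h2 := eq_of_specializes_of_isClosed_singleton hcl b h1
    rw [h2, Scheme.Hom.fiberι_asFiber, hz₁]

end Groth.Agent.H7
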