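import Mathlib
import Groth.Agent.H7.QuasiSection
import Groth.Agent.S4943
import Groth.Agent.H9.FiberStalk

/-!
# Quasi-sections of an equidimensional morphism (EGA IV 14.5.x) (helper7)
-/

set_option autoImplicit false
set_option linter.style.haveILetI false
universe u

namespace Groth.Agent.H7

open AlgebraicGeometry CategoryTheory TopologicalSpace IsLocalRing

/-- In a Noetherian local ring `B` with an ideal `I` such that `dim B/I ≤ d`, there is a prime `q` of
height `≤ d` such that the maximal ideal is the only prime containing `q + I`. -/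
theorem exists_prime_height_le_of_quotient_dim {B : Type*} [CommRing B] [IsNoetherianRing B]
    [IsLocalRing B] (I : Ideal B) (hI : I ≤ maximalIdeal B) (d : ℕ)
    (hd : ringKrullDim (B ⧸ I) ≤ d) :
    ∃ q : Ideal B, q.IsPrime ∧ q.height ≤ d ∧
      ∀ Q : Ideal B, Q.IsPrime → q ≤ Q → I ≤ Q → Q = maximalIdeal B := by
  classical
  have hIne : I ≠ ⊤ := fun h => (maximalIdeal.isMaximal B).ne_top (top_le_iff.mp (h ▸ hI))
  haveI : Nontrivial (B ⧸ I) := Ideal.Quotient.nontrivial_iff.mpr hIne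
  haveI : IsLocalRing (B ⧸ I) :=
    IsLocalRing.of_surjective' (Ideal.Quotient.mk I) Ideal.Quotient.mk_surjective
  have hπs : Function.Surjective (Ideal.Quotient.mk I) := Ideal.Quotient.mk_surjective
  have hker : RingHom.ker (Ideal.Quotient.mk I) = I := Ideal.mk_ker
  have hcomap : (maximalIdeal (B ⧸ I)).comap (Ideal.Quotient.mk I) = maximalIdeal B := by
    haveI : ((maximalIdeal (B ⧸ I)).comap (Ideal.Quotient.mk I)).IsMaximal :=
      Ideal.comap_isMaximal_of_surjective _ hπs
    exact IsLocalRing.eq_maximalIdeal this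
  obtain ⟨sbar, hsmin, hscard⟩ :=
    Ideal.exists_finset_card_eq_height_of_isNoetherianRing (maximalIdeal (B ⧸ I))
  have hht : (maximalIdeal (B ⧸ I)).height ≤ d := by
    have h1 := IsLocalRing.maximalIdeal_height_eq_ringKrullDim (R := B ⧸ I)
    have h2 : ((maximalIdeal (B ⧸ I)).height : WithBot ℕ∞) ≤ ((d : ℕ∞) : WithBot ℕ∞) := by
      rw [h1]
      exact hd
    exact WithBot.coe_le_coe.mp h2
  set s : Finset B := sbar.image (Function.surjInv hπs) with hs
  have hs_map : ∀ b ∈ s, Ideal.Quotient.mk I b ∈ sbar := by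
    intro b hb
    obtain ⟨c, hc, rfl⟩ := Finset.mem_image.mp hb
    rw [Function.surjInv_eq hπs]
    exact hc
  have hs_surj : ∀ c ∈ sbar, ∃ b ∈ s, Ideal.Quotient.mk I b = c := fun c hc =>
    ⟨Function.surjInv hπs c, Finset.mem_image_of_mem _ hc, Function.surjInv_eq hπs c⟩
  have hsle : Ideal.span (s : Set B) ≤ maximalIdeal B := by
    rw [Ideal.span_le]
    intro b hb
    rw [← hcomap]
    show Ideal.Quotient.mk I b ∈ maximalIdeal (B ⧸ I)
    exact hsmin.1.2 (Ideal.subset_span (hs_map b hb))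
  obtain ⟨q, hqmin, hqle⟩ := Ideal.exists_minimalPrimes_le hsle
  haveI hqp : q.IsPrime := hqmin.1.1
  refine ⟨q, hqp, ?_, ?_⟩
  · calc q.height ≤ s.card := Ideal.height_le_card_of_mem_minimalPrimes_span_finset hqmin
      _ ≤ sbar.card := by exact_mod_cast Finset.card_image_le
      _ = (maximalIdeal (B ⧸ I)).height := hscard
      _ ≤ d := hht
  · intro Q hQp hqQ hIQ
    haveI := hQp
    haveI hQbar : (Q.map (Ideal.Quotient.mk I)).IsPrime :=
      Ideal.map_isPrime_of_surjective hπs (by rw [hker]; exact hIQ)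
    have h1 : Ideal.span (sbar : Set (B ⧸ I)) ≤ Q.map (Ideal.Quotient.mk I) := by
      rw [Ideal.span_le]
      intro c hc
      obtain ⟨b, hb, rfl⟩ := hs_surj c hc
      exact Ideal.mem_map_of_mem _ (hqQ (hqmin.1.2 (Ideal.subset_span hb)))
    have h2 : maximalIdeal (B ⧸ I) ≤ Q.map (Ideal.Quotient.mk I) :=
      hsmin.2 ⟨hQbar, h1⟩ (le_maximalIdeal hQbar.ne_top)
    have h3 : Q.map (Ideal.Quotient.mk I) = maximalIdeal (B ⧸ I) :=
      le_antisymm (le_maximalIdeal hQbar.ne_top) h2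
    have h4 : (Q.map (Ideal.Quotient.mk I)).comap (Ideal.Quotient.mk I) = Q := by
      rw [Ideal.comap_map_of_surjective _ hπs, ← RingHom.ker_eq_comap_bot, hker, sup_eq_left]
      exact hIQ
    rw [← h4, h3, hcomap]

/-- The local ring at a generization `fromSpecStalk x q` of `x` has dimension at most `ht q`. -/
theorem ringKrullDim_stalk_fromSpecStalk_le {X : Scheme.{u}} (x : X)
    (q : Spec (X.presheaf.stalk x)) :
    ringKrullDim (X.presheaf.stalk (X.fromSpecStalk x q)) ≤ q.asIdeal.height := by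
  rw [ringKrullDim_stalk_eq_coheight, idealHeight_eq_coheight, Order.coheight_eq_krullDim_Ici,
    Order.coheight_eq_krullDim_Ici]
  have hj := (X.fromSpecStalk x).isEmbedding.isInducing
  have hex : ∀ a : Set.Ici (X.fromSpecStalk x q),
      ∃ p : Spec (X.presheaf.stalk x), X.fromSpecStalk x p = a.1 := by
    intro a
    have h1 : a.1 ⤳ X.fromSpecStalk x q := Scheme.le_iff_specializes.mp a.2
    have h2 : X.fromSpecStalk x q ⤳ x := by
      have h3 : X.fromSpecStalk x q ∈ Set.range (X.fromSpecStalk x) := ⟨q, rfl⟩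
      rwa [Scheme.range_fromSpecStalk] at h3
    have h4 : a.1 ∈ Set.range (X.fromSpecStalk x) := by
      rw [Scheme.range_fromSpecStalk]
      exact h1.trans h2
    exact h4
  choose pr hpr using hex
  have hle : ∀ a b : Set.Ici (X.fromSpecStalk x q), a ≤ b ↔ pr a ≤ pr b := by
    intro a b
    rw [← Subtype.coe_le_coe, Scheme.le_iff_specializes, Scheme.le_iff_specializes,
      ← hj.specializes_iff, hpr, hpr]
  have hmem : ∀ a, q ≤ pr a := by
    intro a
    rw [Scheme.le_iff_specializes, ← hj.specializes_iff, hpr]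
    exact Scheme.le_iff_specializes.mp a.2
  let Φ : Set.Ici (X.fromSpecStalk x q) → Set.Ici q := fun a => ⟨pr a, hmem a⟩
  have hΦ : StrictMono Φ := by
    intro a b hab
    rw [lt_iff_le_not_ge] at hab ⊢
    exact ⟨(hle a b).mp hab.1, fun h => hab.2 ((hle b a).mpr h)⟩
  exact Order.krullDim_le_of_strictMono Φ hΦ

theorem eq_of_specializes_of_prime {X Y : Scheme.{u}} (f : X ⟶ Y) (x : X)
    (q : Spec (X.presheaf.stalk x))
    (hmax : ∀ Q : Ideal (X.presheaf.stalk x), Q.IsPrime → q.asIdeal ≤ Q →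
      (maximalIdeal (Y.presheaf.stalk (f x))).map (f.stalkMap x).hom ≤ Q →
        Q = maximalIdeal (X.presheaf.stalk x)) :
    ∀ z : X, X.fromSpecStalk x q ⤳ z → z ⤳ x → f z = f x → z = x := by
  intro z hz1 hz2 hfz
  obtain ⟨t, rfl⟩ : z ∈ Set.range (X.fromSpecStalk x) := by
    rw [Scheme.range_fromSpecStalk]
    exact hz2
  have h2 : q ⤳ t := (X.fromSpecStalk x).isEmbedding.isInducing.specializes_iff.mp hz1
  have h3 : q.asIdeal ≤ t.asIdeal := (PrimeSpectrum.le_iff_specializes q t).mpr h2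
  have h4 : (maximalIdeal (Y.presheaf.stalk (f x))).map (f.stalkMap x).hom ≤ t.asIdeal := by
    rw [Ideal.map_le_iff_le_comap]
    exact ((map_fromSpecStalk_eq_iff' f x t).mp hfz).ge
  have h5 : t = closedPoint _ := PrimeSpectrum.ext (hmax t.asIdeal t.isPrime h3 h4)
  rw [h5]
  exact Scheme.fromSpecStalk_closedPoint

theorem topologicalKrullDim_le_zero_of_subsingleton (T : Type*) [TopologicalSpace T]
    [Subsingleton T] : topologicalKrullDim T ≤ 0 := by
  haveI : Subsingleton (TopologicalSpace.IrreducibleCloseds T) := by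
    refine ⟨fun C₁ C₂ => ?_⟩
    apply TopologicalSpace.IrreducibleCloseds.ext
    ext t
    obtain ⟨t₁, ht₁⟩ := C₁.isIrreducible.nonempty
    obtain ⟨t₂, ht₂⟩ := C₂.isIrreducible.nonempty
    constructor
    · intro _
      rw [Subsingleton.elim t t₂]
      exact ht₂
    · intro _
      rw [Subsingleton.elim t t₁]
      exact ht₁
  exact Order.krullDim_nonpos_of_subsingleton

set_option backward.isDefEq.respectTransparency false in
theorem fibreDimAt_le_zero_of_quasiFiniteAt {Z Y : Scheme.{u}} (g : Z ⟶ Y)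
    [LocallyOfFiniteType g] (w : Z) (h : g.QuasiFiniteAt w) : FlatMor.fibreDimAt g w ≤ 0 := by
  rw [Scheme.Hom.quasiFiniteAt_iff_isOpen_singleton_asFiber] at h
  unfold FlatMor.fibreDimAt
  refine (Groth.Agent.H9.FibDim.localDim_le_of_mem _ _ ⟨{g.asFiber w}, h⟩ rfl).trans ?_
  show topologicalKrullDim ↥({g.asFiber w} : Set (g.fiber (g w))) ≤ 0
  haveI : Subsingleton ↥({g.asFiber w} : Set (g.fiber (g w))) :=
    Set.subsingleton_singleton.coe_sort
  exact topologicalKrullDim_le_zero_of_subsingleton _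

set_option backward.isDefEq.respectTransparency false in
/-- Main lemma: a quasi-section through a point `x` closed in its fibre at which `f` is
equidimensional, given a bound `b` on the dimension of the local ring of the fibre at `x`. -/
theorem exists_quasiSection_of_isEquidimAt_aux {X Y : Scheme.{u}} [IrreducibleSpace Y]
    [IsLocallyNoetherian Y] (f : X ⟶ Y) [LocallyOfFiniteType f] (x : X)
    (hf : EGA43.IsEquidimAt f x)
    (hcl : ∀ x' : X, f.base x' = f.base x → x ⤳ x' → x' = x) (b : ℕ)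
    (hb1 : ringKrullDim (X.presheaf.stalk x ⧸
      (maximalIdeal (Y.presheaf.stalk (f.base x))).map (f.stalkMap x).hom) ≤ b)
    (hb2 : (b : WithBot ℕ∞) ≤ FlatMor.fibreDimAt f x) :
    ∃ (T : Scheme.{u}) (i : T ⟶ X), IsImmersion i ∧ IrreducibleSpace ↥T ∧ IsReduced T ∧
      x ∈ Set.range i.base ∧ LocallyOfFiniteType (i ≫ f) ∧ LocallyQuasiFinite (i ≫ f) ∧
      QuasiCompact (i ≫ f) ∧ IsDominant (i ≫ f) := by
  haveI : IsLocallyNoetherian X := LocallyOfFiniteType.isLocallyNoetherian f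
  have hIle : (maximalIdeal (Y.presheaf.stalk (f.base x))).map (f.stalkMap x).hom ≤
      maximalIdeal (X.presheaf.stalk x) := by
    rw [Ideal.map_le_iff_le_comap]
    intro a ha
    exact _root_.map_nonunit (f.stalkMap x).hom a ha
  obtain ⟨q, hqp, hqht, hqmax⟩ := exists_prime_height_le_of_quotient_dim _ hIle b hb1
  obtain ⟨x', hx'def⟩ : ∃ x' : X, x' = X.fromSpecStalk x ⟨q, hqp⟩ := ⟨_, rfl⟩
  have hx'x : x' ⤳ x := by
    have h1 : X.fromSpecStalk x ⟨q, hqp⟩ ∈ Set.range (X.fromSpecStalk x) := ⟨_, rfl⟩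
    rw [Scheme.range_fromSpecStalk] at h1
    rw [hx'def]
    exact h1
  have hgen : ∀ z : X, x' ⤳ z → z ⤳ x → f z = f x → z = x := by
    rw [hx'def]
    exact eq_of_specializes_of_prime f x ⟨q, hqp⟩ hqmax
  have hcodim : ringKrullDim (X.presheaf.stalk x') ≤ b := by
    rw [hx'def]
    refine (ringKrullDim_stalk_fromSpecStalk_le x ⟨q, hqp⟩).trans ?_
    exact_mod_cast hqht
  obtain ⟨I, hI⟩ : ∃ I : X.IdealSheafData,
      I = Scheme.IdealSheafData.vanishingIdeal ⟨closure {x'}, isClosed_closure⟩ := ⟨_, rfl⟩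
  have hrange : Set.range I.subschemeι.base = closure {x'} := by
    rw [Scheme.IdealSheafData.range_subschemeι, hI,
      Scheme.IdealSheafData.coe_support_vanishingIdeal]
    rfl
  have hxX' : x ∈ closure {x'} := specializes_iff_mem_closure.mp hx'x
  obtain ⟨w, hw⟩ : x ∈ Set.range I.subschemeι.base := by
    rw [hrange]
    exact hxX'
  obtain ⟨ξ', hξ'⟩ : x' ∈ Set.range I.subschemeι.base := by
    rw [hrange]
    exact subset_closure rfl
  have hspec : ∀ t : I.subscheme, ξ' ⤳ t := by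
    intro t
    rw [← I.subschemeι.isEmbedding.isInducing.specializes_iff, hξ', specializes_iff_mem_closure,
      ← hrange]
    exact ⟨t, rfl⟩
  have hqf : (I.subschemeι ≫ f).QuasiFiniteAt w := by
    apply quasiFiniteAt_of_closure f I.subschemeι x' w hrange
    · rw [hw]
      exact hcl
    · rw [hw]
      exact hgen
  have hld : FlatMor.localDim ↥(closure {x'} ∩ f.base ⁻¹' {f.base x}) ⟨x, ⟨hxX', rfl⟩⟩ ≤ 0 := by
    rw [Groth.Agent.H9.Equidim.localDim_inter_fibre_eq I.subschemeι I.subschemeι.isEmbedding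
      (closure {x'}) hrange f w x hw hxX']
    exact fibreDimAt_le_zero_of_quasiFiniteAt _ w hqf
  have hdim : FlatMor.localDim ↥(closure {x'} ∩ f.base ⁻¹' {f.base x}) ⟨x, ⟨hxX', rfl⟩⟩ + b ≤
      FlatMor.fibreDimAt f x := by
    calc FlatMor.localDim ↥(closure {x'} ∩ f.base ⁻¹' {f.base x}) ⟨x, ⟨hxX', rfl⟩⟩ + b
        ≤ (0 : WithBot ℕ∞) + b := add_le_add hld le_rfl
      _ = b := zero_add _
      _ ≤ _ := hb2
  obtain ⟨-, -, hequi⟩ := Groth.Agent.S4943.core f x hf I.subschemeι (closure {x'}) hrange x' rfl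
    hxX' b hcodim hdim
  have hE := hequi w hw
  obtain ⟨e₁, U', hwU', -, hB'⟩ :=
    Groth.Agent.H9.Equidim.exists_of_isEquidimAt (I.subschemeι ≫ f) w hE
  have hξ'U' : ξ' ∈ U' := (hspec w).mem_open U'.2 hwU'
  have hfx' : f x' = genericPoint Y := by
    have h1 := hB' ξ' hξ'U' (fun t ht => (ht.antisymm (hspec t)).eq)
    rw [← hξ']
    exact h1
  obtain ⟨⟨T, i, hi1, hi2, hi3, hi4, hi5, hi6, hi7, hi8⟩, -⟩ :=
    exists_quasiFinite_immersion f x' x hx'x hcl hgen
  haveI := hi1
  haveI := hi8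
  refine ⟨T, i, hi1, hi2, hi3, hi4, inferInstance, hi7, inferInstance, ⟨?_⟩⟩
  obtain ⟨t, ht⟩ := hi5
  intro y'
  have h5 : (i ≫ f) t = genericPoint Y := by
    show f (i t) = _
    rw [ht, hfx']
  have h6 : y' ∈ closure {(i ≫ f) t} := by
    rw [h5]
    exact specializes_iff_mem_closure.mp (genericPoint_specializes y')
  exact closure_mono (Set.singleton_subset_iff.mpr (Set.mem_range_self t)) h6

/-- The bound needed in `exists_quasiSection_of_isEquidimAt_aux`, for a point of a fibre. -/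
theorem exists_fibre_stalk_dim_bound {X Y : Scheme.{u}} (f : X ⟶ Y) [LocallyOfFiniteType f]
    (s : Y) (a : f.fiber s) :
    ∃ b : ℕ, ringKrullDim (X.presheaf.stalk ((f.fiberι s).base a) ⧸
        (maximalIdeal (Y.presheaf.stalk (f.base ((f.fiberι s).base a)))).map
          (f.stalkMap ((f.fiberι s).base a)).hom) ≤ b ∧
      (b : WithBot ℕ∞) ≤ FlatMor.fibreDimAt f ((f.fiberι s).base a) := by
  obtain ⟨n, b, -, h2, h3⟩ := Groth.Agent.H9.FibreFormula.fibre_formula_aux f s a
  refine ⟨b, ?_, ?_⟩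
  · rw [ringKrullDim_eq_of_ringEquiv (Groth.Agent.H9.fiberStalkEquiv f s a), h2]
  · rw [← Groth.Agent.H9.FibDim.localDim_fiber, h3]
    exact_mod_cast Nat.le_add_left b n

theorem exists_quasiSection_of_isEquidimAt {X Y : Scheme.{u}} [IrreducibleSpace Y]
    [IsLocallyNoetherian Y] (f : X ⟶ Y) [LocallyOfFiniteType f] (x : X) (hf : EGA43.IsEquidimAt f x)
    (hcl : ∀ x' : X, f.base x' = f.base x → x ⤳ x' → x' = x) :
    ∃ (T : Scheme.{u}) (i : T ⟶ X), IsImmersion i ∧ IrreducibleSpace ↥T ∧ IsReduced T ∧ x ∈ Set.range i.base ∧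
        LocallyOfFiniteType (i ≫ f) ∧ LocallyQuasiFinite (i ≫ f) ∧ QuasiCompact (i ≫ f) ∧ IsDominant (i ≫ f) := by
  obtain ⟨s, hs⟩ : ∃ s : Y, f.base x = s := ⟨_, rfl⟩
  obtain ⟨a, rfl⟩ : x ∈ Set.range (f.fiberι s).base := by
    rw [Scheme.Hom.range_fiberι]
    exact hs
  obtain ⟨b, hb1, hb2⟩ := exists_fibre_stalk_dim_bound f s a
  exact exists_quasiSection_of_isEquidimAt_aux f _ hf hcl b hb1 hb2

end Groth.Agent.H7
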