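import Groth.Agent.H7.EtaleLoc2

set_option autoImplicit false
universe u

namespace Groth.Agent.H7

open AlgebraicGeometry CategoryTheory Limits

variable {X S : Scheme.{u}}

/-- Two elementary étale neighbourhoods of `(S, s)` have a common elementary étale refinement. -/
theorem exists_common_refinement {U₁ U₂ : Scheme.{u}} (g₁ : U₁ ⟶ S) (g₂ : U₂ ⟶ S)
    [Etale g₁] [Etale g₂] (u₁ : U₁) (u₂ : U₂) (s : S) (h₁ : g₁ u₁ = s) (h₂ : g₂ u₂ = s)
    (hr₁ : Function.Bijective (g₁.residueFieldMap u₁))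
    (hr₂ : Function.Bijective (g₂.residueFieldMap u₂)) :
    ∃ (U : Scheme.{u}) (g : U ⟶ S) (u : U) (a : U ⟶ U₁) (b : U ⟶ U₂), Etale g ∧ g u = s ∧
      Function.Bijective (g.residueFieldMap u) ∧ a ≫ g₁ = g ∧ b ≫ g₂ = g ∧ a u = u₁ ∧ b u = u₂ := by
  obtain ⟨z, hz1, hz2⟩ := Scheme.Pullback.exists_preimage_pullback (f := g₁) (g := g₂) u₁ u₂
    (h₁.trans h₂.symm)
  refine ⟨pullback g₁ g₂, pullback.fst g₁ g₂ ≫ g₁, z, pullback.fst g₁ g₂, pullback.snd g₁ g₂,
    inferInstance, ?_, ?_, rfl, pullback.condition.symm, hz1, hz2⟩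
  · rw [Scheme.Hom.comp_apply, hz1, h₁]
  · rw [Scheme.residueFieldMap_comp]
    have hb : Function.Bijective ((pullback.fst g₁ g₂).residueFieldMap z) := by
      apply bijective_residueFieldMap_fst
      rw [hz2]; exact hr₂
    have ha : Function.Bijective (g₁.residueFieldMap (pullback.fst g₁ g₂ z)) := by
      rw [hz1]; exact hr₁
    exact hb.comp ha

/-- Étale localization at finitely many quasi-finite points of a fibre (Stacks 02LL-type). -/
theorem exists_common_etale_nbhd (f : X ⟶ S) [LocallyOfFiniteType f] (s : S) :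
    ∀ (ι : Type) [Finite ι] (x : ι → X) (_ : ∀ i, f (x i) = s) (_ : ∀ i, f.QuasiFiniteAt (x i)),
    ∃ (U : Scheme.{u}) (g : U ⟶ S) (u : U), Etale g ∧ g u = s ∧
      Function.Bijective (g.residueFieldMap u) ∧
      ∃ (V : ι → (pullback f g).Opens) (v : ι → ↑(pullback f g)),
        ∀ i, IsFinitePart g u (x i) (V i) (v i) := by
  intro ι _
  induction ι using Finite.induction_empty_option with
  | of_equiv e ih =>
    intro x hs hx
    obtain ⟨U, g, u, hg, hgu, hres, V, v, hV⟩ := ih (x ∘ e) (fun i => hs _) (fun i => hx _)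
    refine ⟨U, g, u, hg, hgu, hres, V ∘ e.symm, v ∘ e.symm, fun i => ?_⟩
    have := hV (e.symm i)
    simpa using this
  | h_empty =>
    intro x hs hx
    refine ⟨S, 𝟙 S, s, inferInstance, rfl, ?_, fun i => i.elim, fun i => i.elim, fun i => i.elim⟩
    rw [Scheme.residueFieldMap_id]
    exact Function.bijective_id
  | h_option ih =>
    intro x hs hx
    obtain ⟨U₁, g₁, u₁, hg₁, hgu₁, hres₁, V₁, v₁, hV₁⟩ :=
      ih (fun i => x (some i)) (fun i => hs _) (fun i => hx _)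
    obtain ⟨U₂, g₂, u₂, hg₂, hgu₂, hres₂, V₂, v₂, hV₂⟩ :=
      exists_etale_nbhd_of_quasiFiniteAt f (x none) (hx none)
    obtain ⟨U, g, u, a, b, hg, hgu, hres, hag, hbg, hau, hbu⟩ :=
      exists_common_refinement g₁ g₂ u₁ u₂ s hgu₁ (hgu₂.trans (hs none)) hres₁ hres₂
    have h1 : ∀ i, ∃ v', IsFinitePart g u (x (some i))
        ((pullback.map f g f g₁ (𝟙 _) a (𝟙 _) (by simp) (by simp [hag])) ⁻¹ᵁ V₁ i) v' :=
      fun i => (hV₁ i).refine hres₁ g u a hag hau hres ((hs _).trans hgu.symm)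
    have h2 : ∃ v', IsFinitePart g u (x none)
        ((pullback.map f g f g₂ (𝟙 _) b (𝟙 _) (by simp) (by simp [hbg])) ⁻¹ᵁ V₂) v' :=
      (show IsFinitePart g₂ u₂ (x none) V₂ v₂ from hV₂).refine hres₂ g u b hbg hbu hres
        ((hs _).trans hgu.symm)
    choose v₁' hv₁' using h1
    obtain ⟨v₂', hv₂'⟩ := h2
    refine ⟨U, g, u, hg, hgu, hres,
      fun o => o.rec ((pullback.map f g f g₂ (𝟙 _) b (𝟙 _) (by simp) (by simp [hbg])) ⁻¹ᵁ V₂)
        (fun i => (pullback.map f g f g₁ (𝟙 _) a (𝟙 _) (by simp) (by simp [hag])) ⁻¹ᵁ V₁ i),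
      fun o => o.rec v₂' v₁', fun o => ?_⟩
    cases o with
    | none => exact hv₂'
    | some i => exact hv₁' i

end Groth.Agent.H7
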