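import Groth.Agent.H7.WeightingOpen
import Groth.Agent.H7.EtaleLoc3
import Mathlib.AlgebraicGeometry.ZariskisMainTheorem
import Mathlib.FieldTheory.PurelyInseparable.Basic
import Mathlib.RingTheory.RingHom.Finite

set_option autoImplicit false
set_option linter.style.haveILetI false
universe u

namespace Groth.Agent.H7

open AlgebraicGeometry CategoryTheory Limits IsLocalRing Scheme.Pullback

variable {X S V : Scheme.{u}}

/-- Étale morphisms are locally quasi-finite. -/
theorem locallyQuasiFinite_of_etale {X Y : Scheme.{u}} (g : X ⟶ Y) [Etale g] :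
    LocallyQuasiFinite g := by
  rw [HasRingHomProperty.iff_appLE (P := @LocallyQuasiFinite)]
  intro U V e
  have h := HasRingHomProperty.appLE (P := @Etale) g inferInstance U V e
  letI := (g.appLE U V e).hom.toAlgebra
  have h' : Algebra.Etale Γ(Y, U.1) Γ(X, V.1) := h
  show Algebra.QuasiFinite Γ(Y, U.1) Γ(X, V.1)
  infer_instance

/-- Finitely many points of a fibre product lie over a given pair of points, if the residue field
extension of the second factor is finite. -/
theorem finite_setOf_fst_eq_snd_eq (f : X ⟶ S) (g : V ⟶ S) (x : X) (v : V)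
    (hfin : (g.residueFieldMap v).hom.Finite) :
    {z : ↑(pullback f g) | pullback.fst f g z = x ∧ pullback.snd f g z = v}.Finite := by
  by_cases h : f x = g v
  · let T₀ : Triplet f g := Triplet.mk' x v h
    have hb : ((S.residueFieldCongr T₀.hy).inv ≫ g.residueFieldMap T₀.y).hom.Finite := by
      show ((g.residueFieldMap v).hom.comp (S.residueFieldCongr T₀.hy).inv.hom).Finite
      refine hfin.comp (RingHom.Finite.of_surjective _ ?_)
      exact (ConcreteCategory.bijective_of_isIso (S.residueFieldCongr T₀.hy).inv).surjective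
    have hinl : T₀.tensorInl.hom.Finite :=
      RingHom.finite_isStableUnderBaseChange.pushout_inl RingHom.finite_respectsIso _ _ hb
    haveI : Finite ↥(Spec T₀.tensor) := by
      letI := T₀.tensorInl.hom.toAlgebra
      haveI : Module.Finite (X.residueField T₀.x) T₀.tensor := hinl
      haveI : IsArtinianRing T₀.tensor := IsArtinianRing.of_finite (X.residueField T₀.x) T₀.tensor
      exact inferInstanceAs (Finite (PrimeSpectrum T₀.tensor))
    refine (Set.finite_range T₀.SpecTensorTo).subset ?_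
    rintro z ⟨hz1, hz2⟩
    generalize hσ : carrierEquiv z = σ
    obtain ⟨T, p⟩ := σ
    have hT : T = T₀ := by
      have h1 : Triplet.ofPoint z = T := congrArg Sigma.fst hσ
      rw [← h1]
      exact Triplet.ext hz1 hz2
    subst hT
    exact ⟨p, (Equiv.symm_apply_eq _).mpr hσ.symm⟩
  · convert Set.finite_empty
    ext z
    simp only [Set.mem_ofPred_eq, Set.mem_empty_iff_false, iff_false, not_and]
    intro hz1 hz2
    apply h
    have := congrArg (fun φ : pullback f g ⟶ S => φ z) (pullback.condition (f := f) (g := g))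
    rw [← hz1, ← hz2]
    exact this

/-- Quasi-finiteness at a point is stable under base change. -/
theorem quasiFiniteAt_snd (f : X ⟶ S) [LocallyOfFiniteType f] (g : V ⟶ S) (z : ↑(pullback f g))
    (hz : f.QuasiFiniteAt (pullback.fst f g z)) : (pullback.snd f g).QuasiFiniteAt z := by
  let m : pullback (f.quasiFiniteLocus.ι ≫ f) g ⟶ pullback f g :=
    pullback.map (f.quasiFiniteLocus.ι ≫ f) g f g f.quasiFiniteLocus.ι (𝟙 V) (𝟙 S)
      (by simp) (by simp)
  have hmsnd : m ≫ pullback.snd f g = pullback.snd (f.quasiFiniteLocus.ι ≫ f) g :=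
    (pullback.lift_snd _ _ _).trans (Category.comp_id _)
  have hzr : z ∈ Set.range m := by
    rw [Scheme.Pullback.range_map]
    refine ⟨?_, ?_⟩
    · show pullback.fst f g z ∈ Set.range f.quasiFiniteLocus.ι
      rw [Scheme.Opens.range_ι]
      exact hz
    · exact ⟨pullback.snd f g z, rfl⟩
  obtain ⟨z', rfl⟩ := hzr
  rw [← Scheme.Hom.quasiFiniteAt_comp_iff_of_isOpenImmersion (f := m), hmsnd]
  exact (pullback.snd (f.quasiFiniteLocus.ι ≫ f) g).quasiFiniteAt z'

/-- Pointwise version of `sepDegHom_snd_eq_one`. -/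
theorem sepDegHom_snd_eq_one' {Y : Scheme.{u}} (f : X ⟶ Y) [LocallyOfFiniteType f] (γ : V ⟶ Y)
    (ρ : ↑(pullback f γ)) (hq : f.QuasiFiniteAt (pullback.fst f γ ρ))
    (hsd : sepDegHom (f.residueFieldMap (pullback.fst f γ ρ)).hom = 1) :
    sepDegHom ((pullback.snd f γ).residueFieldMap ρ).hom = 1 := by
  have hfin := finite_residueFieldMap (pullback.snd f γ) ρ (quasiFiniteAt_snd f γ ρ hq)
  obtain ⟨hF, hcard⟩ := finite_and_card_geomPts_at (pullback.snd f γ) ρ _ rfl
    (CommRingCat.ofHom (algebraMap (V.residueField (pullback.snd f γ ρ))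
      (AlgebraicClosure (V.residueField (pullback.snd f γ ρ))))) hfin
  rw [← hcard, Nat.card_eq_one_iff_unique]
  refine ⟨⟨fun s₁ s₂ => ?_⟩, ?_⟩
  · apply Subtype.ext
    refine geomPt_ext_of_sepDeg_eq_one f γ _ _ s₁.1 s₂.1 s₁.2.1 s₂.2.1 (pullback.fst f γ ρ)
      ?_ ?_ (finite_residueFieldMap f _ hq) hsd
    · show pullback.fst f γ (s₁.1 (closedPoint _)) = _
      rw [s₁.2.2]
    · show pullback.fst f γ (s₂.1 (closedPoint _)) = _
      rw [s₂.2.2]
  · have hne := sepDegHom_ne_zero _ hfin
    rw [← hcard] at hne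
    exact (Nat.card_ne_zero.mp hne).1

/-- Transport of separable degree and finiteness along an isomorphism of the source. -/
theorem sepDegHom_of_iso_comp {A B C : Scheme.{u}} (a : A ⟶ B) [IsIso a] (b : B ⟶ C) (c : A ⟶ C)
    (hc : a ≫ b = c) (p : A) :
    sepDegHom (b.residueFieldMap (a p)).hom = sepDegHom (c.residueFieldMap p).hom ∧
      ((c.residueFieldMap p).hom.Finite → (b.residueFieldMap (a p)).hom.Finite) := by
  subst hc
  have hcomp : ((a ≫ b).residueFieldMap p).hom =
      (a.residueFieldMap p).hom.comp (b.residueFieldMap (a p)).hom := by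
    rw [Scheme.residueFieldMap_comp]
    rfl
  constructor
  · refine sepDegHom_eq_of_equiv _ _ (RingEquiv.refl _)
      (asIso (a.residueFieldMap p)).commRingCatIsoToRingEquiv (fun r => ?_)
    rw [hcomp]
    rfl
  · intro hfin
    rw [hcomp] at hfin
    have hinv : (b.residueFieldMap (a p)).hom =
        (inv (a.residueFieldMap p)).hom.comp
          ((a.residueFieldMap p).hom.comp (b.residueFieldMap (a p)).hom) := by
      ext r
      show _ = (inv (a.residueFieldMap p)).hom ((a.residueFieldMap p).hom _)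
      have := congrArg (fun φ : B.residueField (a p) ⟶ B.residueField (a p) =>
        φ.hom ((b.residueFieldMap (a p)).hom r)) (IsIso.hom_inv_id (a.residueFieldMap p))
      exact this.symm
    rw [hinv]
    refine RingHom.Finite.comp (RingHom.Finite.of_surjective _ ?_) hfin
    exact (ConcreteCategory.bijective_of_isIso (inv (a.residueFieldMap p))).surjective

theorem finite_and_purelyInsep_of_sepDeg_eq_one {K L : Type u} [Field K] [Field L] (φ : K →+* L)
    (h1 : φ.Finite) (h2 : sepDegHom φ = 1) :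
    letI := φ.toAlgebra
    Module.Finite K L ∧ IsPurelyInseparable K L := by
  letI := φ.toAlgebra
  exact ⟨h1, (isPurelyInseparable_iff_finSepDegree_eq_one K L).mpr h2⟩

/-- Étale localization making finitely many quasi-finite points of a fibre split into points with
purely inseparable residue field extensions (Stacks 0BSP-type statement). -/
theorem exists_etale_nbhd_purelyInsep_parts (f : X ⟶ S) [LocallyOfFiniteType f] (s : S) {ι : Type}
    [Finite ι] (x : ι → ↑X) (hinj : Function.Injective x) (hs : ∀ i, f (x i) = s)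
    (hx : ∀ i, f.QuasiFiniteAt (x i)) :
    ∃ (U : Scheme.{u}) (g : U ⟶ S) (u : U), Etale g ∧ g u = s ∧
      ∃ (J : ι → Type) (_ : ∀ i, Finite (J i)) (V : ∀ i, J i → (pullback f g).Opens)
        (v : ∀ i, J i → ↑(pullback f g)),
        (∀ i j, v i j ∈ V i j ∧ IsFinite ((V i j).ι ≫ pullback.snd f g) ∧
          pullback.snd f g (v i j) = u ∧
          (∀ w : ↑(pullback f g), w ∈ V i j → pullback.snd f g w = u → w = v i j) ∧
          ((pullback.snd f g).residueFieldMap (v i j)).hom.Finite ∧
          sepDegHom ((pullback.snd f g).residueFieldMap (v i j)).hom = 1 ∧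
          pullback.fst f g (v i j) = x i) ∧
        (∀ i j i' j', v i j = v i' j' → i = i' ∧ HEq j j') ∧
        (∀ (w : ↑(pullback f g)) (i : ι), pullback.snd f g w = u → pullback.fst f g w = x i →
          ∃ j, w = v i j) := by
  classical
  obtain ⟨V₁, g₁, v₁, hg₁, hgv₁, hsd⟩ := exists_etale_nbhd_sepDeg_eq_one f s (Set.range x)
    (Set.finite_range x) (by rintro _ ⟨i, rfl⟩; exact hs i) (by rintro _ ⟨i, rfl⟩; exact hx i)
  haveI := hg₁
  haveI := locallyQuasiFinite_of_etale g₁
  have hfinres : (g₁.residueFieldMap v₁).hom.Finite :=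
    finite_residueFieldMap g₁ v₁ (g₁.quasiFiniteAt v₁)
  have hT : {z : ↑(pullback f g₁) | pullback.snd f g₁ z = v₁ ∧
      pullback.fst f g₁ z ∈ Set.range x}.Finite := by
    have : {z : ↑(pullback f g₁) | pullback.snd f g₁ z = v₁ ∧
        pullback.fst f g₁ z ∈ Set.range x} =
        ⋃ i, {z : ↑(pullback f g₁) | pullback.fst f g₁ z = x i ∧ pullback.snd f g₁ z = v₁} := by
      ext z
      simp only [Set.mem_ofPred_eq, Set.mem_range, Set.mem_iUnion]
      constructor
      · rintro ⟨h1, i, hi⟩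
        exact ⟨i, hi.symm, h1⟩
      · rintro ⟨i, hi, h1⟩
        exact ⟨h1, i, hi.symm⟩
    rw [this]
    exact Set.finite_iUnion fun i => finite_setOf_fst_eq_snd_eq f g₁ (x i) v₁ hfinres
  haveI : Finite ↑{z : ↑(pullback f g₁) | pullback.snd f g₁ z = v₁ ∧
      pullback.fst f g₁ z ∈ Set.range x} := hT
  let eq := Finite.equivFin ↑{z : ↑(pullback f g₁) | pullback.snd f g₁ z = v₁ ∧
      pullback.fst f g₁ z ∈ Set.range x}
  let t : Fin (Nat.card ↑{z : ↑(pullback f g₁) | pullback.snd f g₁ z = v₁ ∧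
      pullback.fst f g₁ z ∈ Set.range x}) → ↑(pullback f g₁) := fun k => (eq.symm k).1
  have ht1 : ∀ k, pullback.snd f g₁ (t k) = v₁ := fun k => (eq.symm k).2.1
  have ht2 : ∀ k, pullback.fst f g₁ (t k) ∈ Set.range x := fun k => (eq.symm k).2.2
  have htinj : Function.Injective t := fun k k' h => eq.symm.injective (Subtype.ext h)
  have htsurj : ∀ z : ↑(pullback f g₁), pullback.snd f g₁ z = v₁ →
      pullback.fst f g₁ z ∈ Set.range x → ∃ k, t k = z := fun z h1 h2 =>
    ⟨eq ⟨z, h1, h2⟩, by show (eq.symm (eq ⟨z, h1, h2⟩)).1 = z; rw [Equiv.symm_apply_apply]⟩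
  have htq : ∀ k, f.QuasiFiniteAt (pullback.fst f g₁ (t k)) := fun k => by
    obtain ⟨i, hi⟩ := ht2 k
    rw [← hi]
    exact hx i
  obtain ⟨U, g₂, u, hg₂, hgu₂, hres, W, τ, hW⟩ :=
    exists_common_etale_nbhd (pullback.snd f g₁) v₁ _ t ht1
      (fun k => quasiFiniteAt_snd f g₁ (t k) (htq k))
  haveI := hg₂
  have hWd : ∀ k, τ k ∈ W k ∧ IsFinite ((W k).ι ≫ pullback.snd (pullback.snd f g₁) g₂) ∧
      pullback.snd (pullback.snd f g₁) g₂ (τ k) = u ∧
      (∀ w ∈ W k, pullback.snd (pullback.snd f g₁) g₂ w = u → w = τ k) ∧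
      pullback.fst (pullback.snd f g₁) g₂ (τ k) = t k := fun k => hW k
  have hpaste : IsPullback (pullback.fst (pullback.snd f g₁) g₂ ≫ pullback.fst f g₁)
      (pullback.snd (pullback.snd f g₁) g₂) f (g₂ ≫ g₁) :=
    (IsPullback.of_hasPullback (pullback.snd f g₁) g₂).paste_horiz (IsPullback.of_hasPullback f g₁)
  -- pointwise forms of the iso identities
  have e_hom_snd : ∀ p, pullback.snd f (g₂ ≫ g₁) (hpaste.isoPullback.hom p) =
      pullback.snd (pullback.snd f g₁) g₂ p := fun p =>
    congrArg (fun φ : pullback (pullback.snd f g₁) g₂ ⟶ U => φ p) hpaste.isoPullback_hom_snd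
  have e_hom_fst : ∀ p, pullback.fst f (g₂ ≫ g₁) (hpaste.isoPullback.hom p) =
      pullback.fst f g₁ (pullback.fst (pullback.snd f g₁) g₂ p) := fun p =>
    congrArg (fun φ : pullback (pullback.snd f g₁) g₂ ⟶ X => φ p) hpaste.isoPullback_hom_fst
  have e_inv_snd : ∀ w, pullback.snd (pullback.snd f g₁) g₂ (hpaste.isoPullback.inv w) =
      pullback.snd f (g₂ ≫ g₁) w := fun w =>
    congrArg (fun φ : pullback f (g₂ ≫ g₁) ⟶ U => φ w) hpaste.isoPullback_inv_snd
  have e_inv_fst : ∀ w, pullback.fst f g₁ (pullback.fst (pullback.snd f g₁) g₂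
      (hpaste.isoPullback.inv w)) = pullback.fst f (g₂ ≫ g₁) w := fun w =>
    congrArg (fun φ : pullback f (g₂ ≫ g₁) ⟶ X => φ w) hpaste.isoPullback_inv_fst
  have e_inv_hom : ∀ p, hpaste.isoPullback.inv (hpaste.isoPullback.hom p) = p := fun p =>
    congrArg (fun φ : pullback (pullback.snd f g₁) g₂ ⟶ pullback (pullback.snd f g₁) g₂ => φ p)
      hpaste.isoPullback.hom_inv_id
  have e_hom_inv : ∀ w, hpaste.isoPullback.hom (hpaste.isoPullback.inv w) = w := fun w =>
    congrArg (fun φ : pullback f (g₂ ≫ g₁) ⟶ pullback f (g₂ ≫ g₁) => φ w)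
      hpaste.isoPullback.inv_hom_id
  refine ⟨U, g₂ ≫ g₁, u, inferInstance, ?_,
    fun i => {k : Fin (Nat.card ↑{z : ↑(pullback f g₁) | pullback.snd f g₁ z = v₁ ∧
      pullback.fst f g₁ z ∈ Set.range x}) // pullback.fst f g₁ (t k) = x i},
    fun i => inferInstance,
    fun i j => hpaste.isoPullback.inv ⁻¹ᵁ (W j.1),
    fun i j => hpaste.isoPullback.hom (τ j.1), ?_, ?_, ?_⟩
  · show g₁ (g₂ u) = s
    rw [hgu₂, hgv₁]
  · intro i j
    obtain ⟨hτW, hWfin, hτu, hτuniq, hτt⟩ := hWd j.1
    refine ⟨?_, ?_, ?_, ?_, ?_, ?_, ?_⟩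
    · show hpaste.isoPullback.inv (hpaste.isoPullback.hom (τ j.1)) ∈ W j.1
      rw [e_inv_hom]
      exact hτW
    · have h1 : (hpaste.isoPullback.inv ⁻¹ᵁ W j.1).ι ≫ pullback.snd f (g₂ ≫ g₁) =
          (hpaste.isoPullback.inv ∣_ W j.1) ≫
            ((W j.1).ι ≫ pullback.snd (pullback.snd f g₁) g₂) := by
        rw [← Category.assoc (hpaste.isoPullback.inv ∣_ W j.1), morphismRestrict_ι,
          Category.assoc, hpaste.isoPullback_inv_snd]
      rw [h1]
      haveI := hWfin
      infer_instance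
    · rw [e_hom_snd]
      exact hτu
    · intro w hw hwu
      have hw' : hpaste.isoPullback.inv w ∈ W j.1 := hw
      have := hτuniq _ hw' (by rw [e_inv_snd]; exact hwu)
      rw [← e_hom_inv w, this]
    · have hfin := finite_residueFieldMap (pullback.snd (pullback.snd f g₁) g₂) (τ j.1)
        (quasiFiniteAt_snd (pullback.snd f g₁) g₂ (τ j.1)
          (by rw [hτt]; exact quasiFiniteAt_snd f g₁ (t j.1) (htq j.1)))
      exact (sepDegHom_of_iso_comp hpaste.isoPullback.hom (pullback.snd f (g₂ ≫ g₁))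
        (pullback.snd (pullback.snd f g₁) g₂) hpaste.isoPullback_hom_snd (τ j.1)).2 hfin
    · rw [(sepDegHom_of_iso_comp hpaste.isoPullback.hom (pullback.snd f (g₂ ≫ g₁))
        (pullback.snd (pullback.snd f g₁) g₂) hpaste.isoPullback_hom_snd (τ j.1)).1]
      refine sepDegHom_snd_eq_one' (pullback.snd f g₁) g₂ (τ j.1) ?_ ?_
      · rw [hτt]
        exact quasiFiniteAt_snd f g₁ (t j.1) (htq j.1)
      · rw [hτt]
        exact hsd (t j.1) (ht1 j.1) (ht2 j.1)
    · rw [e_hom_fst, hτt]
      exact j.2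
  · intro i j i' j' h
    have h1 : τ j.1 = τ j'.1 := by
      have := congrArg hpaste.isoPullback.inv h
      rwa [e_inv_hom, e_inv_hom] at this
    have h2 : j.1 = j'.1 := by
      apply htinj
      rw [← (hWd j.1).2.2.2.2, ← (hWd j'.1).2.2.2.2, h1]
    have h3 : i = i' := by
      apply hinj
      rw [← j.2, ← j'.2, h2]
    subst h3
    exact ⟨rfl, heq_of_eq (Subtype.ext h2)⟩
  · intro w i hwu hwx
    obtain ⟨k, hk⟩ := htsurj (pullback.fst (pullback.snd f g₁) g₂ (hpaste.isoPullback.inv w))
      (by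
        have := congrArg (fun φ : pullback (pullback.snd f g₁) g₂ ⟶ V₁ =>
          φ (hpaste.isoPullback.inv w)) (pullback.condition (f := pullback.snd f g₁) (g := g₂))
        refine this.trans ?_
        show g₂ (pullback.snd (pullback.snd f g₁) g₂ (hpaste.isoPullback.inv w)) = v₁
        rw [e_inv_snd, hwu, hgu₂])
      (by rw [e_inv_fst, hwx]; exact ⟨i, rfl⟩)
    refine ⟨⟨k, by rw [hk, e_inv_fst, hwx]⟩, ?_⟩
    show w = hpaste.isoPullback.hom (τ k)
    have : hpaste.isoPullback.inv w = τ k := by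
      apply eq_of_fst_eq_of_snd_eq (f := pullback.snd f g₁) (g := g₂)
      · rw [(hWd k).2.2.2.2, hk]
      · rw [(hWd k).2.2.1, e_inv_snd, hwu]
      · rw [(hWd k).2.2.1]
        exact hres
    rw [← this, e_hom_inv]

end Groth.Agent.H7
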