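import Mathlib
import Groth.Prelude.Def_EGA43
import Groth.Agent.H25.UnivOpenAt
import Groth.Agent.S4925
import Groth.Agent.S4926
import Groth.Agent.H23.RegularLocal

set_option autoImplicit false
set_option linter.style.haveILetI false
universe u

namespace Groth.Agent.H7

open AlgebraicGeometry CategoryTheory Limits TopologicalSpace Topology IsLocalRing

/-- A regular local ring of dimension at most one is a principal ideal domain. -/
theorem isDomain_isPrincipalIdealRing_of_regular_dim_le_one (R : Type u) [CommRing R]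
    [IsRegularLocalRing R] (h : ringKrullDim R ≤ 1) :
    ∃ (_ : IsDomain R), IsPrincipalIdealRing R := by
  haveI : IsDomain R := Groth.Agent.H23.isDomain_of_isRegularLocalRing R
  refine ⟨inferInstance, ?_⟩
  have h1 : (Module.finrank (ResidueField R) (CotangentSpace R) : WithBot ℕ∞) = ringKrullDim R :=
    (IsRegularLocalRing.iff_finrank_cotangentSpace R).mp inferInstance
  have h2 : Module.finrank (ResidueField R) (CotangentSpace R) ≤ 1 := by
    have h3 : ((Module.finrank (ResidueField R) (CotangentSpace R) : ℕ) : WithBot ℕ∞) ≤ 1 := by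
      rw [h1]
      exact h
    exact_mod_cast h3
  exact ((tfae_of_isNoetherianRing_of_isLocalRing_of_isDomain (R := R)).out 5 0).mp h2

/-- An injective homomorphism from a principal ideal domain to a domain is flat. -/
theorem flat_of_injective_of_isPrincipalIdealRing {R B : Type u} [CommRing R] [IsDomain R]
    [IsPrincipalIdealRing R] [CommRing B] [IsDomain B] (φ : R →+* B)
    (h : Function.Injective φ) : φ.Flat := by
  letI : Algebra R B := φ.toAlgebra
  show Module.Flat R B
  rw [Module.Flat.flat_iff_torsion_eq_bot_of_isBezout, eq_bot_iff]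
  intro b hb
  obtain ⟨a, ha⟩ := (Submodule.mem_torsion_iff b).mp hb
  have ha0 : (a : R) ≠ 0 := nonZeroDivisors.coe_ne_zero a
  have h1 : φ (a : R) * b = 0 := by
    have := ha
    rwa [Submonoid.smul_def, Algebra.smul_def, RingHom.algebraMap_toAlgebra] at this
  rcases mul_eq_zero.mp h1 with h2 | h2
  · exact absurd (h (h2.trans (map_zero φ).symm)) ha0
  · exact h2

/-- The zero ideal of a domain stalk maps to any generic point which specialises to the point. -/
theorem fromSpecStalk_bot_eq {Z : Scheme.{u}} (t ζ : Z) [IsDomain (Z.presheaf.stalk t)]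
    (hζ : IsGenericPoint ζ (Set.univ : Set Z)) :
    Z.fromSpecStalk t (⟨⊥, Ideal.isPrime_bot⟩ : PrimeSpectrum (Z.presheaf.stalk t)) = ζ := by
  have hζt : ζ ⤳ t := hζ.specializes (Set.mem_univ t)
  obtain ⟨t₀, ht₀⟩ : ζ ∈ Set.range (Z.fromSpecStalk t) := by
    rw [Scheme.range_fromSpecStalk]
    exact hζt
  have h1 : (⟨⊥, Ideal.isPrime_bot⟩ : PrimeSpectrum (Z.presheaf.stalk t)) ⤳ t₀ :=
    (PrimeSpectrum.le_iff_specializes _ t₀).mp bot_le
  have h2 : Z.fromSpecStalk t (⟨⊥, Ideal.isPrime_bot⟩ : PrimeSpectrum (Z.presheaf.stalk t)) ⤳ ζ := by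
    rw [← ht₀]
    exact h1.map (Z.fromSpecStalk t).continuous
  exact (h2.antisymm (hζ.specializes (Set.mem_univ _))).eq

/-- Stalk maps are injective when the generic point goes to the generic point. -/
theorem injective_stalkMap_of_generic {Z Y : Scheme.{u}} (g : Z ⟶ Y) (t ζ : Z)
    [IsDomain (Z.presheaf.stalk t)] [IsDomain (Y.presheaf.stalk (g t))]
    (hζ : IsGenericPoint ζ (Set.univ : Set Z))
    (hgen : IsGenericPoint (g ζ) (Set.univ : Set Y)) :
    Function.Injective (g.stalkMap t).hom := by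
  have h1 := fromSpecStalk_bot_eq t ζ hζ
  have h2 := fromSpecStalk_bot_eq (g t) (g ζ) hgen
  have hcomm := congrArg (fun φ : Spec (Z.presheaf.stalk t) ⟶ Y =>
    φ (⟨⊥, Ideal.isPrime_bot⟩ : PrimeSpectrum (Z.presheaf.stalk t)))
    (Scheme.SpecMap_stalkMap_fromSpecStalk (f := g) (x := t))
  simp only [Scheme.Hom.comp_apply] at hcomm
  rw [h1, ← h2] at hcomm
  have h3 := (Y.fromSpecStalk (g t)).isEmbedding.injective hcomm
  have h4 : Ideal.comap (g.stalkMap t).hom ⊥ = ⊥ := congrArg PrimeSpectrum.asIdeal h3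
  rw [RingHom.injective_iff_ker_eq_bot, RingHom.ker_eq_comap_bot]
  exact h4

theorem isUnivOpenAt_of_universallyOpen {X Y : Scheme.{u}} (g : X ⟶ Y) [UniversallyOpen g]
    (x : X) : EGA43.IsUnivOpenAt g x :=
  fun _ g' x' _ => Groth.Agent.H25.isOpenAt_of_isOpenMap _ (pullback.snd g g').isOpenMap x'

theorem universallyOpen_of_forall_isUnivOpenAt {X Y : Scheme.{u}} (g : X ⟶ Y)
    (h : ∀ x : X, EGA43.IsUnivOpenAt g x) : UniversallyOpen g := by
  refine ⟨fun X' Y' i₁ i₂ f' sq => ?_⟩
  show IsOpenMap f'.base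
  rw [isOpenMap_iff_nhds_le]
  intro a
  rw [Filter.le_map_iff]
  exact Groth.Agent.H25.isOpenAt_of_isPullback sq.flip (i₁ a) (h _) a rfl

/-- Over a base whose local rings are regular of dimension at most one, a morphism locally of
finite type is universally open at every point which has a generization over the generic
point. -/
theorem isUnivOpenAt_of_generization_dominant {X Y : Scheme.{u}} [IsLocallyNoetherian Y]
    (hY : ∀ y : Y, IsRegularLocalRing (Y.presheaf.stalk y) ∧ ringKrullDim (Y.presheaf.stalk y) ≤ 1)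
    (f : X ⟶ Y) [LocallyOfFiniteType f] (x ζ : X) (hζ : ζ ⤳ x)
    (hfζ : IsGenericPoint (f ζ) (Set.univ : Set Y)) : EGA43.IsUnivOpenAt f x := by
  obtain ⟨V, hV, hxV, -⟩ := Opens.isBasis_iff_nbhd.mp X.isBasis_affineOpens (Opens.mem_top x)
  have hζV : ζ ∈ V := hζ.mem_open V.2 hxV
  set pζ := hV.primeIdealOf ⟨ζ, hζV⟩ with hpζ
  set px := hV.primeIdealOf ⟨x, hxV⟩ with hpx
  have hjζ : hV.fromSpec pζ = ζ := hV.fromSpec_primeIdealOf ⟨ζ, hζV⟩
  have hjx : hV.fromSpec px = x := hV.fromSpec_primeIdealOf ⟨x, hxV⟩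
  have hsp : (show ↥(Spec Γ(X, V)) from pζ) ⤳ (show ↥(Spec Γ(X, V)) from px) :=
    (hV.fromSpec.isOpenEmbedding.isInducing.specializes_iff).mp (by rw [hjζ, hjx]; exact hζ)
  have hle : pζ.asIdeal ≤ px.asIdeal := (PrimeSpectrum.le_iff_specializes pζ px).mpr hsp
  have hsurj : Function.Surjective (Ideal.Quotient.mk pζ.asIdeal) := Ideal.Quotient.mk_surjective
  haveI : IsClosedImmersion (Spec.map (CommRingCat.ofHom (Ideal.Quotient.mk pζ.asIdeal))) :=
    IsClosedImmersion.spec_of_surjective _ hsurj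
  let i : Spec (CommRingCat.of (Γ(X, V) ⧸ pζ.asIdeal)) ⟶ X :=
    Spec.map (CommRingCat.ofHom (Ideal.Quotient.mk pζ.asIdeal)) ≫ hV.fromSpec
  -- a point over `x`
  obtain ⟨z, hz⟩ : px ∈ Set.range (PrimeSpectrum.comap (Ideal.Quotient.mk pζ.asIdeal)) := by
    rw [range_comap_of_surjective _ _ hsurj, Ideal.mk_ker]
    exact hle
  have hiz : i z = x := by
    show hV.fromSpec (Spec.map (CommRingCat.ofHom (Ideal.Quotient.mk pζ.asIdeal)) z) = x
    rw [← hjx]
    exact congrArg (fun t => hV.fromSpec t) hz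
  -- the generic point
  have hbot : Spec.map (CommRingCat.ofHom (Ideal.Quotient.mk pζ.asIdeal))
      (⟨⊥, Ideal.isPrime_bot⟩ : PrimeSpectrum (Γ(X, V) ⧸ pζ.asIdeal)) = pζ := by
    apply PrimeSpectrum.ext
    show Ideal.comap (Ideal.Quotient.mk pζ.asIdeal) ⊥ = pζ.asIdeal
    rw [← RingHom.ker_eq_comap_bot, Ideal.mk_ker]
  have hib : i (⟨⊥, Ideal.isPrime_bot⟩ : PrimeSpectrum (Γ(X, V) ⧸ pζ.asIdeal)) = ζ := by
    show hV.fromSpec (Spec.map (CommRingCat.ofHom (Ideal.Quotient.mk pζ.asIdeal)) _) = ζ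
    rw [hbot, hjζ]
  have hgenD : IsGenericPoint (show ↥(Spec (CommRingCat.of (Γ(X, V) ⧸ pζ.asIdeal))) from
      (⟨⊥, Ideal.isPrime_bot⟩ : PrimeSpectrum (Γ(X, V) ⧸ pζ.asIdeal))) Set.univ := by
    rw [isGenericPoint_def]
    refine (PrimeSpectrum.closure_singleton _).trans ?_
    rw [PrimeSpectrum.zeroLocus_bot]
    rfl
  -- flatness
  haveI : Flat (i ≫ f) := by
    rw [Flat.iff_flat_stalkMap]
    intro t
    haveI := (hY ((i ≫ f) t)).1
    obtain ⟨hdom, hpid⟩ := isDomain_isPrincipalIdealRing_of_regular_dim_le_one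
      (Y.presheaf.stalk ((i ≫ f) t)) (hY _).2
    haveI := hdom
    haveI := hpid
    refine flat_of_injective_of_isPrincipalIdealRing _ ?_
    refine injective_stalkMap_of_generic (i ≫ f) t _ hgenD ?_
    have : (i ≫ f) (⟨⊥, Ideal.isPrime_bot⟩ : PrimeSpectrum (Γ(X, V) ⧸ pζ.asIdeal)) = f ζ := by
      rw [Scheme.Hom.comp_apply, hib]
    rw [this]
    exact hfζ
  haveI : LocallyOfFinitePresentation (i ≫ f) := inferInstance
  haveI : UniversallyOpen (i ≫ f) := inferInstance
  have h1 := isUnivOpenAt_of_universallyOpen (i ≫ f) z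
  have h2 := Groth.Agent.S4926.result i f z h1
  rwa [show i.base z = x from hiz] at h2

/-- EGA IV 14.4.? / 14.5.10-type statement over a Dedekind-like base. -/
theorem exists_universallyOpen_nhd_of_components_dominate {X Y : Scheme.{u}}
    [IsLocallyNoetherian Y] [IrreducibleSpace Y]
    (hY : ∀ y : Y, IsRegularLocalRing (Y.presheaf.stalk y) ∧ ringKrullDim (Y.presheaf.stalk y) ≤ 1)
    (f : X ⟶ Y) [LocallyOfFiniteType f] (y : Y)
    (h : ∀ Z ∈ irreducibleComponents (X : Type u), (Z ∩ f.base ⁻¹' {y}).Nonempty →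
      Dense (f.base '' Z)) :
    ∃ U : X.Opens, f.base ⁻¹' {y} ⊆ (U : Set X) ∧ UniversallyOpen (U.ι ≫ f) := by
  haveI : IsLocallyNoetherian X := LocallyOfFiniteType.isLocallyNoetherian f
  let G : Set X := {x | ∃ ζ : X, ζ ⤳ x ∧ IsGenericPoint (f ζ) (Set.univ : Set Y)}
  have hGint : f.base ⁻¹' {y} ⊆ interior G := by
    intro x hx
    have hfx : f x = y := hx
    obtain ⟨V, hV, hxV, -⟩ := Opens.isBasis_iff_nbhd.mp X.isBasis_affineOpens (Opens.mem_top x)
    haveI : IsNoetherianRing Γ(X, V) := IsLocallyNoetherian.component_noetherian ⟨V, hV⟩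
    haveI : NoetherianSpace ↥V := noetherianSpace_of_isAffineOpen V hV
    haveI : QuasiSober ↥V := V.2.isOpenEmbedding_subtypeVal.quasiSober
    let good : Set ↥V → Prop := fun c =>
      ∃ γ : ↥V, IsGenericPoint γ c ∧ IsGenericPoint (f γ.1) (Set.univ : Set Y)
    let Bad : Set ↥V := ⋃ c ∈ {c | c ∈ irreducibleComponents ↥V ∧ ¬ good c}, c
    have hBadclosed : IsClosed Bad := by
      refine Set.Finite.isClosed_biUnion ?_ ?_
      · exact (NoetherianSpace.finite_irreducibleComponents (α := ↥V)).subset (fun c hc => hc.1)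
      · intro c hc
        exact isClosed_of_mem_irreducibleComponents c hc.1
    have hW : ∀ w : ↥V, w ∉ Bad → w.1 ∈ G := by
      intro w hw
      have hc := irreducibleComponent_mem_irreducibleComponents w
      have hgood : good (irreducibleComponent w) := by
        by_contra hng
        exact hw (Set.mem_biUnion (show irreducibleComponent w ∈
          {c | c ∈ irreducibleComponents ↥V ∧ ¬ good c} from ⟨hc, hng⟩) mem_irreducibleComponent)
      obtain ⟨γ, hγ, hγf⟩ := hgood
      exact ⟨γ.1, (hγ.specializes mem_irreducibleComponent).map continuous_subtype_val, hγf⟩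
    have hxBad : (⟨x, hxV⟩ : ↥V) ∉ Bad := by
      intro hxB
      obtain ⟨c, ⟨hc, hng⟩, hxc⟩ := Set.mem_iUnion₂.mp hxB
      obtain ⟨γ, hγ⟩ := QuasiSober.sober hc.1 (isClosed_of_mem_irreducibleComponents c hc)
      apply hng
      refine ⟨γ, hγ, ?_⟩
      -- the closure of γ in X is an irreducible component of X
      have hZirr : IsIrreducible (closure ({γ.1} : Set X)) := isIrreducible_singleton.closure
      have hZmax : closure ({γ.1} : Set X) ∈ irreducibleComponents (X : Type u) := by
        refine ⟨hZirr, fun Z' hZ' hle => ?_⟩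
        obtain ⟨ζ', hζ'⟩ := QuasiSober.sober hZ'.closure isClosed_closure
        have h1 : γ.1 ∈ closure Z' := subset_closure (hle (subset_closure rfl))
        have h2 : ζ' ⤳ γ.1 := hζ'.specializes h1
        have hζ'V : ζ' ∈ V := h2.mem_open V.2 γ.2
        have h3 : (⟨ζ', hζ'V⟩ : ↥V) ⤳ γ := by
          rw [← Topology.IsInducing.subtypeVal.specializes_iff]
          exact h2
        have h4 : c ≤ closure ({⟨ζ', hζ'V⟩} : Set ↥V) := by
          rw [← hγ.def]
          exact closure_minimal (Set.singleton_subset_iff.mpr h3.mem_closure) isClosed_closure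
        have h5 : closure ({⟨ζ', hζ'V⟩} : Set ↥V) ≤ c := hc.2 isIrreducible_singleton.closure h4
        have h6 : (⟨ζ', hζ'V⟩ : ↥V) ∈ c := h5 (subset_closure rfl)
        have h7 : γ ⤳ (⟨ζ', hζ'V⟩ : ↥V) := hγ.specializes h6
        have h8 : γ.1 ⤳ ζ' := h7.map continuous_subtype_val
        have h9 : closure Z' ⊆ closure ({γ.1} : Set X) := by
          rw [← hζ'.def]
          exact closure_minimal (Set.singleton_subset_iff.mpr h8.mem_closure) isClosed_closure
        exact subset_closure.trans h9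
      have hxZ : x ∈ closure ({γ.1} : Set X) := by
        have h1 : γ ⤳ (⟨x, hxV⟩ : ↥V) := hγ.specializes hxc
        exact (h1.map continuous_subtype_val).mem_closure
      have hdense := h _ hZmax ⟨x, hxZ, hx⟩
      have hsub : f.base '' closure ({γ.1} : Set X) ⊆ closure {f γ.1} := by
        refine (image_closure_subset_closure_image f.continuous).trans ?_
        rw [Set.image_singleton]
      rw [isGenericPoint_def]
      refine Set.eq_univ_of_univ_subset ?_
      rw [← hdense.closure_eq]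
      exact closure_minimal hsub isClosed_closure
    refine mem_interior.mpr ⟨Subtype.val '' Badᶜ, ?_, ?_, ?_⟩
    · rintro _ ⟨w, hw, rfl⟩
      exact hW w hw
    · exact V.2.isOpenEmbedding_subtypeVal.isOpenMap _ hBadclosed.isOpen_compl
    · exact ⟨⟨x, hxV⟩, hxBad, rfl⟩
  refine ⟨⟨interior G, isOpen_interior⟩, hGint, ?_⟩
  apply universallyOpen_of_forall_isUnivOpenAt
  intro u
  obtain ⟨ζ, hζ, hfζ⟩ := interior_subset u.2
  have h1 : EGA43.IsUnivOpenAt f ((Scheme.Opens.ι ⟨interior G, isOpen_interior⟩).base u) :=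
    isUnivOpenAt_of_generization_dominant hY f _ ζ hζ hfζ
  exact Groth.Agent.S4925.result _ f u (isUnivOpenAt_of_universallyOpen _ u) h1

end Groth.Agent.H7
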