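import Groth.Agent.H7.EtaleLoc
import Groth.Agent.H7.PullbackPoint

set_option autoImplicit false
universe u

namespace Groth.Agent.H7

open AlgebraicGeometry CategoryTheory Limits

variable {X S : Scheme.{u}} (f : X ⟶ S)

/-- Étale localization of a quasi-finite point, without separatedness (Stacks 02LK). -/
theorem exists_etale_nbhd_of_quasiFiniteAt [LocallyOfFiniteType f] (x : X)
    (hx : f.QuasiFiniteAt x) :
    ∃ (U : Scheme.{u}) (g : U ⟶ S) (u : U), Etale g ∧ g u = f x ∧
      Function.Bijective (g.residueFieldMap u) ∧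
      ∃ (V : (pullback f g).Opens) (v : ↑(pullback f g)), v ∈ V ∧
        IsFinite (V.ι ≫ pullback.snd f g) ∧ pullback.snd f g v = u ∧
        (∀ w ∈ V, pullback.snd f g w = u → w = v) ∧ pullback.fst f g v = x := by
  obtain ⟨_, ⟨(U₀ : S.Opens), hU₀, rfl⟩, hxU₀, -⟩ := S.isBasis_affineOpens.exists_subset_of_mem_open
    (Set.mem_univ (f x)) isOpen_univ
  obtain ⟨_, ⟨(X₀ : X.Opens), hX₀, rfl⟩, hxX₀, hXU : X₀ ≤ f ⁻¹ᵁ U₀⟩ :=
    X.isBasis_affineOpens.exists_subset_of_mem_open hxU₀ (f ⁻¹ᵁ U₀).2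
  let f₀ : (X₀ : Scheme.{u}) ⟶ S := X₀.ι ≫ f
  have : IsAffine (X₀ : Scheme.{u}) := hX₀
  have : IsAffine (U₀ : Scheme.{u}) := hU₀
  have hsep : IsSeparated f₀ := by
    have : f₀ = f.resLE U₀ X₀ hXU ≫ U₀.ι := (Scheme.Hom.resLE_comp_ι f hXU).symm
    rw [this]
    infer_instance
  let x₀ : (X₀ : Scheme.{u}) := ⟨x, hxX₀⟩
  have hx₀ : f₀.QuasiFiniteAt x₀ :=
    Scheme.Hom.quasiFiniteAt_comp_iff_of_isOpenImmersion.mpr hx
  obtain ⟨U, g, u, hg, hgu, hres, V₀, W₀, v₀, -, hfin, hv₀, hfst, hsnd, huniq⟩ :=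
    exists_etale_isCompl_of_quasiFiniteAt_strong f₀ x₀ hx₀
  let j : pullback f₀ g ⟶ pullback f g :=
    pullback.map f₀ g f g X₀.ι (𝟙 _) (𝟙 _) (by simp [f₀]) (by simp)
  have hjfst : j ≫ pullback.fst f g = pullback.fst f₀ g ≫ X₀.ι := pullback.lift_fst _ _ _
  have hjsnd : j ≫ pullback.snd f g = pullback.snd f₀ g :=
    (pullback.lift_snd _ _ _).trans (Category.comp_id _)
  have hjsnd' : ∀ w, pullback.snd f g (j w) = pullback.snd f₀ g w := fun w => by
    rw [← Scheme.Hom.comp_apply, hjsnd]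
  refine ⟨U, g, u, hg, hgu, hres, j ''ᵁ V₀, j v₀, ⟨v₀, hv₀, rfl⟩, ?_, ?_, ?_, ?_⟩
  · have e : (j.isoImage V₀).inv ≫ V₀.ι ≫ pullback.snd f₀ g =
        (j ''ᵁ V₀).ι ≫ pullback.snd f g := by
      rw [← hjsnd, Scheme.Hom.isoImage_inv_ι_assoc]
    rw [← e]
    infer_instance
  · rw [hjsnd', hsnd]
  · rintro _ ⟨w, hw, rfl⟩ hwu
    have hwu' : pullback.snd f g (j w) = u := hwu
    rw [hjsnd'] at hwu'
    rw [huniq w hw hwu']
    rfl
  · rw [← Scheme.Hom.comp_apply, hjfst, Scheme.Hom.comp_apply, hfst]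
    rfl

variable {f}

/-- The data of a "finite part with one point over `u` lying over `x`" in the base change of `f`
along an elementary étale neighbourhood `(U, u)`. -/
def IsFinitePart {U : Scheme.{u}} (g : U ⟶ S) (u : U) (x : X)
    (V : (pullback f g).Opens) (v : ↑(pullback f g)) : Prop :=
  v ∈ V ∧ IsFinite (V.ι ≫ pullback.snd f g) ∧ pullback.snd f g v = u ∧
    (∀ w ∈ V, pullback.snd f g w = u → w = v) ∧ pullback.fst f g v = x

/-- Pulling back a finite part along a refinement of elementary étale neighbourhoods. -/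
theorem IsFinitePart.refine {U U' : Scheme.{u}} {g : U ⟶ S} {u : U} {x : X}
    {V : (pullback f g).Opens} {v : ↑(pullback f g)} (h : IsFinitePart g u x V v)
    (hres : Function.Bijective (g.residueFieldMap u))
    (g' : U' ⟶ S) (u' : U') (a : U' ⟶ U) (hag : a ≫ g = g') (hau : a u' = u)
    (hres' : Function.Bijective (g'.residueFieldMap u')) (hx : f x = g' u') :
    ∃ v', IsFinitePart g' u' x
      ((pullback.map f g' f g (𝟙 _) a (𝟙 _) (by simp) (by simp [hag])) ⁻¹ᵁ V) v' := by
  obtain ⟨hvV, hfin, hsnd, huniq, hfst⟩ := h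
  set m : pullback f g' ⟶ pullback f g :=
    pullback.map f g' f g (𝟙 _) a (𝟙 _) (by simp) (by simp [hag]) with hm
  have hmfst : m ≫ pullback.fst f g = pullback.fst f g' :=
    (pullback.lift_fst _ _ _).trans (Category.comp_id _)
  have hmsnd : m ≫ pullback.snd f g = pullback.snd f g' ≫ a := pullback.lift_snd _ _ _
  have hmfst' : ∀ w, pullback.fst f g (m w) = pullback.fst f g' w := fun w => by
    rw [← Scheme.Hom.comp_apply, hmfst]
  have hmsnd' : ∀ w, pullback.snd f g (m w) = a (pullback.snd f g' w) := fun w => by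
    rw [← Scheme.Hom.comp_apply, hmsnd, Scheme.Hom.comp_apply]
  obtain ⟨v', hv'1, hv'2⟩ := Scheme.Pullback.exists_preimage_pullback (f := f) (g := g') x u' hx
  have hres_v : Function.Bijective (g.residueFieldMap (pullback.snd f g v)) := by
    rw [hsnd]; exact hres
  have hmv' : m v' = v := by
    apply eq_of_fst_eq_of_snd_eq _ _ _ _ hres_v
    · rw [hmfst', hv'1, hfst]
    · rw [hmsnd', hv'2, hau, hsnd]
  have hres_v' : Function.Bijective (g'.residueFieldMap (pullback.snd f g' v')) := by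
    rw [hv'2]; exact hres'
  refine ⟨v', ?_, ?_, hv'2, ?_, hv'1⟩
  · show m v' ∈ V
    rw [hmv']; exact hvV
  · -- finiteness by base change
    have hbig : IsPullback m (pullback.snd f g') (pullback.snd f g) a := by
      have h1 : IsPullback (pullback.fst f g') (pullback.snd f g') f g' :=
        IsPullback.of_hasPullback f g'
      have h2 : IsPullback (pullback.fst f g) (pullback.snd f g) f g :=
        IsPullback.of_hasPullback f g
      exact IsPullback.of_right (by rw [hmfst, hag]; exact h1) hmsnd h2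
    have hsmall := isPullback_morphismRestrict m V
    exact MorphismProperty.of_isPullback (P := @IsFinite) (hsmall.paste_vert hbig) hfin
  · intro w hw hwu
    have hmw : m w = v := by
      apply huniq _ hw
      rw [hmsnd', hwu, hau]
    apply eq_of_fst_eq_of_snd_eq _ _ _ _ hres_v'
    · rw [← hmfst', hmw, hfst, hv'1]
    · rw [hwu, hv'2]

end Groth.Agent.H7

namespace Groth.Agent.H7

open AlgebraicGeometry CategoryTheory Limits

theorem isClosed_of_isCompl {Z : Scheme.{u}} {V W : Z.Opens} (h : IsCompl V W) :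
    IsClosed (V : Set Z) := by
  have hW : (V : Set Z) = (W : Set Z)ᶜ := by
    ext z
    constructor
    · intro hz hz'
      have : z ∈ V ⊓ W := ⟨hz, hz'⟩
      rw [h.inf_eq_bot] at this
      exact this
    · intro hz
      have : z ∈ V ⊔ W := by rw [h.sup_eq_top]; trivial
      rcases this with h1 | h1
      · exact h1
      · exact (hz h1).elim
  rw [hW]
  exact W.isOpen.isClosed_compl

end Groth.Agent.H7
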