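import Mathlib
import Groth.Prelude.Def_EGA43
import Groth.Agent.H7.UnivOpenAtPoly
import Groth.Agent.S3404
import Groth.Agent.H73.DVRSpec

set_option autoImplicit false
set_option linter.style.haveILetI false
universe u

namespace Groth.Agent.H7

open AlgebraicGeometry CategoryTheory Limits TopologicalSpace Topology

/-- A point of the spectrum of a DVR other than the closed point is the generic point. -/
theorem dvr_asIdeal_eq_bot {A : Type u} [CommRing A] [IsDomain A] [IsDiscreteValuationRing A]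
    (t : PrimeSpectrum A) (ht : t ≠ IsLocalRing.closedPoint A) : t.asIdeal = ⊥ := by
  by_contra hne
  have hmax : t.asIdeal.IsMaximal := t.isPrime.isMaximal hne
  exact ht (PrimeSpectrum.ext (IsLocalRing.eq_maximalIdeal hmax))

open CategoryTheory.Limits in
/-- EGA IV 14.5.8, direct implication. -/
theorem dvr_criterion_of_isUnivOpenAt {X Y : Scheme.{u}} (f : X ⟶ Y) (x : X)
    (hU : EGA43.IsUnivOpenAt f x)
    (A : Type u) [CommRing A] [IsDomain A] [IsDiscreteValuationRing A]
    (g : Spec (CommRingCat.of A) ⟶ Y) (x' : ↥(pullback f g))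
    (hx' : (pullback.fst f g).base x' = x)
    (hsx' : (pullback.snd f g).base x' = IsLocalRing.closedPoint A) :
    ∃ z' : ↥(pullback f g), z' ⤳ x' ∧
      (pullback.snd f g).base z' ≠ IsLocalRing.closedPoint A := by
  have hopen := hU (Spec (CommRingCat.of A)) g x' hx'
  have hgen := (Groth.Agent.S3404.result (pullback.snd f g) x').1 hopen
  have hη : (show ↥(Spec (CommRingCat.of A)) from (⟨⊥, Ideal.isPrime_bot⟩ : PrimeSpectrum A)) ⤳
      (pullback.snd f g).base x' := by
    rw [hsx']
    exact (PrimeSpectrum.le_iff_specializes (⟨⊥, Ideal.isPrime_bot⟩ : PrimeSpectrum A)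
      (IsLocalRing.closedPoint A)).mp bot_le
  obtain ⟨z', hz', hz'2⟩ := hgen _ hη
  refine ⟨z', hz', ?_⟩
  rw [hz'2]
  intro h
  have h2 : (⊥ : Ideal A) = IsLocalRing.maximalIdeal A := congrArg PrimeSpectrum.asIdeal h
  exact IsDiscreteValuationRing.not_a_field A h2.symm

set_option backward.isDefEq.respectTransparency false in
/-- EGA IV 14.5.8, converse implication. -/
theorem isUnivOpenAt_of_dvr_criterion {X Y : Scheme.{u}} [IsLocallyNoetherian Y] (f : X ⟶ Y)
    [LocallyOfFiniteType f] (x : X)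
    (h : ∀ (A : Type u) [CommRing A] [IsDomain A] [IsDiscreteValuationRing A]
        (g : Spec (CommRingCat.of A) ⟶ Y), g.base (IsLocalRing.closedPoint A) = f.base x →
        ∀ x' : ↥(pullback f g), (pullback.fst f g).base x' = x →
          (pullback.snd f g).base x' = IsLocalRing.closedPoint A →
          ∃ z' : ↥(pullback f g), z' ⤳ x' ∧
            (pullback.snd f g).base z' ≠ IsLocalRing.closedPoint A) :
    EGA43.IsUnivOpenAt f x := by
  haveI : LocallyOfFinitePresentation f := inferInstance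
  apply isUnivOpenAt_of_isOpenAt_affineSpace_map
  intro n p hp
  have hpb := AffineSpace.isPullback_map (n := ULift.{u} (Fin n)) f
  haveI : LocallyOfFinitePresentation (AffineSpace.map (ULift.{u} (Fin n)) f) :=
    MorphismProperty.of_isPullback hpb.flip ‹_›
  refine ((Groth.Agent.S3404.result (AffineSpace.map (ULift.{u} (Fin n)) f) p).2
    inferInstance).mpr ?_
  intro y'' hy
  by_cases hne : y'' = (AffineSpace.map (ULift.{u} (Fin n)) f) p
  · exact ⟨p, specializes_rfl, hne.symm⟩
  haveI : IsLocallyNoetherian (𝔸(ULift.{u} (Fin n); Y)) :=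
    LocallyOfFiniteType.isLocallyNoetherian (𝔸(ULift.{u} (Fin n); Y) ↘ Y)
  obtain ⟨A, hA, hDVR, hcl, hcomp⟩ := Groth.Agent.H73.KA.exists_dvr_through_specialization
    (𝟙 (𝔸(ULift.{u} (Fin n); Y))) y'' _ hy (Ne.symm hne)
  haveI := hDVR
  have hbot : (Spec.map (CommRingCat.ofHom A.subtype)
      (IsLocalRing.closedPoint ((𝔸(ULift.{u} (Fin n); Y)).residueField y''))).asIdeal = ⊥ := by
    ext a
    show (A.subtype a) ∈ IsLocalRing.maximalIdeal _ ↔ a ∈ (⊥ : Ideal A)
    rw [IsLocalRing.maximalIdeal_eq_bot, Ideal.mem_bot, Ideal.mem_bot]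
    exact ⟨fun h => Subtype.ext h, fun h => by rw [h]; rfl⟩
  let g : Spec (CommRingCat.of A) ⟶ Y := hA ≫ (𝔸(ULift.{u} (Fin n); Y) ↘ Y)
  let θ : pullback f g ⟶ 𝔸(ULift.{u} (Fin n); X) :=
    hpb.lift (pullback.snd f g ≫ hA) (pullback.fst f g)
      (by rw [Category.assoc]; exact pullback.condition.symm)
  have hθ1 : θ ≫ AffineSpace.map (ULift.{u} (Fin n)) f = pullback.snd f g ≫ hA :=
    hpb.lift_fst _ _ _
  have hθ2 : θ ≫ (𝔸(ULift.{u} (Fin n); X) ↘ X) = pullback.fst f g := hpb.lift_snd _ _ _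
  have hsq : IsPullback θ (pullback.snd f g) (AffineSpace.map (ULift.{u} (Fin n)) f) hA := by
    refine IsPullback.of_right ?_ hθ1 hpb.flip
    rw [hθ2]
    exact IsPullback.of_hasPullback f g
  obtain ⟨z, hz1, hz2⟩ := Scheme.exists_preimage_of_isPullback hsq p
    (IsLocalRing.closedPoint A) hcl.symm
  have hfz : (pullback.fst f g).base z = x := by
    have := congrArg (fun φ : pullback f g ⟶ X => φ z) hθ2
    simp only [Scheme.Hom.comp_apply] at this
    rw [← this]
    exact (congrArg (fun t => (𝔸(ULift.{u} (Fin n); X) ↘ X) t) hz1).trans hp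
  have hgcl : g.base (IsLocalRing.closedPoint A) = f.base x := by
    have h1 := congrArg (fun φ : 𝔸(ULift.{u} (Fin n); X) ⟶ Y => φ p)
      (AffineSpace.map_over (n := ULift.{u} (Fin n)) f)
    simp only [Scheme.Hom.comp_apply] at h1
    have h2 : g (IsLocalRing.closedPoint A) =
        (𝔸(ULift.{u} (Fin n); Y) ↘ Y) (hA (IsLocalRing.closedPoint A)) := rfl
    refine h2.trans ?_
    refine (congrArg (fun t => (𝔸(ULift.{u} (Fin n); Y) ↘ Y) t) hcl).trans ?_
    exact h1.trans (congrArg (fun t => f t) hp)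
  obtain ⟨z', hz', hz'ne⟩ := h A g hgcl z hfz hz2
  have hsndz' : (pullback.snd f g) z' = Spec.map (CommRingCat.ofHom A.subtype)
      (IsLocalRing.closedPoint ((𝔸(ULift.{u} (Fin n); Y)).residueField y'')) := by
    apply PrimeSpectrum.ext
    rw [hbot]
    exact dvr_asIdeal_eq_bot _ hz'ne
  refine ⟨θ z', ?_, ?_⟩
  · have := hz'.map θ.continuous
    rwa [hz1] at this
  · have h1 := congrArg (fun φ : pullback f g ⟶ 𝔸(ULift.{u} (Fin n); Y) => φ z') hθ1
    simp only [Scheme.Hom.comp_apply] at h1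
    refine h1.trans ?_
    rw [hsndz']
    have h2 := congrArg (fun φ : Spec ((𝔸(ULift.{u} (Fin n); Y)).residueField y'') ⟶
        𝔸(ULift.{u} (Fin n); Y) => φ (IsLocalRing.closedPoint _)) hcomp
    simp only [Scheme.Hom.comp_apply] at h2
    refine h2.trans ?_
    exact Scheme.fromSpecResidueField_apply _ _

end Groth.Agent.H7
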