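import Mathlib

/-!
# Morphisms from local schemes in affine charts; rational points (helper7)
-/

set_option autoImplicit false
set_option linter.style.haveILetI false
universe u

namespace Groth.Agent.H7

open AlgebraicGeometry CategoryTheory TopologicalSpace IsLocalRing

/-- A morphism from the spectrum of a local ring whose closed point lands in an affine open `U`
factors through `U`. -/
theorem exists_factor_fromSpec {X : Scheme.{u}} {U : X.Opens} (hU : IsAffineOpen U) (D : Type u)
    [CommRing D] [IsLocalRing D] (h : Spec (CommRingCat.of D) ⟶ X)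
    (hmem : h (closedPoint D) ∈ U) :
    ∃ ψ : Γ(X, U) ⟶ CommRingCat.of D, h = Spec.map ψ ≫ hU.fromSpec := by
  have hrange : Set.range h ⊆ Set.range hU.fromSpec := by
    rw [hU.range_fromSpec]
    rintro _ ⟨t, rfl⟩
    have h1 : t ⤳ closedPoint D := IsLocalRing.specializes_closedPoint t
    exact (h1.map h.continuous).mem_open U.isOpen hmem
  refine ⟨Spec.preimage (IsOpenImmersion.lift hU.fromSpec h hrange), ?_⟩
  rw [Spec.map_preimage, IsOpenImmersion.lift_fac]

/-- the unique point of the spectrum of a field -/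
theorem asIdeal_eq_bot_of_field {k : Type u} [Field k] (pt : Spec (CommRingCat.of k)) :
    pt.asIdeal = ⊥ := by
  haveI := pt.isPrime
  rcases Ideal.eq_bot_or_top pt.asIdeal with h | h
  · exact h
  · exact absurd h pt.isPrime.ne_top

/-- Data of a chart for a rational point. -/
theorem chart_rational {A : Type u} [CommRing A] [IsLocalRing A] {X : Scheme.{u}}
    (p : X ⟶ Spec (CommRingCat.of A))
    (u' : Spec (CommRingCat.of (ResidueField A)) ⟶ X)
    (hu' : u' ≫ p = Spec.map (CommRingCat.ofHom (residue A)))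
    (pt : Spec (CommRingCat.of (ResidueField A))) {U : X.Opens} (hU : IsAffineOpen U)
    (hmem : u' pt ∈ U) :
    ∃ (ρ : CommRingCat.of A ⟶ Γ(X, U)) (ψ : Γ(X, U) ⟶ CommRingCat.of (ResidueField A)),
      Spec.map ρ = hU.fromSpec ≫ p ∧ u' = Spec.map ψ ≫ hU.fromSpec ∧
      (∀ a : A, ψ.hom (ρ.hom a) = residue A a) ∧ Function.Surjective ψ.hom ∧
      (Spec.map ψ pt).asIdeal = RingHom.ker ψ.hom := by
  have hpt : pt = closedPoint (ResidueField A) := Subsingleton.elim _ _
  obtain ⟨ψ, hψ⟩ := exists_factor_fromSpec hU (ResidueField A) u' (hpt ▸ hmem)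
  obtain ⟨ρ, hρ⟩ : ∃ ρ : CommRingCat.of A ⟶ Γ(X, U), Spec.map ρ = hU.fromSpec ≫ p :=
    ⟨Spec.preimage _, Spec.map_preimage _⟩
  have hcomp : ρ ≫ ψ = CommRingCat.ofHom (residue A) := by
    apply Spec.map_injective
    rw [Spec.map_comp, hρ, ← Category.assoc, ← hψ, hu']
  have hval : ∀ a : A, ψ.hom (ρ.hom a) = residue A a := by
    intro a
    have h1 := congrArg (fun t => t.hom a) hcomp
    exact h1
  refine ⟨ρ, ψ, hρ, hψ, hval, ?_, ?_⟩
  · intro c
    obtain ⟨a, rfl⟩ := residue_surjective c
    exact ⟨ρ.hom a, hval a⟩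
  · have h1 : (Spec.map ψ pt).asIdeal = Ideal.comap ψ.hom pt.asIdeal := rfl
    rw [h1, asIdeal_eq_bot_of_field pt, RingHom.ker_eq_comap_bot]

/-- A section over the residue field of a local ring `A` of an `A`-scheme has closed image
point. -/
theorem eq_of_specializes_of_rational {A : Type u} [CommRing A] [IsLocalRing A] {X : Scheme.{u}}
    (p : X ⟶ Spec (CommRingCat.of A))
    (u' : Spec (CommRingCat.of (ResidueField A)) ⟶ X)
    (hu' : u' ≫ p = Spec.map (CommRingCat.ofHom (residue A)))
    (pt : Spec (CommRingCat.of (ResidueField A))) (x'' : X) (hsp : u' pt ⤳ x'') :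
    x'' = u' pt := by
  obtain ⟨U, hU, hxU, -⟩ := exists_isAffineOpen_mem_and_subset (x := x'') (U := ⊤) trivial
  have hmem : u' pt ∈ U := hsp.mem_open U.isOpen hxU
  obtain ⟨ρ, ψ, hρ, hψ, hval, hsurj, hker⟩ := chart_rational p u' hu' pt hU hmem
  obtain ⟨r, rfl⟩ : x'' ∈ Set.range hU.fromSpec := by
    rw [hU.range_fromSpec]
    exact hxU
  have h1 : u' pt = hU.fromSpec (Spec.map ψ pt) := by
    conv_lhs => rw [hψ]
    rfl
  rw [h1] at hsp ⊢
  have h2 : Spec.map ψ pt ⤳ r :=
    hU.fromSpec.isOpenEmbedding.isInducing.specializes_iff.mp hsp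
  have h3 : (Spec.map ψ pt).asIdeal ≤ r.asIdeal := (PrimeSpectrum.le_iff_specializes _ r).mpr h2
  haveI hmax : (RingHom.ker ψ.hom).IsMaximal := RingHom.ker_isMaximal_of_surjective ψ.hom hsurj
  rw [hker] at h3
  have h4 : RingHom.ker ψ.hom = r.asIdeal := hmax.eq_of_le r.isPrime.ne_top h3
  have h5 : r = Spec.map ψ pt := PrimeSpectrum.ext (by rw [hker, h4])
  rw [h5]

/-- Compatibility at the closed point: a morphism from a local scheme over `A` hitting a rational
point agrees on the closed point with the rational point. -/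
theorem residue_compat {A : Type u} [CommRing A] [IsLocalRing A] {X : Scheme.{u}}
    (p : X ⟶ Spec (CommRingCat.of A))
    (u' : Spec (CommRingCat.of (ResidueField A)) ⟶ X)
    (hu' : u' ≫ p = Spec.map (CommRingCat.ofHom (residue A)))
    (B : Type u) [CommRing B] [IsLocalRing B] (φ : A →+* B) [IsLocalHom φ]
    (w : Spec (CommRingCat.of B) ⟶ X) (hw : w ≫ p = Spec.map (CommRingCat.ofHom φ))
    (pt : Spec (CommRingCat.of (ResidueField A))) (hpt : w (closedPoint B) = u' pt) :
    Spec.map (CommRingCat.ofHom (ResidueField.map φ)) ≫ u' =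
      Spec.map (CommRingCat.ofHom (residue B)) ≫ w := by
  obtain ⟨U, hU, hxU, -⟩ := exists_isAffineOpen_mem_and_subset (x := u' pt) (U := ⊤) trivial
  obtain ⟨ρ, ψ, hρ, hψ, hval, hsurj, hker⟩ := chart_rational p u' hu' pt hU hxU
  obtain ⟨ψw, hψw⟩ := exists_factor_fromSpec hU B w (hpt ▸ hxU)
  have hcompw : ρ ≫ ψw = CommRingCat.ofHom φ := by
    apply Spec.map_injective
    rw [Spec.map_comp, hρ, ← Category.assoc, ← hψw, hw]
  have hvalw : ∀ a : A, ψw.hom (ρ.hom a) = φ a := by
    intro a
    have h1 := congrArg (fun t => t.hom a) hcompw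
    exact h1
  -- the closed point condition
  have hcl : Ideal.comap ψw.hom (maximalIdeal B) = RingHom.ker ψ.hom := by
    have h1 : hU.fromSpec (Spec.map ψw (closedPoint B)) = hU.fromSpec (Spec.map ψ pt) := by
      have e1 : w (closedPoint B) = hU.fromSpec (Spec.map ψw (closedPoint B)) := by
        conv_lhs => rw [hψw]
        rfl
      have e2 : u' pt = hU.fromSpec (Spec.map ψ pt) := by
        conv_lhs => rw [hψ]
        rfl
      rw [← e1, ← e2, hpt]
    have h2 := hU.fromSpec.isOpenEmbedding.injective h1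
    have h3 := congrArg PrimeSpectrum.asIdeal h2
    rw [hker] at h3
    exact h3
  have hring : ψ ≫ CommRingCat.ofHom (ResidueField.map φ) =
      ψw ≫ CommRingCat.ofHom (residue B) := by
    ext r
    show ResidueField.map φ (ψ.hom r) = residue B (ψw.hom r)
    obtain ⟨a, ha⟩ := residue_surjective (ψ.hom r)
    have h1 : r - ρ.hom a ∈ RingHom.ker ψ.hom := by
      rw [RingHom.mem_ker, map_sub, hval, ha, sub_self]
    rw [← hcl, Ideal.mem_comap, map_sub, hvalw] at h1
    have h2 : residue B (ψw.hom r - φ a) = 0 := (residue_eq_zero_iff _).mpr h1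
    rw [map_sub, sub_eq_zero] at h2
    rw [h2, ← ha]
    rfl
  conv_lhs => rw [hψ]
  conv_rhs => rw [hψw]
  rw [← Category.assoc, ← Category.assoc, ← Spec.map_comp, ← Spec.map_comp, hring]

end Groth.Agent.H7
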