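import Mathlib
import Groth.Prelude.Def_MoreMor

set_option autoImplicit false
universe u

namespace Groth.Agent.H7

open AlgebraicGeometry CategoryTheory Limits TopologicalSpace

/-- a locally closed piece `C ∩ G` with `C` closed and `G` an affine open is the range of an
immersion from an affine scheme -/
lemma exists_affine_immersion_of_closed_inter_affineOpen (X : Scheme.{u}) (G : X.Opens)
    (hG : IsAffineOpen G) (C : TopologicalSpace.Closeds X) :
    ∃ (Z : Scheme.{u}) (ι : Z ⟶ X),
      IsImmersion ι ∧ IsAffine Z ∧ Set.range ι = (C : Set X) ∩ (G : Set X) := by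
  let I := Scheme.IdealSheafData.vanishingIdeal C
  let j := I.subschemeι
  refine ⟨(j ⁻¹ᵁ G).toScheme, (j ⁻¹ᵁ G).ι ≫ j, inferInstance, ?_, ?_⟩
  · exact hG.preimage j
  · rw [Scheme.Hom.comp_base, TopCat.coe_comp, Set.range_comp, Scheme.Opens.range_ι]
    ext x
    simp only [Set.mem_image, Set.mem_inter_iff]
    constructor
    · rintro ⟨y, hy, rfl⟩
      refine ⟨?_, hy⟩
      have : j y ∈ Set.range j := ⟨y, rfl⟩
      rw [Scheme.IdealSheafData.range_subschemeι,
        Scheme.IdealSheafData.coe_support_vanishingIdeal] at this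
      exact this
    · rintro ⟨hxC, hxU⟩
      have : x ∈ Set.range j := by
        rw [Scheme.IdealSheafData.range_subschemeι,
          Scheme.IdealSheafData.coe_support_vanishingIdeal]
        exact hxC
      obtain ⟨y, rfl⟩ := this
      exact ⟨y, hxU, rfl⟩

lemma isAffineHom_of_range_subset_or_disjoint {X Z : Scheme.{u}} (ι : Z ⟶ X) [IsAffine Z]
    {κ : Type*} (U : κ → X.Opens) (hU : ∀ l, IsAffineOpen (U l)) (hcov : ∀ x : X, ∃ l, x ∈ U l)
    (h : ∀ l, Set.range ι ⊆ (U l : Set X) ∨ Set.range ι ∩ (U l : Set X) = ∅) :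
    IsAffineHom ι := by
  apply isAffineHom_of_forall_exists_isAffineOpen
  intro x
  obtain ⟨l, hl⟩ := hcov x
  refine ⟨U l, hl, hU l, ?_⟩
  rcases h l with h1 | h2
  · have : ι ⁻¹ᵁ U l = ⊤ := by
      ext z
      simp only [Opens.coe_top, Set.mem_univ, iff_true]
      exact h1 ⟨z, rfl⟩
    rw [this]; exact isAffineOpen_top Z
  · have : ι ⁻¹ᵁ U l = ⊥ := by
      ext z
      simp only [Opens.coe_bot, Set.mem_empty_iff_false, iff_false]
      intro hz
      exact (Set.eq_empty_iff_forall_notMem.mp h2 (ι z)) ⟨⟨z, rfl⟩, hz⟩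
    rw [this]; exact isAffineOpen_bot Z

/-- `ℕ`-valued criterion for affine stratifications. -/
lemma hasAffineStratification_of_nat {X : Scheme.{u}} (N : ℕ) (s : X → ℕ) (hsN : ∀ x, s x ≤ N)
    (hcl : ∀ k, IsClosed {x : X | s x ≤ k})
    {κ : Type*} (U : κ → X.Opens) (hU : ∀ l, IsAffineOpen (U l)) (hcov : ∀ x : X, ∃ l, x ∈ U l)
    (hlev : ∀ k, ∃ (C : Set X) (G : X.Opens), IsClosed C ∧ IsAffineOpen G ∧
      {x : X | s x = k} = C ∩ (G : Set X) ∧
      ∀ l, {x : X | s x = k} ⊆ (U l : Set X) ∨ {x : X | s x = k} ∩ (U l : Set X) = ∅) :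
    MoreMor.HasAffineStratification X N := by
  refine ⟨fun x => ⟨s x, Nat.lt_succ_of_le (hsN x)⟩, fun i => ?_, fun i => ?_⟩
  · have : {x : X | (⟨s x, Nat.lt_succ_of_le (hsN x)⟩ : Fin (N + 1)) ≤ i} = {x | s x ≤ i.val} := by
      ext x; simp [Fin.le_def]
    rw [this]; exact hcl _
  · obtain ⟨C, G, hC, hG, hCG, hUl⟩ := hlev i.val
    obtain ⟨Z, ι, h1, h2, h3⟩ :=
      exists_affine_immersion_of_closed_inter_affineOpen X G hG ⟨C, hC⟩
    have hlevel : {x : X | (⟨s x, Nat.lt_succ_of_le (hsN x)⟩ : Fin (N + 1)) = i} =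
        {x | s x = i.val} := by
      ext x; simp [Fin.ext_iff]
    simp only [Closeds.coe_mk] at h3
    refine ⟨Z, ι, h1, h2, ?_, ?_⟩
    · apply isAffineHom_of_range_subset_or_disjoint ι U hU hcov
      intro l; rw [h3, ← hCG]; exact hUl l
    · rw [h3, ← hCG, hlevel]

lemma lex_unique {M a a' c c' : ℕ} (hc : c ≤ M) (hc' : c' ≤ M)
    (h : a * (M + 1) + c = a' * (M + 1) + c') : a = a' ∧ c = c' := by
  rcases lt_trichotomy a a' with hlt | heq | hgt
  · exfalso
    have h1 : (a + 1) * (M + 1) ≤ a' * (M + 1) := Nat.mul_le_mul_right _ hlt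
    rw [add_mul, one_mul] at h1
    omega
  · subst heq
    exact ⟨rfl, by omega⟩
  · exfalso
    have h1 : (a' + 1) * (M + 1) ≤ a * (M + 1) := Nat.mul_le_mul_right _ hgt
    rw [add_mul, one_mul] at h1
    omega

lemma binSum_injective (n : ℕ) :
    Function.Injective (fun J : Finset (Fin n) => ∑ l ∈ J, 2 ^ (l : ℕ)) := by
  intro J J' h
  have h' : (fun s : Finset ℕ => ∑ i ∈ s, 2 ^ i) (J.map Fin.valEmbedding) =
      (fun s : Finset ℕ => ∑ i ∈ s, 2 ^ i) (J'.map Fin.valEmbedding) := by
    simpa [Finset.sum_map] using h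
  exact Finset.map_injective _ (Finset.geomSum_injective (le_refl 2) h')

theorem hasAffineStratification_of_qcqs (X : Scheme.{u}) [CompactSpace X]
    [QuasiSeparatedSpace X] : ∃ N, MoreMor.HasAffineStratification X N := by
  classical
  -- a finite affine cover
  obtain ⟨S, hSfin, hS⟩ :=
    (isCompact_and_isOpen_iff_finite_and_eq_biUnion_affineOpens (X := X) (U := Set.univ)).mp
      ⟨isCompact_univ, isOpen_univ⟩
  haveI : Finite S := hSfin.to_subtype
  obtain ⟨n, ⟨e⟩⟩ := Finite.exists_equiv_fin S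
  let U : Fin n → X.Opens := fun l => ((e.symm l : S) : X.affineOpens).1
  have hU : ∀ l, IsAffineOpen (U l) := fun l => ((e.symm l : S) : X.affineOpens).2
  have hcov : ∀ x : X, ∃ l, x ∈ U l := by
    intro x
    have hx : x ∈ (Set.univ : Set X) := trivial
    rw [hS] at hx
    simp only [Set.mem_iUnion] at hx
    obtain ⟨i, hi, hxi⟩ := hx
    refine ⟨e ⟨i, hi⟩, ?_⟩
    simp only [U, Equiv.symm_apply_apply]
    exact hxi
  -- finite intersections are compact open
  have hUJc : ∀ J : Finset (Fin n), IsCompact (⋂ l ∈ J, (U l : Set X)) ∧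
      IsOpen (⋂ l ∈ J, (U l : Set X)) := by
    intro J
    refine Finset.induction_on J ?_ ?_
    · simpa using (⟨isCompact_univ, isOpen_univ⟩ : IsCompact (Set.univ : Set X) ∧ IsOpen (Set.univ : Set X))
    · intro a J _ ih
      rw [Finset.set_biInter_insert]
      exact ⟨QuasiSeparatedSpace.inter_isCompact _ _ (U a).isOpen (hU a).isCompact ih.2 ih.1,
        (U a).isOpen.inter ih.2⟩
  -- cover them by finitely many affine opens, indexed by ℕ
  have hG : ∀ J : Finset (Fin n), ∃ (m : ℕ) (g : ℕ → X.Opens), (∀ j, IsAffineOpen (g j)) ∧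
      (∀ j, (g j : Set X) ⊆ ⋂ l ∈ J, (U l : Set X)) ∧
      ∀ x ∈ (⋂ l ∈ J, (U l : Set X)), ∃ j, j ≤ m ∧ x ∈ g j := by
    intro J
    obtain ⟨T, hTfin, hT⟩ :=
      isCompact_and_isOpen_iff_finite_and_eq_biUnion_affineOpens.mp (hUJc J)
    haveI : Finite T := hTfin.to_subtype
    obtain ⟨m, ⟨eT⟩⟩ := Finite.exists_equiv_fin T
    refine ⟨m, fun j => if h : j < m then ((eT.symm ⟨j, h⟩ : T) : X.affineOpens).1 else ⊥,
      ?_, ?_, ?_⟩
    · intro j
      by_cases h : j < m
      · simp only [h, dif_pos]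
        exact ((eT.symm ⟨j, h⟩ : T) : X.affineOpens).2
      · simp only [h, dif_neg, not_false_iff]
        exact isAffineOpen_bot X
    · intro j
      by_cases h : j < m
      · simp only [h, dif_pos]
        rw [hT]
        intro x hx
        exact Set.mem_biUnion (eT.symm ⟨j, h⟩).2 hx
      · simp only [h, dif_neg, not_false_iff]
        intro x hx
        exact absurd hx (by simp)
    · intro x hx
      rw [hT] at hx
      simp only [Set.mem_iUnion] at hx
      obtain ⟨i, hi, hxi⟩ := hx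
      refine ⟨(eT ⟨i, hi⟩ : Fin m).val, (eT ⟨i, hi⟩).2.le, ?_⟩
      simp only [Fin.is_lt, dif_pos, Fin.eta, Equiv.symm_apply_apply]
      exact hxi
  choose m g hgaff hgsub hgcov using hG
  let M : ℕ := Finset.univ.sup m
  have hmM : ∀ J, m J ≤ M := fun J => Finset.le_sup (Finset.mem_univ J)
  let Jx : X → Finset (Fin n) := fun x => Finset.univ.filter (fun l => x ∈ U l)
  have mem_Jx : ∀ x l, l ∈ Jx x ↔ x ∈ U l := by
    intro x l; simp [Jx]
  have hxUJ : ∀ x, x ∈ ⋂ l ∈ Jx x, (U l : Set X) := by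
    intro x
    simp only [Set.mem_iInter]
    intro l hl
    exact (mem_Jx x l).mp hl
  let b : Finset (Fin n) → ℕ := fun J => ∑ l ∈ J, 2 ^ (l : ℕ)
  have b_mono : ∀ J J' : Finset (Fin n), J ⊆ J' → b J ≤ b J' := by
    intro J J' h
    exact Finset.sum_le_sum_of_subset h
  have b_strict : ∀ J J' : Finset (Fin n), J ⊆ J' → J ≠ J' → b J + 1 ≤ b J' := by
    intro J J' h hne
    have hss : J ⊂ J' := lt_of_le_of_ne h hne
    obtain ⟨a, ha, ha'⟩ := Finset.exists_of_ssubset hss
    exact Nat.succ_le_of_lt (Finset.sum_lt_sum_of_subset h ha ha' (by positivity)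
      (fun j _ _ => Nat.zero_le _))
  have b_inj : ∀ J J' : Finset (Fin n), b J = b J' → J = J' := fun J J' h =>
    binSum_injective n h
  let jj : X → ℕ := fun x => Nat.findGreatest (fun j => x ∈ g (Jx x) j) M
  have hjj_le : ∀ x, jj x ≤ M := fun x => Nat.findGreatest_le M
  have hjj_mem : ∀ x, x ∈ g (Jx x) (jj x) := by
    intro x
    obtain ⟨j, hj, hxj⟩ := hgcov (Jx x) x (hxUJ x)
    exact Nat.findGreatest_spec (P := fun j => x ∈ g (Jx x) j) (hj.trans (hmM _)) hxj
  let s : X → ℕ := fun x => b (Jx x) * (M + 1) + jj x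
  -- the key monotonicity
  have key : ∀ x x' : X, x' ∈ (⋂ l ∈ Jx x, (U l : Set X)) ∩ (g (Jx x) (jj x) : Set X) →
      s x ≤ s x' := by
    intro x x' hx'
    have hsub : Jx x ⊆ Jx x' := by
      intro l hl
      rw [mem_Jx]
      have := hx'.1
      simp only [Set.mem_iInter] at this
      exact this l hl
    by_cases heq : Jx x = Jx x'
    · have h1 : jj x ≤ jj x' := by
        refine Nat.le_findGreatest (hjj_le x) ?_
        show x' ∈ g (Jx x') (jj x)
        rw [← heq]
        exact hx'.2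
      show b (Jx x) * (M + 1) + jj x ≤ b (Jx x') * (M + 1) + jj x'
      rw [← heq]
      exact Nat.add_le_add_left h1 _
    · have h1 : (b (Jx x) + 1) * (M + 1) ≤ b (Jx x') * (M + 1) :=
        Nat.mul_le_mul_right _ (b_strict _ _ hsub heq)
      rw [add_mul, one_mul] at h1
      show b (Jx x) * (M + 1) + jj x ≤ b (Jx x') * (M + 1) + jj x'
      have := hjj_le x
      omega
  have hcl : ∀ k, IsClosed {x : X | s x ≤ k} := by
    intro k
    rw [← isOpen_compl_iff, isOpen_iff_forall_mem_open]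
    intro x hx
    refine ⟨(⋂ l ∈ Jx x, (U l : Set X)) ∩ (g (Jx x) (jj x) : Set X), ?_,
      (hUJc (Jx x)).2.inter (g _ _).isOpen, ⟨hxUJ x, hjj_mem x⟩⟩
    intro x' hx'
    simp only [Set.mem_compl_iff, Set.mem_setOf_eq, not_le] at hx ⊢
    exact lt_of_lt_of_le hx (key x x' hx')
  have hsN : ∀ x, s x ≤ (Finset.univ.sup b) * (M + 1) + M := by
    intro x
    exact Nat.add_le_add (Nat.mul_le_mul_right _ (Finset.le_sup (Finset.mem_univ _))) (hjj_le x)
  refine ⟨_, hasAffineStratification_of_nat _ s hsN hcl U hU hcov ?_⟩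
  intro k
  by_cases hex : ∃ x₀, s x₀ = k
  · obtain ⟨x₀, hx₀⟩ := hex
    have hchar : ∀ x, s x = k ↔ Jx x = Jx x₀ ∧ jj x = jj x₀ := by
      intro x
      constructor
      · intro h
        have h' : b (Jx x) * (M + 1) + jj x = b (Jx x₀) * (M + 1) + jj x₀ := h.trans hx₀.symm
        obtain ⟨h1, h2⟩ := lex_unique (hjj_le x) (hjj_le x₀) h'
        exact ⟨b_inj _ _ h1, h2⟩
      · rintro ⟨h1, h2⟩
        show b (Jx x) * (M + 1) + jj x = k
        rw [h1, h2]; exact hx₀
    refine ⟨(⋂ l, ⋂ (_ : l ∉ Jx x₀), ((U l : Set X))ᶜ) ∩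
        (⋂ j, ⋂ (_ : jj x₀ < j ∧ j ≤ M), ((g (Jx x₀) j : Set X))ᶜ), g (Jx x₀) (jj x₀), ?_,
        hgaff _ _, ?_, ?_⟩
    · refine IsClosed.inter ?_ ?_
      · exact isClosed_iInter fun l => isClosed_iInter fun _ => (U l).isOpen.isClosed_compl
      · exact isClosed_iInter fun j => isClosed_iInter fun _ => (g _ j).isOpen.isClosed_compl
    · ext x
      simp only [Set.mem_setOf_eq, Set.mem_inter_iff, Set.mem_iInter, Set.mem_compl_iff,
        SetLike.mem_coe]
      rw [hchar x]
      constructor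
      · rintro ⟨h1, h2⟩
        refine ⟨⟨?_, ?_⟩, ?_⟩
        · intro l hl hxl
          exact hl (h1 ▸ (mem_Jx x l).mpr hxl)
        · rintro j ⟨hj1, hj2⟩ hxj
          have hlt : Nat.findGreatest (fun j => x ∈ g (Jx x) j) M < j := by
            show jj x < j
            rw [h2]; exact hj1
          exact Nat.findGreatest_is_greatest hlt hj2 (by rw [h1]; exact hxj)
        · have := hjj_mem x
          rw [h1, h2] at this
          exact this
      · rintro ⟨⟨hC1, hC2⟩, hxG⟩
        have h1 : Jx x = Jx x₀ := by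
          apply Finset.Subset.antisymm
          · intro l hl
            by_contra hl'
            exact hC1 l hl' ((mem_Jx x l).mp hl)
          · intro l hl
            rw [mem_Jx]
            have := hgsub _ _ hxG
            simp only [Set.mem_iInter] at this
            exact this l hl
        refine ⟨h1, ?_⟩
        apply le_antisymm
        · by_contra hlt
          rw [not_le] at hlt
          have := hjj_mem x
          rw [h1] at this
          exact hC2 (jj x) ⟨hlt, hjj_le x⟩ this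
        · refine Nat.le_findGreatest (hjj_le x₀) ?_
          show x ∈ g (Jx x) (jj x₀)
          rw [h1]; exact hxG
    · intro l
      by_cases hl : l ∈ Jx x₀
      · left
        intro x hx
        have := ((hchar x).mp hx).1
        exact (mem_Jx x l).mp (this ▸ hl)
      · right
        rw [Set.eq_empty_iff_forall_notMem]
        rintro x ⟨hx, hxl⟩
        have := ((hchar x).mp hx).1
        exact hl (this ▸ (mem_Jx x l).mpr hxl)
  · have hempty : {x : X | s x = k} = ∅ := by
      rw [Set.eq_empty_iff_forall_notMem]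
      intro x hx
      exact hex ⟨x, hx⟩
    refine ⟨∅, ⊥, isClosed_empty, isAffineOpen_bot X, ?_, ?_⟩
    · rw [hempty]; simp
    · intro l; left; rw [hempty]; exact Set.empty_subset _

theorem qcqs_of_hasAffineStratification (X : Scheme.{u}) (n : ℕ)
    (h : MoreMor.HasAffineStratification X n) : CompactSpace X ∧ QuasiSeparatedSpace X := by
  obtain ⟨s, _, hstrata⟩ := h
  choose Z ι _ haff haffhom hrange using hstrata
  have hcover : ∀ x : X, ∃ i, x ∈ Set.range (ι i) := fun x => ⟨s x, by rw [hrange]; rfl⟩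
  constructor
  · rw [← isCompact_univ_iff]
    have : (Set.univ : Set X) = ⋃ i, Set.range (ι i) := by
      ext x
      simp only [Set.mem_univ, Set.mem_iUnion, true_iff]
      exact hcover x
    rw [this]
    refine isCompact_iUnion fun i => ?_
    haveI := haff i
    exact isCompact_range (ι i).continuous
  · rw [quasiSeparatedSpace_iff_forall_affineOpens]
    intro U V
    have : ((U : X.Opens) : Set X) ∩ ((V : X.Opens) : Set X) =
        ⋃ i, (ι i) '' (((ι i) ⁻¹ᵁ U.1 : Set (Z i)) ∩ ((ι i) ⁻¹ᵁ V.1 : Set (Z i))) := by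
      ext x
      simp only [Set.mem_inter_iff, Set.mem_iUnion, Set.mem_image]
      constructor
      · rintro ⟨hxU, hxV⟩
        obtain ⟨i, z, rfl⟩ := hcover x
        exact ⟨i, z, ⟨hxU, hxV⟩, rfl⟩
      · rintro ⟨i, z, ⟨hzU, hzV⟩, rfl⟩
        exact ⟨hzU, hzV⟩
    rw [this]
    refine isCompact_iUnion fun i => IsCompact.image ?_ (ι i).continuous
    haveI := haff i
    haveI := haffhom i
    have hU' : IsAffineOpen ((ι i) ⁻¹ᵁ U.1) := U.2.preimage (ι i)
    have hV' : IsAffineOpen ((ι i) ⁻¹ᵁ V.1) := V.2.preimage (ι i)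
    exact QuasiSeparatedSpace.inter_isCompact _ _ ((ι i) ⁻¹ᵁ U.1).isOpen hU'.isCompact
      ((ι i) ⁻¹ᵁ V.1).isOpen hV'.isCompact

end Groth.Agent.H7
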