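import Mathlib
import Groth.Prelude.Def_MoreMor
import Groth.Agent.H7.AffStrat

set_option autoImplicit false
universe u

namespace Groth.Agent.H7

open AlgebraicGeometry CategoryTheory Limits TopologicalSpace

/-- dimension bound in terms of chains of irreducible closed subsets -/
def DimLE (X : Type*) [TopologicalSpace X] (d : ℕ) : Prop :=
  ∀ l : LTSeries (IrreducibleCloseds X), l.length ≤ d

lemma dimLE_of_topologicalKrullDim_eq {X : Type*} [TopologicalSpace X] (d : ℕ)
    (hd : topologicalKrullDim X = d) : DimLE X d := by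
  intro l
  have h := Order.LTSeries.length_le_krullDim l
  rw [show Order.krullDim (IrreducibleCloseds X) = topologicalKrullDim X from rfl, hd] at h
  exact_mod_cast h

lemma exists_ltSeries_succ {X Z : Type*} [TopologicalSpace X] [TopologicalSpace Z] (f : Z → X)
    (hf : Topology.IsInducing f)
    (H : ∀ T : IrreducibleCloseds X, (T : Set X) ⊆ closure (Set.range f) →
      ∃ Y : IrreducibleCloseds X, T < Y)
    (l : LTSeries (IrreducibleCloseds Z)) :
    ∃ l' : LTSeries (IrreducibleCloseds X), l'.length = l.length + 1 := by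
  let l' := l.map (IrreducibleCloseds.map f hf.continuous)
    (IrreducibleCloseds.map_strictMono_of_isInducing hf)
  have hlast : ((l'.last : IrreducibleCloseds X) : Set X) ⊆ closure (Set.range f) := by
    rw [LTSeries.last_map]
    exact closure_mono (Set.image_subset_range _ _)
  obtain ⟨Y, hY⟩ := H _ hlast
  exact ⟨l'.snoc Y hY, by simp [l']⟩

lemma dimLE_drop {X Z : Type*} [TopologicalSpace X] [TopologicalSpace Z] (f : Z → X)
    (hf : Topology.IsInducing f)
    (H : ∀ T : IrreducibleCloseds X, (T : Set X) ⊆ closure (Set.range f) →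
      ∃ Y : IrreducibleCloseds X, T < Y)
    (d : ℕ) (hX : DimLE X (d + 1)) : DimLE Z d := by
  intro l
  obtain ⟨l', hl'⟩ := exists_ltSeries_succ f hf H l
  have := hX l'
  omega

lemma isEmpty_of_dimLE_zero {X Z : Type*} [TopologicalSpace X] [TopologicalSpace Z] (f : Z → X)
    (hf : Topology.IsInducing f)
    (H : ∀ T : IrreducibleCloseds X, (T : Set X) ⊆ closure (Set.range f) →
      ∃ Y : IrreducibleCloseds X, T < Y)
    (hX : DimLE X 0) : IsEmpty Z := by
  by_contra hne
  rw [not_isEmpty_iff] at hne
  obtain ⟨z⟩ := hne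
  let T : IrreducibleCloseds Z := ⟨closure {z}, isIrreducible_singleton.closure, isClosed_closure⟩
  obtain ⟨l', hl'⟩ := exists_ltSeries_succ f hf H (RelSeries.singleton _ T)
  have := hX l'
  simp at hl'
  omega

/-- On a Noetherian scheme there is an affine open `U` with `U ⟶ X` affine meeting every
irreducible component. -/
theorem exists_affineOpen_affineHom_meets_components (X : Scheme.{u}) [IsNoetherian X] :
    ∃ U : X.Opens, IsAffineOpen U ∧ IsAffineHom U.ι ∧
      ∀ T : IrreducibleCloseds X, ∃ Y : IrreducibleCloseds X,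
        T ≤ Y ∧ ((Y : Set X) ∩ (U : Set X)).Nonempty := by
  classical
  obtain ⟨S, hSfin, hS⟩ :=
    (isCompact_and_isOpen_iff_finite_and_eq_biUnion_affineOpens (X := X) (U := Set.univ)).mp
      ⟨isCompact_univ, isOpen_univ⟩
  haveI : Finite S := hSfin.to_subtype
  let V : S → X.Opens := fun l => l.1.1
  have hV : ∀ l, IsAffineOpen (V l) := fun l => l.1.2
  have hVcov : ∀ x : X, ∃ l, x ∈ V l := by
    intro x
    have hx : x ∈ (Set.univ : Set X) := trivial
    rw [hS] at hx
    simp only [Set.mem_iUnion] at hx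
    obtain ⟨i, hi, hxi⟩ := hx
    exact ⟨⟨i, hi⟩, hxi⟩
  have h𝒞fin : (irreducibleComponents X).Finite := NoetherianSpace.finite_irreducibleComponents
  haveI : Finite (irreducibleComponents X) := h𝒞fin.to_subtype
  have hgen : ∀ Y : irreducibleComponents X, ∃ η : X, IsGenericPoint η (Y : Set X) := fun Y =>
    QuasiSober.sober Y.2.1 (isClosed_of_mem_irreducibleComponents _ Y.2)
  choose η hη using hgen
  let O : irreducibleComponents X → Set X := fun Y =>
    (⋃ Y' : {Y' : irreducibleComponents X // Y' ≠ Y}, (Y'.1 : Set X))ᶜ ∩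
      ⋂ l : {l : S // η Y ∈ V l}, (V l.1 : Set X)
  have hOopen : ∀ Y, IsOpen (O Y) := by
    intro Y
    refine IsOpen.inter ?_ ?_
    · rw [isOpen_compl_iff]
      exact isClosed_iUnion_of_finite fun Y' => isClosed_of_mem_irreducibleComponents _ Y'.1.2
    · exact isOpen_iInter_of_finite fun l => (V l.1).isOpen
  have hηO : ∀ Y, η Y ∈ O Y := by
    intro Y
    refine ⟨?_, ?_⟩
    · simp only [Set.mem_compl_iff, Set.mem_iUnion, not_exists]
      rintro ⟨Y', hY'⟩ hmem
      have hsub : (Y : Set X) ⊆ Y' := by
        rw [← (hη Y).def]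
        exact (isClosed_of_mem_irreducibleComponents _ Y'.2).closure_subset_iff.mpr
          (Set.singleton_subset_iff.mpr hmem)
      have hsub' : (Y' : Set X) ⊆ Y := Y.2.2 Y'.2.1 hsub
      exact hY' (Subtype.ext (Set.Subset.antisymm hsub' hsub))
    · simp only [Set.mem_iInter]
      exact fun l => l.2
  have hW : ∀ Y : irreducibleComponents X, ∃ W : X.Opens, IsAffineOpen W ∧ η Y ∈ W ∧
      (W : Set X) ⊆ O Y := by
    intro Y
    obtain ⟨W, hWaff, hηW, hWO⟩ := Opens.isBasis_iff_nbhd.mp X.isBasis_affineOpens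
      (U := ⟨O Y, hOopen Y⟩) (x := η Y) (hηO Y)
    exact ⟨W, hWaff, hηW, hWO⟩
  choose W hWaff hηW hWO using hW
  have hWY : ∀ Y : irreducibleComponents X, (W Y : Set X) ⊆ Y := by
    intro Y x hx
    have hxO := hWO Y hx
    have hxu : x ∈ ⋃₀ irreducibleComponents X := by
      rw [sUnion_irreducibleComponents]; trivial
    obtain ⟨Y'', hY'', hxY''⟩ := hxu
    by_cases h : (⟨Y'', hY''⟩ : irreducibleComponents X) = Y
    · rw [← h]; exact hxY''
    · exfalso
      exact hxO.1 (Set.mem_iUnion.mpr ⟨⟨⟨Y'', hY''⟩, h⟩, hxY''⟩)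
  have hdisj : Pairwise (Function.onFun Disjoint W) := by
    intro Y Y' hne
    show Disjoint (W Y) (W Y')
    rw [← Opens.coe_disjoint, Set.disjoint_left]
    intro x hx hx'
    have h1 := hWY Y hx
    have h2 := (hWO Y' hx').1
    exact h2 (Set.mem_iUnion.mpr ⟨⟨Y, hne⟩, h1⟩)
  have h3a : ∀ (Y : irreducibleComponents X) (l : S), η Y ∈ V l → W Y ≤ V l := by
    intro Y l h x hx
    have := (hWO Y hx).2
    simp only [Set.mem_iInter] at this
    exact this ⟨l, h⟩
  have h3b : ∀ (Y : irreducibleComponents X) (l : S), η Y ∉ V l → W Y ⊓ V l = ⊥ := by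
    intro Y l h
    ext x
    simp only [Opens.coe_inf, Set.mem_inter_iff, SetLike.mem_coe, Opens.coe_bot,
      Set.mem_empty_iff_false, iff_false, not_and]
    intro hx hxl
    have hsp : η Y ⤳ x := (hη Y).specializes (hWY Y hx)
    exact h (hsp.mem_open (V l).isOpen hxl)
  refine ⟨⨆ Y, W Y, IsAffineOpen.iSup_of_disjoint hWaff hdisj, ?_, ?_⟩
  · apply isAffineHom_of_forall_exists_isAffineOpen
    intro x
    obtain ⟨l, hl⟩ := hVcov x
    refine ⟨V l, hl, hV l, ?_⟩
    rw [← (⨆ Y, W Y).ι.isAffineOpen_iff_of_isOpenImmersion,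
      Scheme.Hom.image_preimage_eq_opensRange_inf, Scheme.Opens.opensRange_ι, iSup_inf_eq]
    refine IsAffineOpen.iSup_of_disjoint (fun Y => ?_) ?_
    · by_cases h : η Y ∈ V l
      · rw [inf_eq_left.mpr (h3a Y l h)]; exact hWaff Y
      · rw [h3b Y l h]; exact isAffineOpen_bot X
    · intro Y Y' hne
      exact (hdisj hne).mono inf_le_left inf_le_left
  · intro T
    obtain ⟨u, hu, hTu⟩ :=
      exists_mem_irreducibleComponents_subset_of_isIrreducible (T : Set X) T.isIrreducible
    refine ⟨⟨u, hu.1, isClosed_of_mem_irreducibleComponents _ hu⟩, hTu, η ⟨u, hu⟩, ?_, ?_⟩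
    · exact (hη ⟨u, hu⟩).mem
    · exact (le_iSup W ⟨u, hu⟩) (hηW ⟨u, hu⟩)

/-- glue an affine stratification of the closed complement with the open affine stratum -/
lemma hasAffineStratification_succ_of_compl {X : Scheme.{u}} (U : X.Opens) (hU : IsAffineOpen U)
    (hUa : IsAffineHom U.ι) {Z : Scheme.{u}} (j : Z ⟶ X) [IsClosedImmersion j]
    (hj : Set.range j = ((U : Set X))ᶜ) (d : ℕ)
    (h : MoreMor.HasAffineStratification Z d) : MoreMor.HasAffineStratification X (d + 1) := by
  classical
  obtain ⟨sZ, hclZ, hstrZ⟩ := h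
  have hjinj : Function.Injective j := j.isClosedEmbedding.injective
  have hex : ∀ x : X, x ∉ U → ∃ z : Z, j z = x := by
    intro x hx
    have : x ∈ Set.range j := by rw [hj]; exact hx
    exact this
  let s : X → Fin (d + 1 + 1) := fun x =>
    if h : x ∈ U then Fin.last (d + 1) else (sZ (Classical.choose (hex x h))).castSucc
  have hjU : ∀ z : Z, j z ∉ U := by
    intro z
    have : j z ∈ Set.range j := ⟨z, rfl⟩
    rw [hj] at this
    exact this
  have hs_U : ∀ x, x ∈ U → s x = Fin.last (d + 1) := fun x hx => dif_pos hx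
  have hs_j : ∀ z : Z, s (j z) = (sZ z).castSucc := by
    intro z
    have h1 : s (j z) = (sZ (Classical.choose (hex (j z) (hjU z)))).castSucc := dif_neg (hjU z)
    rw [h1, hjinj (Classical.choose_spec (hex (j z) (hjU z)))]
  have hcases : ∀ x : X, x ∈ U ∨ ∃ z : Z, j z = x := by
    intro x
    by_cases h : x ∈ U
    · exact Or.inl h
    · exact Or.inr (hex x h)
  refine ⟨s, fun i => ?_, fun i => ?_⟩
  · refine Fin.lastCases ?_ (fun i' => ?_) i
    · have : {x : X | s x ≤ Fin.last (d + 1)} = Set.univ := by
        ext x; simp [Fin.le_last]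
      rw [this]; exact isClosed_univ
    · have : {x : X | s x ≤ i'.castSucc} = j '' {z | sZ z ≤ i'} := by
        ext x
        simp only [Set.mem_setOf_eq, Set.mem_image]
        constructor
        · intro hx
          rcases hcases x with hxU | ⟨z, rfl⟩
          · rw [hs_U x hxU] at hx
            exact absurd (lt_of_lt_of_le (Fin.castSucc_lt_last i') hx) (lt_irrefl _)
          · rw [hs_j z, Fin.castSucc_le_castSucc_iff] at hx
            exact ⟨z, hx, rfl⟩
        · rintro ⟨z, hz, rfl⟩
          rw [hs_j z, Fin.castSucc_le_castSucc_iff]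
          exact hz
      rw [this]
      exact j.isClosedEmbedding.isClosedMap _ (hclZ i')
  · refine Fin.lastCases ?_ (fun i' => ?_) i
    · refine ⟨U.toScheme, U.ι, inferInstance, hU, hUa, ?_⟩
      rw [Scheme.Opens.range_ι]
      ext x
      simp only [SetLike.mem_coe, Set.mem_setOf_eq]
      constructor
      · intro hx; exact hs_U x hx
      · intro hx
        rcases hcases x with hxU | ⟨z, rfl⟩
        · exact hxU
        · rw [hs_j z] at hx
          exact absurd hx (Fin.castSucc_lt_last _).ne
    · obtain ⟨T, ι', h1, h2, h3, h4⟩ := hstrZ i'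
      refine ⟨T, ι' ≫ j, inferInstance, h2, inferInstance, ?_⟩
      rw [Scheme.Hom.comp_base, TopCat.coe_comp, Set.range_comp]
      have h4' : Set.range (ι' : T → Z) = {z | sZ z = i'} := h4
      rw [h4']
      ext x
      simp only [Set.mem_image, Set.mem_setOf_eq]
      constructor
      · rintro ⟨z, hz, rfl⟩
        rw [hs_j z, hz]
      · intro hx
        rcases hcases x with hxU | ⟨z, rfl⟩
        · rw [hs_U x hxU] at hx
          exact absurd hx.symm (Fin.castSucc_lt_last _).ne
        · rw [hs_j z] at hx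
          exact ⟨z, Fin.castSucc_injective _ hx, rfl⟩

theorem hasAffineStratification_of_dimLE (d : ℕ) :
    ∀ (X : Scheme.{u}) [IsNoetherian X], DimLE X d → MoreMor.HasAffineStratification X d := by
  induction d with
  | zero =>
    intro X _ hX
    obtain ⟨U, hU, hUa, hmeet⟩ := exists_affineOpen_affineHom_meets_components X
    let Zc : TopologicalSpace.Closeds X := ⟨(U : Set X)ᶜ, U.isOpen.isClosed_compl⟩
    let I := Scheme.IdealSheafData.vanishingIdeal Zc
    let j := I.subschemeι
    have hj : Set.range j = ((U : Set X))ᶜ := by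
      rw [Scheme.IdealSheafData.range_subschemeι,
        Scheme.IdealSheafData.coe_support_vanishingIdeal]
      rfl
    have H : ∀ T : IrreducibleCloseds X, (T : Set X) ⊆ closure (Set.range j) →
        ∃ Y : IrreducibleCloseds X, T < Y := by
      intro T hT
      rw [hj, U.isOpen.isClosed_compl.closure_eq] at hT
      obtain ⟨Y, hTY, x, hxY, hxU⟩ := hmeet T
      refine ⟨Y, lt_of_le_of_ne hTY ?_⟩
      rintro rfl
      exact hT hxY hxU
    have hempty : IsEmpty I.subscheme :=
      isEmpty_of_dimLE_zero j j.isClosedEmbedding.isInducing H hX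
    have hall : ∀ x : X, x ∈ U := by
      intro x
      by_contra hx
      have : x ∈ Set.range j := by rw [hj]; exact hx
      obtain ⟨z, _⟩ := this
      exact hempty.false z
    refine ⟨fun _ => 0, fun i => ?_, fun i => ⟨U.toScheme, U.ι, inferInstance, hU, hUa, ?_⟩⟩
    · have : {x : X | (0 : Fin (0 + 1)) ≤ i} = Set.univ := by
        ext x; simp
      rw [this]; exact isClosed_univ
    · rw [Scheme.Opens.range_ι]
      ext x
      simp only [SetLike.mem_coe, Set.mem_setOf_eq]
      exact ⟨fun _ => Fin.ext (by have := i.2; simp only [Fin.val_zero]; omega), fun _ => hall x⟩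
  | succ d ih =>
    intro X _ hX
    obtain ⟨U, hU, hUa, hmeet⟩ := exists_affineOpen_affineHom_meets_components X
    let Zc : TopologicalSpace.Closeds X := ⟨(U : Set X)ᶜ, U.isOpen.isClosed_compl⟩
    let I := Scheme.IdealSheafData.vanishingIdeal Zc
    let j := I.subschemeι
    have hj : Set.range j = ((U : Set X))ᶜ := by
      rw [Scheme.IdealSheafData.range_subschemeι,
        Scheme.IdealSheafData.coe_support_vanishingIdeal]
      rfl
    have H : ∀ T : IrreducibleCloseds X, (T : Set X) ⊆ closure (Set.range j) →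
        ∃ Y : IrreducibleCloseds X, T < Y := by
      intro T hT
      rw [hj, U.isOpen.isClosed_compl.closure_eq] at hT
      obtain ⟨Y, hTY, x, hxY, hxU⟩ := hmeet T
      refine ⟨Y, lt_of_le_of_ne hTY ?_⟩
      rintro rfl
      exact hT hxY hxU
    have hdim : DimLE I.subscheme d := dimLE_drop j j.isClosedEmbedding.isInducing H d hX
    haveI : IsLocallyNoetherian I.subscheme := LocallyOfFiniteType.isLocallyNoetherian j
    haveI : CompactSpace I.subscheme := j.isClosedEmbedding.compactSpace
    haveI : IsNoetherian I.subscheme := {}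
    exact hasAffineStratification_succ_of_compl U hU hUa j hj d (ih I.subscheme hdim)

end Groth.Agent.H7
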