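import Mathlib
import Groth.Agent.H7.AssTensorFlat
import Groth.Agent.S1391
import Groth.Agent.H2.ConnComp

/-!
# Associated points of an external tensor product `F ⊗_S G` (EGA IV 3.3.6-type statements)

* `fibreSocle_descend`: ring-level descent of the fibre socle condition along the flat local
  homomorphism `C / 𝔪_A C → D / 𝔪_B D`.
* `fibAss_descend`: the same for a cartesian square of schemes.
* `snd_mem_ass`: `q (Ass (p^*F ⊗ q^*G)) ⊆ Ass G` for `G` flat over the base, if `f (Ass F) ⊆ Ass O_S`.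
-/

set_option autoImplicit false
set_option linter.style.haveILetI false
universe u
open CategoryTheory CategoryTheory.Limits AlgebraicGeometry TopologicalSpace TensorProduct
  IsLocalRing

namespace Groth.Agent.H7.AssExtTensor

open Groth.Agent.H7.SocleFlat Groth.Agent.H7.AssTensorFlat

section Ring

theorem fibreSocle_descend
    {A B C D Cb Db : Type u} [CommRing A] [CommRing B] [CommRing C] [CommRing D] [CommRing Cb]
    [CommRing Db] [IsLocalRing A] [IsLocalRing B] [IsLocalRing C] [IsLocalRing D] [IsLocalRing Cb]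
    [IsLocalRing Db]
    [Algebra A C] [Algebra B D] [Algebra C D] [Algebra C Cb] [Algebra D Db] [Algebra Cb Db]
    [Algebra C Db] [IsScalarTower C D Db] [IsScalarTower C Cb Db]
    (hC : Function.Surjective (algebraMap C Cb))
    (hCker : RingHom.ker (algebraMap C Cb) = Ideal.map (algebraMap A C) (maximalIdeal A))
    (hD : Function.Surjective (algebraMap D Db))
    (hDker : RingHom.ker (algebraMap D Db) = Ideal.map (algebraMap B D) (maximalIdeal B))
    [IsLocalHom (algebraMap Cb Db)] [IsNoetherianRing Cb] [Module.Flat Cb Db]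
    (M : Type u) [AddCommGroup M] [Module C M] [Module A M] [IsScalarTower A C M]
    (N : Type u) [AddCommGroup N] [Module D N] [Module B N] [IsScalarTower B D N]
    (e : N ≃ₗ[D] D ⊗[C] M) (h : FibreSocle B D N) : FibreSocle A C M := by
  have h1 : HasSocle D (Db ⊗[D] N) := (hasSocle_baseChange_iff N hD _ hDker).mpr h
  have h2 : HasSocle Db (Db ⊗[D] N) := (hasSocle_iff_of_surjective hD _).mpr h1
  let e1 : Db ⊗[D] N ≃ₗ[Db] Db ⊗[D] (D ⊗[C] M) :=
    TensorProduct.AlgebraTensorModule.congr (LinearEquiv.refl Db Db) e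
  let e2 : Db ⊗[D] (D ⊗[C] M) ≃ₗ[Db] Db ⊗[C] M :=
    TensorProduct.AlgebraTensorModule.cancelBaseChange C D Db Db M
  let e3 : Db ⊗[Cb] (Cb ⊗[C] M) ≃ₗ[Db] Db ⊗[C] M :=
    TensorProduct.AlgebraTensorModule.cancelBaseChange C Cb Db Db M
  have h3 : HasSocle Db (Db ⊗[Cb] (Cb ⊗[C] M)) :=
    (hasSocle_congr (e1 ≪≫ₗ e2 ≪≫ₗ e3.symm)).mp h2
  have h4 : HasSocle Cb (Cb ⊗[C] M) :=
    (of_hasSocle_tensor (A := Cb) (B := Db) Db (Cb ⊗[C] M) h3).1
  have h5 : HasSocle C (Cb ⊗[C] M) := (hasSocle_iff_of_surjective hC _).mp h4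
  exact (hasSocle_baseChange_iff M hC _ hCker).mp h5

/-- Version of `fibreSocle_descend` with explicit ring homomorphisms. -/
theorem fibreSocle_descend'
    {A B C D Cb Db : Type u} [CommRing A] [CommRing B] [CommRing C] [CommRing D] [CommRing Cb]
    [CommRing Db] [IsLocalRing A] [IsLocalRing B] [IsLocalRing C] [IsLocalRing D] [IsLocalRing Cb]
    [IsLocalRing Db]
    (α : A →+* C) (β : B →+* D) (φ : C →+* D) (γ : C →+* Cb) (δ : D →+* Db) (ψ : Cb →+* Db)
    (hcomm : ψ.comp γ = δ.comp φ)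
    (hγ : Function.Surjective γ) (hγker : RingHom.ker γ = Ideal.map α (maximalIdeal A))
    (hδ : Function.Surjective δ) (hδker : RingHom.ker δ = Ideal.map β (maximalIdeal B))
    [IsLocalHom ψ] [IsNoetherianRing Cb] (hψ : ψ.Flat)
    (M : Type u) [AddCommGroup M] [Module C M] (N : Type u) [AddCommGroup N] [Module D N]
    (e : letI := φ.toAlgebra; N ≃ₗ[D] D ⊗[C] M)
    (h : ∃ n : N, n ∉ (Ideal.map β (maximalIdeal B)) • (⊤ : Submodule D N) ∧
      ∀ b ∈ maximalIdeal D, b • n ∈ (Ideal.map β (maximalIdeal B)) • (⊤ : Submodule D N)) :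
    ∃ m : M, m ∉ (Ideal.map α (maximalIdeal A)) • (⊤ : Submodule C M) ∧
      ∀ c ∈ maximalIdeal C, c • m ∈ (Ideal.map α (maximalIdeal A)) • (⊤ : Submodule C M) := by
  letI aAC : Algebra A C := α.toAlgebra
  letI aBD : Algebra B D := β.toAlgebra
  letI aCD : Algebra C D := φ.toAlgebra
  letI aCCb : Algebra C Cb := γ.toAlgebra
  letI aDDb : Algebra D Db := δ.toAlgebra
  letI aCbDb : Algebra Cb Db := ψ.toAlgebra
  letI aCDb : Algebra C Db := (ψ.comp γ).toAlgebra
  haveI t1 : IsScalarTower C Cb Db := IsScalarTower.of_algebraMap_eq' rfl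
  haveI t2 : IsScalarTower C D Db := IsScalarTower.of_algebraMap_eq' hcomm
  letI mAM : Module A M := Module.compHom M α
  haveI t3 : IsScalarTower A C M := IsScalarTower.of_algebraMap_smul fun _ _ => rfl
  letI mBN : Module B N := Module.compHom N β
  haveI t4 : IsScalarTower B D N := IsScalarTower.of_algebraMap_smul fun _ _ => rfl
  haveI : IsLocalHom (algebraMap Cb Db) := ‹IsLocalHom ψ›
  haveI : Module.Flat Cb Db := hψ
  exact fibreSocle_descend (A := A) (B := B) (C := C) (D := D) (Cb := Cb) (Db := Db)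
    hγ hγker hδ hδker M N e h

end Ring

section Sch

/-- **EGA IV 3.3.1 (pointwise form)** for a quasi-coherent `E`. -/
theorem mem_ass_tensor_iff_qcoh {X Y : Scheme.{u}} [IsLocallyNoetherian X] [IsLocallyNoetherian Y]
    (f : X ⟶ Y) (E : Y.Modules) [E.IsQuasicoherent] (F : X.Modules)
    (hfl : FlatMod.IsFlatOver f F) (x : X) :
    x ∈ AssSch.Ass (CohB1.tensorMod ((Scheme.Modules.pullback f).obj E) F) ↔
      f x ∈ AssSch.Ass E ∧ FibAss f F x := by
  letI algAB : Algebra (Y.presheaf.stalk (f x)) (X.presheaf.stalk x) :=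
    (f.stalkMap x).hom.toAlgebra
  letI modAF : Module (Y.presheaf.stalk (f x)) (F.presheaf.stalk x) :=
    FlatMod.moduleStalkOver f F x
  haveI tower : IsScalarTower (Y.presheaf.stalk (f x)) (X.presheaf.stalk x)
      (F.presheaf.stalk x) := IsScalarTower.of_algebraMap_smul fun _ _ => rfl
  haveI : IsLocalHom (algebraMap (Y.presheaf.stalk (f x)) (X.presheaf.stalk x)) :=
    (inferInstance : IsLocalHom (f.stalkMap x).hom)
  haveI : Module.Flat (Y.presheaf.stalk (f x)) (F.presheaf.stalk x) := hfl x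
  obtain ⟨e1⟩ := Groth.Agent.H8.nonempty_stalk_tensorMod_equiv
    ((Scheme.Modules.pullback f).obj E) F x
  obtain ⟨e2⟩ := Groth.Agent.H8.nonempty_stalk_pullback_equiv f E x
  let e3 := TensorProduct.congr e2
    (LinearEquiv.refl (X.presheaf.stalk x) (F.presheaf.stalk x))
  let e4 := TensorProduct.comm (X.presheaf.stalk x)
    (TensorProduct (Y.presheaf.stalk (f x)) (X.presheaf.stalk x) (E.presheaf.stalk (f x)))
    (F.presheaf.stalk x)
  let e5 := TensorProduct.AlgebraTensorModule.cancelBaseChange (Y.presheaf.stalk (f x))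
    (X.presheaf.stalk x) (X.presheaf.stalk x) (F.presheaf.stalk x) (E.presheaf.stalk (f x))
  have key := hasSocle_tensor_iff (A := Y.presheaf.stalk (f x)) (B := X.presheaf.stalk x)
    (F.presheaf.stalk x) (E.presheaf.stalk (f x))
  show IsAssociatedPrime _ _ ↔ IsAssociatedPrime _ _ ∧ _
  rw [isAssociatedPrime_maximalIdeal_iff, isAssociatedPrime_maximalIdeal_iff,
    hasSocle_congr (e1 ≪≫ₗ e3 ≪≫ₗ e4 ≪≫ₗ e5)]
  exact key

/-- The stalk of a pullback, at a point whose image is given up to a propositional equality. -/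
theorem nonempty_stalk_pullback_equiv_of_eq {P Y : Scheme.{u}} (q : P ⟶ Y) (G : Y.Modules)
    [G.IsQuasicoherent] (z : P) (yy : Y) (hy : yy = q z)
    (φ : Y.presheaf.stalk yy ⟶ P.presheaf.stalk z)
    (hφ : φ = (Y.presheaf.stalkCongr (.of_eq hy)).hom ≫ q.stalkMap z) :
    letI := φ.hom.toAlgebra
    Nonempty (((Scheme.Modules.pullback q).obj G).presheaf.stalk z ≃ₗ[P.presheaf.stalk z]
      TensorProduct (Y.presheaf.stalk yy) (P.presheaf.stalk z) (G.presheaf.stalk yy)) := by
  subst hy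
  have h1 : φ = q.stalkMap z := by
    rw [hφ]
    simp [TopCat.Presheaf.stalkCongr]
  subst h1
  exact Groth.Agent.H8.nonempty_stalk_pullback_equiv q G z

/-- The fibre of `p` over `x` maps to the fibre of `g` over `f x` by a flat morphism. -/
theorem exists_fibre_map {P X Y S : Scheme.{u}} {q : P ⟶ Y} {p : P ⟶ X} {g : Y ⟶ S} {f : X ⟶ S}
    (h : IsPullback q p g f) (x : X) :
    ∃ π : p.fiber x ⟶ g.fiber (f x), π ≫ g.fiberι (f x) = p.fiberι x ≫ q ∧ Flat π := by
  have hp := isPullback_fiberToSpecResidueField_of_isPullback h x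
  have hfl : Flat (Spec.map (f.residueFieldMap x)) := by
    rw [HasRingHomProperty.Spec_iff (P := @Flat)]
    letI := (f.residueFieldMap x).hom.toAlgebra
    exact (inferInstance : Module.Flat (S.residueField (f x)) (X.residueField x))
  refine ⟨_, ?_, MorphismProperty.of_isPullback (P := @Flat) hp.flip hfl⟩
  exact pullback.lift_fst _ _ _

theorem fibAss_descend {P X Y S : Scheme.{u}} {q : P ⟶ Y} {p : P ⟶ X} {g : Y ⟶ S} {f : X ⟶ S}
    [IsLocallyNoetherian Y] (G : Y.Modules) [G.IsQuasicoherent] (x : X) (z' : ↥(p.fiber x))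
    (π : p.fiber x ⟶ g.fiber (f x)) (hπ : π ≫ g.fiberι (f x) = p.fiberι x ≫ q) [Flat π]
    (hy : g.fiberι (f x) (π z') = q (p.fiberι x z'))
    (hfib : FibAss p ((Scheme.Modules.pullback q).obj G) (p.fiberι x z')) :
    FibAss g G (g.fiberι (f x) (π z')) := by
  obtain ⟨hC, hCker⟩ := Groth.Agent.H9.stalkMap_fiberι_surjective_and_ker_eq g (f x) (π z')
  obtain ⟨hD, hDker⟩ := Groth.Agent.H9.stalkMap_fiberι_surjective_and_ker_eq p x z'
  obtain ⟨e⟩ := nonempty_stalk_pullback_equiv_of_eq q G (p.fiberι x z') _ hy _ rfl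
  haveI : IsNoetherianRing ((g.fiber (f x)).presheaf.stalk (π z')) :=
    isNoetherianRing_of_surjective _ _ ((g.fiberι (f x)).stalkMap (π z')).hom hC
  have hcomm : (π.stalkMap z').hom.comp ((g.fiberι (f x)).stalkMap (π z')).hom =
      ((p.fiberι x).stalkMap z').hom.comp
        ((Y.presheaf.stalkCongr (.of_eq hy)).hom ≫ q.stalkMap (p.fiberι x z')).hom := by
    have h1 := Scheme.Hom.stalkMap_congr_hom (π ≫ g.fiberι (f x)) (p.fiberι x ≫ q) hπ z'
    rw [Scheme.Hom.stalkMap_comp, Scheme.Hom.stalkMap_comp] at h1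
    refine RingHom.ext fun c => ?_
    exact congrArg (fun k => k.hom c) h1
  exact fibreSocle_descend' (g.stalkMap _).hom (p.stalkMap _).hom _ _ _ (π.stalkMap z').hom hcomm
    hC hCker hD hDker (Flat.stalkMap π z') _ _ e hfib

/-- If `G` is flat over `S` at `y`, `g y` is an associated point of `O_S` and `y` is an associated
point of the fibre module, then `y` is an associated point of `G`. -/
theorem mem_ass_of_fibAss {Y S : Scheme.{u}} [IsLocallyNoetherian Y] [IsLocallyNoetherian S]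
    (g : Y ⟶ S) (G : Y.Modules) (y : Y) (hfl : FlatMod.IsFlatOverAt g G y)
    (hs : g y ∈ AssSch.Ass (Coh.structureModule S)) (hfib : FibAss g G y) :
    y ∈ AssSch.Ass G := by
  letI algAB : Algebra (S.presheaf.stalk (g y)) (Y.presheaf.stalk y) :=
    (g.stalkMap y).hom.toAlgebra
  letI modAF : Module (S.presheaf.stalk (g y)) (G.presheaf.stalk y) :=
    FlatMod.moduleStalkOver g G y
  haveI tower : IsScalarTower (S.presheaf.stalk (g y)) (Y.presheaf.stalk y)
      (G.presheaf.stalk y) := IsScalarTower.of_algebraMap_smul fun _ _ => rfl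
  haveI : Module.Flat (S.presheaf.stalk (g y)) (G.presheaf.stalk y) := hfl
  have hA : HasSocle (S.presheaf.stalk (g y)) (S.presheaf.stalk (g y)) := by
    have h0 : IsAssociatedPrime (maximalIdeal (S.presheaf.stalk (g y)))
        ((Coh.structureModule S).presheaf.stalk (g y)) := hs
    rw [isAssociatedPrime_maximalIdeal_iff] at h0
    exact (hasSocle_congr (LinearEquiv.ofBijective (Groth.Agent.H2.ConnComp.L S (g y))
      (Groth.Agent.H2.ConnComp.L_bijective S (g y)))).mpr h0
  have h1 := hasSocle_tensor_of (A := S.presheaf.stalk (g y)) (B := Y.presheaf.stalk y)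
    (G.presheaf.stalk y) (S.presheaf.stalk (g y)) hA hfib
  show IsAssociatedPrime _ _
  rw [isAssociatedPrime_maximalIdeal_iff]
  exact (hasSocle_congr (TensorProduct.AlgebraTensorModule.rid _ _ _)).mp h1

/-- `q (Ass (p^*F ⊗ q^*G)) ⊆ Ass G` pointwise. -/
theorem snd_mem_ass {P X Y S : Scheme.{u}} {q : P ⟶ Y} {p : P ⟶ X} {g : Y ⟶ S} {f : X ⟶ S}
    (h : IsPullback q p g f) [IsLocallyNoetherian X] [IsLocallyNoetherian Y]
    [IsLocallyNoetherian S] [IsLocallyNoetherian P]
    (F : X.Modules) [F.IsQuasicoherent] (G : Y.Modules) [hG : G.IsQuasicoherent]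
    (hGfl : FlatMod.IsFlatOver g G) (z : P)
    (hz : z ∈ AssSch.Ass (CohB1.tensorMod ((Scheme.Modules.pullback p).obj F)
      ((Scheme.Modules.pullback q).obj G)))
    (hAss : p z ∈ AssSch.Ass F → f (p z) ∈ AssSch.Ass (Coh.structureModule S)) :
    q z ∈ AssSch.Ass G := by
  have hfl : FlatMod.IsFlatOver p ((Scheme.Modules.pullback q).obj G) :=
    fun w => Groth.Agent.S1391.result g p q f h G hG w (hGfl _)
  obtain ⟨hx, hfib⟩ := (mem_ass_tensor_iff_qcoh p F _ hfl z).mp hz
  have hs := hAss hx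
  obtain ⟨x, hxz⟩ : ∃ x, x = p z := ⟨_, rfl⟩
  have hzr : z ∈ Set.range (p.fiberι x) := by
    rw [Scheme.Hom.range_fiberι]; exact hxz.symm
  obtain ⟨z', rfl⟩ := hzr
  obtain ⟨π, hπ, hπfl⟩ := exists_fibre_map h x
  haveI := hπfl
  have hy : g.fiberι (f x) (π z') = q (p.fiberι x z') := by
    have := congrArg (fun φ : p.fiber x ⟶ Y => φ z') hπ
    simpa using this
  have hfib' := fibAss_descend G x z' π hπ hy hfib
  have hpt : g (g.fiberι (f x) (π z')) = f (p (p.fiberι x z')) := by
    rw [hy]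
    have := congrArg (fun φ : P ⟶ S => φ (p.fiberι x z')) h.w
    simpa using this
  rw [← hy]
  refine mem_ass_of_fibAss g G _ (hGfl _) ?_ hfib'
  rw [hpt]; exact hs

end Sch

end Groth.Agent.H7.AssExtTensor
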