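import Mathlib
import Groth.Agent.H7.SocleFlat

/-!
# Depth-zero points of `Spec (K ⊗[k] L)` are generic points

For field extensions `K`, `L` of `k`, a point of `Spec (K ⊗[k] L)` whose local ring has a nonzero
element killed by the maximal ideal has no proper generization (`genOfSocle_Spec_tensor`).
No Noetherian hypothesis is needed.
-/

set_option autoImplicit false
set_option linter.style.haveILetI false
universe u
open TensorProduct IsLocalRing AlgebraicGeometry CategoryTheory

namespace Groth.Agent.H7.TensorFields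

open Groth.Agent.H7.SocleFlat

/-- Points with a depth-zero local ring have no proper generization. -/
def GenOfSocle (Z : Scheme.{u}) : Prop :=
  ∀ z : Z, HasSocle (Z.presheaf.stalk z) (Z.presheaf.stalk z) → ∀ w : Z, w ⤳ z → w = z

theorem hasSocle_of_ringEquiv {R R' : Type*} [CommRing R] [CommRing R'] [IsLocalRing R]
    [IsLocalRing R'] (σ : R ≃+* R') (h : HasSocle R R) : HasSocle R' R' := by
  obtain ⟨m, hm, h⟩ := h
  refine ⟨σ m, fun h0 => hm ((map_eq_zero_iff σ σ.injective).mp h0), fun r hr => ?_⟩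
  have hr' : σ.symm r ∈ maximalIdeal R := by
    rw [mem_maximalIdeal, mem_nonunits_iff] at hr ⊢
    intro hu
    apply hr
    have := hu.map σ
    rwa [RingEquiv.apply_symm_apply] at this
  have h1 := h _ hr'
  rw [smul_eq_mul] at h1 ⊢
  have h2 := congrArg σ h1
  rwa [map_mul, RingEquiv.apply_symm_apply, map_zero] at h2

theorem GenOfSocle.of_iso {Z Z' : Scheme.{u}} (e : Z ≅ Z') (h : GenOfSocle Z') : GenOfSocle Z := by
  intro z hz w hwz
  have h1 : HasSocle (Z'.presheaf.stalk (e.hom z)) (Z'.presheaf.stalk (e.hom z)) :=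
    hasSocle_of_ringEquiv (asIso (e.hom.stalkMap z)).commRingCatIsoToRingEquiv.symm hz
  have h2 := h (e.hom z) h1 (e.hom w) (hwz.map e.hom.continuous)
  exact e.hom.isOpenEmbedding.injective h2

/-- The abstract crux. -/
theorem le_of_socle {T₀ T R : Type*} [CommRing T₀] [IsDomain T₀] [CommRing T] [Algebra T₀ T]
    [Algebra.IsIntegral T₀ T] [CommRing R] [IsLocalRing R] [Algebra T R] [Algebra T₀ R]
    [IsScalarTower T₀ T R] [Module.Flat T₀ R]
    (hR : HasSocle R R) (𝔮 𝔮' : Ideal T) [𝔮'.IsPrime]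
    (h𝔮 : ∀ t ∈ 𝔮, algebraMap T R t ∈ maximalIdeal R) (hle : 𝔮' ≤ 𝔮) : 𝔮 ≤ 𝔮' := by
  obtain ⟨r, hr0, hr⟩ := hR
  have h0 : 𝔮.comap (algebraMap T₀ T) = ⊥ := by
    rw [eq_bot_iff]
    intro t ht
    rw [Ideal.mem_comap] at ht
    rw [Ideal.mem_bot]
    by_contra hne
    have hreg : IsSMulRegular T₀ t := fun a b hab => mul_left_cancel₀ hne hab
    have hreg' : IsSMulRegular R (algebraMap T₀ R t) := IsSMulRegular.of_flat hreg
    have hmem := h𝔮 _ ht
    rw [← IsScalarTower.algebraMap_apply] at hmem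
    have h1 := hr _ hmem
    exact hr0 (hreg' (show algebraMap T₀ R t • r = algebraMap T₀ R t • 0 by rw [smul_zero]; exact h1))
  by_contra hnle
  obtain ⟨x, hx, hx'⟩ := Set.not_subset.mp hnle
  have hlt := Ideal.comap_lt_comap_of_integral_mem_sdiff (R := T₀) hle ⟨hx, hx'⟩
    (Algebra.IsIntegral.isIntegral x)
  rw [h0] at hlt
  exact not_lt_bot hlt

theorem genOfSocle_Spec_of (T₀ T : Type u) [CommRing T₀] [IsDomain T₀] [CommRing T]
    [Algebra T₀ T] [Algebra.IsIntegral T₀ T] [Module.Flat T₀ T] :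
    GenOfSocle (Spec (CommRingCat.of T)) := by
  intro z hz w hwz
  letI k : Algebra T ((Spec (CommRingCat.of T)).presheaf.stalk z) :=
    StructureSheaf.stalkAlgebra T z
  haveI : IsLocalization.AtPrime ((Spec (CommRingCat.of T)).presheaf.stalk z) z.asIdeal :=
    StructureSheaf.IsLocalization.to_stalk T z
  letI k0 : Algebra T₀ ((Spec (CommRingCat.of T)).presheaf.stalk z) :=
    ((algebraMap T ((Spec (CommRingCat.of T)).presheaf.stalk z)).comp (algebraMap T₀ T)).toAlgebra
  haveI : IsScalarTower T₀ T ((Spec (CommRingCat.of T)).presheaf.stalk z) :=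
    IsScalarTower.of_algebraMap_eq' rfl
  haveI : Module.Flat T ((Spec (CommRingCat.of T)).presheaf.stalk z) :=
    IsLocalization.flat _ z.asIdeal.primeCompl
  haveI : Module.Flat T₀ ((Spec (CommRingCat.of T)).presheaf.stalk z) :=
    Module.Flat.trans T₀ T _
  have hle : w.asIdeal ≤ z.asIdeal := (PrimeSpectrum.le_iff_specializes w z).mpr hwz
  have hge := le_of_socle (T₀ := T₀) hz z.asIdeal w.asIdeal
    (fun t ht => (IsLocalization.AtPrime.to_map_mem_maximal_iff _ z.asIdeal t).mpr ht) hle
  exact PrimeSpectrum.ext (le_antisymm hle hge)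

theorem isDomain_tensor_fractionRing (k L : Type u) [Field k] [Field L] [Algebra k L]
    (ι : Type u) : IsDomain (L ⊗[k] FractionRing (MvPolynomial ι k)) := by
  haveI hA : IsDomain (L ⊗[k] MvPolynomial ι k) :=
    MulEquiv.isDomain (MvPolynomial ι L) (MvPolynomial.algebraTensorAlgEquiv k L).toMulEquiv
  letI alg : Algebra (L ⊗[k] MvPolynomial ι k) (L ⊗[k] FractionRing (MvPolynomial ι k)) :=
    (Algebra.TensorProduct.map (AlgHom.id L L)
      (IsScalarTower.toAlgHom k (MvPolynomial ι k) (FractionRing (MvPolynomial ι k)))).toRingHom.toAlgebra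
  haveI : IsScalarTower L (L ⊗[k] MvPolynomial ι k)
      (L ⊗[k] FractionRing (MvPolynomial ι k)) := ⟨fun l t b => by
    show (Algebra.TensorProduct.map (AlgHom.id L L)
        (IsScalarTower.toAlgHom k (MvPolynomial ι k) (FractionRing (MvPolynomial ι k)))) (l • t) * b =
      l • ((Algebra.TensorProduct.map (AlgHom.id L L)
        (IsScalarTower.toAlgHom k (MvPolynomial ι k) (FractionRing (MvPolynomial ι k)))) t * b)
    rw [map_smul, smul_mul_assoc]⟩
  have hloc : IsLocalization ((nonZeroDivisors (MvPolynomial ι k)).map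
      (Algebra.TensorProduct.includeRight (R := k) (A := L)))
      (L ⊗[k] FractionRing (MvPolynomial ι k)) :=
    IsLocalization.tensorProduct_tensorProduct_right k L (nonZeroDivisors (MvPolynomial ι k))
      (FractionRing (MvPolynomial ι k)) (by
        refine RingHom.ext fun a => ?_
        show (Algebra.TensorProduct.map (AlgHom.id L L)
          (IsScalarTower.toAlgHom k (MvPolynomial ι k) (FractionRing (MvPolynomial ι k))))
            ((1 : L) ⊗ₜ[k] a) = (1 : L) ⊗ₜ[k] (algebraMap _ _ a)
        rw [Algebra.TensorProduct.map_tmul]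
        rfl)
  have hle : (nonZeroDivisors (MvPolynomial ι k)).map
      (Algebra.TensorProduct.includeRight (R := k) (A := L)) ≤
      nonZeroDivisors (L ⊗[k] MvPolynomial ι k) := by
    rintro _ ⟨a, ha, rfl⟩
    have hinj : Function.Injective
        (Algebra.TensorProduct.includeRight : MvPolynomial ι k →ₐ[k] L ⊗[k] MvPolynomial ι k) :=
      Algebra.TensorProduct.includeRight_injective (algebraMap k L).injective
    exact mem_nonZeroDivisors_of_ne_zero
      (fun h0 => nonZeroDivisors.ne_zero ha (hinj (by rw [h0, map_zero])))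
  exact IsLocalization.isDomain_of_le_nonZeroDivisors (L ⊗[k] FractionRing (MvPolynomial ι k)) hle

theorem isDomain_adjoin_tensor {k K : Type u} [Field k] [Field K] [Algebra k K] {ι : Type u}
    {x : ι → K} (hx : AlgebraicIndependent k x) (L : Type u) [Field L] [Algebra k L] :
    IsDomain ((IntermediateField.adjoin k (Set.range x)) ⊗[k] L) := by
  haveI hB : IsDomain (L ⊗[k] FractionRing (MvPolynomial ι k)) :=
    isDomain_tensor_fractionRing k L ι
  let e1 : (IntermediateField.adjoin k (Set.range x)) ⊗[k] L ≃ₐ[k]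
      L ⊗[k] (IntermediateField.adjoin k (Set.range x)) := Algebra.TensorProduct.comm k _ _
  let e2 : L ⊗[k] (IntermediateField.adjoin k (Set.range x)) ≃ₐ[k]
      L ⊗[k] FractionRing (MvPolynomial ι k) :=
    Algebra.TensorProduct.congr AlgEquiv.refl hx.aevalEquivField.symm
  exact MulEquiv.isDomain (L ⊗[k] FractionRing (MvPolynomial ι k)) (e1.trans e2).toMulEquiv

theorem genOfSocle_Spec_tensor_of (k K L K₀ : Type u) [Field k] [Field K] [Field L] [Algebra k K]
    [Algebra k L] [Field K₀] [Algebra k K₀] [Algebra K₀ K] [IsScalarTower k K₀ K]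
    [Algebra.IsIntegral K₀ K] [IsDomain (K₀ ⊗[k] L)] :
    GenOfSocle (Spec (CommRingCat.of (K ⊗[k] L))) := by
  have h'' : GenOfSocle (Spec (CommRingCat.of ((K₀ ⊗[k] L) ⊗[K₀] K))) :=
    genOfSocle_Spec_of (K₀ ⊗[k] L) _
  let σ : ((K₀ ⊗[k] L) ⊗[K₀] K) ≃+* K ⊗[k] L :=
    ((Algebra.TensorProduct.comm K₀ (K₀ ⊗[k] L) K).toRingEquiv).trans
    (Algebra.TensorProduct.cancelBaseChange k K₀ K K L).toRingEquiv
  exact h''.of_iso (Scheme.Spec.mapIso σ.toCommRingCatIso.op)

/-- **Crux.** Depth-zero points of `Spec (K ⊗[k] L)` are generic. -/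
theorem genOfSocle_Spec_tensor (k K L : Type u) [Field k] [Field K] [Field L] [Algebra k K]
    [Algebra k L] : GenOfSocle (Spec (CommRingCat.of (K ⊗[k] L))) := by
  obtain ⟨ι, x, hx⟩ := exists_isTranscendenceBasis' k K
  haveI : Algebra.IsAlgebraic (IntermediateField.adjoin k (Set.range x)) K := hx.isAlgebraic_field
  haveI : Algebra.IsIntegral (IntermediateField.adjoin k (Set.range x)) K :=
    Algebra.IsAlgebraic.isIntegral
  haveI : IsDomain ((IntermediateField.adjoin k (Set.range x)) ⊗[k] L) :=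
    isDomain_adjoin_tensor hx.1 L
  exact genOfSocle_Spec_tensor_of k K L (IntermediateField.adjoin k (Set.range x))

end Groth.Agent.H7.TensorFields
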