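import Mathlib
import Groth.Agent.H7.AssExtTensor
import Groth.Agent.H7.TensorFields

/-!
# No embedded associated points for an external tensor product `F ⊗_S G` (EGA IV 3.3.5/3.3.6)
-/

set_option autoImplicit false
set_option linter.style.haveILetI false
universe u
open CategoryTheory CategoryTheory.Limits AlgebraicGeometry TopologicalSpace TensorProduct
  IsLocalRing

namespace Groth.Agent.H7.AssExtTensor

open Groth.Agent.H7.SocleFlat Groth.Agent.H7.AssTensorFlat Groth.Agent.H7.TensorFields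

section Ring

theorem fibreSocle_descend_snd
    {B C D Cb Db : Type u} [CommRing B] [CommRing C] [CommRing D] [CommRing Cb]
    [CommRing Db] [IsLocalRing B] [IsLocalRing C] [IsLocalRing D] [IsLocalRing Cb]
    [IsLocalRing Db]
    [Algebra B D] [Algebra C D] [Algebra C Cb] [Algebra D Db] [Algebra Cb Db]
    [Algebra C Db] [IsScalarTower C D Db] [IsScalarTower C Cb Db]
    (hD : Function.Surjective (algebraMap D Db))
    (hDker : RingHom.ker (algebraMap D Db) = Ideal.map (algebraMap B D) (maximalIdeal B))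
    [IsLocalHom (algebraMap Cb Db)] [IsNoetherianRing Cb] [Module.Flat Cb Db]
    (M : Type u) [AddCommGroup M] [Module C M]
    (N : Type u) [AddCommGroup N] [Module D N] [Module B N] [IsScalarTower B D N]
    (e : N ≃ₗ[D] D ⊗[C] M) (h : FibreSocle B D N) : FibreSocle Cb Db Db := by
  have h1 : HasSocle D (Db ⊗[D] N) := (hasSocle_baseChange_iff N hD _ hDker).mpr h
  have h2 : HasSocle Db (Db ⊗[D] N) := (hasSocle_iff_of_surjective hD _).mpr h1
  let e1 : Db ⊗[D] N ≃ₗ[Db] Db ⊗[D] (D ⊗[C] M) :=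
    TensorProduct.AlgebraTensorModule.congr (LinearEquiv.refl Db Db) e
  let e2 : Db ⊗[D] (D ⊗[C] M) ≃ₗ[Db] Db ⊗[C] M :=
    TensorProduct.AlgebraTensorModule.cancelBaseChange C D Db Db M
  let e3 : Db ⊗[Cb] (Cb ⊗[C] M) ≃ₗ[Db] Db ⊗[C] M :=
    TensorProduct.AlgebraTensorModule.cancelBaseChange C Cb Db Db M
  have h3 : HasSocle Db (Db ⊗[Cb] (Cb ⊗[C] M)) :=
    (hasSocle_congr (e1 ≪≫ₗ e2 ≪≫ₗ e3.symm)).mp h2
  exact (of_hasSocle_tensor (A := Cb) (B := Db) Db (Cb ⊗[C] M) h3).2

theorem fibreSocle_descend_snd'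
    {B C D Cb Db : Type u} [CommRing B] [CommRing C] [CommRing D] [CommRing Cb]
    [CommRing Db] [IsLocalRing B] [IsLocalRing C] [IsLocalRing D] [IsLocalRing Cb]
    [IsLocalRing Db]
    (β : B →+* D) (φ : C →+* D) (γ : C →+* Cb) (δ : D →+* Db) (ψ : Cb →+* Db)
    (hcomm : ψ.comp γ = δ.comp φ)
    (hδ : Function.Surjective δ) (hδker : RingHom.ker δ = Ideal.map β (maximalIdeal B))
    [IsLocalHom ψ] [IsNoetherianRing Cb] (hψ : ψ.Flat)
    (M : Type u) [AddCommGroup M] [Module C M] (N : Type u) [AddCommGroup N] [Module D N]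
    (e : letI := φ.toAlgebra; N ≃ₗ[D] D ⊗[C] M)
    (h : ∃ n : N, n ∉ (Ideal.map β (maximalIdeal B)) • (⊤ : Submodule D N) ∧
      ∀ b ∈ maximalIdeal D, b • n ∈ (Ideal.map β (maximalIdeal B)) • (⊤ : Submodule D N)) :
    ∃ d : Db, d ∉ (Ideal.map ψ (maximalIdeal Cb)) • (⊤ : Submodule Db Db) ∧
      ∀ b ∈ maximalIdeal Db, b • d ∈ (Ideal.map ψ (maximalIdeal Cb)) • (⊤ : Submodule Db Db) := by
  letI aBD : Algebra B D := β.toAlgebra
  letI aCD : Algebra C D := φ.toAlgebra
  letI aCCb : Algebra C Cb := γ.toAlgebra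
  letI aDDb : Algebra D Db := δ.toAlgebra
  letI aCbDb : Algebra Cb Db := ψ.toAlgebra
  letI aCDb : Algebra C Db := (ψ.comp γ).toAlgebra
  haveI t1 : IsScalarTower C Cb Db := IsScalarTower.of_algebraMap_eq' rfl
  haveI t2 : IsScalarTower C D Db := IsScalarTower.of_algebraMap_eq' hcomm
  letI mBN : Module B N := Module.compHom N β
  haveI t4 : IsScalarTower B D N := IsScalarTower.of_algebraMap_smul fun _ _ => rfl
  haveI : IsLocalHom (algebraMap Cb Db) := ‹IsLocalHom ψ›
  haveI : Module.Flat Cb Db := hψ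
  exact fibreSocle_descend_snd (B := B) (C := C) (D := D) (Cb := Cb) (Db := Db)
    hδ hδker M N e h

end Ring

section Sch

/-- Associated points of the restriction of a quasi-coherent `F` to a fibre. -/
theorem mem_ass_fibre_iff_qcoh {X Y : Scheme.{u}} [IsLocallyNoetherian X] (f : X ⟶ Y)
    (F : X.Modules) [F.IsQuasicoherent] (y : Y) (a : ↥(f.fiber y)) :
    a ∈ AssSch.Ass ((Scheme.Modules.pullback (f.fiberι y)).obj F) ↔
      FibAss f F (f.fiberι y a) := by
  obtain ⟨hsurj, hker⟩ := Groth.Agent.H9.stalkMap_fiberι_surjective_and_ker_eq f y a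
  letI alg : Algebra (X.presheaf.stalk (f.fiberι y a)) ((f.fiber y).presheaf.stalk a) :=
    ((f.fiberι y).stalkMap a).hom.toAlgebra
  haveI : IsNoetherianRing ((f.fiber y).presheaf.stalk a) :=
    isNoetherianRing_of_surjective _ _ ((f.fiberι y).stalkMap a).hom hsurj
  obtain ⟨e2⟩ := Groth.Agent.H8.nonempty_stalk_pullback_equiv (f.fiberι y) F a
  show IsAssociatedPrime _ _ ↔ _
  rw [isAssociatedPrime_maximalIdeal_iff, hasSocle_congr e2,
    hasSocle_iff_of_surjective (B := X.presheaf.stalk (f.fiberι y a)) hsurj]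
  exact hasSocle_baseChange_iff (F.presheaf.stalk (f.fiberι y a)) hsurj _ hker

/-- The fibres of a base change of `Spec K ⟶ Spec k` (fields) have only generic depth-zero
points. -/
theorem genOfSocle_fiber {W V : Scheme.{u}} {K k : Type u} [Field K] [Field k]
    (π : W ⟶ V) (a : W ⟶ Spec (CommRingCat.of K)) (b : V ⟶ Spec (CommRingCat.of k))
    (φ : CommRingCat.of k ⟶ CommRingCat.of K)
    (hp : IsPullback π a b (Spec.map φ)) (v : V) : GenOfSocle (π.fiber v) := by
  have h1 : IsPullback (π.fiberι v) (π.fiberToSpecResidueField v) π (V.fromSpecResidueField v) :=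
    IsPullback.of_hasPullback _ _
  have h2 := h1.paste_horiz hp.flip
  obtain ⟨ψ, hψ⟩ : ∃ ψ : CommRingCat.of k ⟶ V.residueField v,
      Spec.map ψ = V.fromSpecResidueField v ≫ b :=
    ⟨Spec.preimage _, Spec.map_preimage _⟩
  rw [← hψ] at h2
  letI := φ.hom.toAlgebra
  letI := ψ.hom.toAlgebra
  have e : π.fiber v ≅ Spec (CommRingCat.of (K ⊗[k] V.residueField v)) :=
    h2.isoPullback ≪≫ pullbackSpecIso k K (V.residueField v)
  exact (genOfSocle_Spec_tensor k K (V.residueField v)).of_iso e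

/-- The fibre of `p` over `x` maps to the fibre of `g` over `f x` by a flat morphism whose fibres
are spectra of tensor products of fields. -/
theorem exists_fibre_map' {P X Y S : Scheme.{u}} {q : P ⟶ Y} {p : P ⟶ X} {g : Y ⟶ S} {f : X ⟶ S}
    (h : IsPullback q p g f) (x : X) :
    ∃ π : p.fiber x ⟶ g.fiber (f x), π ≫ g.fiberι (f x) = p.fiberι x ≫ q ∧ Flat π ∧
      ∀ v, GenOfSocle (π.fiber v) := by
  have hp := isPullback_fiberToSpecResidueField_of_isPullback h x
  have hfl : Flat (Spec.map (f.residueFieldMap x)) := by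
    rw [HasRingHomProperty.Spec_iff (P := @Flat)]
    letI := (f.residueFieldMap x).hom.toAlgebra
    exact (inferInstance : Module.Flat (S.residueField (f x)) (X.residueField x))
  exact ⟨_, pullback.lift_fst _ _ _, MorphismProperty.of_isPullback (P := @Flat) hp.flip hfl,
    fun v => genOfSocle_fiber (K := X.residueField x) (k := S.residueField (f x)) _ _ _ _ hp v⟩

theorem fibreSocle_of_fibAss {P X Y S : Scheme.{u}} {q : P ⟶ Y} {p : P ⟶ X} {g : Y ⟶ S}
    {f : X ⟶ S} [IsLocallyNoetherian Y] (G : Y.Modules) [G.IsQuasicoherent] (x : X)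
    (z' : ↥(p.fiber x)) (π : p.fiber x ⟶ g.fiber (f x))
    (hπ : π ≫ g.fiberι (f x) = p.fiberι x ≫ q) [Flat π]
    (hy : g.fiberι (f x) (π z') = q (p.fiberι x z'))
    (hfib : FibAss p ((Scheme.Modules.pullback q).obj G) (p.fiberι x z')) :
    ∃ d : (p.fiber x).presheaf.stalk z',
      d ∉ (Ideal.map (π.stalkMap z').hom
          (maximalIdeal ((g.fiber (f x)).presheaf.stalk (π z')))) •
        (⊤ : Submodule ((p.fiber x).presheaf.stalk z') ((p.fiber x).presheaf.stalk z')) ∧
      ∀ b ∈ maximalIdeal ((p.fiber x).presheaf.stalk z'),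
        b • d ∈ (Ideal.map (π.stalkMap z').hom
          (maximalIdeal ((g.fiber (f x)).presheaf.stalk (π z')))) •
        (⊤ : Submodule ((p.fiber x).presheaf.stalk z') ((p.fiber x).presheaf.stalk z')) := by
  obtain ⟨hC, -⟩ := Groth.Agent.H9.stalkMap_fiberι_surjective_and_ker_eq g (f x) (π z')
  obtain ⟨hD, hDker⟩ := Groth.Agent.H9.stalkMap_fiberι_surjective_and_ker_eq p x z'
  obtain ⟨e⟩ := nonempty_stalk_pullback_equiv_of_eq q G (p.fiberι x z') _ hy _ rfl
  haveI : IsNoetherianRing ((g.fiber (f x)).presheaf.stalk (π z')) :=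
    isNoetherianRing_of_surjective _ _ ((g.fiberι (f x)).stalkMap (π z')).hom hC
  have hcomm : (π.stalkMap z').hom.comp ((g.fiberι (f x)).stalkMap (π z')).hom =
      ((p.fiberι x).stalkMap z').hom.comp
        ((Y.presheaf.stalkCongr (.of_eq hy)).hom ≫ q.stalkMap (p.fiberι x z')).hom := by
    have h1 := Scheme.Hom.stalkMap_congr_hom (π ≫ g.fiberι (f x)) (p.fiberι x ≫ q) hπ z'
    rw [Scheme.Hom.stalkMap_comp, Scheme.Hom.stalkMap_comp] at h1
    refine RingHom.ext fun c => ?_
    exact congrArg (fun k => k.hom c) h1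
  exact fibreSocle_descend_snd' (p.stalkMap _).hom _ _ _ (π.stalkMap z').hom hcomm
    hD hDker (Flat.stalkMap π z') _ _ e hfib

/-- A point which is of depth zero in its fibre has no proper generization in that fibre. -/
theorem eq_of_specializes_of_fibreSocle {W V : Scheme.{u}} (π : W ⟶ V)
    (hgen : ∀ v, GenOfSocle (π.fiber v)) (z' : W)
    (hsoc : ∃ d : W.presheaf.stalk z',
      d ∉ (Ideal.map (π.stalkMap z').hom (maximalIdeal (V.presheaf.stalk (π z')))) •
        (⊤ : Submodule (W.presheaf.stalk z') (W.presheaf.stalk z')) ∧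
      ∀ b ∈ maximalIdeal (W.presheaf.stalk z'),
        b • d ∈ (Ideal.map (π.stalkMap z').hom (maximalIdeal (V.presheaf.stalk (π z')))) •
        (⊤ : Submodule (W.presheaf.stalk z') (W.presheaf.stalk z')))
    (w' : W) (hw : w' ⤳ z') (hπw : π w' = π z') : w' = z' := by
  obtain ⟨v, hv⟩ : ∃ v, v = π z' := ⟨_, rfl⟩
  have hzr : z' ∈ Set.range (π.fiberι v) := by
    rw [Scheme.Hom.range_fiberι]; exact hv.symm
  have hwr : w' ∈ Set.range (π.fiberι v) := by
    rw [Scheme.Hom.range_fiberι]; exact (hv.trans hπw.symm).symm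
  obtain ⟨z'', rfl⟩ := hzr
  obtain ⟨w'', rfl⟩ := hwr
  obtain ⟨hE, hEker⟩ := Groth.Agent.H9.stalkMap_fiberι_surjective_and_ker_eq π v z''
  letI alg : Algebra (W.presheaf.stalk (π.fiberι v z'')) ((π.fiber v).presheaf.stalk z'') :=
    ((π.fiberι v).stalkMap z'').hom.toAlgebra
  have h1 : HasSocle (W.presheaf.stalk (π.fiberι v z''))
      (((π.fiber v).presheaf.stalk z'') ⊗[W.presheaf.stalk (π.fiberι v z'')]
        (W.presheaf.stalk (π.fiberι v z''))) :=
    (hasSocle_baseChange_iff (W.presheaf.stalk (π.fiberι v z'')) hE _ hEker).mpr hsoc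
  have h2 : HasSocle (W.presheaf.stalk (π.fiberι v z'')) ((π.fiber v).presheaf.stalk z'') :=
    (hasSocle_congr (TensorProduct.rid (W.presheaf.stalk (π.fiberι v z''))
      ((π.fiber v).presheaf.stalk z''))).mp h1
  have h3 : HasSocle ((π.fiber v).presheaf.stalk z'') ((π.fiber v).presheaf.stalk z'') :=
    (hasSocle_iff_of_surjective (B := W.presheaf.stalk (π.fiberι v z''))
      (R' := (π.fiber v).presheaf.stalk z'') hE _).mpr h2
  have h4 := hgen v z'' h3 w'' ((π.fiberι v).isEmbedding.isInducing.specializes_iff.mp hw)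
  rw [h4]

/-- **EGA IV 3.3.5-type.** `F ⊗_S G` has no embedded associated points if `F` has none and the
restrictions of the flat module `G` to the fibres have none. -/
theorem noEmbedded_extTensor_of_fibres {P X Y S : Scheme.{u}} {q : P ⟶ Y} {p : P ⟶ X}
    {g : Y ⟶ S} {f : X ⟶ S} (h : IsPullback q p g f) [IsLocallyNoetherian X]
    [IsLocallyNoetherian Y] [IsLocallyNoetherian P]
    (F : X.Modules) [F.IsQuasicoherent] (G : Y.Modules) [hG : G.IsQuasicoherent]
    (hGfl : FlatMod.IsFlatOver g G) (hFne : AssSch.NoEmbedded F)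
    (hGne : ∀ s : S, AssSch.NoEmbedded ((Scheme.Modules.pullback (g.fiberι s)).obj G)) :
    AssSch.NoEmbedded (CohB1.tensorMod ((Scheme.Modules.pullback p).obj F)
      ((Scheme.Modules.pullback q).obj G)) := by
  intro z hz w hw hwz
  have hfl : FlatMod.IsFlatOver p ((Scheme.Modules.pullback q).obj G) :=
    fun t => Groth.Agent.S1391.result g p q f h G hG t (hGfl _)
  obtain ⟨hxz, hfz⟩ := (mem_ass_tensor_iff_qcoh p F _ hfl z).mp hz
  obtain ⟨hxw, hfw⟩ := (mem_ass_tensor_iff_qcoh p F _ hfl w).mp hw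
  have hpzw : p z = p w := hFne (p z) hxz (p w) hxw (hwz.map p.continuous)
  obtain ⟨x, hx⟩ : ∃ x, x = p z := ⟨_, rfl⟩
  have hzr : z ∈ Set.range (p.fiberι x) := by
    rw [Scheme.Hom.range_fiberι]; exact hx.symm
  have hwr : w ∈ Set.range (p.fiberι x) := by
    rw [Scheme.Hom.range_fiberι]; exact (hx.trans hpzw).symm
  obtain ⟨z', rfl⟩ := hzr
  obtain ⟨w', rfl⟩ := hwr
  have hwz' : w' ⤳ z' := (p.fiberι x).isEmbedding.isInducing.specializes_iff.mp hwz
  obtain ⟨π, hπ, hπfl, hgen⟩ := exists_fibre_map' h x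
  haveI := hπfl
  have hyz : g.fiberι (f x) (π z') = q (p.fiberι x z') := by
    have := congrArg (fun φ : p.fiber x ⟶ Y => φ z') hπ
    simpa using this
  have hyw : g.fiberι (f x) (π w') = q (p.fiberι x w') := by
    have := congrArg (fun φ : p.fiber x ⟶ Y => φ w') hπ
    simpa using this
  have hAz := fibAss_descend G x z' π hπ hyz hfz
  have hAw := fibAss_descend G x w' π hπ hyw hfw
  have hπzw : π z' = π w' :=
    hGne (f x) (π z') ((mem_ass_fibre_iff_qcoh g G (f x) (π z')).mpr hAz) (π w')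
      ((mem_ass_fibre_iff_qcoh g G (f x) (π w')).mpr hAw) (hwz'.map π.continuous)
  have hsoc := fibreSocle_of_fibAss G x z' π hπ hyz hfz
  have := eq_of_specializes_of_fibreSocle π hgen z' hsoc w' hwz' hπzw.symm
  rw [this]

/-- **EGA IV 3.3.6-type.** `F ⊗_S G` has no embedded associated points if `F` and the flat module
`G` have none and `f (Ass F) ⊆ Ass O_S`. -/
theorem noEmbedded_extTensor {P X Y S : Scheme.{u}} {q : P ⟶ Y} {p : P ⟶ X}
    {g : Y ⟶ S} {f : X ⟶ S} (h : IsPullback q p g f) [IsLocallyNoetherian X]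
    [IsLocallyNoetherian Y] [IsLocallyNoetherian S] [IsLocallyNoetherian P]
    (F : X.Modules) [F.IsQuasicoherent] (G : Y.Modules) [hG : G.IsQuasicoherent]
    (hGfl : FlatMod.IsFlatOver g G)
    (hAss : ∀ x ∈ AssSch.Ass F, f x ∈ AssSch.Ass (Coh.structureModule S))
    (hFne : AssSch.NoEmbedded F) (hGne : AssSch.NoEmbedded G) :
    AssSch.NoEmbedded (CohB1.tensorMod ((Scheme.Modules.pullback p).obj F)
      ((Scheme.Modules.pullback q).obj G)) := by
  intro z hz w hw hwz
  have hfl : FlatMod.IsFlatOver p ((Scheme.Modules.pullback q).obj G) :=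
    fun t => Groth.Agent.S1391.result g p q f h G hG t (hGfl _)
  obtain ⟨hxz, hfz⟩ := (mem_ass_tensor_iff_qcoh p F _ hfl z).mp hz
  obtain ⟨hxw, -⟩ := (mem_ass_tensor_iff_qcoh p F _ hfl w).mp hw
  have hpzw : p z = p w := hFne (p z) hxz (p w) hxw (hwz.map p.continuous)
  have hqz : q z ∈ AssSch.Ass G := snd_mem_ass h F G hGfl z hz (hAss _)
  have hqw : q w ∈ AssSch.Ass G := snd_mem_ass h F G hGfl w hw (hAss _)
  have hqzw : q z = q w := hGne (q z) hqz (q w) hqw (hwz.map q.continuous)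
  obtain ⟨x, hx⟩ : ∃ x, x = p z := ⟨_, rfl⟩
  have hzr : z ∈ Set.range (p.fiberι x) := by
    rw [Scheme.Hom.range_fiberι]; exact hx.symm
  have hwr : w ∈ Set.range (p.fiberι x) := by
    rw [Scheme.Hom.range_fiberι]; exact (hx.trans hpzw).symm
  obtain ⟨z', rfl⟩ := hzr
  obtain ⟨w', rfl⟩ := hwr
  have hwz' : w' ⤳ z' := (p.fiberι x).isEmbedding.isInducing.specializes_iff.mp hwz
  obtain ⟨π, hπ, hπfl, hgen⟩ := exists_fibre_map' h x
  haveI := hπfl
  have hyz : g.fiberι (f x) (π z') = q (p.fiberι x z') := by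
    have := congrArg (fun φ : p.fiber x ⟶ Y => φ z') hπ
    simpa using this
  have hyw : g.fiberι (f x) (π w') = q (p.fiberι x w') := by
    have := congrArg (fun φ : p.fiber x ⟶ Y => φ w') hπ
    simpa using this
  have hπzw : π z' = π w' :=
    (g.fiberι (f x)).isEmbedding.injective (by rw [hyz, hyw, hqzw])
  have hsoc := fibreSocle_of_fibAss G x z' π hπ hyz hfz
  have := eq_of_specializes_of_fibreSocle π hgen z' hsoc w' hwz' hπzw.symm
  rw [this]

end Sch

end Groth.Agent.H7.AssExtTensor
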