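import Mathlib
import Groth.Agent.H7.AssExtTensor2

/-!
# The associated points of an external tensor product `F ⊗_S G` (EGA IV 3.3.3/3.3.6-type)
-/

set_option autoImplicit false
set_option linter.style.haveILetI false
universe u
open CategoryTheory CategoryTheory.Limits AlgebraicGeometry TopologicalSpace TensorProduct
  IsLocalRing

namespace Groth.Agent.H7.AssExtTensor

open Groth.Agent.H7.SocleFlat Groth.Agent.H7.AssTensorFlat Groth.Agent.H7.TensorFields

section Ring

theorem map_maximalIdeal_of_surjective {C Cb : Type*} [CommRing C] [CommRing Cb] [IsLocalRing C]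
    [IsLocalRing Cb] (γ : C →+* Cb) (hγ : Function.Surjective γ) :
    Ideal.map γ (maximalIdeal C) = maximalIdeal Cb := by
  haveI : IsLocalHom γ := IsLocalHom.of_surjective _ hγ
  apply le_antisymm
  · rw [Ideal.map_le_iff_le_comap]
    intro c hc
    exact (mem_maximalIdeal _).mpr (map_nonunit γ c ((mem_maximalIdeal _).mp hc))
  · intro b hb
    obtain ⟨c, rfl⟩ := hγ b
    refine Ideal.mem_map_of_mem _ ?_
    rw [mem_maximalIdeal, mem_nonunits_iff] at hb ⊢
    exact fun hu => hb (hu.map γ)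

theorem fibreSocle_iff
    {A B C D Cb Db : Type u} [CommRing A] [CommRing B] [CommRing C] [CommRing D] [CommRing Cb]
    [CommRing Db] [IsLocalRing A] [IsLocalRing B] [IsLocalRing C] [IsLocalRing D] [IsLocalRing Cb]
    [IsLocalRing Db]
    [Algebra A C] [Algebra B D] [Algebra C D] [Algebra C Cb] [Algebra D Db] [Algebra Cb Db]
    [Algebra C Db] [IsScalarTower C D Db] [IsScalarTower C Cb Db]
    (hC : Function.Surjective (algebraMap C Cb))
    (hCker : RingHom.ker (algebraMap C Cb) = Ideal.map (algebraMap A C) (maximalIdeal A))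
    (hD : Function.Surjective (algebraMap D Db))
    (hDker : RingHom.ker (algebraMap D Db) = Ideal.map (algebraMap B D) (maximalIdeal B))
    [IsLocalHom (algebraMap Cb Db)] [IsNoetherianRing Cb] [Module.Flat Cb Db]
    (M : Type u) [AddCommGroup M] [Module C M] [Module A M] [IsScalarTower A C M]
    (N : Type u) [AddCommGroup N] [Module D N] [Module B N] [IsScalarTower B D N]
    (e : N ≃ₗ[D] D ⊗[C] M) : FibreSocle B D N ↔ FibreSocle A C M ∧ FibreSocle Cb Db Db := by
  let e1 : Db ⊗[D] N ≃ₗ[Db] Db ⊗[D] (D ⊗[C] M) :=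
    TensorProduct.AlgebraTensorModule.congr (LinearEquiv.refl Db Db) e
  let e2 : Db ⊗[D] (D ⊗[C] M) ≃ₗ[Db] Db ⊗[C] M :=
    TensorProduct.AlgebraTensorModule.cancelBaseChange C D Db Db M
  let e3 : Db ⊗[Cb] (Cb ⊗[C] M) ≃ₗ[Db] Db ⊗[C] M :=
    TensorProduct.AlgebraTensorModule.cancelBaseChange C Cb Db Db M
  have i1 : FibreSocle B D N ↔ HasSocle D (Db ⊗[D] N) :=
    (hasSocle_baseChange_iff N hD _ hDker).symm
  have i2 : HasSocle D (Db ⊗[D] N) ↔ HasSocle Db (Db ⊗[D] N) :=
    (hasSocle_iff_of_surjective hD _).symm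
  have i3 : HasSocle Db (Db ⊗[D] N) ↔ HasSocle Db (Db ⊗[Cb] (Cb ⊗[C] M)) :=
    hasSocle_congr (e1 ≪≫ₗ e2 ≪≫ₗ e3.symm)
  have i4 : HasSocle Db (Db ⊗[Cb] (Cb ⊗[C] M)) ↔
      HasSocle Cb (Cb ⊗[C] M) ∧ FibreSocle Cb Db Db :=
    hasSocle_tensor_iff (A := Cb) (B := Db) Db (Cb ⊗[C] M)
  have i5 : HasSocle Cb (Cb ⊗[C] M) ↔ HasSocle C (Cb ⊗[C] M) :=
    hasSocle_iff_of_surjective hC _
  have i6 : HasSocle C (Cb ⊗[C] M) ↔ FibreSocle A C M :=
    hasSocle_baseChange_iff M hC _ hCker
  rw [i1, i2, i3, i4, i5, i6]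

theorem fibreSocle_iff'
    {A B C D Cb Db : Type u} [CommRing A] [CommRing B] [CommRing C] [CommRing D] [CommRing Cb]
    [CommRing Db] [IsLocalRing A] [IsLocalRing B] [IsLocalRing C] [IsLocalRing D] [IsLocalRing Cb]
    [IsLocalRing Db]
    (α : A →+* C) (β : B →+* D) (φ : C →+* D) (γ : C →+* Cb) (δ : D →+* Db) (ψ : Cb →+* Db)
    (hcomm : ψ.comp γ = δ.comp φ)
    (hγ : Function.Surjective γ) (hγker : RingHom.ker γ = Ideal.map α (maximalIdeal A))
    (hδ : Function.Surjective δ) (hδker : RingHom.ker δ = Ideal.map β (maximalIdeal B))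
    [IsLocalHom ψ] [IsNoetherianRing Cb] (hψ : ψ.Flat)
    (M : Type u) [AddCommGroup M] [Module C M] (N : Type u) [AddCommGroup N] [Module D N]
    (e : letI := φ.toAlgebra; N ≃ₗ[D] D ⊗[C] M) :
    (∃ n : N, n ∉ (Ideal.map β (maximalIdeal B)) • (⊤ : Submodule D N) ∧
      ∀ b ∈ maximalIdeal D, b • n ∈ (Ideal.map β (maximalIdeal B)) • (⊤ : Submodule D N)) ↔
    (∃ m : M, m ∉ (Ideal.map α (maximalIdeal A)) • (⊤ : Submodule C M) ∧
      ∀ c ∈ maximalIdeal C, c • m ∈ (Ideal.map α (maximalIdeal A)) • (⊤ : Submodule C M)) ∧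
    (∃ d : Db, d ∉ (Ideal.map ψ (maximalIdeal Cb)) • (⊤ : Submodule Db Db) ∧
      ∀ b ∈ maximalIdeal Db, b • d ∈ (Ideal.map ψ (maximalIdeal Cb)) • (⊤ : Submodule Db Db)) := by
  letI aAC : Algebra A C := α.toAlgebra
  letI aBD : Algebra B D := β.toAlgebra
  letI aCD : Algebra C D := φ.toAlgebra
  letI aCCb : Algebra C Cb := γ.toAlgebra
  letI aDDb : Algebra D Db := δ.toAlgebra
  letI aCbDb : Algebra Cb Db := ψ.toAlgebra
  letI aCDb : Algebra C Db := (ψ.comp γ).toAlgebra
  haveI t1 : IsScalarTower C Cb Db := IsScalarTower.of_algebraMap_eq' rfl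
  haveI t2 : IsScalarTower C D Db := IsScalarTower.of_algebraMap_eq' hcomm
  letI mAM : Module A M := Module.compHom M α
  haveI t3 : IsScalarTower A C M := IsScalarTower.of_algebraMap_smul fun _ _ => rfl
  letI mBN : Module B N := Module.compHom N β
  haveI t4 : IsScalarTower B D N := IsScalarTower.of_algebraMap_smul fun _ _ => rfl
  haveI : IsLocalHom (algebraMap Cb Db) := ‹IsLocalHom ψ›
  haveI : Module.Flat Cb Db := hψ
  exact fibreSocle_iff (A := A) (B := B) (C := C) (D := D) (Cb := Cb) (Db := Db)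
    hγ hγker hδ hδker M N e

end Ring

section Sch

/-- `z'` is a depth-zero point of its fibre under `π`. -/
def FibSocO {W V : Scheme.{u}} (π : W ⟶ V) (z' : W) : Prop :=
  ∃ d : W.presheaf.stalk z',
    d ∉ (Ideal.map (π.stalkMap z').hom (maximalIdeal (V.presheaf.stalk (π z')))) •
      (⊤ : Submodule (W.presheaf.stalk z') (W.presheaf.stalk z')) ∧
    ∀ b ∈ maximalIdeal (W.presheaf.stalk z'),
      b • d ∈ (Ideal.map (π.stalkMap z').hom (maximalIdeal (V.presheaf.stalk (π z')))) •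
      (⊤ : Submodule (W.presheaf.stalk z') (W.presheaf.stalk z'))

theorem fibAss_iff {P X Y S : Scheme.{u}} {q : P ⟶ Y} {p : P ⟶ X} {g : Y ⟶ S} {f : X ⟶ S}
    [IsLocallyNoetherian Y] (G : Y.Modules) [G.IsQuasicoherent] (x : X) (z' : ↥(p.fiber x))
    (π : p.fiber x ⟶ g.fiber (f x)) (hπ : π ≫ g.fiberι (f x) = p.fiberι x ≫ q) [Flat π]
    (hy : g.fiberι (f x) (π z') = q (p.fiberι x z')) :
    FibAss p ((Scheme.Modules.pullback q).obj G) (p.fiberι x z') ↔
      FibAss g G (g.fiberι (f x) (π z')) ∧ FibSocO π z' := by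
  obtain ⟨hC, hCker⟩ := Groth.Agent.H9.stalkMap_fiberι_surjective_and_ker_eq g (f x) (π z')
  obtain ⟨hD, hDker⟩ := Groth.Agent.H9.stalkMap_fiberι_surjective_and_ker_eq p x z'
  obtain ⟨e⟩ := nonempty_stalk_pullback_equiv_of_eq q G (p.fiberι x z') _ hy _ rfl
  haveI : IsNoetherianRing ((g.fiber (f x)).presheaf.stalk (π z')) :=
    isNoetherianRing_of_surjective _ _ ((g.fiberι (f x)).stalkMap (π z')).hom hC
  have hcomm : (π.stalkMap z').hom.comp ((g.fiberι (f x)).stalkMap (π z')).hom =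
      ((p.fiberι x).stalkMap z').hom.comp
        ((Y.presheaf.stalkCongr (.of_eq hy)).hom ≫ q.stalkMap (p.fiberι x z')).hom := by
    have h1 := Scheme.Hom.stalkMap_congr_hom (π ≫ g.fiberι (f x)) (p.fiberι x ≫ q) hπ z'
    rw [Scheme.Hom.stalkMap_comp, Scheme.Hom.stalkMap_comp] at h1
    refine RingHom.ext fun c => ?_
    exact congrArg (fun k => k.hom c) h1
  exact fibreSocle_iff' (g.stalkMap _).hom (p.stalkMap _).hom _ _ _ (π.stalkMap z').hom hcomm
    hC hCker hD hDker (Flat.stalkMap π z') _ _ e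

theorem fibSocO_comp_fiberι {W Y S : Scheme.{u}} (g : Y ⟶ S) (s : S) (π : W ⟶ g.fiber s)
    (z' : W) : FibSocO (π ≫ g.fiberι s) z' ↔ FibSocO π z' := by
  have hI : Ideal.map ((π ≫ g.fiberι s).stalkMap z').hom
      (maximalIdeal (Y.presheaf.stalk ((π ≫ g.fiberι s) z'))) =
      Ideal.map (π.stalkMap z').hom (maximalIdeal ((g.fiber s).presheaf.stalk (π z'))) := by
    have h1 : ((π ≫ g.fiberι s).stalkMap z').hom =
        (π.stalkMap z').hom.comp ((g.fiberι s).stalkMap (π z')).hom := by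
      rw [Scheme.Hom.stalkMap_comp]; rfl
    rw [h1]
    exact (Ideal.map_map _ _).symm.trans (congrArg (Ideal.map _)
      (map_maximalIdeal_of_surjective _
        (Groth.Agent.H9.stalkMap_fiberι_surjective_and_ker_eq g s (π z')).1))
  unfold FibSocO
  rw [hI]

theorem mem_ass_structureModule_iff (Z : Scheme.{u}) (z : Z)
    [IsNoetherianRing (Z.presheaf.stalk z)] :
    z ∈ AssSch.Ass (Coh.structureModule Z) ↔
      HasSocle (Z.presheaf.stalk z) (Z.presheaf.stalk z) := by
  show IsAssociatedPrime _ _ ↔ _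
  rw [isAssociatedPrime_maximalIdeal_iff]
  exact (hasSocle_congr (LinearEquiv.ofBijective (Groth.Agent.H2.ConnComp.L Z z)
    (Groth.Agent.H2.ConnComp.L_bijective Z z))).symm

theorem mem_ass_structureModule_iso_of_left {Z Z' : Scheme.{u}} (e : Z ≅ Z') (z : Z)
    [IsNoetherianRing (Z.presheaf.stalk z)] :
    z ∈ AssSch.Ass (Coh.structureModule Z) ↔ e.hom z ∈ AssSch.Ass (Coh.structureModule Z') := by
  haveI : IsNoetherianRing (Z'.presheaf.stalk (e.hom z)) :=
    isNoetherianRing_of_ringEquiv _ (asIso (e.hom.stalkMap z)).commRingCatIsoToRingEquiv.symm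
  rw [mem_ass_structureModule_iff, mem_ass_structureModule_iff]
  exact ⟨hasSocle_of_ringEquiv (asIso (e.hom.stalkMap z)).commRingCatIsoToRingEquiv.symm,
    hasSocle_of_ringEquiv (asIso (e.hom.stalkMap z)).commRingCatIsoToRingEquiv⟩

theorem mem_ass_structureModule_iso_of_right {Z Z' : Scheme.{u}} (e : Z ≅ Z') (z : Z)
    [IsNoetherianRing (Z'.presheaf.stalk (e.hom z))] :
    z ∈ AssSch.Ass (Coh.structureModule Z) ↔ e.hom z ∈ AssSch.Ass (Coh.structureModule Z') := by
  haveI : IsNoetherianRing (Z.presheaf.stalk z) :=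
    isNoetherianRing_of_ringEquiv _ (asIso (e.hom.stalkMap z)).commRingCatIsoToRingEquiv
  exact mem_ass_structureModule_iso_of_left e z

theorem isNoetherianRing_stalk_fiber {W V : Scheme.{u}} (π : W ⟶ V) (v : V) (w₂ : ↥(π.fiber v))
    [IsNoetherianRing (W.presheaf.stalk (π.fiberι v w₂))] :
    IsNoetherianRing ((π.fiber v).presheaf.stalk w₂) :=
  isNoetherianRing_of_surjective _ _ ((π.fiberι v).stalkMap w₂).hom
    (Groth.Agent.H9.stalkMap_fiberι_surjective_and_ker_eq π v w₂).1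

theorem mem_ass_structure_fiber_iff {W V : Scheme.{u}} (π : W ⟶ V) (v : V) (w₂ : ↥(π.fiber v))
    [IsNoetherianRing (W.presheaf.stalk (π.fiberι v w₂))] :
    w₂ ∈ AssSch.Ass (Coh.structureModule (π.fiber v)) ↔ FibSocO π (π.fiberι v w₂) := by
  obtain ⟨hE, hEker⟩ := Groth.Agent.H9.stalkMap_fiberι_surjective_and_ker_eq π v w₂
  haveI := isNoetherianRing_stalk_fiber π v w₂
  letI alg : Algebra (W.presheaf.stalk (π.fiberι v w₂)) ((π.fiber v).presheaf.stalk w₂) :=
    ((π.fiberι v).stalkMap w₂).hom.toAlgebra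
  have i1 : HasSocle (W.presheaf.stalk (π.fiberι v w₂))
      (((π.fiber v).presheaf.stalk w₂) ⊗[W.presheaf.stalk (π.fiberι v w₂)]
        (W.presheaf.stalk (π.fiberι v w₂))) ↔ FibSocO π (π.fiberι v w₂) :=
    hasSocle_baseChange_iff (W.presheaf.stalk (π.fiberι v w₂)) hE _ hEker
  have i2 : HasSocle (W.presheaf.stalk (π.fiberι v w₂))
      (((π.fiber v).presheaf.stalk w₂) ⊗[W.presheaf.stalk (π.fiberι v w₂)]
        (W.presheaf.stalk (π.fiberι v w₂))) ↔
      HasSocle (W.presheaf.stalk (π.fiberι v w₂)) ((π.fiber v).presheaf.stalk w₂) :=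
    hasSocle_congr (TensorProduct.rid (W.presheaf.stalk (π.fiberι v w₂))
      ((π.fiber v).presheaf.stalk w₂))
  have i3 : HasSocle ((π.fiber v).presheaf.stalk w₂) ((π.fiber v).presheaf.stalk w₂) ↔
      HasSocle (W.presheaf.stalk (π.fiberι v w₂)) ((π.fiber v).presheaf.stalk w₂) :=
    hasSocle_iff_of_surjective (B := W.presheaf.stalk (π.fiberι v w₂))
      (R' := (π.fiber v).presheaf.stalk w₂) hE _
  rw [mem_ass_structureModule_iff, i3, ← i2, i1]

/-- `T(x, y) = Spec κ(x) ×_S Spec κ(y)` is the fibre over `y` of `p⁻¹(x) ⟶ Y`. -/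
theorem exists_iso_fiber_comp {P X Y S : Scheme.{u}} {q : P ⟶ Y} {p : P ⟶ X} {g : Y ⟶ S}
    {f : X ⟶ S} (h : IsPullback q p g f) (x : X) (y : Y) (π : p.fiber x ⟶ g.fiber (f x))
    (hπ : π ≫ g.fiberι (f x) = p.fiberι x ≫ q)
    (j : pullback (X.fromSpecResidueField x ≫ f) (Y.fromSpecResidueField y ≫ g) ⟶ P)
    (hj1 : j ≫ p = pullback.fst _ _ ≫ X.fromSpecResidueField x)
    (hj2 : j ≫ q = pullback.snd _ _ ≫ Y.fromSpecResidueField y) :
    ∃ θ : pullback (X.fromSpecResidueField x ≫ f) (Y.fromSpecResidueField y ≫ g) ≅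
        (π ≫ g.fiberι (f x)).fiber y,
      θ.hom ≫ (π ≫ g.fiberι (f x)).fiberι y ≫ p.fiberι x = j := by
  let j₁ : pullback (X.fromSpecResidueField x ≫ f) (Y.fromSpecResidueField y ≫ g) ⟶ p.fiber x :=
    pullback.lift j (pullback.fst _ _) hj1
  have hj₁a : j₁ ≫ p.fiberι x = j := pullback.lift_fst _ _ _
  have hj₁b : j₁ ≫ p.fiberToSpecResidueField x = pullback.fst _ _ := pullback.lift_snd _ _ _
  have hL : IsPullback (p.fiberι x ≫ q) (p.fiberToSpecResidueField x) g
      (X.fromSpecResidueField x ≫ f) :=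
    (IsPullback.of_hasPullback p (X.fromSpecResidueField x)).paste_horiz h
  rw [← hπ] at hL
  have hT : IsPullback (j₁ ≫ p.fiberToSpecResidueField x) (pullback.snd _ _)
      (X.fromSpecResidueField x ≫ f) (Y.fromSpecResidueField y ≫ g) := by
    rw [hj₁b]; exact IsPullback.of_hasPullback _ _
  have hcomm : j₁ ≫ (π ≫ g.fiberι (f x)) = pullback.snd _ _ ≫ Y.fromSpecResidueField y := by
    rw [hπ, ← Category.assoc, hj₁a, hj2]
  have hB := IsPullback.of_right hT hcomm hL.flip
  refine ⟨hB.isoPullback, ?_⟩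
  have h1 : hB.isoPullback.hom ≫ (π ≫ g.fiberι (f x)).fiberι y = j₁ := hB.isoPullback_hom_fst
  rw [← Category.assoc]
  exact (congrArg (· ≫ p.fiberι x) h1).trans hj₁a

/-- Flat modules: an associated point is associated in its fibre. -/
theorem fibAss_of_mem_ass {Y S : Scheme.{u}} [IsLocallyNoetherian Y] [IsLocallyNoetherian S]
    (g : Y ⟶ S) (G : Y.Modules) (y : Y) (hfl : FlatMod.IsFlatOverAt g G y)
    (hy : y ∈ AssSch.Ass G) : FibAss g G y := by
  letI algAB : Algebra (S.presheaf.stalk (g y)) (Y.presheaf.stalk y) :=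
    (g.stalkMap y).hom.toAlgebra
  letI modAF : Module (S.presheaf.stalk (g y)) (G.presheaf.stalk y) :=
    FlatMod.moduleStalkOver g G y
  haveI tower : IsScalarTower (S.presheaf.stalk (g y)) (Y.presheaf.stalk y)
      (G.presheaf.stalk y) := IsScalarTower.of_algebraMap_smul fun _ _ => rfl
  haveI : Module.Flat (S.presheaf.stalk (g y)) (G.presheaf.stalk y) := hfl
  haveI : IsLocalHom (algebraMap (S.presheaf.stalk (g y)) (Y.presheaf.stalk y)) :=
    (inferInstance : IsLocalHom (g.stalkMap y).hom)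
  have h0 : IsAssociatedPrime (maximalIdeal (Y.presheaf.stalk y)) (G.presheaf.stalk y) := hy
  rw [isAssociatedPrime_maximalIdeal_iff] at h0
  have h1 : HasSocle (Y.presheaf.stalk y)
      ((G.presheaf.stalk y) ⊗[S.presheaf.stalk (g y)] (S.presheaf.stalk (g y))) :=
    (hasSocle_congr (TensorProduct.AlgebraTensorModule.rid _ _ _)).mpr h0
  exact (of_hasSocle_tensor (A := S.presheaf.stalk (g y)) (B := Y.presheaf.stalk y)
    (G.presheaf.stalk y) (S.presheaf.stalk (g y)) h1).2

variable {X Y S : Scheme.{u}} (f : X ⟶ S) (g : Y ⟶ S)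

/-- Every associated point of `F ⊗_S G` lies in some `I(x, y)`. -/
theorem exists_mem_image_of_mem_ass [IsLocallyNoetherian X] [IsLocallyNoetherian Y]
    [IsLocallyNoetherian (pullback f g)]
    (F : X.Modules) [F.IsQuasicoherent] (G : Y.Modules) [hG : G.IsQuasicoherent]
    (hGfl : FlatMod.IsFlatOver g G) (z : ↥(pullback f g))
    (hz : z ∈ AssSch.Ass (CohB1.tensorMod ((Scheme.Modules.pullback (pullback.fst f g)).obj F)
      ((Scheme.Modules.pullback (pullback.snd f g)).obj G)))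
    (x : X) (hx : x = pullback.fst f g z) :
    x ∈ AssSch.Ass F ∧ ∃ y' : ↥(g.fiber (f x)),
      y' ∈ AssSch.Ass ((Scheme.Modules.pullback (g.fiberι (f x))).obj G) ∧
      g.fiberι (f x) y' = pullback.snd f g z ∧
      z ∈ ⇑(pullback.map (X.fromSpecResidueField x ≫ f)
          (Y.fromSpecResidueField (g.fiberι (f x) y') ≫ g) f g (X.fromSpecResidueField x)
          (Y.fromSpecResidueField (g.fiberι (f x) y')) (𝟙 S) (Category.comp_id _)
          (Category.comp_id _)) ''
        AssSch.Ass (Coh.structureModule (pullback (X.fromSpecResidueField x ≫ f)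
          (Y.fromSpecResidueField (g.fiberι (f x) y') ≫ g))) := by
  have h : IsPullback (pullback.snd f g) (pullback.fst f g) g f :=
    (IsPullback.of_hasPullback f g).flip
  have hfl : FlatMod.IsFlatOver (pullback.fst f g)
      ((Scheme.Modules.pullback (pullback.snd f g)).obj G) :=
    fun t => Groth.Agent.S1391.result g (pullback.fst f g) (pullback.snd f g) f h G hG t (hGfl _)
  obtain ⟨hxz, hfz⟩ := (mem_ass_tensor_iff_qcoh (pullback.fst f g) F _ hfl z).mp hz
  have hzr : z ∈ Set.range ((pullback.fst f g).fiberι x) := by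
    rw [Scheme.Hom.range_fiberι]; exact hx.symm
  obtain ⟨z', rfl⟩ := hzr
  obtain ⟨π, hπ, hπfl, -⟩ := exists_fibre_map' h x
  haveI := hπfl
  have hyz : g.fiberι (f x) (π z') = pullback.snd f g ((pullback.fst f g).fiberι x z') := by
    have := congrArg (fun φ : (pullback.fst f g).fiber x ⟶ Y => φ z') hπ
    simpa using this
  obtain ⟨hAz, hSoc⟩ := (fibAss_iff G x z' π hπ hyz).mp hfz
  refine ⟨hx ▸ hxz, π z', (mem_ass_fibre_iff_qcoh g G (f x) (π z')).mpr hAz, hyz, ?_⟩
  obtain ⟨θ, hθ⟩ := exists_iso_fiber_comp h x (g.fiberι (f x) (π z')) π hπ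
    (pullback.map (X.fromSpecResidueField x ≫ f)
      (Y.fromSpecResidueField (g.fiberι (f x) (π z')) ≫ g) f g (X.fromSpecResidueField x)
      (Y.fromSpecResidueField (g.fiberι (f x) (π z'))) (𝟙 S) (Category.comp_id _)
      (Category.comp_id _)) (pullback.lift_fst _ _ _) (pullback.lift_snd _ _ _)
  have hSocρ : FibSocO (π ≫ g.fiberι (f x)) z' := (fibSocO_comp_fiberι g (f x) π z').mpr hSoc
  have hz'r : z' ∈ Set.range ((π ≫ g.fiberι (f x)).fiberι (g.fiberι (f x) (π z'))) := by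
    rw [Scheme.Hom.range_fiberι]; rfl
  obtain ⟨w₂, hw₂⟩ := hz'r
  haveI hN1 : IsNoetherianRing (((pullback.fst f g).fiber x).presheaf.stalk z') :=
    isNoetherianRing_stalk_fiber (pullback.fst f g) x z'
  haveI hN2 : IsNoetherianRing (((pullback.fst f g).fiber x).presheaf.stalk
      ((π ≫ g.fiberι (f x)).fiberι (g.fiberι (f x) (π z')) w₂)) := by
    rw [hw₂]; exact hN1
  haveI hN3 := isNoetherianRing_stalk_fiber (π ≫ g.fiberι (f x)) (g.fiberι (f x) (π z')) w₂
  have hw₂ass : w₂ ∈ AssSch.Ass (Coh.structureModule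
      ((π ≫ g.fiberι (f x)).fiber (g.fiberι (f x) (π z')))) :=
    (mem_ass_structure_fiber_iff (π ≫ g.fiberι (f x)) _ w₂).mpr (by rw [hw₂]; exact hSocρ)
  have hwass := (mem_ass_structureModule_iso_of_left θ.symm w₂).mp hw₂ass
  refine ⟨θ.inv w₂, hwass, ?_⟩
  have h1 : θ.inv ≫ (pullback.map (X.fromSpecResidueField x ≫ f)
      (Y.fromSpecResidueField (g.fiberι (f x) (π z')) ≫ g) f g (X.fromSpecResidueField x)
      (Y.fromSpecResidueField (g.fiberι (f x) (π z'))) (𝟙 S) (Category.comp_id _)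
      (Category.comp_id _)) =
      (π ≫ g.fiberι (f x)).fiberι (g.fiberι (f x) (π z')) ≫ (pullback.fst f g).fiberι x := by
    rw [← hθ, Iso.inv_hom_id_assoc]
  have h2 := congrArg (fun φ : (π ≫ g.fiberι (f x)).fiber (g.fiberι (f x) (π z')) ⟶ pullback f g
    => φ w₂) h1
  exact h2.trans (congrArg ((pullback.fst f g).fiberι x) hw₂)

/-- Every point of `I(x, y)` is an associated point of `F ⊗_S G`. -/
theorem mem_ass_of_mem_image [IsLocallyNoetherian X] [IsLocallyNoetherian Y]
    [IsLocallyNoetherian (pullback f g)]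
    (F : X.Modules) [F.IsQuasicoherent] (G : Y.Modules) [hG : G.IsQuasicoherent]
    (hGfl : FlatMod.IsFlatOver g G) (x : X) (hx : x ∈ AssSch.Ass F) (y' : ↥(g.fiber (f x)))
    (hy' : y' ∈ AssSch.Ass ((Scheme.Modules.pullback (g.fiberι (f x))).obj G))
    (w : ↥(pullback (X.fromSpecResidueField x ≫ f)
      (Y.fromSpecResidueField (g.fiberι (f x) y') ≫ g)))
    (hw : w ∈ AssSch.Ass (Coh.structureModule (pullback (X.fromSpecResidueField x ≫ f)
      (Y.fromSpecResidueField (g.fiberι (f x) y') ≫ g)))) :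
    (pullback.map (X.fromSpecResidueField x ≫ f)
        (Y.fromSpecResidueField (g.fiberι (f x) y') ≫ g) f g (X.fromSpecResidueField x)
        (Y.fromSpecResidueField (g.fiberι (f x) y')) (𝟙 S) (Category.comp_id _)
        (Category.comp_id _)) w ∈
      AssSch.Ass (CohB1.tensorMod ((Scheme.Modules.pullback (pullback.fst f g)).obj F)
        ((Scheme.Modules.pullback (pullback.snd f g)).obj G)) := by
  have h : IsPullback (pullback.snd f g) (pullback.fst f g) g f :=
    (IsPullback.of_hasPullback f g).flip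
  have hfl : FlatMod.IsFlatOver (pullback.fst f g)
      ((Scheme.Modules.pullback (pullback.snd f g)).obj G) :=
    fun t => Groth.Agent.S1391.result g (pullback.fst f g) (pullback.snd f g) f h G hG t (hGfl _)
  obtain ⟨π, hπ, hπfl, -⟩ := exists_fibre_map' h x
  haveI := hπfl
  obtain ⟨θ, hθ⟩ := exists_iso_fiber_comp h x (g.fiberι (f x) y') π hπ
    (pullback.map (X.fromSpecResidueField x ≫ f)
      (Y.fromSpecResidueField (g.fiberι (f x) y') ≫ g) f g (X.fromSpecResidueField x)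
      (Y.fromSpecResidueField (g.fiberι (f x) y')) (𝟙 S) (Category.comp_id _)
      (Category.comp_id _)) (pullback.lift_fst _ _ _) (pullback.lift_snd _ _ _)
  haveI hN1 : IsNoetherianRing (((pullback.fst f g).fiber x).presheaf.stalk
      ((π ≫ g.fiberι (f x)).fiberι (g.fiberι (f x) y') (θ.hom w))) :=
    isNoetherianRing_stalk_fiber (pullback.fst f g) x _
  haveI hN3 := isNoetherianRing_stalk_fiber (π ≫ g.fiberι (f x)) (g.fiberι (f x) y') (θ.hom w)
  have hw₂ := (mem_ass_structureModule_iso_of_right θ w).mp hw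
  obtain ⟨z', hz'⟩ : ∃ z', z' = (π ≫ g.fiberι (f x)).fiberι (g.fiberι (f x) y') (θ.hom w) :=
    ⟨_, rfl⟩
  have hjz : (pullback.map (X.fromSpecResidueField x ≫ f)
      (Y.fromSpecResidueField (g.fiberι (f x) y') ≫ g) f g (X.fromSpecResidueField x)
      (Y.fromSpecResidueField (g.fiberι (f x) y')) (𝟙 S) (Category.comp_id _)
      (Category.comp_id _)) w = (pullback.fst f g).fiberι x z' := by
    rw [hz']
    exact congrArg (fun φ : pullback (X.fromSpecResidueField x ≫ f)
      (Y.fromSpecResidueField (g.fiberι (f x) y') ≫ g) ⟶ pullback f g => φ w) hθ.symm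
  have hSocρ : FibSocO (π ≫ g.fiberι (f x)) z' := by
    rw [hz']
    exact (mem_ass_structure_fiber_iff (π ≫ g.fiberι (f x)) _ (θ.hom w)).mp hw₂
  have hSoc : FibSocO π z' := (fibSocO_comp_fiberι g (f x) π z').mp hSocρ
  have hπz : π z' = y' := by
    apply (g.fiberι (f x)).isEmbedding.injective
    have hr : z' ∈ Set.range ((π ≫ g.fiberι (f x)).fiberι (g.fiberι (f x) y')) :=
      ⟨θ.hom w, hz'.symm⟩
    rw [Scheme.Hom.range_fiberι] at hr
    exact hr
  have hyz : g.fiberι (f x) (π z') = pullback.snd f g ((pullback.fst f g).fiberι x z') := by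
    have := congrArg (fun φ : (pullback.fst f g).fiber x ⟶ Y => φ z') hπ
    simpa using this
  have hAz : FibAss g G (g.fiberι (f x) (π z')) := by
    rw [hπz]; exact (mem_ass_fibre_iff_qcoh g G (f x) y').mp hy'
  have hfz := (fibAss_iff G x z' π hπ hyz).mpr ⟨hAz, hSoc⟩
  have hpz : pullback.fst f g ((pullback.fst f g).fiberι x z') = x := by
    have hr : (pullback.fst f g).fiberι x z' ∈ Set.range ((pullback.fst f g).fiberι x) :=
      ⟨z', rfl⟩
    rw [Scheme.Hom.range_fiberι] at hr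
    exact hr
  rw [hjz]
  exact (mem_ass_tensor_iff_qcoh (pullback.fst f g) F _ hfl _).mpr ⟨by rw [hpz]; exact hx, hfz⟩

end Sch

end Groth.Agent.H7.AssExtTensor
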