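import Mathlib
import Groth.Prelude.Def_Coh
import Groth.Agent.H8.HomBasis
import Groth.Agent.H8.SectionsExact
import Groth.Agent.H8.AssPoints
import Groth.Agent.H8.StalkExact
import Groth.Agent.H7.SocleFlat

/-!
# Associated points and monomorphisms from the structure sheaf of the reduced closure (EGA IV 3.1.3)
-/

set_option autoImplicit false
set_option linter.style.haveILetI false
universe u
open CategoryTheory AlgebraicGeometry TopologicalSpace Opposite IsLocalRing

namespace Groth.Agent.H7.AssMonoClosure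

open Groth.Agent.H7.SocleFlat

section Stalk

variable {X : Scheme.{u}} (F : X.Modules) [F.IsQuasicoherent] {W : X.Opens} (hW : IsAffineOpen W)
  (x : X) (hxW : x ∈ W)

include hW in
omit [F.IsQuasicoherent] in
theorem germ_mem_maximalIdeal (r : Γ(X, W)) (hr : r ∈ (hW.primeIdealOf ⟨x, hxW⟩).asIdeal) :
    X.presheaf.germ W x hxW r ∈ maximalIdeal (X.presheaf.stalk x) := by
  rw [mem_maximalIdeal, mem_nonunits_iff]
  intro hu
  have hx : x ∈ X.basicOpen r := (Scheme.mem_basicOpen _ _ _ hxW).mpr hu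
  exact (Groth.Agent.H8.mem_basicOpen_iff_notMem_primeIdealOf hW x hxW r).mp hx hr

include hW in
omit [F.IsQuasicoherent] in
theorem isUnit_germ (s : Γ(X, W)) (hs : s ∉ (hW.primeIdealOf ⟨x, hxW⟩).asIdeal) :
    IsUnit (X.presheaf.germ W x hxW s) :=
  (Scheme.mem_basicOpen _ _ _ hxW).mp
    ((Groth.Agent.H8.mem_basicOpen_iff_notMem_primeIdealOf hW x hxW s).mpr hs)

include hW in
omit [F.IsQuasicoherent] in
/-- A section killed by the prime of `x` with nonzero germ at `x` gives a socle element. -/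
theorem hasSocle_of_section (t : Γ(F, W))
    (h1 : ∀ r ∈ (hW.primeIdealOf ⟨x, hxW⟩).asIdeal, r • t = 0)
    (h2 : F.presheaf.germ W x hxW t ≠ 0) :
    HasSocle (X.presheaf.stalk x) (F.presheaf.stalk x) := by
  letI := X.presheaf.algebra_section_stalk ⟨x, hxW⟩
  haveI := hW.isLocalization_stalk ⟨x, hxW⟩
  refine ⟨F.presheaf.germ W x hxW t, h2, fun b hb => ?_⟩
  have hmax : maximalIdeal (X.presheaf.stalk x) =
      Ideal.map (X.presheaf.germ W x hxW).hom (hW.primeIdealOf ⟨x, hxW⟩).asIdeal :=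
    (IsLocalization.AtPrime.map_eq_maximalIdeal (hW.primeIdealOf ⟨x, hxW⟩).asIdeal
      (X.presheaf.stalk x)).symm
  rw [hmax] at hb
  obtain ⟨⟨j, s⟩, hbs⟩ := (IsLocalization.mem_map_algebraMap_iff
    (hW.primeIdealOf ⟨x, hxW⟩).asIdeal.primeCompl (X.presheaf.stalk x)).mp hb
  have hbs' : b * X.presheaf.germ W x hxW s.1 = X.presheaf.germ W x hxW j.1 := hbs
  have hu : IsUnit (X.presheaf.germ W x hxW s.1) := isUnit_germ hW x hxW s.1 s.2
  have h0 : X.presheaf.germ W x hxW s.1 • (b • F.presheaf.germ W x hxW t) = 0 := by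
    rw [smul_smul, mul_comm, hbs', ← Groth.Agent.H8.germ_smul, h1 j.1 j.2, map_zero]
  obtain ⟨v, hv⟩ := hu
  have h3 : (↑v⁻¹ * X.presheaf.germ W x hxW s.1) • (b • F.presheaf.germ W x hxW t) = 0 := by
    rw [mul_smul, h0, smul_zero]
  rwa [← hv, Units.inv_mul, one_smul] at h3

include hW in
/-- Conversely, a socle element of the stalk spreads out to a section over any affine open
neighbourhood, killed by the prime of `x`, with nonzero germ. -/
theorem exists_section_of_hasSocle [IsNoetherianRing Γ(X, W)]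
    (h : HasSocle (X.presheaf.stalk x) (F.presheaf.stalk x)) :
    ∃ t : Γ(F, W), (∀ r ∈ (hW.primeIdealOf ⟨x, hxW⟩).asIdeal, r • t = 0) ∧
      F.presheaf.germ W x hxW t ≠ 0 := by
  classical
  obtain ⟨n, hn0, hn⟩ := h
  obtain ⟨a, hxa, m, hm⟩ := Groth.Agent.H8.exists_germ_smul_eq_germ F hW x hxW n
  have hua : IsUnit (X.presheaf.germ W x hxW a) := (Scheme.mem_basicOpen _ _ _ hxW).mp hxa
  have hm0 : F.presheaf.germ W x hxW m ≠ 0 := by
    intro h0
    rw [h0] at hm
    obtain ⟨v, hv⟩ := hua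
    have h3 : (↑v⁻¹ * X.presheaf.germ W x hxW a) • n = 0 := by rw [mul_smul, hm, smul_zero]
    rw [← hv, Units.inv_mul, one_smul] at h3
    exact hn0 h3
  have hmk : ∀ b ∈ maximalIdeal (X.presheaf.stalk x), b • F.presheaf.germ W x hxW m = 0 := by
    intro b hb
    rw [← hm, smul_comm, hn b hb, smul_zero]
  have key : ∀ r ∈ (hW.primeIdealOf ⟨x, hxW⟩).asIdeal,
      ∃ s : Γ(X, W), s ∉ (hW.primeIdealOf ⟨x, hxW⟩).asIdeal ∧ s • (r • m) = 0 := by
    intro r hr
    have h0 : F.presheaf.germ W x hxW (r • m) = 0 := by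
      rw [Groth.Agent.H8.germ_smul]
      exact hmk _ (germ_mem_maximalIdeal hW x hxW r hr)
    obtain ⟨s, hxs, hs⟩ :=
      Groth.Agent.H8.exists_smul_eq_zero_of_germ_eq_zero F hW x hxW _ h0
    exact ⟨s, (Groth.Agent.H8.mem_basicOpen_iff_notMem_primeIdealOf hW x hxW s).mp hxs, hs⟩
  have hfin : ∀ S : Finset Γ(X, W), (∀ r ∈ S, r ∈ (hW.primeIdealOf ⟨x, hxW⟩).asIdeal) →
      ∃ s : Γ(X, W), s ∉ (hW.primeIdealOf ⟨x, hxW⟩).asIdeal ∧ ∀ r ∈ S, s • (r • m) = 0 := by
    intro S
    induction S using Finset.induction_on with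
    | empty =>
      intro _
      refine ⟨1, ?_, fun r hr => absurd hr (Finset.notMem_empty r)⟩
      exact (Ideal.ne_top_iff_one _).mp (hW.primeIdealOf ⟨x, hxW⟩).isPrime.ne_top
    | insert a S ha ih =>
      intro h
      obtain ⟨s₁, hs₁, h₁⟩ := ih (fun r hr => h r (Finset.mem_insert_of_mem hr))
      obtain ⟨s₂, hs₂, h₂⟩ := key a (h a (Finset.mem_insert_self a S))
      refine ⟨s₁ * s₂, fun hmem => ?_, ?_⟩
      · rcases (hW.primeIdealOf ⟨x, hxW⟩).isPrime.mem_or_mem hmem with h' | h'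
        · exact hs₁ h'
        · exact hs₂ h'
      · intro r hr
        rcases Finset.mem_insert.mp hr with rfl | hr
        · rw [mul_smul, h₂, smul_zero]
        · rw [mul_comm, mul_smul, h₁ r hr, smul_zero]
  obtain ⟨S, hS⟩ := (isNoetherianRing_iff_ideal_fg Γ(X, W)).mp inferInstance
    (hW.primeIdealOf ⟨x, hxW⟩).asIdeal
  obtain ⟨s, hs, hsS⟩ := hfin S (fun r hr => by rw [← hS]; exact Ideal.subset_span hr)
  refine ⟨s • m, ?_, ?_⟩
  · intro r hr
    rw [← hS] at hr
    refine Submodule.span_induction (p := fun r _ => r • s • m = 0) ?_ ?_ ?_ ?_ hr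
    · intro r hrS
      rw [smul_comm]
      exact hsS r hrS
    · rw [zero_smul]
    · intro r₁ r₂ _ _ h₁ h₂
      rw [add_smul, h₁, h₂, add_zero]
    · intro c r₁ _ h₁
      rw [smul_eq_mul, mul_smul, h₁, smul_zero]
  · rw [Groth.Agent.H8.germ_smul]
    intro h0
    obtain ⟨v, hv⟩ := isUnit_germ hW x hxW s hs
    have h3 : (↑v⁻¹ * X.presheaf.germ W x hxW s) • F.presheaf.germ W x hxW m = 0 := by
      rw [mul_smul, h0, smul_zero]
    rw [← hv, Units.inv_mul, one_smul] at h3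
    exact hm0 h3

end Stalk

section Vanishing

variable {X : Scheme.{u}} (x : X)

/-- The vanishing ideal sheaf of the closure of `x`. -/
noncomputable abbrev vI : X.IdealSheafData :=
  Scheme.IdealSheafData.vanishingIdeal ⟨closure {x}, isClosed_closure⟩

theorem mem_vI_iff {V : X.Opens} (hV : IsAffineOpen V) (s : Γ(X, V)) :
    s ∈ (vI x).ideal ⟨V, hV⟩ ↔
      ∀ q : PrimeSpectrum Γ(X, V), hV.fromSpec q ∈ closure ({x} : Set X) → s ∈ q.asIdeal := by
  rw [Scheme.IdealSheafData.vanishingIdeal_ideal, PrimeSpectrum.mem_vanishingIdeal]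
  rfl

theorem mem_primeIdealOf_of_mem_vI {W : X.Opens} (hW : IsAffineOpen W) (hxW : x ∈ W)
    (r : Γ(X, W)) (hr : r ∈ (vI x).ideal ⟨W, hW⟩) :
    r ∈ (hW.primeIdealOf ⟨x, hxW⟩).asIdeal := by
  refine (mem_vI_iff x hW r).mp hr _ ?_
  rw [hW.fromSpec_primeIdealOf ⟨x, hxW⟩]
  exact subset_closure rfl

theorem mem_vI_of_mem_primeIdealOf {W : X.Opens} (hW : IsAffineOpen W) (hxW : x ∈ W)
    (r : Γ(X, W)) (hr : r ∈ (hW.primeIdealOf ⟨x, hxW⟩).asIdeal) :
    r ∈ (vI x).ideal ⟨W, hW⟩ := by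
  rw [mem_vI_iff]
  intro q hq
  have hsp : x ⤳ hW.fromSpec q := specializes_iff_mem_closure.mpr hq
  have hpx : hW.fromSpec (hW.primeIdealOf ⟨x, hxW⟩) = x := hW.fromSpec_primeIdealOf ⟨x, hxW⟩
  have hsp' : hW.fromSpec (hW.primeIdealOf ⟨x, hxW⟩) ⤳ hW.fromSpec q := by rw [hpx]; exact hsp
  have hsp'' : hW.primeIdealOf ⟨x, hxW⟩ ⤳ q :=
    hW.fromSpec.isOpenEmbedding.isInducing.specializes_iff.mp hsp'
  exact (PrimeSpectrum.le_iff_specializes _ _).mpr hsp'' hr

theorem mem_basicOpen_of_notMem_vI {V : X.Opens} (hV : IsAffineOpen V) (s : Γ(X, V))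
    (hs : s ∉ (vI x).ideal ⟨V, hV⟩) : ∃ hxV : x ∈ V, x ∈ X.basicOpen s := by
  rw [mem_vI_iff] at hs
  push Not at hs
  obtain ⟨q, hq, hsq⟩ := hs
  haveI := q.isPrime
  have hyV : Groth.Agent.H8.pointOfPrime hV q.asIdeal ∈ V :=
    Groth.Agent.H8.pointOfPrime_mem hV q.asIdeal
  have hyq : hV.primeIdealOf ⟨Groth.Agent.H8.pointOfPrime hV q.asIdeal, hyV⟩ = q :=
    Groth.Agent.H8.primeIdealOf_pointOfPrime hV q.asIdeal
  have hsp : x ⤳ Groth.Agent.H8.pointOfPrime hV q.asIdeal := specializes_iff_mem_closure.mpr hq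
  have hyb : Groth.Agent.H8.pointOfPrime hV q.asIdeal ∈ X.basicOpen s := by
    rw [Groth.Agent.H8.mem_basicOpen_iff_notMem_primeIdealOf hV _ hyV s, hyq]
    exact hsq
  exact ⟨hsp.mem_open V.isOpen hyV, hsp.mem_open (X.basicOpen s).isOpen hyb⟩

variable (F : X.Modules) [F.IsQuasicoherent] {W : X.Opens} (hW : IsAffineOpen W) (hxW : x ∈ W)
  (t : Γ(F, W))

include hW in
omit [F.IsQuasicoherent] in
/-- Sections of the vanishing ideal kill the restrictions of `t`. -/
theorem smul_res_eq_zero_of_mem_vI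
    (h1 : ∀ r ∈ (hW.primeIdealOf ⟨x, hxW⟩).asIdeal, r • t = 0)
    {V : X.Opens} (hV : IsAffineOpen V) (hVW : V ≤ W) (s : Γ(X, V))
    (hs : s ∈ (vI x).ideal ⟨V, hV⟩) : s • F.presheaf.map (homOfLE hVW).op t = 0 := by
  have hmap := (vI x).map_ideal (U := ⟨V, hV⟩) (V := ⟨W, hW⟩) hVW
  rw [← hmap] at hs
  refine Submodule.span_induction
    (p := fun s _ => s • F.presheaf.map (homOfLE hVW).op t = 0) ?_ ?_ ?_ ?_ hs
  · rintro _ ⟨r, hr, rfl⟩
    have hr' := mem_primeIdealOf_of_mem_vI x hW hxW r hr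
    have := F.map_smul (homOfLE hVW) r t
    rw [h1 r hr', map_zero] at this
    exact this.symm
  · rw [zero_smul]
  · intro r₁ r₂ _ _ h₁ h₂
    rw [add_smul, h₁, h₂, add_zero]
  · intro c r₁ _ h₁
    rw [smul_eq_mul, mul_smul, h₁, smul_zero]

omit [F.IsQuasicoherent] in
/-- Conversely a section killing the restriction of `t` lies in the vanishing ideal. -/
theorem mem_vI_of_smul_res_eq_zero
    (h2 : F.presheaf.germ W x hxW t ≠ 0)
    {V : X.Opens} (hV : IsAffineOpen V) (hVW : V ≤ W) (s : Γ(X, V))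
    (hs : s • F.presheaf.map (homOfLE hVW).op t = 0) : s ∈ (vI x).ideal ⟨V, hV⟩ := by
  by_contra hcon
  obtain ⟨hxV, hxs⟩ := mem_basicOpen_of_notMem_vI x hV s hcon
  have hu : IsUnit (X.presheaf.germ V x hxV s) := (Scheme.mem_basicOpen _ _ _ hxV).mp hxs
  have h0 := congrArg (F.presheaf.germ V x hxV) hs
  rw [Groth.Agent.H8.germ_smul, map_zero, Groth.Agent.H8.germ_res] at h0
  obtain ⟨v, hv⟩ := hu
  have h3 : (↑v⁻¹ * X.presheaf.germ V x hxV s) • F.presheaf.germ W x hxW t = 0 := by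
    rw [mul_smul, h0, smul_zero]
  rw [← hv, Units.inv_mul, one_smul] at h3
  exact h2 h3

end Vanishing

section Generic

variable {X : Scheme.{u}}

/-- Sections of the restriction, viewed as sections over the image. -/
def ofRes {Y : Scheme.{u}} (f : Y ⟶ X) [IsOpenImmersion f] (M : X.Modules) (V' : Y.Opens)
    (m : Γ(M.restrict f, V')) : Γ(M, f ''ᵁ V') := m

/-- Sections over the image, viewed as sections of the restriction. -/
def toRes {Y : Scheme.{u}} (f : Y ⟶ X) [IsOpenImmersion f] (M : X.Modules) (V' : Y.Opens)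
    (m : Γ(M, f ''ᵁ V')) : Γ(M.restrict f, V') := m

/-- A morphism between restrictions along an open immersion is linear over the sections of the
ambient scheme. -/
theorem restrict_app_smul {Y : Scheme.{u}} (f : Y ⟶ X) [IsOpenImmersion f] {M N : X.Modules}
    (φ : M.restrict f ⟶ N.restrict f) (V' : Y.Opens) (r : Γ(X, f ''ᵁ V'))
    (m : Γ(M, f ''ᵁ V')) :
    ofRes f N V' (φ.app V' (toRes f M V' (r • m))) =
      r • ofRes f N V' (φ.app V' (toRes f M V' m)) := by
  have h := Scheme.Modules.Hom.app_smul φ ((f.appIso V').hom r) (toRes f M V' m)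
  have e : (f.appIso V').inv ((f.appIso V').hom r) = r := by simp
  have hM : (((f.appIso V').hom r) • (toRes f M V' m)) =
      toRes f M V' ((f.appIso V').inv ((f.appIso V').hom r) • m) := rfl
  have hN : (((f.appIso V').hom r) • (φ.app V' (toRes f M V' m))) =
      toRes f N V' ((f.appIso V').inv ((f.appIso V').hom r) •
        ofRes f N V' (φ.app V' (toRes f M V' m))) := rfl
  rw [hM, hN, e] at h
  exact h

/-- A morphism of modules injective on all sections is a monomorphism. -/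
theorem mono_of_app_injective {M N : X.Modules} (φ : M ⟶ N)
    (h : ∀ U : X.Opens, Function.Injective (φ.app U)) : Mono φ := by
  refine ⟨fun {T} a b hab => ?_⟩
  refine Scheme.Modules.hom_ext _ _ (fun U => ?_)
  ext m
  apply h U
  have := congrArg (fun ψ => ψ.app U m) hab
  exact this

end Generic

section Main

variable {X : Scheme.{u}} (x : X)

/-- The structure sheaf of the reduced closure of `x`, pushed forward to `X`. -/
noncomputable abbrev PP : X.Modules :=
  (Scheme.Modules.pushforward (vI x).subschemeι).obj (Coh.structureModule (vI x).subscheme)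

/-- Functions on the preimage of `V` in the reduced closure, as sections of `PP x`. -/
def toSec (V : X.Opens) (s : Γ((vI x).subscheme, (vI x).subschemeι ⁻¹ᵁ V)) : Γ(PP x, V) := s

/-- Sections of `PP x` over `V` as functions on the preimage of `V`. -/
def ofSec (V : X.Opens) (s : Γ(PP x, V)) : Γ((vI x).subscheme, (vI x).subschemeι ⁻¹ᵁ V) := s

theorem toSec_ofSec (V : X.Opens) (s : Γ(PP x, V)) : toSec x V (ofSec x V s) = s := rfl

theorem ofSec_toSec (V : X.Opens) (s : Γ((vI x).subscheme, (vI x).subschemeι ⁻¹ᵁ V)) :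
    ofSec x V (toSec x V s) = s := rfl

theorem smul_toSec (V : X.Opens) (r : Γ(X, V))
    (s : Γ((vI x).subscheme, (vI x).subschemeι ⁻¹ᵁ V)) :
    r • toSec x V s = toSec x V ((vI x).subschemeι.app V r * s) := rfl

theorem toSec_zero (V : X.Opens) : toSec x V 0 = 0 := rfl

theorem toSec_add (V : X.Opens) (s s' : Γ((vI x).subscheme, (vI x).subschemeι ⁻¹ᵁ V)) :
    toSec x V (s + s') = toSec x V s + toSec x V s' := rfl

theorem toSec_eq_zero_iff (V : X.Opens) (s : Γ((vI x).subscheme, (vI x).subschemeι ⁻¹ᵁ V)) :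
    toSec x V s = 0 ↔ s = 0 := Iff.rfl

theorem app_eq_zero_iff {V : X.Opens} (hV : IsAffineOpen V) (r : Γ(X, V)) :
    (vI x).subschemeι.app V r = 0 ↔ r ∈ (vI x).ideal ⟨V, hV⟩ := by
  rw [← (vI x).ker_subschemeι_app ⟨V, hV⟩, RingHom.mem_ker]

/-- A monomorphism from the structure sheaf of the reduced closure of `x` into `F` over an open
neighbourhood of `x` gives a socle element in the stalk. -/
theorem hasSocle_of_mono (F : X.Modules) [F.IsQuasicoherent] (U : X.Opens) (hxU : x ∈ U)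
    (φ : (PP x).restrict U.ι ⟶ F.restrict U.ι) [Mono φ] :
    HasSocle (X.presheaf.stalk x) (F.presheaf.stalk x) := by
  obtain ⟨V', hV', haV', -⟩ := exists_isAffineOpen_mem_and_subset (X := (U : Scheme))
    (x := (⟨x, hxU⟩ : ↥U)) (U := ⊤) trivial
  have hV : IsAffineOpen (U.ι ''ᵁ V') := hV'.image_of_isOpenImmersion U.ι
  have hxV : x ∈ U.ι ''ᵁ V' := ⟨⟨x, hxU⟩, haV', rfl⟩
  have hinj := Groth.Agent.H8.app_injective_of_mono φ V'
  obtain ⟨t, ht⟩ : ∃ t : Γ(F, U.ι ''ᵁ V'), t = ofRes U.ι F V'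
      (φ.app V' (toRes U.ι (PP x) V' (toSec x _ 1))) := ⟨_, rfl⟩
  have hlin : ∀ r : Γ(X, U.ι ''ᵁ V'), r • t = ofRes U.ι F V'
      (φ.app V' (toRes U.ι (PP x) V' (toSec x _ ((vI x).subschemeι.app _ r)))) := by
    intro r
    rw [ht, ← restrict_app_smul, smul_toSec, mul_one]
  have hzero : ∀ r : Γ(X, U.ι ''ᵁ V'), r • t = 0 ↔ r ∈ (vI x).ideal ⟨_, hV⟩ := by
    intro r
    rw [hlin, ← app_eq_zero_iff x hV r]
    constructor
    · intro h0
      have h1 : φ.app V' (toRes U.ι (PP x) V' (toSec x _ ((vI x).subschemeι.app _ r))) =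
          φ.app V' 0 := by
        rw [map_zero]; exact h0
      exact hinj h1
    · intro h0
      rw [h0]
      have hz : toRes U.ι (PP x) V' (toSec x (U.ι ''ᵁ V') 0) = 0 := rfl
      have hz' : φ.app V' (toRes U.ι (PP x) V' (toSec x (U.ι ''ᵁ V') 0)) = 0 := by
        rw [hz, map_zero]
      exact hz'
  refine hasSocle_of_section F hV x hxV t ?_ ?_
  · intro r hr
    exact (hzero r).mpr (mem_vI_of_mem_primeIdealOf x hV hxV r hr)
  · intro h0
    obtain ⟨s, hxs, hs⟩ := Groth.Agent.H8.exists_smul_eq_zero_of_germ_eq_zero F hV x hxV t h0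
    have hsI := (hzero s).mp hs
    have hsp := mem_primeIdealOf_of_mem_vI x hV hxV s hsI
    exact (Groth.Agent.H8.mem_basicOpen_iff_notMem_primeIdealOf hV x hxV s).mp hxs hsp

/-- A section over an affine open `W ∋ x`, killed by the prime of `x` and with nonzero germ at `x`,
gives a monomorphism from the structure sheaf of the reduced closure of `x` into `F` over `W`. -/
theorem exists_mono_of_section (F : X.Modules) {W : X.Opens} (hW : IsAffineOpen W) (hxW : x ∈ W)
    (t : Γ(F, W)) (h1 : ∀ r ∈ (hW.primeIdealOf ⟨x, hxW⟩).asIdeal, r • t = 0)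
    (h2 : F.presheaf.germ W x hxW t ≠ 0) :
    ∃ φ : (PP x).restrict W.ι ⟶ F.restrict W.ι, Mono φ := by
  classical
  have hle : ∀ V' : (W : Scheme).Opens, W.ι ''ᵁ V' ≤ W := fun V' => W.ι_image_le V'
  have haff : ∀ V' : (W : Scheme).affineOpens, IsAffineOpen (W.ι ''ᵁ V'.1) :=
    fun V' => V'.2.image_of_isOpenImmersion W.ι
  have hsurj : ∀ V' : (W : Scheme).affineOpens,
      Function.Surjective ((vI x).subschemeι.app (W.ι ''ᵁ V'.1)) :=
    fun V' => (vI x).subschemeι_app_surjective ⟨_, haff V'⟩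
  obtain ⟨tV, htV⟩ : ∃ tV : ∀ V' : (W : Scheme).Opens, Γ(F, W.ι ''ᵁ V'),
      ∀ V', tV V' = F.presheaf.map (homOfLE (hle V')).op t := ⟨_, fun _ => rfl⟩
  have htV_res : ∀ (V₁ V₂ : (W : Scheme).Opens) (h : W.ι ''ᵁ V₁ ≤ W.ι ''ᵁ V₂),
      F.presheaf.map (homOfLE h).op (tV V₂) = tV V₁ := by
    intro V₁ V₂ h
    rw [htV, htV, ← ConcreteCategory.comp_apply, ← Functor.map_comp]
    rfl
  obtain ⟨αf, hαf⟩ : ∃ αf : ∀ V' : (W : Scheme).affineOpens,
      Γ(PP x, W.ι ''ᵁ V'.1) → Γ(F, W.ι ''ᵁ V'.1),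
      ∀ V' m, αf V' m = (Function.surjInv (hsurj V') (ofSec x _ m)) • tV V'.1 :=
    ⟨_, fun _ _ => rfl⟩
  have hα : ∀ (V' : (W : Scheme).affineOpens) (m : Γ(PP x, W.ι ''ᵁ V'.1))
      (s : Γ(X, W.ι ''ᵁ V'.1)),
      (vI x).subschemeι.app _ s = ofSec x _ m → αf V' m = s • tV V'.1 := by
    intro V' m s hs
    have hdiff : Function.surjInv (hsurj V') (ofSec x _ m) - s ∈
        (vI x).ideal ⟨_, haff V'⟩ := by
      rw [← app_eq_zero_iff x (haff V'), map_sub, Function.surjInv_eq (hsurj V'), hs, sub_self]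
    have h0 := smul_res_eq_zero_of_mem_vI x F hW hxW t h1 (haff V') (hle V'.1) _ hdiff
    rw [← htV, sub_smul, sub_eq_zero] at h0
    rw [hαf]
    exact h0
  have hα0 : ∀ (V' : (W : Scheme).affineOpens) (m : Γ(PP x, W.ι ''ᵁ V'.1)),
      αf V' m = 0 → m = 0 := by
    intro V' m hm
    obtain ⟨s, hs⟩ := hsurj V' (ofSec x _ m)
    rw [hα V' m s hs, htV] at hm
    have hsI := mem_vI_of_smul_res_eq_zero x F hxW t h2 (haff V') (hle V'.1) s hm
    rw [← app_eq_zero_iff x (haff V'), hs] at hsI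
    exact hsI
  let α : ∀ V' : (W : Scheme).affineOpens,
      Γ((PP x).restrict W.ι, V'.1) →+ Γ(F.restrict W.ι, V'.1) := fun V' =>
    { toFun := fun m => toRes W.ι F V'.1 (αf V' (ofRes W.ι (PP x) V'.1 m))
      map_zero' := by
        have h0 : αf V' (ofRes W.ι (PP x) V'.1 0) = 0 := by
          rw [hα V' _ 0 (by rw [map_zero]; rfl), zero_smul]
        rw [h0]; rfl
      map_add' := fun m m' => by
        obtain ⟨s, hs⟩ := hsurj V' (ofSec x _ (ofRes W.ι (PP x) V'.1 m))
        obtain ⟨s', hs'⟩ := hsurj V' (ofSec x _ (ofRes W.ι (PP x) V'.1 m'))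
        have hadd : αf V' (ofRes W.ι (PP x) V'.1 (m + m')) =
            αf V' (ofRes W.ι (PP x) V'.1 m) + αf V' (ofRes W.ι (PP x) V'.1 m') := by
          rw [hα V' _ s hs, hα V' _ s' hs', hα V' _ (s + s') (by rw [map_add, hs, hs']; rfl),
            add_smul]
        rw [hadd]; rfl }
  have hαapp : ∀ (V' : (W : Scheme).affineOpens) (m : Γ((PP x).restrict W.ι, V'.1)),
      α V' m = toRes W.ι F V'.1 (αf V' (ofRes W.ι (PP x) V'.1 m)) := fun _ _ => rfl
  have hB : Opens.IsBasis (Set.range fun V' : (W : Scheme).affineOpens => V'.1) := by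
    rw [Subtype.range_coe_subtype]
    exact (W : Scheme).isBasis_affineOpens
  have hres : ∀ (i j : (W : Scheme).affineOpens) (h : i.1 ≤ j.1)
      (m : Γ((PP x).restrict W.ι, j.1)),
      α i (((PP x).restrict W.ι).presheaf.map (homOfLE h).op m) =
        (F.restrict W.ι).presheaf.map (homOfLE h).op (α j m) := by
    intro i j h m
    have h' : W.ι ''ᵁ i.1 ≤ W.ι ''ᵁ j.1 := Scheme.Hom.image_mono _ h
    obtain ⟨s, hs⟩ := hsurj j (ofSec x _ (ofRes W.ι (PP x) j.1 m))
    have hlift : (vI x).subschemeι.app _ (X.presheaf.map (homOfLE h').op s) =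
        ofSec x _ (ofRes W.ι (PP x) i.1
          (((PP x).restrict W.ι).presheaf.map (homOfLE h).op m)) := by
      have hnat := ConcreteCategory.congr_hom
        ((vI x).subschemeι.naturality (homOfLE h').op) s
      rw [CommRingCat.comp_apply, CommRingCat.comp_apply, hs] at hnat
      exact hnat
    rw [hαapp, hαapp, hα i _ _ hlift, hα j _ s hs]
    have hsm := F.map_smul (homOfLE h') s (tV j.1)
    rw [htV_res i.1 j.1 h'] at hsm
    exact congrArg (toRes W.ι F i.1) hsm.symm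
  have hlin : ∀ (i : (W : Scheme).affineOpens) (r : Γ((W : Scheme), i.1))
      (m : Γ((PP x).restrict W.ι, i.1)), α i (r • m) = r • α i m := by
    intro i r m
    obtain ⟨s, hs⟩ := hsurj i (ofSec x _ (ofRes W.ι (PP x) i.1 m))
    have hlift : (vI x).subschemeι.app _ ((W.ι.appIso i.1).inv r * s) =
        ofSec x _ (ofRes W.ι (PP x) i.1 (r • m)) := by
      rw [map_mul, hs]
      rfl
    rw [hαapp, hαapp, hα i _ _ hlift, hα i _ s hs, mul_smul]
    rfl
  obtain ⟨φ, hφ⟩ := Groth.Agent.H8.HomBasis.exists_hom_of_basis ((PP x).restrict W.ι)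
    (F.restrict W.ι) hB α hres hlin
  have hinjB : ∀ i : (W : Scheme).affineOpens, Function.Injective (φ.app i.1) := by
    intro i m m' hmm'
    have h3 : α i (m - m') = 0 := by
      rw [map_sub, ← hφ i m, ← hφ i m', hmm', sub_self]
    rw [hαapp] at h3
    have h4 : αf i (ofRes W.ι (PP x) i.1 (m - m')) = 0 := h3
    have h5 : ofRes W.ι (PP x) i.1 (m - m') = 0 := hα0 i _ h4
    have h6 : m - m' = 0 := h5
    exact sub_eq_zero.mp h6
  refine ⟨φ, mono_of_app_injective φ (fun U' m m' hmm' => ?_)⟩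
  refine Groth.Agent.H8.HomBasis.sect_ext_of_basis ((PP x).restrict W.ι) hB U' m m'
    (fun i hi => ?_)
  apply hinjB i
  rw [Groth.Agent.H8.app_res φ hi m, Groth.Agent.H8.app_res φ hi m', hmm']

end Main

end Groth.Agent.H7.AssMonoClosure
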