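import Mathlib.AlgebraicGeometry.ZariskisMainTheorem

set_option autoImplicit false
universe u

namespace Groth.Agent.H7

open AlgebraicGeometry CategoryTheory Limits

variable {Z U : Scheme.{u}} (h : Z ⟶ U)

/-- If two opens of `Z` are finite over `U` (for `h : Z ⟶ U` separated, locally of finite type),
so is their union. -/
theorem isFinite_sup [IsSeparated h] [LocallyOfFiniteType h] (V₁ V₂ : Z.Opens)
    (h₁ : IsFinite (V₁.ι ≫ h)) (h₂ : IsFinite (V₂.ι ≫ h)) : IsFinite ((V₁ ⊔ V₂).ι ≫ h) := by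
  let p : (V₁ : Scheme.{u}) ⨿ (V₂ : Scheme.{u}) ⟶ ((V₁ ⊔ V₂ : Z.Opens) : Scheme.{u}) :=
    coprod.desc (Z.homOfLE le_sup_left) (Z.homOfLE le_sup_right)
  have hpq : p ≫ (V₁ ⊔ V₂).ι ≫ h = coprod.desc (V₁.ι ≫ h) (V₂.ι ≫ h) := by
    apply coprod.hom_ext
    · simp [p]
    · simp [p]
  have hsurj : Surjective p := by
    constructor
    rintro ⟨w, hw⟩
    rcases hw with hw | hw
    · refine ⟨(coprod.inl : (V₁ : Scheme.{u}) ⟶ _) ⟨w, hw⟩, ?_⟩
      rw [← Scheme.Hom.comp_apply, coprod.inl_desc]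
      exact Scheme.homOfLE_apply' _ _ _
    · refine ⟨(coprod.inr : (V₂ : Scheme.{u}) ⟶ _) ⟨w, hw⟩, ?_⟩
      rw [← Scheme.Hom.comp_apply, coprod.inr_desc]
      exact Scheme.homOfLE_apply' _ _ _
  have huc : UniversallyClosed ((V₁ ⊔ V₂).ι ≫ h) := by
    have : UniversallyClosed (p ≫ (V₁ ⊔ V₂).ι ≫ h) := by
      rw [hpq]; infer_instance
    exact .of_comp_surjective p _
  have hlqf : LocallyQuasiFinite ((V₁ ⊔ V₂).ι ≫ h) := by
    rw [← Scheme.Hom.quasiFiniteLocus_eq_top_iff]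
    refine top_le_iff.mp fun w _ => ?_
    show ((V₁ ⊔ V₂).ι ≫ h).QuasiFiniteAt w
    rw [Scheme.Hom.quasiFiniteAt_comp_iff_of_isOpenImmersion]
    obtain ⟨w, hw⟩ := w
    rcases hw with hw | hw
    · have := (V₁.ι ≫ h).quasiFiniteAt ⟨w, hw⟩
      rwa [Scheme.Hom.quasiFiniteAt_comp_iff_of_isOpenImmersion] at this
    · have := (V₂.ι ≫ h).quasiFiniteAt ⟨w, hw⟩
      rwa [Scheme.Hom.quasiFiniteAt_comp_iff_of_isOpenImmersion] at this
  have : IsProper ((V₁ ⊔ V₂).ι ≫ h) := {}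
  exact .of_isProper_of_locallyQuasiFinite _

/-- A finite union of opens which are finite over `U` is finite over `U`. -/
theorem isFinite_iSup [IsSeparated h] [LocallyOfFiniteType h] :
    ∀ (ι : Type) [Finite ι] (V : ι → Z.Opens) (_ : ∀ i, IsFinite ((V i).ι ≫ h)),
      IsFinite ((⨆ i, V i).ι ≫ h) := by
  intro ι _
  induction ι using Finite.induction_empty_option with
  | of_equiv e ih =>
    intro V hV
    have := ih (fun i => V (e i)) (fun i => hV _)
    rwa [e.iSup_comp (g := V)] at this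
  | h_empty =>
    intro V _
    rw [iSup_of_empty]
    have : IsEmpty ((⊥ : Z.Opens) : Scheme.{u}) := by
      constructor
      rintro ⟨w, hw⟩
      exact hw
    infer_instance
  | h_option ih =>
    intro V hV
    rw [iSup_option]
    exact isFinite_sup h _ _ (hV none) (ih (fun i => V (some i)) (fun i => hV _))

end Groth.Agent.H7
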