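import Groth.Agent.H7.EtaleLoc3
import Groth.Agent.H7.FiniteUnion

set_option autoImplicit false
universe u

namespace Groth.Agent.H7

open AlgebraicGeometry CategoryTheory Limits

variable {X S : Scheme.{u}}

/-- Étale localization at finitely many quasi-finite points of a fibre, separated case:
the finite parts are open and closed. -/
theorem exists_common_etale_nbhd_sep (f : X ⟶ S) [LocallyOfFiniteType f] [IsSeparated f] (s : S) :
    ∀ (ι : Type) [Finite ι] (x : ι → X) (_ : ∀ i, f (x i) = s) (_ : ∀ i, f.QuasiFiniteAt (x i)),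
    ∃ (U : Scheme.{u}) (g : U ⟶ S) (u : U), Etale g ∧ g u = s ∧
      Function.Bijective (g.residueFieldMap u) ∧
      ∃ (V : ι → (pullback f g).Opens) (v : ι → ↑(pullback f g)),
        ∀ i, IsFinitePart g u (x i) (V i) (v i) ∧ IsClosed (V i : Set ↑(pullback f g)) := by
  intro ι _
  induction ι using Finite.induction_empty_option with
  | of_equiv e ih =>
    intro x hs hx
    obtain ⟨U, g, u, hg, hgu, hres, V, v, hV⟩ := ih (x ∘ e) (fun i => hs _) (fun i => hx _)
    refine ⟨U, g, u, hg, hgu, hres, V ∘ e.symm, v ∘ e.symm, fun i => ?_⟩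
    have := hV (e.symm i)
    simpa using this
  | h_empty =>
    intro x hs hx
    refine ⟨S, 𝟙 S, s, inferInstance, rfl, ?_, fun i => i.elim, fun i => i.elim, fun i => i.elim⟩
    rw [Scheme.residueFieldMap_id]
    exact Function.bijective_id
  | h_option ih =>
    intro x hs hx
    obtain ⟨U₁, g₁, u₁, hg₁, hgu₁, hres₁, V₁, v₁, hV₁⟩ :=
      ih (fun i => x (some i)) (fun i => hs _) (fun i => hx _)
    obtain ⟨U₂, g₂, u₂, hg₂, hgu₂, hres₂, V₂, W₂, v₂, hVW₂, hfin₂, hvV₂, hfst₂, hsnd₂, huniq₂⟩ :=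
      exists_etale_isCompl_of_quasiFiniteAt_strong f (x none) (hx none)
    have hV₂ : IsFinitePart g₂ u₂ (x none) V₂ v₂ := ⟨hvV₂, hfin₂, hsnd₂, huniq₂, hfst₂⟩
    have hcl₂ : IsClosed (V₂ : Set ↑(pullback f g₂)) := isClosed_of_isCompl hVW₂
    obtain ⟨U, g, u, a, b, hg, hgu, hres, hag, hbg, hau, hbu⟩ :=
      exists_common_refinement g₁ g₂ u₁ u₂ s hgu₁ (hgu₂.trans (hs none)) hres₁ hres₂
    have h1 : ∀ i, ∃ v', IsFinitePart g u (x (some i))
        ((pullback.map f g f g₁ (𝟙 _) a (𝟙 _) (by simp) (by simp [hag])) ⁻¹ᵁ V₁ i) v' :=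
      fun i => (hV₁ i).1.refine hres₁ g u a hag hau hres ((hs _).trans hgu.symm)
    have h2 : ∃ v', IsFinitePart g u (x none)
        ((pullback.map f g f g₂ (𝟙 _) b (𝟙 _) (by simp) (by simp [hbg])) ⁻¹ᵁ V₂) v' :=
      hV₂.refine hres₂ g u b hbg hbu hres ((hs _).trans hgu.symm)
    choose v₁' hv₁' using h1
    obtain ⟨v₂', hv₂'⟩ := h2
    refine ⟨U, g, u, hg, hgu, hres,
      fun o => o.rec ((pullback.map f g f g₂ (𝟙 _) b (𝟙 _) (by simp) (by simp [hbg])) ⁻¹ᵁ V₂)
        (fun i => (pullback.map f g f g₁ (𝟙 _) a (𝟙 _) (by simp) (by simp [hag])) ⁻¹ᵁ V₁ i),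
      fun o => o.rec v₂' v₁', fun o => ?_⟩
    cases o with
    | none => exact ⟨hv₂', hcl₂.preimage (Scheme.Hom.continuous _)⟩
    | some i => exact ⟨hv₁' i, (hV₁ i).2.preimage (Scheme.Hom.continuous _)⟩

/-- Étale localization splitting off the whole (finite) fibre (Stacks 02LM-type). -/
theorem exists_etale_nbhd_clopen_finite_part (f : X ⟶ S) [LocallyOfFiniteType f] [IsSeparated f]
    (y : S) (hfin : (f ⁻¹' {y}).Finite) :
    ∃ (U : Scheme.{u}) (g : U ⟶ S) (u : U), Etale g ∧ g u = y ∧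
      Function.Bijective (g.residueFieldMap u) ∧
      ∃ (V W : (pullback f g).Opens), IsCompl V W ∧ IsFinite (V.ι ≫ pullback.snd f g) ∧
        ∀ w : ↑(pullback f g), pullback.snd f g w = u → w ∈ V := by
  have hqf : ∀ x, f x = y → f.QuasiFiniteAt x := by
    rintro x rfl
    have : Finite (f.fiber (f x)) := (f.fiberHomeo (f x)).finite_iff.mpr hfin
    exact Scheme.Hom.quasiFiniteAt_iff_isOpen_singleton_asFiber.mpr (isOpen_discrete _)
  have : Finite ↑(f ⁻¹' {y}) := hfin
  let e := Finite.equivFin ↑(f ⁻¹' {y})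
  let x : Fin (Nat.card ↑(f ⁻¹' {y})) → X := fun i => (e.symm i).1
  have hxy : ∀ i, f (x i) = y := fun i => (e.symm i).2
  obtain ⟨U, g, u, hg, hgu, hres, V, v, hV⟩ :=
    exists_common_etale_nbhd_sep f y _ x hxy (fun i => hqf _ (hxy i))
  have hcl : IsClosed ((⨆ i, V i : (pullback f g).Opens) : Set ↑(pullback f g)) := by
    have : ((⨆ i, V i : (pullback f g).Opens) : Set ↑(pullback f g)) = ⋃ i, (V i : Set _) := by
      simp
    rw [this]
    exact isClosed_iUnion_of_finite fun i => (hV i).2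
  refine ⟨U, g, u, hg, hgu, hres, ⨆ i, V i, ⟨_, hcl.isOpen_compl⟩, ?_, ?_, ?_⟩
  · rw [isCompl_iff, disjoint_iff, codisjoint_iff]
    constructor
    · ext w
      simp only [TopologicalSpace.Opens.coe_inf, TopologicalSpace.Opens.coe_mk,
        Set.inter_compl_self, TopologicalSpace.Opens.coe_bot]
    · ext w
      simp only [TopologicalSpace.Opens.coe_sup, TopologicalSpace.Opens.coe_mk,
        Set.union_compl_self, TopologicalSpace.Opens.coe_top]
  · exact isFinite_iSup (pullback.snd f g) _ V (fun i => (hV i).1.2.1)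
  · intro w hw
    have hfw : f (pullback.fst f g w) = y := by
      rw [← Scheme.Hom.comp_apply, pullback.condition, Scheme.Hom.comp_apply, hw, hgu]
    let i := e ⟨pullback.fst f g w, hfw⟩
    have hxi : x i = pullback.fst f g w := by
      show (e.symm (e ⟨pullback.fst f g w, hfw⟩)).1 = _
      rw [Equiv.symm_apply_apply]
    obtain ⟨hvV, -, hsnd, -, hfst⟩ := (hV i).1
    have : w = v i := by
      apply eq_of_fst_eq_of_snd_eq
      · rw [hfst, hxi]
      · rw [hsnd, hw]
      · rw [hsnd]; exact hres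
    rw [this]
    exact TopologicalSpace.Opens.mem_iSup.mpr ⟨i, hvV⟩

end Groth.Agent.H7
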