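import Groth.Agent.H7.WeightingOpen
import Groth.Agent.H7.EtaleLoc4
import Mathlib.CategoryTheory.Limits.Shapes.KernelPair

set_option autoImplicit false
set_option linter.style.haveILetI false
universe u

namespace Groth.Agent.H7

open AlgebraicGeometry CategoryTheory Limits IsLocalRing

variable {X Y Z : Scheme.{u}}

/-! ### Multiplicativity of the separable degree -/

theorem sepDegHom_comp {K L M : Type u} [Field K] [Field L] [Field M] (φ : K →+* L) (ψ : L →+* M)
    (hψ : ψ.Finite) : sepDegHom (ψ.comp φ) = sepDegHom φ * sepDegHom ψ := by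
  letI a1 := φ.toAlgebra
  letI a2 := ψ.toAlgebra
  letI a3 := (ψ.comp φ).toAlgebra
  haveI : IsScalarTower K L M := IsScalarTower.of_algebraMap_eq (fun _ => rfl)
  haveI : FiniteDimensional L M := hψ
  exact (Field.finSepDegree_mul_finSepDegree_of_isAlgebraic K L M).symm

theorem sepDegHom_residueFieldMap_comp (f : X ⟶ Y) (g : Y ⟶ Z) [LocallyQuasiFinite f] (x : X) :
    sepDegHom ((f ≫ g).residueFieldMap x).hom =
      sepDegHom (g.residueFieldMap (f x)).hom * sepDegHom (f.residueFieldMap x).hom := by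
  rw [Scheme.residueFieldMap_comp]
  exact sepDegHom_comp _ _ (finite_residueFieldMap f x (f.quasiFiniteAt x))

theorem fibreTerm_comp (f : X ⟶ Y) (g : Y ⟶ Z) [LocallyQuasiFinite f] (wf : X → ℤ) (wg : Y → ℤ)
    (p : X) :
    fibreTerm (f ≫ g) (fun x => wf x * wg (f x)) p = fibreTerm g wg (f p) * fibreTerm f wf p := by
  unfold fibreTerm
  rw [sepDegHom_residueFieldMap_comp]
  push_cast
  ring

/-! ### Elementary facts on weightings -/

/-- The restriction of a weighting to an open part is a weighting. -/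
theorem isWeighting_openImmersion_comp (f : X ⟶ Y) (w : X → ℤ) (hw : MoreMor.IsWeighting f w)
    {A : Scheme.{u}} (j : A ⟶ X) [IsOpenImmersion j] :
    MoreMor.IsWeighting (j ≫ f) (fun a => w (j a)) := by
  intro V γ _ U hU
  let m : pullback (j ≫ f) γ ⟶ pullback f γ :=
    pullback.map (j ≫ f) γ f γ j (𝟙 V) (𝟙 Y) (by simp) (by simp)
  have hmfst : m ≫ pullback.fst f γ = pullback.fst (j ≫ f) γ ≫ j := pullback.lift_fst _ _ _
  have hmsnd : m ≫ pullback.snd f γ = pullback.snd (j ≫ f) γ :=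
    (pullback.lift_snd _ _ _).trans (Category.comp_id _)
  have hj : (U.ι ≫ m) ≫ pullback.snd f γ = U.ι ≫ pullback.snd (j ≫ f) γ := by
    rw [Category.assoc, hmsnd]
  have hfin : IsFinite ((U.ι ≫ m) ≫ pullback.snd f γ) := by rw [hj]; exact hU
  have key := locallyConstant_of_isWeighting f w hw γ (U.ι ≫ m) hfin
  have hw' : (fun a => w (pullback.fst f γ ((U.ι ≫ m) a))) =
      fun u => w (j (pullback.fst (j ≫ f) γ (U.ι u))) := by
    funext a
    have := congrArg (fun φ : pullback (j ≫ f) γ ⟶ X => φ (U.ι a)) hmfst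
    exact congrArg w this
  rw [hw', hj] at key
  exact key

/-- The fibre integral of a weighting along a finite morphism is locally constant. -/
theorem isLocallyConstant_fibreIntegral_of_isFinite (f : X ⟶ Y) (w : X → ℤ)
    (hw : MoreMor.IsWeighting f w) [IsFinite f] :
    IsLocallyConstant (MoreMor.fibreIntegral f w) := by
  have hsq := IsPullback.id_horiz f
  have hj : hsq.isoPullback.hom ≫ pullback.snd f (𝟙 Y) = f := hsq.isoPullback_hom_snd
  have hfin : IsFinite (hsq.isoPullback.hom ≫ pullback.snd f (𝟙 Y)) := by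
    rw [hj]; infer_instance
  have key := locallyConstant_of_isWeighting f w hw (𝟙 Y) hsq.isoPullback.hom hfin
  have hw' : (fun a => w (pullback.fst f (𝟙 Y) (hsq.isoPullback.hom a))) = w := by
    funext a
    have := congrArg (fun φ : X ⟶ X => φ a) hsq.isoPullback_hom_fst
    exact congrArg w this
  rw [hw', hj] at key
  exact key

/-! ### The composition goal -/

/-- The integral of the product weighting along the composite is constant near `z`. -/
def KGoal (f : X ⟶ Y) (g : Y ⟶ Z) (wf : X → ℤ) (wg : Y → ℤ) (z : Z) : Prop :=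
  LocConstNear (MoreMor.fibreIntegral (f ≫ g) (fun x => wf x * wg (f x))) z

/-- The standing hypotheses. -/
structure CompData (f : X ⟶ Y) (g : Y ⟶ Z) (wf : X → ℤ) (wg : Y → ℤ) : Prop where
  lqf_f : LocallyQuasiFinite f
  lft_f : LocallyOfFiniteType f
  lqf_g : LocallyQuasiFinite g
  lft_g : LocallyOfFiniteType g
  fin : IsFinite (f ≫ g)
  hf : MoreMor.IsWeighting f wf
  hg : MoreMor.IsWeighting g wg

theorem CompData.baseChange {f : X ⟶ Y} {g : Y ⟶ Z} {wf : X → ℤ} {wg : Y → ℤ}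
    (D : CompData f g wf wg) {X' Y' Z' : Scheme.{u}} (f' : X' ⟶ Y') (g' : Y' ⟶ Z')
    (x : X' ⟶ X) (y : Y' ⟶ Y) (e : Z' ⟶ Z) (h1 : IsPullback x f' f y)
    (h2 : IsPullback y g' g e) : CompData f' g' (wf ∘ ⇑x) (wg ∘ ⇑y) := by
  haveI := D.lqf_f
  haveI := D.lft_f
  haveI := D.lqf_g
  haveI := D.lft_g
  haveI := D.fin
  exact
    { lqf_f := MorphismProperty.of_isPullback (P := @LocallyQuasiFinite) h1 inferInstance
      lft_f := MorphismProperty.of_isPullback (P := @LocallyOfFiniteType) h1 inferInstance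
      lqf_g := MorphismProperty.of_isPullback (P := @LocallyQuasiFinite) h2 inferInstance
      lft_g := MorphismProperty.of_isPullback (P := @LocallyOfFiniteType) h2 inferInstance
      fin := MorphismProperty.of_isPullback (P := @IsFinite) (h1.paste_vert h2) inferInstance
      hf := isWeighting_baseChange f wf D.hf f' x y h1
      hg := isWeighting_baseChange g wg D.hg g' y e h2 }

theorem CompData.restrict {f : X ⟶ Y} {g : Y ⟶ Z} {wf : X → ℤ} {wg : Y → ℤ}
    (D : CompData f g wf wg) {A : Scheme.{u}} (j : A ⟶ X) [IsOpenImmersion j]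
    (hfin : IsFinite ((j ≫ f) ≫ g)) : CompData (j ≫ f) g (fun a => wf (j a)) wg := by
  haveI := D.lqf_f
  haveI := D.lft_f
  exact
    { lqf_f := inferInstance
      lft_f := inferInstance
      lqf_g := D.lqf_g
      lft_g := D.lft_g
      fin := hfin
      hf := isWeighting_openImmersion_comp f wf D.hf j
      hg := D.hg }

/-- Étale descent of the composition goal. -/
theorem kgoal_descent {f : X ⟶ Y} {g : Y ⟶ Z} {wf : X → ℤ} {wg : Y → ℤ}
    (D : CompData f g wf wg) {X' Y' Z' : Scheme.{u}} (f' : X' ⟶ Y') (g' : Y' ⟶ Z')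
    (x : X' ⟶ X) (y : Y' ⟶ Y) (e : Z' ⟶ Z) [Etale e] (h1 : IsPullback x f' f y)
    (h2 : IsPullback y g' g e) (z' : Z') (h : KGoal f' g' (wf ∘ ⇑x) (wg ∘ ⇑y) z') :
    KGoal f g wf wg (e z') := by
  haveI := D.fin
  have hpaste : IsPullback x (f' ≫ g') (f ≫ g) e := h1.paste_vert h2
  have hform : ∀ b, MoreMor.fibreIntegral (f' ≫ g') (fun p => (wf ∘ ⇑x) p * (wg ∘ ⇑y) (f' p)) b =
      MoreMor.fibreIntegral (f ≫ g) (fun p => wf p * wg (f p)) (e b) := by
    intro b
    have hw : (fun p => (wf ∘ ⇑x) p * (wg ∘ ⇑y) (f' p)) = (fun p => wf p * wg (f p)) ∘ ⇑x := by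
      funext p
      have := congrArg (fun φ : X' ⟶ Y => φ p) h1.w
      show wf (x p) * wg (y (f' p)) = wf (x p) * wg (f (x p))
      rw [show y (f' p) = f (x p) from this.symm]
    rw [hw]
    exact (fibreIntegral_baseChange (f ≫ g) (f' ≫ g') x e hpaste _ b
      ((f ≫ g).finite_preimage_singleton _)).2
  obtain ⟨N, hN, hz, hc⟩ := h
  refine ⟨e '' N, e.isOpenMap N hN, ⟨z', hz, rfl⟩, ?_⟩
  rintro _ ⟨b, hb, rfl⟩
  rw [← hform b, ← hform z']
  exact hc b hb

/-- The case of two finite morphisms, the fibre of the second over `z₀` having at most one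
point. -/
theorem kgoal_of_finite (f : X ⟶ Y) (g : Y ⟶ Z) [IsFinite f] [IsFinite g] (wf : X → ℤ)
    (wg : Y → ℤ) (hf : MoreMor.IsWeighting f wf) (hg : MoreMor.IsWeighting g wg) (z₀ : Z)
    (hsub : (g ⁻¹' {z₀}).Subsingleton) : KGoal f g wf wg z₀ := by
  have hH := isLocallyConstant_fibreIntegral_of_isFinite f wf hf
  have hG := isLocallyConstant_fibreIntegral_of_isFinite g wg hg
  have hform : ∀ b, MoreMor.fibreIntegral (f ≫ g) (fun x => wf x * wg (f x)) b =
      ∑ᶠ q ∈ g ⁻¹' {b}, fibreTerm g wg q * MoreMor.fibreIntegral f wf q := by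
    intro b
    rw [fibreIntegral_eq_finsum_mem]
    have hU : (f ≫ g) ⁻¹' {b} = ⋃ q ∈ g ⁻¹' {b}, f ⁻¹' {q} := by
      ext p
      simp only [Set.mem_preimage, Set.mem_singleton_iff, Set.mem_iUnion, exists_prop]
      constructor
      · intro hp
        exact ⟨f p, hp, rfl⟩
      · rintro ⟨q, hq, hpq⟩
        show g (f p) = b
        rw [hpq]
        exact hq
    rw [hU, finsum_mem_biUnion ?_ (g.finite_preimage_singleton b)
      (fun q _ => f.finite_preimage_singleton q)]
    · refine finsum_mem_congr rfl fun q hq => ?_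
      rw [fibreIntegral_eq_finsum_mem, mul_finsum_mem]
      refine finsum_mem_congr rfl fun p hp => ?_
      rw [fibreTerm_comp]
      have hpq : f p = q := hp
      rw [hpq]
    · intro q _ q' _ hqq'
      exact Set.disjoint_left.mpr fun p hp hp' => hqq' (Eq.trans (Eq.symm hp) hp')
  obtain ⟨c, hc⟩ : ∃ c : ℤ, ∀ q, g q = z₀ → MoreMor.fibreIntegral f wf q = c := by
    by_cases h : ∃ t, g t = z₀
    · obtain ⟨t, ht⟩ := h
      exact ⟨_, fun q hq => congrArg _ (hsub hq ht)⟩
    · exact ⟨0, fun q hq => (h ⟨q, hq⟩).elim⟩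
  have hclosed : IsClosed (g '' {q | MoreMor.fibreIntegral f wf q ≠ c}) := by
    apply g.isClosedMap
    have : {q | MoreMor.fibreIntegral f wf q ≠ c} = {q | MoreMor.fibreIntegral f wf q = c}ᶜ := by
      ext q; rfl
    rw [this]
    exact (hH.isOpen_fiber c).isClosed_compl
  have hz₀ : z₀ ∉ g '' {q | MoreMor.fibreIntegral f wf q ≠ c} := by
    rintro ⟨q, hq, hqz⟩
    exact hq (hc q hqz)
  obtain ⟨N₂, hN₂, hz₂, hconst⟩ := (IsLocallyConstant.iff_exists_open _).mp hG z₀
  have hI : ∀ b, b ∉ g '' {q | MoreMor.fibreIntegral f wf q ≠ c} →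
      MoreMor.fibreIntegral (f ≫ g) (fun x => wf x * wg (f x)) b =
        MoreMor.fibreIntegral g wg b * c := by
    intro b hb
    rw [hform, fibreIntegral_eq_finsum_mem, finsum_mem_mul]
    refine finsum_mem_congr rfl fun q hq => ?_
    have : MoreMor.fibreIntegral f wf q = c := by
      by_contra h
      exact hb ⟨q, h, hq⟩
    rw [this]
  refine ⟨(g '' {q | MoreMor.fibreIntegral f wf q ≠ c})ᶜ ∩ N₂,
    hclosed.isOpen_compl.inter hN₂, ⟨hz₀, hz₂⟩, ?_⟩
  rintro b ⟨hb1, hb2⟩
  rw [hI b hb1, hI z₀ hz₀, hconst b hb2]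

/-- The case where `f` lands in an open part of `Y` finite over `Z` with at most one point over
`z₀`. -/
theorem kgoal_into_open {f : X ⟶ Y} {g : Y ⟶ Z} {wf : X → ℤ} {wg : Y → ℤ}
    (D : CompData f g wf wg) (W : Y.Opens) (hWfin : IsFinite (W.ι ≫ g)) (hXW : ∀ p, f p ∈ W)
    (z₀ : Z) (hsub : (g ⁻¹' {z₀} ∩ (W : Set Y)).Subsingleton) : KGoal f g wf wg z₀ := by
  haveI := D.lqf_f
  haveI := D.lft_f
  haveI := D.lqf_g
  haveI := D.lft_g
  haveI := D.fin
  haveI := hWfin
  have hrange : Set.range f ⊆ Set.range W.ι := by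
    rintro _ ⟨p, rfl⟩
    rw [Scheme.Opens.range_ι]
    exact hXW p
  let f₀ : X ⟶ W := IsOpenImmersion.lift W.ι f hrange
  have hf₀ : f₀ ≫ W.ι = f := IsOpenImmersion.lift_fac _ _ _
  have hsq : IsPullback (𝟙 X) f₀ f W.ι := by
    have h := (IsPullback.id_horiz f₀).paste_vert (IsKernelPair.id_of_mono W.ι)
    rwa [Category.comp_id, hf₀] at h
  have hcomp : f₀ ≫ (W.ι ≫ g) = f ≫ g := by rw [← Category.assoc, hf₀]
  haveI : IsFinite (f₀ ≫ (W.ι ≫ g)) := by rw [hcomp]; exact D.fin
  haveI : IsFinite f₀ := IsFinite.of_comp f₀ (W.ι ≫ g)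
  have hwf₀ : MoreMor.IsWeighting f₀ wf := by
    have := isWeighting_baseChange f wf D.hf f₀ (𝟙 X) W.ι hsq
    have h2 : wf ∘ ⇑(𝟙 X : X ⟶ X) = wf := by funext p; rfl
    rwa [h2] at this
  have hwg₀ : MoreMor.IsWeighting (W.ι ≫ g) (fun q => wg (W.ι q)) :=
    isWeighting_openImmersion_comp g wg D.hg W.ι
  have key := kgoal_of_finite f₀ (W.ι ≫ g) wf (fun q => wg (W.ι q)) hwf₀ hwg₀ z₀ (by
    intro q hq q' hq'
    have : W.ι q = W.ι q' := hsub ⟨hq, q.2⟩ ⟨hq', q'.2⟩
    exact W.ι.isOpenEmbedding.injective this)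
  unfold KGoal at key ⊢
  have hw : (fun x => wf x * (fun q => wg (W.ι q)) (f₀ x)) = fun x => wf x * wg (f x) := by
    funext p
    have := congrArg (fun φ : X ⟶ Y => φ p) hf₀
    show wf p * wg (W.ι (f₀ p)) = wf p * wg (f p)
    rw [show W.ι (f₀ p) = f p from this]
  rw [hw, hcomp] at key
  exact key

/-- The case where the fibre of `X` over `z₀` maps into an open part of `Y` finite over `Z` with
at most one point over `z₀`. -/
theorem kgoal_shrink {f : X ⟶ Y} {g : Y ⟶ Z} {wf : X → ℤ} {wg : Y → ℤ}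
    (D : CompData f g wf wg) (W : Y.Opens) (hWfin : IsFinite (W.ι ≫ g)) (z₀ : Z)
    (hXW : ∀ p, (f ≫ g) p = z₀ → f p ∈ W)
    (hsub : (g ⁻¹' {z₀} ∩ (W : Set Y)).Subsingleton) : KGoal f g wf wg z₀ := by
  haveI := D.lqf_f
  haveI := D.lft_f
  haveI := D.lqf_g
  haveI := D.lft_g
  haveI := D.fin
  have hclosed : IsClosed ((f ≫ g) '' ((f ⁻¹ᵁ W : Set X)ᶜ)) :=
    (f ≫ g).isClosedMap _ (f ⁻¹ᵁ W).isOpen.isClosed_compl
  have hz₀ : z₀ ∉ (f ≫ g) '' ((f ⁻¹ᵁ W : Set X)ᶜ) := by
    rintro ⟨p, hp, hpz⟩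
    exact hp (hXW p hpz)
  let N : Z.Opens := ⟨((f ≫ g) '' ((f ⁻¹ᵁ W : Set X)ᶜ))ᶜ, hclosed.isOpen_compl⟩
  have hNmem : ∀ q : N, N.ι q ∉ (f ≫ g) '' ((f ⁻¹ᵁ W : Set X)ᶜ) := fun q => q.2
  let z₁ : N := ⟨z₀, hz₀⟩
  have h1 := IsPullback.of_hasPullback f (pullback.fst g N.ι)
  have h2 := IsPullback.of_hasPullback g N.ι
  have D' := D.baseChange _ _ _ _ _ h1 h2
  have key : KGoal (pullback.snd f (pullback.fst g N.ι)) (pullback.snd g N.ι)
      (wf ∘ ⇑(pullback.fst f (pullback.fst g N.ι))) (wg ∘ ⇑(pullback.fst g N.ι)) z₁ := by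
    refine kgoal_into_open D' ((pullback.fst g N.ι) ⁻¹ᵁ W) ?_ ?_ z₁ ?_
    · exact MorphismProperty.of_isPullback (P := @IsFinite)
        ((isPullback_morphismRestrict (pullback.fst g N.ι) W).paste_vert h2) hWfin
    · intro p₁
      show pullback.fst g N.ι (pullback.snd f (pullback.fst g N.ι) p₁) ∈ W
      have e1 : pullback.fst g N.ι (pullback.snd f (pullback.fst g N.ι) p₁) =
          f (pullback.fst f (pullback.fst g N.ι) p₁) :=
        (congrArg (fun φ : pullback f (pullback.fst g N.ι) ⟶ Y => φ p₁) h1.w).symm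
      rw [e1]
      by_contra hcon
      have e2 : (f ≫ g) (pullback.fst f (pullback.fst g N.ι) p₁) =
          N.ι (pullback.snd g N.ι (pullback.snd f (pullback.fst g N.ι) p₁)) :=
        congrArg (fun φ : pullback f (pullback.fst g N.ι) ⟶ Z => φ p₁) (h1.paste_vert h2).w
      have hN := hNmem (pullback.snd g N.ι (pullback.snd f (pullback.fst g N.ι) p₁))
      rw [← e2] at hN
      exact hN ⟨pullback.fst f (pullback.fst g N.ι) p₁, hcon, rfl⟩
    · rintro q ⟨hq1, hq2⟩ q' ⟨hq'1, hq'2⟩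
      have hgq : ∀ r : ↑(pullback g N.ι), pullback.snd g N.ι r = z₁ →
          g (pullback.fst g N.ι r) = z₀ := by
        intro r hr
        have := congrArg (fun φ : pullback g N.ι ⟶ Z => φ r) h2.w
        refine this.trans ?_
        show N.ι (pullback.snd g N.ι r) = z₀
        rw [hr]
        rfl
      apply eq_of_fst_eq_of_snd_eq (f := g) (g := N.ι) q q'
      · exact hsub ⟨hgq q hq1, hq2⟩ ⟨hgq q' hq'1, hq'2⟩
      · exact Eq.trans hq1 (Eq.symm hq'1)
      · exact (ConcreteCategory.isIso_iff_bijective _).mp inferInstance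
  exact kgoal_descent D _ _ _ _ N.ι h1 h2 z₁ key

/-- The case where `X` has exactly one point over `z₀`. -/
theorem kgoal_single {f : X ⟶ Y} {g : Y ⟶ Z} {wf : X → ℤ} {wg : Y → ℤ}
    (D : CompData f g wf wg) (z₀ : Z) (x₀ : X) (hx₀ : (f ≫ g) x₀ = z₀)
    (huniq : ∀ p, (f ≫ g) p = z₀ → p = x₀) : KGoal f g wf wg z₀ := by
  haveI := D.lqf_f
  haveI := D.lft_f
  haveI := D.lqf_g
  haveI := D.lft_g
  haveI := D.fin
  obtain ⟨U, e, u, he, heu, hres, W, t, htW, hWfin, hsndt, htuniq, hfstt⟩ :=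
    exists_etale_nbhd_of_quasiFiniteAt g (f x₀) (g.quasiFiniteAt (f x₀))
  haveI := he
  have h1 := IsPullback.of_hasPullback f (pullback.fst g e)
  have h2 := IsPullback.of_hasPullback g e
  have D' := D.baseChange _ _ _ _ _ h1 h2
  have heu' : e u = z₀ := heu.trans hx₀
  have key : KGoal (pullback.snd f (pullback.fst g e)) (pullback.snd g e)
      (wf ∘ ⇑(pullback.fst f (pullback.fst g e))) (wg ∘ ⇑(pullback.fst g e)) u := by
    refine kgoal_shrink D' W hWfin u ?_ ?_
    · intro p hp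
      have hxp : pullback.fst f (pullback.fst g e) p = x₀ := by
        apply huniq
        have := congrArg (fun φ : pullback f (pullback.fst g e) ⟶ Z => φ p) (h1.paste_vert h2).w
        refine this.trans ?_
        show e ((pullback.snd f (pullback.fst g e) ≫ pullback.snd g e) p) = z₀
        rw [hp]
        exact heu'
      have hpt : pullback.snd f (pullback.fst g e) p = t := by
        apply eq_of_fst_eq_of_snd_eq (f := g) (g := e)
        · rw [hfstt]
          have := congrArg (fun φ : pullback f (pullback.fst g e) ⟶ Y => φ p) h1.w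
          refine this.symm.trans ?_
          show f (pullback.fst f (pullback.fst g e) p) = f x₀
          rw [hxp]
        · rw [hsndt]
          exact hp
        · rw [hsndt]
          exact hres
      rw [hpt]
      exact htW
    · rintro q ⟨hq1, hq2⟩ q' ⟨hq'1, hq'2⟩
      exact (htuniq q hq2 hq1).trans (htuniq q' hq'2 hq'1).symm
  have := kgoal_descent D _ _ _ _ e h1 h2 u key
  rwa [heu'] at this

/-- The general case: `f ≫ g` finite. -/
theorem kgoal {f : X ⟶ Y} {g : Y ⟶ Z} {wf : X → ℤ} {wg : Y → ℤ}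
    (D : CompData f g wf wg) (z₀ : Z) : KGoal f g wf wg z₀ := by
  classical
  haveI := D.lqf_f
  haveI := D.lft_f
  haveI := D.lqf_g
  haveI := D.lft_g
  haveI := D.fin
  have hfib : ((f ≫ g) ⁻¹' {z₀}).Finite := (f ≫ g).finite_preimage_singleton z₀
  haveI : Finite ↑((f ≫ g) ⁻¹' {z₀}) := hfib
  let eq := Finite.equivFin ↑((f ≫ g) ⁻¹' {z₀})
  let x : Fin (Nat.card ↑((f ≫ g) ⁻¹' {z₀})) → X := fun i => (eq.symm i).1
  have hxz : ∀ i, (f ≫ g) (x i) = z₀ := fun i => (eq.symm i).2
  have hxinj : Function.Injective x := fun i j h => eq.symm.injective (Subtype.ext h)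
  have hxsurj : ∀ p, (f ≫ g) p = z₀ → ∃ i, x i = p := fun p hp =>
    ⟨eq ⟨p, hp⟩, by show (eq.symm (eq ⟨p, hp⟩)).1 = p; rw [Equiv.symm_apply_apply]⟩
  obtain ⟨U, e, u, he, heu, hres, V, v, hV⟩ :=
    exists_common_etale_nbhd_sep (f ≫ g) z₀ (Fin (Nat.card ↑((f ≫ g) ⁻¹' {z₀}))) x hxz
      (fun i => (f ≫ g).quasiFiniteAt (x i))
  haveI := he
  let f' : pullback (f ≫ g) e ⟶ pullback g e :=
    pullback.lift (pullback.fst (f ≫ g) e ≫ f) (pullback.snd (f ≫ g) e)
      (by rw [Category.assoc]; exact pullback.condition)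
  have hf'fst : f' ≫ pullback.fst g e = pullback.fst (f ≫ g) e ≫ f := pullback.lift_fst _ _ _
  have hf'snd : f' ≫ pullback.snd g e = pullback.snd (f ≫ g) e := pullback.lift_snd _ _ _
  have h2 := IsPullback.of_hasPullback g e
  have h1 : IsPullback (pullback.fst (f ≫ g) e) f' f (pullback.fst g e) := by
    refine IsPullback.of_bot ?_ hf'fst.symm h2
    rw [hf'snd]
    exact IsPullback.of_hasPullback (f ≫ g) e
  have D' := D.baseChange f' (pullback.snd g e) _ _ e h1 h2
  haveI hπfin : IsFinite (pullback.snd (f ≫ g) e) :=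
    MorphismProperty.of_isPullback (P := @IsFinite) (IsPullback.of_hasPullback (f ≫ g) e) D.fin
  have hVd : ∀ i, v i ∈ V i ∧ IsFinite ((V i).ι ≫ pullback.snd (f ≫ g) e) ∧
      pullback.snd (f ≫ g) e (v i) = u ∧
      (∀ w ∈ V i, pullback.snd (f ≫ g) e w = u → w = v i) ∧
      pullback.fst (f ≫ g) e (v i) = x i := fun i => (hV i).1
  have hpt : ∀ p : ↑(pullback (f ≫ g) e), pullback.snd (f ≫ g) e p = u → ∃ i, p = v i := by
    intro p hp
    have h3 : (f ≫ g) (pullback.fst (f ≫ g) e p) = z₀ := by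
      have := congrArg (fun φ : pullback (f ≫ g) e ⟶ Z => φ p)
        (pullback.condition (f := f ≫ g) (g := e))
      refine this.trans ?_
      show e (pullback.snd (f ≫ g) e p) = z₀
      rw [hp, heu]
    obtain ⟨i, hi⟩ := hxsurj _ h3
    refine ⟨i, ?_⟩
    apply eq_of_fst_eq_of_snd_eq (f := f ≫ g) (g := e)
    · rw [(hVd i).2.2.2.2, hi]
    · rw [(hVd i).2.2.1]
      exact hp
    · rw [(hVd i).2.2.1]
      exact hres
  -- the bad closed set
  let C : Set ↑(pullback (f ≫ g) e) :=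
    (⋃ ij : {ij : Fin (Nat.card ↑((f ≫ g) ⁻¹' {z₀})) × Fin (Nat.card ↑((f ≫ g) ⁻¹' {z₀})) //
      ij.1 ≠ ij.2}, ((V ij.1.1 : Set ↑(pullback (f ≫ g) e)) ∩ (V ij.1.2 : Set _))) ∪
    (⋃ i, (V i : Set ↑(pullback (f ≫ g) e)))ᶜ
  have hCclosed : IsClosed C := by
    refine IsClosed.union ?_ ?_
    · exact isClosed_iUnion_of_finite fun ij => (hV ij.1.1).2.inter (hV ij.1.2).2
    · exact (isOpen_iUnion fun i => (V i).isOpen).isClosed_compl
  have huC : u ∉ pullback.snd (f ≫ g) e '' C := by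
    rintro ⟨p, hpC, hpu⟩
    obtain ⟨k, rfl⟩ := hpt p hpu
    rcases hpC with hpC | hpC
    · obtain ⟨⟨⟨i, j⟩, hij⟩, hp1, hp2⟩ := Set.mem_iUnion.mp hpC
      have hki : v k = v i := (hVd i).2.2.2.1 (v k) hp1 hpu
      have hkj : v k = v j := (hVd j).2.2.2.1 (v k) hp2 hpu
      have hxij : x i = x j := by
        rw [← (hVd i).2.2.2.2, ← (hVd j).2.2.2.2, ← hki, ← hkj]
      exact hij (hxinj hxij)
    · exact hpC (Set.mem_iUnion.mpr ⟨k, (hVd k).1⟩)
  have hNopen : IsOpen (pullback.snd (f ≫ g) e '' C)ᶜ :=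
    ((pullback.snd (f ≫ g) e).isClosedMap _ hCclosed).isOpen_compl
  -- the weight upstairs
  set w' : ↑(pullback (f ≫ g) e) → ℤ := fun p =>
    (wf ∘ ⇑(pullback.fst (f ≫ g) e)) p * (wg ∘ ⇑(pullback.fst g e)) (f' p) with hw'
  have hdecomp : ∀ b, b ∉ pullback.snd (f ≫ g) e '' C →
      MoreMor.fibreIntegral (pullback.snd (f ≫ g) e) w' b =
        ∑ i, MoreMor.fibreIntegral ((V i).ι ≫ pullback.snd (f ≫ g) e)
          (fun a => w' ((V i).ι a)) b := by
    intro b hb
    have hcover : pullback.snd (f ≫ g) e ⁻¹' {b} =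
        ⋃ i, (pullback.snd (f ≫ g) e ⁻¹' {b} ∩ (V i : Set ↑(pullback (f ≫ g) e))) := by
      ext p
      constructor
      · intro hp
        have hpC : p ∉ C := fun h => hb ⟨p, h, hp⟩
        have : p ∈ ⋃ i, (V i : Set ↑(pullback (f ≫ g) e)) := by
          by_contra hcon
          exact hpC (Or.inr hcon)
        obtain ⟨i, hi⟩ := Set.mem_iUnion.mp this
        exact Set.mem_iUnion.mpr ⟨i, hp, hi⟩
      · intro hp
        obtain ⟨i, hp1, -⟩ := Set.mem_iUnion.mp hp
        exact hp1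
    have hdisj : Pairwise (Function.onFun Disjoint fun i =>
        (pullback.snd (f ≫ g) e ⁻¹' {b} ∩ (V i : Set ↑(pullback (f ≫ g) e)))) := by
      intro i j hij
      refine Set.disjoint_left.mpr fun p hp hp' => hb ⟨p, Or.inl ?_, hp.1⟩
      exact Set.mem_iUnion.mpr ⟨⟨(i, j), hij⟩, hp.2, hp'.2⟩
    rw [fibreIntegral_eq_finsum_mem, hcover, finsum_mem_iUnion hdisj
      (fun i => ((pullback.snd (f ≫ g) e).finite_preimage_singleton b).subset
        Set.inter_subset_left), finsum_eq_sum_of_fintype]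
    refine Finset.sum_congr rfl fun i _ => ?_
    rw [fibreIntegral_opens_ι]
  -- each piece is locally constant near `u`
  have hpiece : ∀ i, LocConstNear (MoreMor.fibreIntegral ((V i).ι ≫ pullback.snd (f ≫ g) e)
      (fun a => w' ((V i).ι a))) u := by
    intro i
    have hm : ((V i).ι ≫ f') ≫ pullback.snd g e = (V i).ι ≫ pullback.snd (f ≫ g) e := by
      rw [Category.assoc, hf'snd]
    have Di := D'.restrict (V i).ι (by rw [hm]; exact (hVd i).2.1)
    have hpi : ∀ a : ↑(pullback (f ≫ g) e),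
        (f' ≫ pullback.snd g e) a = pullback.snd (f ≫ g) e a := fun a =>
      congrArg (fun φ : pullback (f ≫ g) e ⟶ U => φ a) hf'snd
    have key := kgoal_single Di u ⟨v i, (hVd i).1⟩
      ((hpi (v i)).trans (hVd i).2.2.1)
      (fun a ha => Subtype.ext ((hVd i).2.2.2.1 a.1 a.2 ((hpi a.1).symm.trans ha)))
    unfold KGoal at key
    rw [hm] at key
    exact key
  have hfinal : KGoal f' (pullback.snd g e) (wf ∘ ⇑(pullback.fst (f ≫ g) e))
      (wg ∘ ⇑(pullback.fst g e)) u := by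
    unfold KGoal
    rw [hf'snd]
    choose Ni hNi hui hci using hpiece
    refine ⟨(pullback.snd (f ≫ g) e '' C)ᶜ ∩ ⋂ i, Ni i,
      hNopen.inter (isOpen_iInter_of_finite hNi), ⟨huC, Set.mem_iInter.mpr hui⟩, ?_⟩
    rintro b ⟨hb1, hb2⟩
    show MoreMor.fibreIntegral (pullback.snd (f ≫ g) e) w' b =
      MoreMor.fibreIntegral (pullback.snd (f ≫ g) e) w' u
    rw [hdecomp b hb1, hdecomp u huC]
    exact Finset.sum_congr rfl fun i _ => hci i b (Set.mem_iInter.mp hb2 i)
  have := kgoal_descent D f' (pullback.snd g e) _ _ e h1 h2 u hfinal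
  rwa [heu] at this

/-- **Composition of weightings** (Stacks 0F3B). -/
theorem isWeighting_comp_mul (f : X ⟶ Y) (g : Y ⟶ Z) [LocallyQuasiFinite f]
    [LocallyOfFiniteType f] [LocallyQuasiFinite g] [LocallyOfFiniteType g]
    (wf : X → ℤ) (wg : Y → ℤ) (hf : MoreMor.IsWeighting f wf) (hg : MoreMor.IsWeighting g wg) :
    MoreMor.IsWeighting (f ≫ g) (fun x => wf x * wg (f x)) := by
  intro V γ _ U hU
  apply isLocallyConstant_of_locConstNear
  intro v₀
  let f' : pullback (f ≫ g) γ ⟶ pullback g γ :=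
    pullback.lift (pullback.fst (f ≫ g) γ ≫ f) (pullback.snd (f ≫ g) γ)
      (by rw [Category.assoc]; exact pullback.condition)
  have hf'fst : f' ≫ pullback.fst g γ = pullback.fst (f ≫ g) γ ≫ f := pullback.lift_fst _ _ _
  have hf'snd : f' ≫ pullback.snd g γ = pullback.snd (f ≫ g) γ := pullback.lift_snd _ _ _
  have h2 := IsPullback.of_hasPullback g γ
  have h1 : IsPullback (pullback.fst (f ≫ g) γ) f' f (pullback.fst g γ) := by
    refine IsPullback.of_bot ?_ hf'fst.symm h2
    rw [hf'snd]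
    exact IsPullback.of_hasPullback (f ≫ g) γ
  haveI : LocallyQuasiFinite f' :=
    MorphismProperty.of_isPullback (P := @LocallyQuasiFinite) h1 inferInstance
  haveI : LocallyOfFiniteType f' :=
    MorphismProperty.of_isPullback (P := @LocallyOfFiniteType) h1 inferInstance
  have hm : (U.ι ≫ f') ≫ pullback.snd g γ = U.ι ≫ pullback.snd (f ≫ g) γ := by
    rw [Category.assoc, hf'snd]
  have D : CompData (U.ι ≫ f') (pullback.snd g γ)
      (fun a => (wf ∘ ⇑(pullback.fst (f ≫ g) γ)) (U.ι a)) (wg ∘ ⇑(pullback.fst g γ)) :=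
    { lqf_f := inferInstance
      lft_f := inferInstance
      lqf_g := MorphismProperty.of_isPullback (P := @LocallyQuasiFinite) h2 inferInstance
      lft_g := MorphismProperty.of_isPullback (P := @LocallyOfFiniteType) h2 inferInstance
      fin := by rw [hm]; exact hU
      hf := isWeighting_openImmersion_comp f' _
        (isWeighting_baseChange f wf hf f' _ _ h1) U.ι
      hg := isWeighting_baseChange g wg hg (pullback.snd g γ) (pullback.fst g γ) γ h2 }
  have key := kgoal D v₀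
  unfold KGoal at key
  have hw : (fun a => (wf ∘ ⇑(pullback.fst (f ≫ g) γ)) (U.ι a) *
        (wg ∘ ⇑(pullback.fst g γ)) ((U.ι ≫ f') a)) =
      fun u => (fun x => wf x * wg (f x)) (pullback.fst (f ≫ g) γ (U.ι u)) := by
    funext a
    have := congrArg (fun φ : pullback (f ≫ g) γ ⟶ Y => φ (U.ι a)) hf'fst
    show wf (pullback.fst (f ≫ g) γ (U.ι a)) * wg (pullback.fst g γ (f' (U.ι a))) =
      wf (pullback.fst (f ≫ g) γ (U.ι a)) * wg (f (pullback.fst (f ≫ g) γ (U.ι a)))
    rw [show pullback.fst g γ (f' (U.ι a)) = f (pullback.fst (f ≫ g) γ (U.ι a)) from this]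
  rw [hw, hm] at key
  exact key

end Groth.Agent.H7
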