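import Groth.Agent.H7.DiagCompl
import Groth.Agent.H7.WeightingComp
import Groth.Agent.H7.EtaleLoc2

set_option autoImplicit false
set_option linter.style.haveILetI false
universe u

namespace Groth.Agent.H7

open AlgebraicGeometry CategoryTheory Limits IsLocalRing

variable {X Y : Scheme.{u}}

/-- Étale-local structure of a locally quasi-finite morphism with a weighting: a finite part over
an affine base, carrying the pulled back weighting. -/
theorem exists_finite_etale_local (f : X ⟶ Y) [LocallyQuasiFinite f] [LocallyOfFiniteType f]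
    (w : X → ℤ) (hw : MoreMor.IsWeighting f w) (N : ℕ) (hN : SecCardLE f N) (x : X) :
    ∃ (U V : Scheme.{u}) (π : U ⟶ V) (e : U ⟶ X), IsAffine V ∧ IsFinite π ∧ IsOpenMap e ∧
      x ∈ Set.range e ∧ MoreMor.IsWeighting π (fun a => w (e a)) ∧ SecCardLE π N ∧
      LocallyOfFinitePresentation e ∧
      (LocallyOfFinitePresentation f → LocallyOfFinitePresentation π) := by
  obtain ⟨V₀, g₀, v₀, hg₀, -, -, U₀, u₀, hu₀, hfin, hsnd, -, hfst⟩ :=
    exists_etale_nbhd_of_quasiFiniteAt f x (f.quasiFiniteAt x)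
  haveI := hg₀
  obtain ⟨_, ⟨(V₁ : V₀.Opens), hV₁, rfl⟩, hvV₁, -⟩ :=
    V₀.isBasis_affineOpens.exists_subset_of_mem_open (Set.mem_univ v₀) isOpen_univ
  have hw₀ : MoreMor.IsWeighting (U₀.ι ≫ pullback.snd f g₀)
      (fun a => w (pullback.fst f g₀ (U₀.ι a))) :=
    isWeighting_openImmersion_comp (pullback.snd f g₀) (fun p => w (pullback.fst f g₀ p))
      (isWeighting_snd_of_etale f w hw g₀) U₀.ι
  have hN₀ : SecCardLE (U₀.ι ≫ pullback.snd f g₀) N :=
    (hN.of_isPullback (IsPullback.of_hasPullback f g₀)).comp_mono U₀.ι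
  haveI : IsFinite (U₀.ι ≫ pullback.snd f g₀) := hfin
  have hsq : IsPullback ((U₀.ι ≫ pullback.snd f g₀) ⁻¹ᵁ V₁).ι
      ((U₀.ι ≫ pullback.snd f g₀) ∣_ V₁) (U₀.ι ≫ pullback.snd f g₀) V₁.ι :=
    (isPullback_morphismRestrict (U₀.ι ≫ pullback.snd f g₀) V₁).flip
  have hw₁ := isWeighting_baseChange (U₀.ι ≫ pullback.snd f g₀) _ hw₀
    ((U₀.ι ≫ pullback.snd f g₀) ∣_ V₁) ((U₀.ι ≫ pullback.snd f g₀) ⁻¹ᵁ V₁).ι V₁.ι hsq
  have hN₁ : SecCardLE ((U₀.ι ≫ pullback.snd f g₀) ∣_ V₁) N := hN₀.of_isPullback hsq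
  refine ⟨((U₀.ι ≫ pullback.snd f g₀) ⁻¹ᵁ V₁ : Scheme.{u}), (V₁ : Scheme.{u}),
    (U₀.ι ≫ pullback.snd f g₀) ∣_ V₁,
    ((U₀.ι ≫ pullback.snd f g₀) ⁻¹ᵁ V₁).ι ≫ U₀.ι ≫ pullback.fst f g₀, hV₁, inferInstance,
    ?_, ?_, hw₁, hN₁, inferInstance, fun _ => inferInstance⟩
  · have h1 : IsOpenMap (pullback.fst f g₀) := (pullback.fst f g₀).isOpenMap
    have h2 : IsOpenMap U₀.ι := U₀.ι.isOpenEmbedding.isOpenMap
    have h3 : IsOpenMap ((U₀.ι ≫ pullback.snd f g₀) ⁻¹ᵁ V₁).ι :=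
      ((U₀.ι ≫ pullback.snd f g₀) ⁻¹ᵁ V₁).ι.isOpenEmbedding.isOpenMap
    exact h1.comp (h2.comp h3)
  · have hmem : (⟨u₀, hu₀⟩ : (U₀ : Scheme.{u})) ∈ (U₀.ι ≫ pullback.snd f g₀) ⁻¹ᵁ V₁ := by
      show pullback.snd f g₀ (U₀.ι ⟨u₀, hu₀⟩) ∈ V₁
      have : U₀.ι ⟨u₀, hu₀⟩ = u₀ := rfl
      rw [this, hsnd]
      exact hvV₁
    refine ⟨⟨⟨u₀, hu₀⟩, hmem⟩, ?_⟩
    show pullback.fst f g₀ (U₀.ι (((U₀.ι ≫ pullback.snd f g₀) ⁻¹ᵁ V₁).ι ⟨⟨u₀, hu₀⟩, hmem⟩)) = x
    exact hfst

/-- The inductive step for finite morphisms over an affine base. -/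
theorem bound_of_finite_step (N : ℕ)
    (IH : ∀ {X Y : Scheme.{u}} (f : X ⟶ Y) [LocallyQuasiFinite f] [LocallyOfFiniteType f]
      [CompactSpace X], SecCardLE f N → ∀ w : X → ℤ, MoreMor.IsWeighting f w →
        ∃ M : ℤ, ∀ x, |w x| ≤ M)
    {U V : Scheme.{u}} (π : U ⟶ V) [IsAffine V] [IsFinite π] (hN : SecCardLE π (N + 1))
    (w : U → ℤ) (hw : MoreMor.IsWeighting π w) : ∃ M : ℤ, ∀ x, |w x| ≤ M := by
  haveI : IsAffine U := isAffine_of_isAffineHom π
  let W : (pullback π π).Opens := ⟨(Set.range (pullback.diagonal π))ᶜ,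
    (pullback.diagonal π).isClosedEmbedding.isClosed_range.isOpen_compl⟩
  have hWc : IsCompact (W : Set ↑(pullback π π)) := isCompact_compl_range_diagonal π
  haveI : CompactSpace (W : Scheme.{u}) := isCompact_iff_compactSpace.mp hWc
  have hc : IsPullback (pullback.snd π π) (pullback.fst π π) π π :=
    (IsPullback.of_hasPullback π π).flip
  have hNq : SecCardLE (W.ι ≫ pullback.fst π π) N :=
    (hN.of_isPullback hc).sub_section (pullback.diagonal π) (pullback.diagonal_fst π) W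
      (fun p hp => hp ⟨p, rfl⟩)
  have hwq : MoreMor.IsWeighting (W.ι ≫ pullback.fst π π)
      (fun z => w (pullback.snd π π (W.ι z))) :=
    isWeighting_openImmersion_comp (pullback.fst π π) (w ∘ ⇑(pullback.snd π π))
      (isWeighting_baseChange π w hw (pullback.fst π π) (pullback.snd π π) π hc) W.ι
  obtain ⟨M₂, hM₂⟩ := IH (W.ι ≫ pullback.fst π π) hNq _ hwq
  have hJ : IsLocallyConstant (MoreMor.fibreIntegral π w) :=
    isLocallyConstant_fibreIntegral_of_isFinite π w hw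
  have hJfin : (Set.range (MoreMor.fibreIntegral π w)).Finite := hJ.range_finite
  obtain ⟨M₁, hM₁⟩ : ∃ M₁ : ℤ, ∀ v, |MoreMor.fibreIntegral π w v| ≤ M₁ := by
    obtain ⟨M, hM⟩ := (hJfin.image (fun a => |a|)).bddAbove
    exact ⟨M, fun v => hM ⟨_, ⟨v, rfl⟩, rfl⟩⟩
  refine ⟨M₁ + N * |M₂|, fun x => ?_⟩
  have hfib : (π ⁻¹' {π x}).Finite := π.finite_preimage_singleton _
  have hform := fibreIntegral_diag_formula π W rfl w x hfib
  have hb := abs_fibreIntegral_le (W.ι ≫ pullback.fst π π) hNq _ |M₂| (abs_nonneg _)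
    (fun z => (hM₂ z).trans (le_abs_self _)) x
  have hwx : w x = MoreMor.fibreIntegral π w (π x) -
      MoreMor.fibreIntegral (W.ι ≫ pullback.fst π π)
        (fun z => w (pullback.snd π π (W.ι z))) x := by
    rw [hform]; ring
  rw [hwx]
  exact (abs_sub _ _).trans (add_le_add (hM₁ _) hb)

/-- **Boundedness of weightings**: a weighting of a locally quasi-finite morphism with
quasi-compact source and boundedly many geometric points in the fibres is bounded. -/
theorem isWeighting_bounded_aux : ∀ (N : ℕ) {X Y : Scheme.{u}} (f : X ⟶ Y)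
    [LocallyQuasiFinite f] [LocallyOfFiniteType f] [CompactSpace X], SecCardLE f N →
    ∀ w : X → ℤ, MoreMor.IsWeighting f w → ∃ M : ℤ, ∀ x, |w x| ≤ M := by
  intro N
  induction N with
  | zero =>
    intro X Y f _ _ _ hN w _
    haveI := hN.isEmpty
    exact ⟨0, fun x => isEmptyElim x⟩
  | succ N IH =>
    intro X Y f _ _ _ hN w hw
    classical
    choose U V π e hV hfin he hx hwπ hNπ _ _ using
      fun x => exists_finite_etale_local f w hw (N + 1) hN x
    have hM : ∀ x, ∃ M : ℤ, ∀ a, |w (e x a)| ≤ M := fun x => by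
      haveI := hV x
      haveI := hfin x
      exact bound_of_finite_step N (fun f => IH f) (π x) (hNπ x) _ (hwπ x)
    choose M hM using hM
    obtain ⟨t, ht⟩ := isCompact_univ.elim_finite_subcover (fun x => Set.range (e x))
      (fun x => (he x).isOpen_range) (fun x _ => Set.mem_iUnion.mpr ⟨x, hx x⟩)
    refine ⟨∑ x ∈ t, |M x|, fun x' => ?_⟩
    obtain ⟨x, hx'⟩ := Set.mem_iUnion.mp (ht (Set.mem_univ x'))
    obtain ⟨hxt, ⟨a, rfl⟩⟩ := Set.mem_iUnion.mp hx'
    calc |w (e x a)| ≤ M x := hM x a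
      _ ≤ |M x| := le_abs_self _
      _ ≤ ∑ x ∈ t, |M x| := Finset.single_le_sum (f := fun x => |M x|)
          (fun i _ => abs_nonneg _) hxt

/-- A weighting of a locally quasi-finite morphism with quasi-compact source is bounded. -/
theorem isWeighting_bounded (f : X ⟶ Y) [LocallyQuasiFinite f] [LocallyOfFiniteType f]
    [CompactSpace X] (w : X → ℤ) (hw : MoreMor.IsWeighting f w) :
    ∃ (d : ℕ) (M : ℤ), SecCardLE f d ∧ ∀ x, |w x| ≤ M := by
  obtain ⟨d, hd⟩ := exists_card_pullback_le f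
  have hN : SecCardLE f d := secCardLE_of_card_pullback_le f d hd
  obtain ⟨M, hM⟩ := isWeighting_bounded_aux d f hN w hw
  exact ⟨d, M, hN, hM⟩

/-- The fibre integral of a weighting is bounded when the source is quasi-compact. -/
theorem fibreIntegral_bounded (f : X ⟶ Y) [LocallyQuasiFinite f] [LocallyOfFiniteType f]
    [CompactSpace X] (w : X → ℤ) (hw : MoreMor.IsWeighting f w) :
    ∃ B : ℤ, ∀ y, |MoreMor.fibreIntegral f w y| ≤ B := by
  obtain ⟨d, M, hN, hM⟩ := isWeighting_bounded f w hw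
  exact ⟨d * |M|, fun y => abs_fibreIntegral_le f hN w |M| (abs_nonneg _)
    (fun x => (hM x).trans (le_abs_self _)) y⟩

end Groth.Agent.H7
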