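import Groth.Agent.H7.CFun
import Groth.Agent.H7.WeightingBound

set_option autoImplicit false
set_option linter.style.haveILetI false
universe u

namespace Groth.Agent.H7

open AlgebraicGeometry CategoryTheory Limits IsLocalRing Topology

/-! ### Counting sections with closed point in a given set -/

/-- The number of sections over any field valued point whose closed point lies in `E` is at
most `N`. -/
def SecCardLEOn {T U : Scheme.{u}} (p : T ⟶ U) (E : Set T) (N : ℕ) : Prop :=
  ∀ (Ω : Type u) [Field Ω] (ubar : Spec (.of Ω) ⟶ U),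
    ENat.card {s : Spec (.of Ω) ⟶ T // s ≫ p = ubar ∧ s (closedPoint Ω) ∈ E} ≤ N

section SecOn

variable {T U : Scheme.{u}}

theorem SecCardLE.on {p : T ⟶ U} {N : ℕ} (h : SecCardLE p N) (E : Set T) :
    SecCardLEOn p E N := by
  intro Ω _ ubar
  refine le_trans ?_ (h Ω ubar)
  apply ENat.card_le_card_of_injective
    (f := fun s : {s : Spec (.of Ω) ⟶ T // s ≫ p = ubar ∧ s (closedPoint Ω) ∈ E} =>
      (⟨s.1, s.2.1⟩ : {s : Spec (.of Ω) ⟶ T // s ≫ p = ubar}))
  intro s₁ s₂ hs
  have hs' : (s₁.1 : Spec (.of Ω) ⟶ T) = s₂.1 := congrArg (fun b => (b.1 : Spec (.of Ω) ⟶ T)) hs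
  exact Subtype.ext hs'

theorem SecCardLEOn.mono {p : T ⟶ U} {N : ℕ} {E E' : Set T} (h : SecCardLEOn p E N)
    (hE : E' ⊆ E) : SecCardLEOn p E' N := by
  intro Ω _ ubar
  refine le_trans ?_ (h Ω ubar)
  apply ENat.card_le_card_of_injective
    (f := fun s : {s : Spec (.of Ω) ⟶ T // s ≫ p = ubar ∧ s (closedPoint Ω) ∈ E'} =>
      (⟨s.1, s.2.1, hE s.2.2⟩ :
        {s : Spec (.of Ω) ⟶ T // s ≫ p = ubar ∧ s (closedPoint Ω) ∈ E}))
  intro s₁ s₂ hs
  have hs' : (s₁.1 : Spec (.of Ω) ⟶ T) = s₂.1 := congrArg (fun b => (b.1 : Spec (.of Ω) ⟶ T)) hs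
  exact Subtype.ext hs'

theorem SecCardLEOn.eq_empty {p : T ⟶ U} {E : Set T} (h : SecCardLEOn p E 0) : E = ∅ := by
  apply Set.eq_empty_of_forall_notMem
  intro t ht
  have h1 := h (T.residueField t) (T.fromSpecResidueField t ≫ p)
  have h2 : ENat.card {s : Spec (.of (T.residueField t)) ⟶ T //
      s ≫ p = T.fromSpecResidueField t ≫ p ∧ s (closedPoint (T.residueField t)) ∈ E} = 0 := by
    apply le_antisymm _ zero_le
    simpa using h1
  refine ((ENat.card_eq_zero_iff_empty _).mp h2).false ⟨T.fromSpecResidueField t, rfl, ?_⟩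
  rw [Scheme.fromSpecResidueField_apply]
  exact ht

theorem SecCardLEOn.diag_step (p : T ⟶ U) {E : Set T} {N : ℕ} (h : SecCardLEOn p E (N + 1)) :
    SecCardLEOn (pullback.fst p p)
      {z | pullback.fst p p z ∈ E ∧ pullback.snd p p z ∈ E ∧
        z ∉ Set.range (pullback.diagonal p)} N := by
  intro Ω _ tbar
  by_cases hA : IsEmpty {s : Spec (.of Ω) ⟶ pullback p p // s ≫ pullback.fst p p = tbar ∧
      s (closedPoint Ω) ∈ {z | pullback.fst p p z ∈ E ∧ pullback.snd p p z ∈ E ∧
        z ∉ Set.range (pullback.diagonal p)}}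
  · rw [(ENat.card_eq_zero_iff_empty _).mpr hA]
    exact zero_le
  · rw [not_isEmpty_iff] at hA
    obtain ⟨s₀⟩ := hA
    have htE : tbar (closedPoint Ω) ∈ E := by
      obtain ⟨h1, -, -⟩ := s₀.2.2
      have e : pullback.fst p p (s₀.1 (closedPoint Ω)) = tbar (closedPoint Ω) :=
        congrArg (fun φ : Spec (.of Ω) ⟶ T => φ (closedPoint Ω)) s₀.2.1
      rwa [e] at h1
    let Φ : {s : Spec (.of Ω) ⟶ pullback p p // s ≫ pullback.fst p p = tbar ∧
        s (closedPoint Ω) ∈ {z | pullback.fst p p z ∈ E ∧ pullback.snd p p z ∈ E ∧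
          z ∉ Set.range (pullback.diagonal p)}} →
        {s' : Spec (.of Ω) ⟶ T // s' ≫ p = tbar ≫ p ∧ s' (closedPoint Ω) ∈ E} :=
      fun s => ⟨s.1 ≫ pullback.snd p p,
        by rw [Category.assoc, ← pullback.condition, ← Category.assoc, s.2.1], s.2.2.2.1⟩
    have hΦ : Function.Injective Φ := by
      intro s₁ s₂ hs
      apply Subtype.ext
      apply pullback.hom_ext
      · rw [s₁.2.1, s₂.2.1]
      · exact congrArg Subtype.val hs
    let b₀ : {s' : Spec (.of Ω) ⟶ T // s' ≫ p = tbar ≫ p ∧ s' (closedPoint Ω) ∈ E} :=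
      ⟨tbar, rfl, htE⟩
    have hb₀ : b₀ ∉ Set.range Φ := by
      rintro ⟨s, hs⟩
      have h1 : s.1 ≫ pullback.snd p p = tbar := congrArg Subtype.val hs
      have h2 : s.1 = tbar ≫ pullback.diagonal p := by
        apply pullback.hom_ext
        · rw [s.2.1, Category.assoc, pullback.diagonal_fst, Category.comp_id]
        · rw [h1, Category.assoc, pullback.diagonal_snd, Category.comp_id]
      apply s.2.2.2.2
      rw [h2]
      exact ⟨tbar (closedPoint Ω), rfl⟩
    have hB : ENat.card {s' : Spec (.of Ω) ⟶ T // s' ≫ p = tbar ≫ p ∧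
        s' (closedPoint Ω) ∈ E} ≤ (N : ℕ∞) + 1 := by
      have := h Ω (tbar ≫ p)
      simpa using this
    have h5 : (Set.range Φ).encard + 1 ≤ ENat.card {s' : Spec (.of Ω) ⟶ T //
        s' ≫ p = tbar ≫ p ∧ s' (closedPoint Ω) ∈ E} := by
      rw [← Set.encard_univ, ← Set.encard_sdiff_singleton_add_one (Set.mem_univ b₀)]
      gcongr
      intro b hb
      exact ⟨Set.mem_univ _, fun hbb => hb₀ (hbb ▸ hb)⟩
    exact (ENat.add_le_add_iff_right ENat.one_ne_top).mp
      ((add_le_add_left hΦ.encard_range 1).trans (h5.trans hB))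

end SecOn

/-! ### Fibre integrals of cut-off functions -/

section Indicator

variable {T U : Scheme.{u}}

theorem fibreIntegral_indicator (π : T ⟶ U) (S : Set T) [DecidablePred (· ∈ S)] (w : T → ℤ)
    (v : U) (hfib : (π ⁻¹' {v}).Finite) :
    MoreMor.fibreIntegral π (fun z => if z ∈ S then w z else 0) v =
      ∑ᶠ x ∈ π ⁻¹' {v} ∩ S, fibreTerm π w x := by
  rw [fibreIntegral_eq_finsum_mem, ← finsum_mem_inter_add_sdiff S hfib]
  have h1 : ∑ᶠ x ∈ π ⁻¹' {v} \ S, fibreTerm π (fun z => if z ∈ S then w z else 0) x = 0 := by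
    apply finsum_mem_of_eqOn_zero
    intro x hx
    show fibreTerm π _ x = 0
    unfold fibreTerm
    simp only [if_neg hx.2, zero_mul]
  have h2 : ∑ᶠ x ∈ π ⁻¹' {v} ∩ S, fibreTerm π (fun z => if z ∈ S then w z else 0) x =
      ∑ᶠ x ∈ π ⁻¹' {v} ∩ S, fibreTerm π w x := by
    apply finsum_mem_congr rfl
    intro x hx
    unfold fibreTerm
    simp only [if_pos hx.2]
  rw [h1, h2, add_zero]

theorem fibreIntegral_eq_zero_of_forall (π : T ⟶ U) (w : T → ℤ) (v : U)
    (h : ∀ x, π x = v → w x = 0) : MoreMor.fibreIntegral π w v = 0 := by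
  rw [fibreIntegral_eq_finsum_mem]
  apply finsum_mem_of_eqOn_zero
  intro x hx
  show fibreTerm π w x = 0
  unfold fibreTerm
  rw [h x hx, zero_mul]

end Indicator

/-! ### Fibre integrals of functions with constructible level sets -/

open scoped Classical in
/-- Fibre integrals of bounded functions with locally constructible level sets along quasi-finite
morphisms of finite presentation between affine schemes have locally constructible level sets. -/
theorem cfun_fibreIntegral_aux : ∀ (N : ℕ) {T U : Scheme.{u}} [IsAffine T] [IsAffine U] (p : T ⟶ U)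
    [LocallyQuasiFinite p] [LocallyOfFinitePresentation p] (g : T → ℤ) (M : ℤ)
    (_ : ∀ t, |g t| ≤ M) (_ : CFun g) (_ : SecCardLEOn p {t | g t ≠ 0} N),
    CFun (MoreMor.fibreIntegral p g) := by
  intro N
  induction N with
  | zero =>
    intro T U _ _ p _ _ g M hM hg hN
    have hE := hN.eq_empty
    have hg0 : ∀ t, g t = 0 := fun t => by
      by_contra h
      have : t ∈ {t | g t ≠ 0} := h
      rw [hE] at this
      exact this
    exact (cfun_const 0).of_eq fun y => fibreIntegral_eq_zero_of_forall p g y fun x _ => hg0 x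
  | succ N IH =>
    intro T U _ _ p _ _ g M hM hg hN
    let W : (pullback p p).Opens := ⟨(Set.range (pullback.diagonal p))ᶜ,
      (pullback.diagonal p).isClosedEmbedding.isClosed_range.isOpen_compl⟩
    have hWc : IsCompact (W : Set ↑(pullback p p)) := isCompact_compl_range_diagonal p
    have hE : IsLocallyConstructible {t | g t ≠ 0} := isLocallyConstructible_compl (hg 0)
    have hS : IsLocallyConstructible
        ((W : Set ↑(pullback p p)) ∩ (pullback.fst p p) ⁻¹' {t | g t ≠ 0}) :=
      ((hWc.isConstructible W.isOpen).isLocallyConstructible).inter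
        (isLocallyConstructible_preimage (pullback.fst p p) hE)
    have hg₂ : CFun (fun z => if z ∈ (W : Set ↑(pullback p p)) ∩
        (pullback.fst p p) ⁻¹' {t | g t ≠ 0} then g (pullback.snd p p z) else 0) :=
      (hg.comp_hom (pullback.snd p p)).indicator hS
    have hM₂ : ∀ z, |(if z ∈ (W : Set ↑(pullback p p)) ∩
        (pullback.fst p p) ⁻¹' {t | g t ≠ 0} then g (pullback.snd p p z) else 0)| ≤ M := by
      intro z
      by_cases hz : z ∈ (W : Set ↑(pullback p p)) ∩ (pullback.fst p p) ⁻¹' {t | g t ≠ 0}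
      · rw [if_pos hz]; exact hM _
      · rw [if_neg hz, abs_zero]; exact (abs_nonneg _).trans (hM (pullback.snd p p z))
    have hsupp : {z | (if z ∈ (W : Set ↑(pullback p p)) ∩
        (pullback.fst p p) ⁻¹' {t | g t ≠ 0} then g (pullback.snd p p z) else 0) ≠ 0} ⊆
        {z | pullback.fst p p z ∈ {t | g t ≠ 0} ∧ pullback.snd p p z ∈ {t | g t ≠ 0} ∧
          z ∉ Set.range (pullback.diagonal p)} := by
      intro z hz
      have hz' : (if z ∈ (W : Set ↑(pullback p p)) ∩
        (pullback.fst p p) ⁻¹' {t | g t ≠ 0} then g (pullback.snd p p z) else 0) ≠ 0 := hz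
      by_cases hzS : z ∈ (W : Set ↑(pullback p p)) ∩ (pullback.fst p p) ⁻¹' {t | g t ≠ 0}
      · rw [if_pos hzS] at hz'
        exact ⟨hzS.2, hz', hzS.1⟩
      · rw [if_neg hzS] at hz'
        exact (hz' rfl).elim
    have hN₂ := (hN.diag_step p).mono hsupp
    have hψ := IH (pullback.fst p p) _ M hM₂ hg₂ hN₂
    obtain ⟨d, hd⟩ := exists_card_pullback_le (pullback.fst p p)
    have hdN : SecCardLE (pullback.fst p p) d := secCardLE_of_card_pullback_le _ d hd
    have hψb := fun t => abs_fibreIntegral_le (pullback.fst p p) hdN _ |M| (abs_nonneg _)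
      (fun z => (hM₂ z).trans (le_abs_self _)) t
    have hφ := hg.add_of_bounded hψ _ hψb
    have hform : ∀ t, g t ≠ 0 → MoreMor.fibreIntegral p g (p t) = g t +
        MoreMor.fibreIntegral (pullback.fst p p) (fun z => if z ∈ (W : Set ↑(pullback p p)) ∩
          (pullback.fst p p) ⁻¹' {t | g t ≠ 0} then g (pullback.snd p p z) else 0) t := by
      intro t ht
      have hfib : (p ⁻¹' {p t}).Finite := p.finite_preimage_singleton _
      have h1 := fibreIntegral_diag_formula p W rfl g t hfib
      have hfib' : ((pullback.fst p p) ⁻¹' {t}).Finite :=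
        (pullback.fst p p).finite_preimage_singleton _
      have h2 := fibreIntegral_opens_ι (pullback.fst p p) W (fun z => g (pullback.snd p p z)) t
      have h3 := fibreIntegral_indicator (pullback.fst p p)
        ((W : Set ↑(pullback p p)) ∩ (pullback.fst p p) ⁻¹' {t | g t ≠ 0})
        (fun z => g (pullback.snd p p z)) t hfib'
      have h4 : (pullback.fst p p) ⁻¹' {t} ∩ ((W : Set ↑(pullback p p)) ∩
          (pullback.fst p p) ⁻¹' {t | g t ≠ 0}) =
          (pullback.fst p p) ⁻¹' {t} ∩ (W : Set ↑(pullback p p)) := by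
        ext z
        constructor
        · rintro ⟨hz1, hz2, -⟩
          exact ⟨hz1, hz2⟩
        · rintro ⟨hz1, hz2⟩
          refine ⟨hz1, hz2, ?_⟩
          have hz1' : pullback.fst p p z = t := hz1
          show g (pullback.fst p p z) ≠ 0
          rw [hz1']
          exact ht
      rw [h1, h2, ← h4, ← h3]
    intro n
    have himg := isLocallyConstructible_image p (hE.inter (hφ n))
    have himgE := isLocallyConstructible_image p hE
    have hzero : ∀ y, y ∉ p '' {t | g t ≠ 0} → MoreMor.fibreIntegral p g y = 0 := by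
      intro y hy
      apply fibreIntegral_eq_zero_of_forall
      intro x hx
      by_contra h
      exact hy ⟨x, h, hx⟩
    have hset : {y | MoreMor.fibreIntegral p g y = n} =
        p '' ({t | g t ≠ 0} ∩ {t | g t + MoreMor.fibreIntegral (pullback.fst p p)
          (fun z => if z ∈ (W : Set ↑(pullback p p)) ∩
          (pullback.fst p p) ⁻¹' {t | g t ≠ 0} then g (pullback.snd p p z) else 0) t = n}) ∪
        ((p '' {t | g t ≠ 0})ᶜ ∩ {_y | (0 : ℤ) = n}) := by
      ext y
      by_cases hy : y ∈ p '' {t | g t ≠ 0}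
      · obtain ⟨t, ht, rfl⟩ := hy
        constructor
        · intro h
          exact Or.inl ⟨t, ⟨ht, (hform t ht).symm.trans h⟩, rfl⟩
        · rintro (⟨t', ⟨ht', hφ'⟩, htt⟩ | ⟨h, -⟩)
          · show MoreMor.fibreIntegral p g (p t) = n
            rw [← htt, hform t' ht']
            exact hφ'
          · exact (h ⟨t, ht, rfl⟩).elim
      · constructor
        · intro h
          exact Or.inr ⟨hy, (hzero y hy).symm.trans h⟩
        · rintro (⟨t', ⟨ht', -⟩, htt⟩ | ⟨-, h0⟩)
          · exact (hy ⟨t', ht', htt⟩).elim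
          · show MoreMor.fibreIntegral p g y = n
            rw [hzero y hy]
            exact h0
    rw [hset]
    exact himg.union ((isLocallyConstructible_compl himgE).inter (cfun_const 0 n))

/-- Fibre integrals of bounded functions with locally constructible level sets along quasi-finite
morphisms of finite presentation between affine schemes have locally constructible level sets. -/
theorem cfun_fibreIntegral {T U : Scheme.{u}} [IsAffine T] [IsAffine U] (p : T ⟶ U)
    [LocallyQuasiFinite p] [LocallyOfFinitePresentation p] (g : T → ℤ) (M : ℤ)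
    (hM : ∀ t, |g t| ≤ M) (hg : CFun g) : CFun (MoreMor.fibreIntegral p g) := by
  obtain ⟨d, hd⟩ := exists_card_pullback_le p
  exact cfun_fibreIntegral_aux d p g M hM hg
    ((secCardLE_of_card_pullback_le p d hd).on _)

end Groth.Agent.H7
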