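import Mathlib
import Groth.Agent.H7.EquidimSection
import Groth.Agent.H3.HenselSplit
import Groth.Agent.H86.TameEisenstein

/-!
# Finite local sections over a complete local domain (EGA IV 14.5.4-type) (helper7)
-/

set_option autoImplicit false
set_option linter.style.haveILetI false
universe u

namespace Groth.Agent.H7

open AlgebraicGeometry CategoryTheory TopologicalSpace IsLocalRing

set_option backward.isDefEq.respectTransparency false in
/-- Affine variant of `exists_quasiFinite_immersion`. -/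
theorem exists_quasiFinite_immersion_affine {X Y : Scheme.{u}} [IsLocallyNoetherian Y] (f : X ⟶ Y)
    [LocallyOfFiniteType f] (x₁ x : X) (hx₁x : x₁ ⤳ x)
    (hclosed : ∀ x' : X, f x' = f x → x ⤳ x' → x' = x)
    (hgen : ∀ z : X, x₁ ⤳ z → z ⤳ x → f z = f x → z = x) :
    ∃ (T : Scheme.{u}) (i : T ⟶ X), IsAffine T ∧ IsImmersion i ∧ IrreducibleSpace ↥T ∧
      IsReduced T ∧ x ∈ Set.range i ∧ x₁ ∈ Set.range i ∧ LocallyQuasiFinite (i ≫ f) := by
  obtain ⟨I, hI⟩ : ∃ I : X.IdealSheafData,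
      I = Scheme.IdealSheafData.vanishingIdeal ⟨closure {x₁}, isClosed_closure⟩ := ⟨_, rfl⟩
  haveI : IsReduced I.subscheme := hI ▸ isReduced_vanishingIdeal_subscheme _
  have hrange : Set.range I.subschemeι = closure {x₁} := by
    rw [Scheme.IdealSheafData.range_subschemeι, hI,
      Scheme.IdealSheafData.coe_support_vanishingIdeal]
    rfl
  obtain ⟨zx, hzx⟩ : x ∈ Set.range I.subschemeι := by
    rw [hrange]
    exact specializes_iff_mem_closure.mp hx₁x
  obtain ⟨z₁, hz₁⟩ : x₁ ∈ Set.range I.subschemeι := by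
    rw [hrange]
    exact subset_closure rfl
  subst hzx
  have hspec : ∀ t : I.subscheme, z₁ ⤳ t := by
    intro t
    rw [← I.subschemeι.isEmbedding.isInducing.specializes_iff, hz₁, specializes_iff_mem_closure,
      ← hrange]
    exact ⟨t, rfl⟩
  have hqf : (I.subschemeι ≫ f).QuasiFiniteAt zx :=
    quasiFiniteAt_of_closure f I.subschemeι x₁ zx hrange hclosed hgen
  obtain ⟨T, hT, hzxT, hTW⟩ := exists_isAffineOpen_mem_and_subset (X := I.subscheme) (x := zx)
    (U := (I.subschemeι ≫ f).quasiFiniteLocus) hqf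
  have hz₁T : z₁ ∈ T := (hspec zx).mem_open T.isOpen hzxT
  refine ⟨T.toScheme, T.ι ≫ I.subschemeι, hT, inferInstance, ?_, inferInstance, ?_, ?_, ?_⟩
  · refine irreducibleSpace_of_forall_specializes (⟨z₁, hz₁T⟩ : T) fun t => ?_
    rw [← Topology.IsInducing.subtypeVal.specializes_iff]
    exact hspec t.1
  · exact ⟨⟨zx, hzxT⟩, rfl⟩
  · exact ⟨⟨z₁, hz₁T⟩, hz₁⟩
  · rw [Category.assoc, ← Scheme.Hom.quasiFiniteLocus_eq_top_iff,
      Scheme.Hom.quasiFiniteLocus_comp]
    ext t
    simpa using hTW t.2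

set_option backward.isDefEq.respectTransparency false in
/-- First half of `exists_quasiSection_of_isEquidimAt_aux`: the generic point of the section. -/
theorem exists_generic_of_isEquidimAt_aux {X Y : Scheme.{u}} [IrreducibleSpace Y]
    [IsLocallyNoetherian Y] (f : X ⟶ Y) [LocallyOfFiniteType f] (x : X)
    (hf : EGA43.IsEquidimAt f x)
    (hcl : ∀ x' : X, f.base x' = f.base x → x ⤳ x' → x' = x) (b : ℕ)
    (hb1 : ringKrullDim (X.presheaf.stalk x ⧸
      (maximalIdeal (Y.presheaf.stalk (f.base x))).map (f.stalkMap x).hom) ≤ b)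
    (hb2 : (b : WithBot ℕ∞) ≤ FlatMor.fibreDimAt f x) :
    ∃ x' : X, x' ⤳ x ∧ (∀ z : X, x' ⤳ z → z ⤳ x → f z = f x → z = x) ∧
      f x' = genericPoint Y := by
  haveI : IsLocallyNoetherian X := LocallyOfFiniteType.isLocallyNoetherian f
  have hIle : (maximalIdeal (Y.presheaf.stalk (f.base x))).map (f.stalkMap x).hom ≤
      maximalIdeal (X.presheaf.stalk x) := by
    rw [Ideal.map_le_iff_le_comap]
    intro a ha
    exact _root_.map_nonunit (f.stalkMap x).hom a ha
  obtain ⟨q, hqp, hqht, hqmax⟩ := exists_prime_height_le_of_quotient_dim _ hIle b hb1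
  obtain ⟨x', hx'def⟩ : ∃ x' : X, x' = X.fromSpecStalk x ⟨q, hqp⟩ := ⟨_, rfl⟩
  have hx'x : x' ⤳ x := by
    have h1 : X.fromSpecStalk x ⟨q, hqp⟩ ∈ Set.range (X.fromSpecStalk x) := ⟨_, rfl⟩
    rw [Scheme.range_fromSpecStalk] at h1
    rw [hx'def]
    exact h1
  have hgen : ∀ z : X, x' ⤳ z → z ⤳ x → f z = f x → z = x := by
    rw [hx'def]
    exact eq_of_specializes_of_prime f x ⟨q, hqp⟩ hqmax
  have hcodim : ringKrullDim (X.presheaf.stalk x') ≤ b := by
    rw [hx'def]
    refine (ringKrullDim_stalk_fromSpecStalk_le x ⟨q, hqp⟩).trans ?_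
    exact_mod_cast hqht
  obtain ⟨I, hI⟩ : ∃ I : X.IdealSheafData,
      I = Scheme.IdealSheafData.vanishingIdeal ⟨closure {x'}, isClosed_closure⟩ := ⟨_, rfl⟩
  have hrange : Set.range I.subschemeι.base = closure {x'} := by
    rw [Scheme.IdealSheafData.range_subschemeι, hI,
      Scheme.IdealSheafData.coe_support_vanishingIdeal]
    rfl
  have hxX' : x ∈ closure {x'} := specializes_iff_mem_closure.mp hx'x
  obtain ⟨w, hw⟩ : x ∈ Set.range I.subschemeι.base := by
    rw [hrange]
    exact hxX'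
  obtain ⟨ξ', hξ'⟩ : x' ∈ Set.range I.subschemeι.base := by
    rw [hrange]
    exact subset_closure rfl
  have hspec : ∀ t : I.subscheme, ξ' ⤳ t := by
    intro t
    rw [← I.subschemeι.isEmbedding.isInducing.specializes_iff, hξ', specializes_iff_mem_closure,
      ← hrange]
    exact ⟨t, rfl⟩
  have hqf : (I.subschemeι ≫ f).QuasiFiniteAt w := by
    apply quasiFiniteAt_of_closure f I.subschemeι x' w hrange
    · rw [hw]
      exact hcl
    · rw [hw]
      exact hgen
  have hld : FlatMor.localDim ↥(closure {x'} ∩ f.base ⁻¹' {f.base x}) ⟨x, ⟨hxX', rfl⟩⟩ ≤ 0 := by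
    rw [Groth.Agent.H9.Equidim.localDim_inter_fibre_eq I.subschemeι I.subschemeι.isEmbedding
      (closure {x'}) hrange f w x hw hxX']
    exact fibreDimAt_le_zero_of_quasiFiniteAt _ w hqf
  have hdim : FlatMor.localDim ↥(closure {x'} ∩ f.base ⁻¹' {f.base x}) ⟨x, ⟨hxX', rfl⟩⟩ + b ≤
      FlatMor.fibreDimAt f x := by
    calc FlatMor.localDim ↥(closure {x'} ∩ f.base ⁻¹' {f.base x}) ⟨x, ⟨hxX', rfl⟩⟩ + b
        ≤ (0 : WithBot ℕ∞) + b := add_le_add hld le_rfl
      _ = b := zero_add _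
      _ ≤ _ := hb2
  obtain ⟨-, -, hequi⟩ := Groth.Agent.S4943.core f x hf I.subschemeι (closure {x'}) hrange x' rfl
    hxX' b hcodim hdim
  have hE := hequi w hw
  obtain ⟨e₁, U', hwU', -, hB'⟩ :=
    Groth.Agent.H9.Equidim.exists_of_isEquidimAt (I.subschemeι ≫ f) w hE
  have hξ'U' : ξ' ∈ U' := (hspec w).mem_open U'.2 hwU'
  have hfx' : f x' = genericPoint Y := by
    have h1 := hB' ξ' hξ'U' (fun t ht => (ht.antisymm (hspec t)).eq)
    rw [← hξ']
    exact h1
  exact ⟨x', hx'x, hgen, hfx'⟩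

theorem exists_generic_of_isEquidimAt {X Y : Scheme.{u}} [IrreducibleSpace Y]
    [IsLocallyNoetherian Y] (f : X ⟶ Y) [LocallyOfFiniteType f] (x : X)
    (hf : EGA43.IsEquidimAt f x)
    (hcl : ∀ x' : X, f.base x' = f.base x → x ⤳ x' → x' = x) :
    ∃ x' : X, x' ⤳ x ∧ (∀ z : X, x' ⤳ z → z ⤳ x → f z = f x → z = x) ∧
      f x' = genericPoint Y := by
  obtain ⟨s, hs⟩ : ∃ s : Y, f.base x = s := ⟨_, rfl⟩
  obtain ⟨a, rfl⟩ : x ∈ Set.range (f.fiberι s).base := by
    rw [Scheme.Hom.range_fiberι]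
    exact hs
  obtain ⟨b, hb1, hb2⟩ := exists_fibre_stalk_dim_bound f s a
  exact exists_generic_of_isEquidimAt_aux f _ hf hcl b hb1 hb2

theorem henselianLocalRing_of_isAdicComplete (A : Type*) [CommRing A] [IsLocalRing A]
    [IsAdicComplete (maximalIdeal A) A] : HenselianLocalRing A where
  is_henselian f hf a₀ h₁ h₂ :=
    HenselianRing.is_henselian (I := maximalIdeal A) f hf a₀ h₁ (h₂.map _)

set_option backward.isDefEq.respectTransparency false in
theorem exists_finite_local_domain_section {A : Type u} [CommRing A] [IsDomain A]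
    [IsNoetherianRing A] [IsLocalRing A] [IsAdicComplete (IsLocalRing.maximalIdeal A) A] {X : Scheme.{u}}
    (f : X ⟶ Spec (CommRingCat.of A)) [LocallyOfFiniteType f] (x : X) (hx : f.base x = IsLocalRing.closedPoint A)
    (hf : EGA43.IsEquidimAt f x) (hcl : ∀ x' : X, f.base x' = f.base x → x ⤳ x' → x' = x) :
    ∃ (A' : Type u) (_ : CommRing A') (_ : IsDomain A') (_ : IsLocalRing A') (_ : Algebra A A') (_ : Module.Finite A A'),
      Function.Injective (algebraMap A A') ∧
      ∃ h : Spec (CommRingCat.of A') ⟶ X, h ≫ f = Spec.map (CommRingCat.ofHom (algebraMap A A')) ∧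
        IsImmersion h ∧ x ∈ Set.range h.base := by
  obtain ⟨x', hx'x, hgen, hfx'⟩ := exists_generic_of_isEquidimAt f x hf hcl
  obtain ⟨T, i, hTaff, hi1, hi2, hi3, ⟨t, ht⟩, ⟨t', ht'⟩, hi7⟩ :=
    exists_quasiFinite_immersion_affine f x' x hx'x hcl hgen
  haveI := hTaff
  haveI := hi1
  haveI := hi2
  haveI := hi3
  haveI := hi7
  haveI : LocallyOfFiniteType (T.isoSpec.inv ≫ i ≫ f) := inferInstance
  haveI : LocallyQuasiFinite (T.isoSpec.inv ≫ i ≫ f) := inferInstance
  obtain ⟨φ, hφ⟩ : ∃ φ : CommRingCat.of A ⟶ Γ(T, ⊤), Spec.map φ = T.isoSpec.inv ≫ i ≫ f :=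
    ⟨Spec.preimage (T.isoSpec.inv ≫ i ≫ f), Spec.map_preimage _⟩
  have hft : φ.hom.FiniteType := by
    rw [← HasRingHomProperty.Spec_iff (P := @LocallyOfFiniteType), hφ]
    infer_instance
  have hqf : φ.hom.QuasiFinite := by
    rw [← HasRingHomProperty.Spec_iff (P := @LocallyQuasiFinite), hφ]
    infer_instance
  letI : Algebra A Γ(T, ⊤) := φ.hom.toAlgebra
  haveI : Algebra.FiniteType A Γ(T, ⊤) := hft
  haveI : Algebra.QuasiFinite A Γ(T, ⊤) := hqf
  haveI : HenselianLocalRing A := henselianLocalRing_of_isAdicComplete A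
  haveI : IsIntegral T := isIntegral_of_irreducibleSpace_of_isReduced T
  haveI : Nonempty (Spec Γ(T, ⊤)) := ⟨T.isoSpec.hom t⟩
  haveI : IsIntegral (Spec Γ(T, ⊤)) := isIntegral_of_isOpenImmersion T.isoSpec.inv
  haveI : IsDomain Γ(T, ⊤) := (affine_isIntegral_iff _).mp inferInstance
  have hinv : ∀ s : T, T.isoSpec.inv (T.isoSpec.hom s) = s := by
    intro s
    rw [← Scheme.Hom.comp_apply, Iso.hom_inv_id]
    rfl
  have hval : ∀ s : T, Spec.map φ (T.isoSpec.hom s) = f (i s) := by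
    intro s
    rw [hφ]
    simp only [Scheme.Hom.comp_apply]
    rw [hinv]
  -- the prime over the closed point
  have hmP : (maximalIdeal A).map (algebraMap A Γ(T, ⊤)) ≤ (T.isoSpec.hom t).asIdeal := by
    rw [Ideal.map_le_iff_le_comap]
    have h1 : Spec.map φ (T.isoSpec.hom t) = closedPoint A := by
      rw [hval, ht]
      exact hx
    have h2 := congrArg PrimeSpectrum.asIdeal h1
    exact h2.ge
  -- injectivity from the generic point
  have hinj : Function.Injective (algebraMap A Γ(T, ⊤)) := by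
    rw [RingHom.injective_iff_ker_eq_bot, eq_bot_iff]
    have h1 : Spec.map φ (T.isoSpec.hom t') = genericPoint (Spec (CommRingCat.of A)) := by
      rw [hval, ht']
      exact hfx'
    rw [genericPoint_eq_bot_of_affine] at h1
    have h2 := congrArg PrimeSpectrum.asIdeal h1
    have h3 : Ideal.comap φ.hom (T.isoSpec.hom t').asIdeal = ⊥ := h2
    rw [← h3, RingHom.ker_eq_comap_bot]
    exact Ideal.comap_mono bot_le
  obtain ⟨ε, hεid, hfin, htop⟩ := Groth.Agent.H3.quasiFinite_split_of_henselian A Γ(T, ⊤)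
  have hε : ε = 0 ∨ ε = 1 := by
    have h1 : ε * (ε - 1) = 0 := by
      rw [mul_sub, hεid.eq, mul_one, sub_self]
    rcases mul_eq_zero.mp h1 with h0 | h1
    · exact Or.inl h0
    · exact Or.inr (sub_eq_zero.mp h1)
  have hfinD : Module.Finite A Γ(T, ⊤) := by
    rcases hε with h0 | h1
    · exfalso
      rw [h0] at htop
      have h2 : (Ideal.map (algebraMap A Γ(T, ⊤)) (maximalIdeal A)).map
          (Ideal.Quotient.mk (Ideal.span ({0} : Set Γ(T, ⊤)))) = ⊤ := by
        rw [Ideal.map_map]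
        exact htop
      have h3 := congrArg (Ideal.comap (Ideal.Quotient.mk (Ideal.span ({0} : Set Γ(T, ⊤))))) h2
      rw [Ideal.comap_map_of_surjective _ Ideal.Quotient.mk_surjective, Ideal.comap_top,
        ← RingHom.ker_eq_comap_bot, Ideal.mk_ker, Ideal.span_singleton_eq_bot.mpr rfl,
        sup_bot_eq] at h3
      exact (T.isoSpec.hom t).isPrime.ne_top (top_le_iff.mp (h3 ▸ hmP))
    · rw [h1, sub_self] at hfin
      haveI := hfin
      have hinj' : Function.Injective
          (Ideal.Quotient.mkₐ A (Ideal.span ({0} : Set Γ(T, ⊤)))).toLinearMap := by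
        intro a b hab
        have h2 : a - b ∈ Ideal.span ({0} : Set Γ(T, ⊤)) := Ideal.Quotient.eq.mp hab
        rw [Ideal.span_singleton_eq_bot.mpr rfl, Ideal.mem_bot, sub_eq_zero] at h2
        exact h2
      exact Module.Finite.of_injective _ hinj'
  haveI := hfinD
  haveI : IsLocalRing Γ(T, ⊤) :=
    Groth.Agent.H86.TameKummer.isLocalRing_of_finite_domain A Γ(T, ⊤)
  refine ⟨Γ(T, ⊤), inferInstance, inferInstance, inferInstance, inferInstance, hfinD, hinj,
    T.isoSpec.inv ≫ i, ?_, inferInstance, ?_⟩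
  · rw [Category.assoc, ← hφ]
    rfl
  · refine ⟨T.isoSpec.hom t, ?_⟩
    show (T.isoSpec.inv ≫ i) (T.isoSpec.hom t) = x
    rw [Scheme.Hom.comp_apply, hinv, ht]

end Groth.Agent.H7
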