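import Mathlib
import Groth.Agent.H7.EquidimSectionComplete
import Groth.Agent.H7.RationalPointChart
import Groth.Agent.H7.UnivOpenAtDVR
import Groth.Agent.S3450
import Groth.Agent.H29.CplFinite
import Groth.Agent.Lead.PiLocal

/-!
# Lifting points of complete discrete valuation rings after finite extension
(EGA IV 14.5.8, direct implication) (helper7)
-/

set_option autoImplicit false
set_option linter.style.haveILetI false
universe u

namespace Groth.Agent.H7

open AlgebraicGeometry CategoryTheory TopologicalSpace IsLocalRing Limits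

set_option backward.isDefEq.respectTransparency false in
/-- Variant of `exists_finite_local_domain_section` where the generic point of the section is
given. -/
theorem exists_finite_local_domain_section_of_generic {A : Type u} [CommRing A] [IsDomain A]
    [IsNoetherianRing A] [IsLocalRing A] [IsAdicComplete (IsLocalRing.maximalIdeal A) A]
    {X : Scheme.{u}}
    (f : X ⟶ Spec (CommRingCat.of A)) [LocallyOfFiniteType f] (x x' : X)
    (hx : f.base x = IsLocalRing.closedPoint A)
    (hcl : ∀ x'' : X, f.base x'' = f.base x → x ⤳ x'' → x'' = x)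
    (hx'x : x' ⤳ x) (hgen : ∀ z : X, x' ⤳ z → z ⤳ x → f z = f x → z = x)
    (hfx' : f x' = genericPoint (Spec (CommRingCat.of A))) :
    ∃ (A' : Type u) (_ : CommRing A') (_ : IsDomain A') (_ : IsLocalRing A') (_ : Algebra A A')
      (_ : Module.Finite A A'),
      Function.Injective (algebraMap A A') ∧
      ∃ h : Spec (CommRingCat.of A') ⟶ X,
        h ≫ f = Spec.map (CommRingCat.ofHom (algebraMap A A')) ∧
        IsImmersion h ∧ x ∈ Set.range h.base := by
  obtain ⟨T, i, hTaff, hi1, hi2, hi3, ⟨t, ht⟩, ⟨t', ht'⟩, hi7⟩ :=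
    exists_quasiFinite_immersion_affine f x' x hx'x hcl hgen
  haveI := hTaff
  haveI := hi1
  haveI := hi2
  haveI := hi3
  haveI := hi7
  haveI : LocallyOfFiniteType (T.isoSpec.inv ≫ i ≫ f) := inferInstance
  haveI : LocallyQuasiFinite (T.isoSpec.inv ≫ i ≫ f) := inferInstance
  obtain ⟨φ, hφ⟩ : ∃ φ : CommRingCat.of A ⟶ Γ(T, ⊤), Spec.map φ = T.isoSpec.inv ≫ i ≫ f :=
    ⟨Spec.preimage (T.isoSpec.inv ≫ i ≫ f), Spec.map_preimage _⟩
  have hft : φ.hom.FiniteType := by
    rw [← HasRingHomProperty.Spec_iff (P := @LocallyOfFiniteType), hφ]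
    infer_instance
  have hqf : φ.hom.QuasiFinite := by
    rw [← HasRingHomProperty.Spec_iff (P := @LocallyQuasiFinite), hφ]
    infer_instance
  letI : Algebra A Γ(T, ⊤) := φ.hom.toAlgebra
  haveI : Algebra.FiniteType A Γ(T, ⊤) := hft
  haveI : Algebra.QuasiFinite A Γ(T, ⊤) := hqf
  haveI : HenselianLocalRing A := henselianLocalRing_of_isAdicComplete A
  haveI : IsIntegral T := isIntegral_of_irreducibleSpace_of_isReduced T
  haveI : Nonempty (Spec Γ(T, ⊤)) := ⟨T.isoSpec.hom t⟩
  haveI : IsIntegral (Spec Γ(T, ⊤)) := isIntegral_of_isOpenImmersion T.isoSpec.inv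
  haveI : IsDomain Γ(T, ⊤) := (affine_isIntegral_iff _).mp inferInstance
  have hinv : ∀ s : T, T.isoSpec.inv (T.isoSpec.hom s) = s := by
    intro s
    rw [← Scheme.Hom.comp_apply, Iso.hom_inv_id]
    rfl
  have hval : ∀ s : T, Spec.map φ (T.isoSpec.hom s) = f (i s) := by
    intro s
    rw [hφ]
    simp only [Scheme.Hom.comp_apply]
    rw [hinv]
  -- the prime over the closed point
  have hmP : (maximalIdeal A).map (algebraMap A Γ(T, ⊤)) ≤ (T.isoSpec.hom t).asIdeal := by
    rw [Ideal.map_le_iff_le_comap]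
    have h1 : Spec.map φ (T.isoSpec.hom t) = closedPoint A := by
      rw [hval, ht]
      exact hx
    have h2 := congrArg PrimeSpectrum.asIdeal h1
    exact h2.ge
  -- injectivity from the generic point
  have hinj : Function.Injective (algebraMap A Γ(T, ⊤)) := by
    rw [RingHom.injective_iff_ker_eq_bot, eq_bot_iff]
    have h1 : Spec.map φ (T.isoSpec.hom t') = genericPoint (Spec (CommRingCat.of A)) := by
      rw [hval, ht']
      exact hfx'
    rw [genericPoint_eq_bot_of_affine] at h1
    have h2 := congrArg PrimeSpectrum.asIdeal h1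
    have h3 : Ideal.comap φ.hom (T.isoSpec.hom t').asIdeal = ⊥ := h2
    rw [← h3, RingHom.ker_eq_comap_bot]
    exact Ideal.comap_mono bot_le
  obtain ⟨ε, hεid, hfin, htop⟩ := Groth.Agent.H3.quasiFinite_split_of_henselian A Γ(T, ⊤)
  have hε : ε = 0 ∨ ε = 1 := by
    have h1 : ε * (ε - 1) = 0 := by
      rw [mul_sub, hεid.eq, mul_one, sub_self]
    rcases mul_eq_zero.mp h1 with h0 | h1
    · exact Or.inl h0
    · exact Or.inr (sub_eq_zero.mp h1)
  have hfinD : Module.Finite A Γ(T, ⊤) := by
    rcases hε with h0 | h1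
    · exfalso
      rw [h0] at htop
      have h2 : (Ideal.map (algebraMap A Γ(T, ⊤)) (maximalIdeal A)).map
          (Ideal.Quotient.mk (Ideal.span ({0} : Set Γ(T, ⊤)))) = ⊤ := by
        rw [Ideal.map_map]
        exact htop
      have h3 := congrArg (Ideal.comap (Ideal.Quotient.mk (Ideal.span ({0} : Set Γ(T, ⊤))))) h2
      rw [Ideal.comap_map_of_surjective _ Ideal.Quotient.mk_surjective, Ideal.comap_top,
        ← RingHom.ker_eq_comap_bot, Ideal.mk_ker, Ideal.span_singleton_eq_bot.mpr rfl,
        sup_bot_eq] at h3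
      exact (T.isoSpec.hom t).isPrime.ne_top (top_le_iff.mp (h3 ▸ hmP))
    · rw [h1, sub_self] at hfin
      haveI := hfin
      have hinj' : Function.Injective
          (Ideal.Quotient.mkₐ A (Ideal.span ({0} : Set Γ(T, ⊤)))).toLinearMap := by
        intro a b hab
        have h2 : a - b ∈ Ideal.span ({0} : Set Γ(T, ⊤)) := Ideal.Quotient.eq.mp hab
        rw [Ideal.span_singleton_eq_bot.mpr rfl, Ideal.mem_bot, sub_eq_zero] at h2
        exact h2
      exact Module.Finite.of_injective _ hinj'
  haveI := hfinD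
  haveI : IsLocalRing Γ(T, ⊤) :=
    Groth.Agent.H86.TameKummer.isLocalRing_of_finite_domain A Γ(T, ⊤)
  refine ⟨Γ(T, ⊤), inferInstance, inferInstance, inferInstance, inferInstance, hfinD, hinj,
    T.isoSpec.inv ≫ i, ?_, inferInstance, ?_⟩
  · rw [Category.assoc, ← hφ]
    rfl
  · refine ⟨T.isoSpec.hom t, ?_⟩
    show (T.isoSpec.inv ≫ i) (T.isoSpec.hom t) = x
    rw [Scheme.Hom.comp_apply, hinv, ht]

/-- A finite local algebra over a complete Noetherian local ring is complete. -/
theorem isAdicComplete_of_finite_local (A D : Type u) [CommRing A] [IsNoetherianRing A]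
    [IsLocalRing A] [IsAdicComplete (maximalIdeal A) A] [CommRing D] [IsLocalRing D]
    [Algebra A D] [Module.Finite A D] : IsAdicComplete (maximalIdeal D) D := by
  haveI h1 : IsAdicComplete (maximalIdeal A) D :=
    Groth.Agent.Lead.isAdicComplete_of_finite (maximalIdeal A) D
  haveI h2 : IsAdicComplete ((maximalIdeal A).map (algebraMap A D)) D :=
    (IsAdicComplete.map_algebraMap_iff (I := maximalIdeal A) (S := D) (M := D)).2 h1
  obtain ⟨N, hN⟩ := Groth.Agent.H29.CplFinite.exists_jacobson_pow_le A D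
  have hle := Groth.Agent.H29.CplFinite.map_maximalIdeal_le_jacobson A D
  rw [IsLocalRing.jacobson_eq_maximalIdeal ⊥ bot_ne_top] at hN hle
  exact Groth.Agent.H29.CplFinite.isAdicComplete_of_pow_le hle N hN

/-- In a discrete valuation ring a prime different from the maximal ideal is zero. -/
theorem asIdeal_eq_bot_of_ne_closedPoint {A : Type u} [CommRing A] [IsDomain A]
    [IsDiscreteValuationRing A] (s : Spec (CommRingCat.of A)) (hs : s ≠ closedPoint A) :
    s.asIdeal = ⊥ := by
  by_contra h
  have h1 : s.asIdeal.IsMaximal := Ideal.IsPrime.isMaximal s.isPrime h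
  exact hs (PrimeSpectrum.ext (IsLocalRing.eq_maximalIdeal h1))

set_option backward.isDefEq.respectTransparency false in
/-- **EGA IV 14.5.8, direct implication.** -/
theorem dvr_lift_of_isUnivOpenAt {X Y : Scheme.{u}} [IsLocallyNoetherian Y]
    (f : X ⟶ Y) [LocallyOfFiniteType f] (x : X) (hf : EGA43.IsUnivOpenAt f x)
    (A : Type u) [CommRing A] [IsDomain A] [IsDiscreteValuationRing A]
    [IsAdicComplete (IsLocalRing.maximalIdeal A) A]
    (g : Spec (CommRingCat.of A) ⟶ Y) (hg : g.base (IsLocalRing.closedPoint A) = f.base x)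
    (u₀ : Spec (CommRingCat.of (IsLocalRing.ResidueField A)) ⟶ X)
    (hu₀ : u₀ ≫ f = Spec.map (CommRingCat.ofHom (IsLocalRing.residue A)) ≫ g)
    (hx : x ∈ Set.range u₀.base) :
    ∃ (B : CommRingCat.{u}) (_ : IsDomain B) (_ : IsDiscreteValuationRing B) (φ : A →+* B)
      (_ : IsLocalHom φ) (v : Spec B ⟶ X),
      φ.Finite ∧ v ≫ f = Spec.map (CommRingCat.ofHom φ) ≫ g ∧
      Spec.map (CommRingCat.ofHom (IsLocalRing.ResidueField.map φ)) ≫ u₀ =
        Spec.map (CommRingCat.ofHom (IsLocalRing.residue B)) ≫ v := by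
  obtain ⟨pt, hpt⟩ := hx
  -- the rational point of the base change
  obtain ⟨u', hu'1, hu'2⟩ : ∃ u' : Spec (CommRingCat.of (ResidueField A)) ⟶ pullback f g,
      u' ≫ pullback.fst f g = u₀ ∧
      u' ≫ pullback.snd f g = Spec.map (CommRingCat.ofHom (residue A)) :=
    ⟨pullback.lift u₀ (Spec.map (CommRingCat.ofHom (residue A))) hu₀,
      pullback.lift_fst _ _ _, pullback.lift_snd _ _ _⟩
  have hfst : (pullback.fst f g) (u' pt) = x := by
    rw [← Scheme.Hom.comp_apply, hu'1]
    exact hpt
  have hsnd : (pullback.snd f g) (u' pt) = closedPoint A := by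
    rw [← Scheme.Hom.comp_apply, hu'2]
    have hpt' : pt = closedPoint (ResidueField A) := Subsingleton.elim _ _
    rw [hpt']
    exact IsLocalRing.comap_closedPoint (residue A)
  obtain ⟨z', hz'x', hz'⟩ := dvr_criterion_of_isUnivOpenAt f x hf A g (u' pt) hfst hsnd
  haveI : IsLocallyNoetherian (pullback f g) :=
    LocallyOfFiniteType.isLocallyNoetherian (pullback.snd f g)
  have hne : (pullback.snd f g) z' ≠ (pullback.snd f g) (u' pt) := by
    rw [hsnd]
    exact hz'
  obtain ⟨x₁, h1, h2, h3, h4⟩ :=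
    exists_specialization_maximal (pullback.snd f g) (u' pt) z' hz'x' hne
  have hcl : ∀ x'' : ↥(pullback f g), (pullback.snd f g).base x'' =
      (pullback.snd f g).base (u' pt) → u' pt ⤳ x'' → x'' = u' pt :=
    fun x'' _ hsp => eq_of_specializes_of_rational (pullback.snd f g) u' hu'2 pt x'' hsp
  have hgenpt : (pullback.snd f g) x₁ = genericPoint (Spec (CommRingCat.of A)) := by
    rw [genericPoint_eq_bot_of_affine]
    apply PrimeSpectrum.ext
    exact asIdeal_eq_bot_of_ne_closedPoint _ (hsnd ▸ h3)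
  obtain ⟨D, _, _, _, _, hfinD, hinjD, h, hh1, hh2, ⟨t, ht⟩⟩ :=
    exists_finite_local_domain_section_of_generic (pullback.snd f g) (u' pt) x₁ hsnd hcl h2 h4
      hgenpt
  haveI := hfinD
  haveI : Algebra.IsIntegral A D := Algebra.IsIntegral.of_finite A D
  haveI : IsNoetherianRing D := IsNoetherianRing.of_finite A D
  -- the point `t` is the closed point
  have hcomap : Ideal.comap (algebraMap A D) t.asIdeal = maximalIdeal A := by
    have e1 : (Spec.map (CommRingCat.ofHom (algebraMap A D))) t = closedPoint A := by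
      rw [← hh1, Scheme.Hom.comp_apply]
      have ht' : h t = u' pt := ht
      rw [ht', hsnd]
    exact congrArg PrimeSpectrum.asIdeal e1
  have htmax : t.asIdeal.IsMaximal := by
    haveI := t.isPrime
    apply Ideal.isMaximal_of_isIntegral_of_isMaximal_comap (R := A) t.asIdeal
    rw [hcomap]
    exact maximalIdeal.isMaximal A
  have htcl : t = closedPoint D := PrimeSpectrum.ext (IsLocalRing.eq_maximalIdeal htmax)
  haveI hlocAD : IsLocalHom (algebraMap A D) := by
    refine ⟨fun a ha => ?_⟩
    by_contra hna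
    have h5 : a ∈ maximalIdeal A := (IsLocalRing.mem_maximalIdeal a).mpr hna
    rw [← hcomap, Ideal.mem_comap] at h5
    exact t.isPrime.ne_top (Ideal.eq_top_of_isUnit_mem _ h5 ha)
  haveI : IsAdicComplete (maximalIdeal D) D := isAdicComplete_of_finite_local A D
  have hdim : ringKrullDim D = 1 := by
    rw [Groth.Agent.H54.ringKrullDim_eq_of_isIntegral_of_injective hinjD]
    exact IsDiscreteValuationRing.ringKrullDim_eq_one A
  obtain ⟨V, _, _, hVdvr, ψ, hψloc, hψfin, hψinj⟩ := Groth.Agent.S3450.dvr_of_dim_one D hdim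
  haveI := hVdvr
  haveI := hψloc
  haveI : IsLocalHom (ψ.comp (algebraMap A D)) := RingHom.isLocalHom_comp _ _
  have hw : (Spec.map (CommRingCat.ofHom ψ) ≫ h) ≫ pullback.snd f g =
      Spec.map (CommRingCat.ofHom (ψ.comp (algebraMap A D))) := by
    rw [Category.assoc, hh1, ← Spec.map_comp]
    rfl
  have hwpt : (Spec.map (CommRingCat.ofHom ψ) ≫ h) (closedPoint V) = u' pt := by
    rw [Scheme.Hom.comp_apply]
    have e1 : (Spec.map (CommRingCat.ofHom ψ)) (closedPoint V) = closedPoint D :=
      IsLocalRing.comap_closedPoint ψ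
    rw [e1, ← htcl]
    exact ht
  have hcompat := residue_compat (pullback.snd f g) u' hu'2 V (ψ.comp (algebraMap A D))
    (Spec.map (CommRingCat.ofHom ψ) ≫ h) hw pt hwpt
  refine ⟨CommRingCat.of V, inferInstance, hVdvr, ψ.comp (algebraMap A D), inferInstance,
    (Spec.map (CommRingCat.ofHom ψ) ≫ h) ≫ pullback.fst f g, ?_, ?_, ?_⟩
  · exact hψfin.comp (RingHom.finite_algebraMap.mpr hfinD)
  · rw [Category.assoc, pullback.condition, ← Category.assoc, hw]
  · rw [← hu'1, ← Category.assoc, hcompat, Category.assoc]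

end Groth.Agent.H7
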