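import Mathlib
import Groth.Agent.H7.CompleteDVRSection
import Groth.Agent.H25.CohenDVR

/-!
# Valuative criterion for universal openness at a point via complete discrete valuation rings
with algebraically closed residue field (EGA IV 14.5.8) (helper7)
-/

set_option autoImplicit false
set_option linter.style.haveILetI false
universe u

namespace Groth.Agent.H7

open AlgebraicGeometry CategoryTheory TopologicalSpace IsLocalRing Limits

set_option backward.isDefEq.respectTransparency false in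
/-- **EGA IV 14.5.8, converse implication.** -/
theorem isUnivOpenAt_of_complete_dvr_lift {X Y : Scheme.{u}} [IsLocallyNoetherian Y]
    (f : X ⟶ Y) [LocallyOfFiniteType f] (x : X)
    (H : ∀ (A : Type u) [CommRing A] [IsDomain A] [IsDiscreteValuationRing A]
        [IsAdicComplete (IsLocalRing.maximalIdeal A) A] [IsAlgClosed (IsLocalRing.ResidueField A)]
        (g : Spec (CommRingCat.of A) ⟶ Y), g.base (IsLocalRing.closedPoint A) = f.base x →
        ∀ u₀ : Spec (CommRingCat.of (IsLocalRing.ResidueField A)) ⟶ X,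
          u₀ ≫ f = Spec.map (CommRingCat.ofHom (IsLocalRing.residue A)) ≫ g →
          x ∈ Set.range u₀.base →
          ∃ (B : CommRingCat.{u}) (_ : IsDomain B) (_ : IsDiscreteValuationRing B) (φ : A →+* B)
            (_ : IsLocalHom φ) (v : Spec B ⟶ X),
            φ.Finite ∧ v ≫ f = Spec.map (CommRingCat.ofHom φ) ≫ g ∧
            Spec.map (CommRingCat.ofHom (IsLocalRing.ResidueField.map φ)) ≫ u₀ =
              Spec.map (CommRingCat.ofHom (IsLocalRing.residue B)) ≫ v) :
    EGA43.IsUnivOpenAt f x := by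
  apply isUnivOpenAt_of_dvr_criterion
  intro A₀ _ _ _ g₀ hg₀ x₀ hx₀1 hx₀2
  -- residue field of the point
  obtain ⟨k', _, ι₀, hι₀⟩ : ∃ (k' : Type u) (_ : Field k')
      (ι₀ : Spec (CommRingCat.of k') ⟶ pullback f g₀), ∀ s, ι₀ s = x₀ :=
    ⟨IsLocalRing.ResidueField ((pullback f g₀).presheaf.stalk x₀), inferInstance,
      (pullback f g₀).fromSpecResidueField x₀, fun s => Scheme.fromSpecResidueField_apply x₀ s⟩
  obtain ⟨ρ₀, hρ₀⟩ : ∃ ρ₀ : CommRingCat.of A₀ ⟶ CommRingCat.of k',
      Spec.map ρ₀ = ι₀ ≫ pullback.snd f g₀ := ⟨Spec.preimage _, Spec.map_preimage _⟩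
  have hρ₀m : ∀ a ∈ maximalIdeal A₀, ρ₀.hom a = 0 := by
    intro a ha
    have e1 : Spec.map ρ₀ (closedPoint k') = closedPoint A₀ := by
      rw [hρ₀, Scheme.Hom.comp_apply, hι₀, hx₀2]
    have e3 : a ∈ (Spec.map ρ₀ (closedPoint k')).asIdeal := by
      rw [e1]
      exact ha
    have e4 : ρ₀.hom a ∈ (closedPoint k').asIdeal := e3
    have e5 : (closedPoint k').asIdeal = ⊥ :=
      asIdeal_eq_bot_of_field (k := k') (closedPoint k')
    rw [e5, Ideal.mem_bot] at e4
    exact e4
  letI : Algebra A₀ (AlgebraicClosure k') :=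
    ((algebraMap k' (AlgebraicClosure k')).comp ρ₀.hom).toAlgebra
  have halg : ∀ a : A₀, algebraMap A₀ (AlgebraicClosure k') a =
      algebraMap k' (AlgebraicClosure k') (ρ₀.hom a) := fun a => rfl
  have hAK : ∀ a ∈ maximalIdeal A₀, algebraMap A₀ (AlgebraicClosure k') a = 0 := by
    intro a ha
    rw [halg, hρ₀m a ha, map_zero]
  obtain ⟨π, hπirr⟩ := IsDiscreteValuationRing.exists_irreducible A₀
  have hπnz : ∀ y : A₀, π * y = 0 → y = 0 :=
    fun y hy => (mul_eq_zero.mp hy).resolve_left hπirr.ne_zero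
  obtain ⟨Λ, _, _, _, hΛdvr, hΛc, hΛmax, hΛflat, e, he⟩ :=
    Groth.Agent.H25.CohenDVR.exists_complete_dvr π hπnz hπirr.maximalIdeal_eq
      (AlgebraicClosure k') hAK
  haveI := hΛdvr
  haveI := hΛc
  haveI : IsAlgClosed (ResidueField Λ) :=
    IsAlgClosed.of_ringEquiv (AlgebraicClosure k') (ResidueField Λ) e.symm
  have hπmem : π ∈ maximalIdeal A₀ := by
    rw [hπirr.maximalIdeal_eq]
    exact Ideal.subset_span rfl
  have hloc : ∀ a ∈ maximalIdeal A₀, algebraMap A₀ Λ a ∈ maximalIdeal Λ := by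
    intro a ha
    rw [hπirr.maximalIdeal_eq, Ideal.mem_span_singleton] at ha
    obtain ⟨c, rfl⟩ := ha
    rw [hΛmax, map_mul]
    exact Ideal.mul_mem_right _ _ (Ideal.subset_span rfl)
  obtain ⟨g, hgdef⟩ : ∃ g : Spec (CommRingCat.of Λ) ⟶ Y,
      g = Spec.map (CommRingCat.ofHom (algebraMap A₀ Λ)) ≫ g₀ := ⟨_, rfl⟩
  have hgcl : g (closedPoint Λ) = f x := by
    rw [hgdef, Scheme.Hom.comp_apply]
    have e1 : Spec.map (CommRingCat.ofHom (algebraMap A₀ Λ)) (closedPoint Λ) = closedPoint A₀ := by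
      apply PrimeSpectrum.ext
      show Ideal.comap (algebraMap A₀ Λ) (maximalIdeal Λ) = maximalIdeal A₀
      have h1 : maximalIdeal A₀ ≤ Ideal.comap (algebraMap A₀ Λ) (maximalIdeal Λ) :=
        fun a ha => hloc a ha
      exact ((maximalIdeal.isMaximal A₀).eq_of_le
        (Ideal.comap_ne_top _ (maximalIdeal.isMaximal Λ).ne_top) h1).symm
    rw [e1]
    exact hg₀
  -- field map k' → κ(Λ)
  obtain ⟨j, hj⟩ : ∃ j : k' →+* ResidueField Λ,
      ∀ c, j c = e.symm (algebraMap k' (AlgebraicClosure k') c) :=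
    ⟨(e.symm : AlgebraicClosure k' →+* ResidueField Λ).comp (algebraMap k' _), fun c => rfl⟩
  have hjρ : ∀ a : A₀, j (ρ₀.hom a) = residue Λ (algebraMap A₀ Λ a) := by
    intro a
    rw [hj, ← halg, ← he, RingEquiv.symm_apply_apply]
  have hring1 : ρ₀ ≫ CommRingCat.ofHom j =
      CommRingCat.ofHom (algebraMap A₀ Λ) ≫ CommRingCat.ofHom (residue Λ) := by
    ext a
    exact hjρ a
  obtain ⟨u₀, hu₀def⟩ : ∃ u₀ : Spec (CommRingCat.of (ResidueField Λ)) ⟶ X,
      u₀ = Spec.map (CommRingCat.ofHom j) ≫ ι₀ ≫ pullback.fst f g₀ := ⟨_, rfl⟩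
  have hu₀ : u₀ ≫ f = Spec.map (CommRingCat.ofHom (residue Λ)) ≫ g := by
    calc u₀ ≫ f = Spec.map (CommRingCat.ofHom j) ≫ ι₀ ≫ pullback.fst f g₀ ≫ f := by
          rw [hu₀def, Category.assoc, Category.assoc]
      _ = Spec.map (CommRingCat.ofHom j) ≫ (ι₀ ≫ pullback.snd f g₀) ≫ g₀ := by
          rw [pullback.condition, Category.assoc]
      _ = Spec.map (ρ₀ ≫ CommRingCat.ofHom j) ≫ g₀ := by
          rw [← hρ₀, ← Category.assoc, ← Spec.map_comp]
      _ = Spec.map (CommRingCat.ofHom (residue Λ)) ≫ g := by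
          rw [hring1, Spec.map_comp, Category.assoc, hgdef]
  have hxu₀ : x ∈ Set.range u₀.base := by
    refine ⟨closedPoint _, ?_⟩
    show u₀ (closedPoint _) = x
    rw [hu₀def]
    simp only [Scheme.Hom.comp_apply]
    rw [hι₀, hx₀1]
  obtain ⟨B, hBdom, hBdvr, φ, hφloc, v, hφfin, hv, hvcl⟩ := H Λ g hgcl u₀ hu₀ hxu₀
  haveI := hBdom
  haveI := hBdvr
  haveI := hφloc
  have hwcond : v ≫ f = Spec.map (CommRingCat.ofHom (φ.comp (algebraMap A₀ Λ))) ≫ g₀ := by
    rw [hv, hgdef, ← Category.assoc, ← Spec.map_comp]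
    rfl
  obtain ⟨w, hw1, hw2⟩ : ∃ w : Spec B ⟶ pullback f g₀, w ≫ pullback.fst f g₀ = v ∧
      w ≫ pullback.snd f g₀ = Spec.map (CommRingCat.ofHom (φ.comp (algebraMap A₀ Λ))) :=
    ⟨pullback.lift v _ hwcond, pullback.lift_fst _ _ _, pullback.lift_snd _ _ _⟩
  have hring2 : CommRingCat.ofHom (φ.comp (algebraMap A₀ Λ)) ≫ CommRingCat.ofHom (residue B) =
      (ρ₀ ≫ CommRingCat.ofHom j) ≫ CommRingCat.ofHom (ResidueField.map φ) := by
    ext a
    show residue B (φ (algebraMap A₀ Λ a)) = ResidueField.map φ (j (ρ₀.hom a))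
    rw [hjρ, ResidueField.map_residue]
  have hcl : Spec.map (CommRingCat.ofHom (residue B)) ≫ w =
      Spec.map (CommRingCat.ofHom (ResidueField.map φ)) ≫ Spec.map (CommRingCat.ofHom j) ≫ ι₀ := by
    apply pullback.hom_ext
    · rw [Category.assoc, hw1, ← hvcl, hu₀def]
      simp only [Category.assoc]
    · calc (Spec.map (CommRingCat.ofHom (residue B)) ≫ w) ≫ pullback.snd f g₀
          = Spec.map (CommRingCat.ofHom (φ.comp (algebraMap A₀ Λ)) ≫
              CommRingCat.ofHom (residue B)) := by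
            rw [Category.assoc, hw2, ← Spec.map_comp]
        _ = Spec.map (CommRingCat.ofHom (ResidueField.map φ)) ≫
              Spec.map (CommRingCat.ofHom j) ≫ Spec.map ρ₀ := by
            rw [hring2, Spec.map_comp, Spec.map_comp]
        _ = (Spec.map (CommRingCat.ofHom (ResidueField.map φ)) ≫
              Spec.map (CommRingCat.ofHom j) ≫ ι₀) ≫ pullback.snd f g₀ := by
            rw [hρ₀]
            simp only [Category.assoc]
  have hwcl : w (closedPoint B) = x₀ := by
    have e1 : (Spec.map (CommRingCat.ofHom (residue B)) ≫ w) (closedPoint (ResidueField B)) =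
        x₀ := by
      rw [hcl]
      simp only [Scheme.Hom.comp_apply]
      exact hι₀ _
    rw [Scheme.Hom.comp_apply] at e1
    have e2 : Spec.map (CommRingCat.ofHom (residue B)) (closedPoint (ResidueField B)) =
        closedPoint B := IsLocalRing.comap_closedPoint (residue B)
    rw [e2] at e1
    exact e1
  obtain ⟨η, hη⟩ : ∃ η : Spec B, η.asIdeal = ⊥ := ⟨⟨⊥, Ideal.isPrime_bot⟩, rfl⟩
  refine ⟨w η, ?_, ?_⟩
  · rw [← hwcl]
    have h1 : η ⤳ closedPoint B := IsLocalRing.specializes_closedPoint η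
    exact h1.map w.continuous
  · rw [← Scheme.Hom.comp_apply, hw2]
    intro hcontra
    have e0 := congrArg PrimeSpectrum.asIdeal hcontra
    have e2 : φ (algebraMap A₀ Λ π) ∈ η.asIdeal := by
      have e1 : π ∈ (closedPoint A₀).asIdeal := hπmem
      rw [← e0] at e1
      exact e1
    rw [hη, Ideal.mem_bot] at e2
    -- `B` is finite over the residue field of `Λ`, hence a field
    letI : Algebra Λ B := φ.toAlgebra
    haveI : Module.Finite Λ B := hφfin
    have hker : ∀ a ∈ maximalIdeal Λ, algebraMap Λ B a = 0 := by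
      intro a ha
      rw [hΛmax, Ideal.mem_span_singleton] at ha
      obtain ⟨c, rfl⟩ := ha
      rw [map_mul]
      have e3 : algebraMap Λ B (algebraMap A₀ Λ π) = 0 := e2
      rw [e3, zero_mul]
    letI : Algebra (ResidueField Λ) B :=
      (show ResidueField Λ →+* B from
        Ideal.Quotient.lift (maximalIdeal Λ) (algebraMap Λ B) hker).toAlgebra
    haveI : IsScalarTower Λ (ResidueField Λ) B := IsScalarTower.of_algebraMap_eq (fun a => rfl)
    haveI : Module.Finite (ResidueField Λ) B :=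
      Module.Finite.of_restrictScalars_finite Λ (ResidueField Λ) B
    haveI : IsArtinianRing B := IsArtinianRing.of_finite (ResidueField Λ) B
    exact IsDiscreteValuationRing.not_isField B (IsArtinianRing.isField_of_isDomain B)

end Groth.Agent.H7
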