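import Mathlib
import Groth.Agent.H7.RationalPointChart
import Groth.Agent.S3450

/-!
# Finite extensions of complete discrete valuation rings with algebraically closed residue
field; descent of geometric points to finite extensions (helper7)
-/

set_option autoImplicit false
set_option linter.style.haveILetI false
universe u

namespace Groth.Agent.H7

open AlgebraicGeometry CategoryTheory TopologicalSpace IsLocalRing

/-- The integral closure of a complete discrete valuation ring with algebraically closed residue
field in a finite extension of its fraction field is again such a ring. -/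
theorem integralClosure_dvr_of_complete (Λ : Type u) [CommRing Λ] [IsDomain Λ]
    [IsDiscreteValuationRing Λ] [IsAdicComplete (maximalIdeal Λ) Λ]
    [IsAlgClosed (ResidueField Λ)] (K' : Type u) [Field K'] [Algebra Λ K']
    [Algebra (FractionRing Λ) K'] [IsScalarTower Λ (FractionRing Λ) K']
    [FiniteDimensional (FractionRing Λ) K'] :
    ∃ (_ : IsDiscreteValuationRing (integralClosure Λ K')),
      IsAlgClosed (ResidueField (integralClosure Λ K')) ∧
      IsFractionRing (integralClosure Λ K') K' ∧
      Function.Injective (algebraMap Λ (integralClosure Λ K')) ∧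
      IsLocalHom (algebraMap Λ (integralClosure Λ K')) := by
  obtain ⟨hVloc, -⟩ := Groth.Agent.S4564.result (A := Λ) (K' := K')
  haveI := hVloc
  haveI hfin : Module.Finite Λ (integralClosure Λ K') :=
    Groth.Agent.S3450.finite_integralClosure Λ K'
  haveI : IsNoetherianRing (integralClosure Λ K') := IsNoetherianRing.of_finite Λ _
  haveI : IsIntegrallyClosed (integralClosure Λ K') :=
    integralClosure.isIntegrallyClosedOfFiniteExtension (FractionRing Λ)
  haveI : Algebra.IsIntegral Λ (integralClosure Λ K') := inferInstance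
  have hinjK : Function.Injective (algebraMap Λ K') := by
    rw [IsScalarTower.algebraMap_eq Λ (FractionRing Λ) K']
    exact (algebraMap (FractionRing Λ) K').injective.comp
      (IsFractionRing.injective Λ (FractionRing Λ))
  have hinj : Function.Injective (algebraMap Λ (integralClosure Λ K')) := by
    intro a b hab
    apply hinjK
    have := congrArg (algebraMap (integralClosure Λ K') K') hab
    rwa [← IsScalarTower.algebraMap_apply, ← IsScalarTower.algebraMap_apply] at this
  have hdimV : ringKrullDim (integralClosure Λ K') = 1 := by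
    rw [Groth.Agent.H54.ringKrullDim_eq_of_isIntegral_of_injective hinj]
    exact IsDiscreteValuationRing.ringKrullDim_eq_one Λ
  have hnf : ¬ IsField (integralClosure Λ K') :=
    ((Groth.Agent.S8804.dim_eq_one_iff _).mp hdimV).1
  have hprimes := ((Groth.Agent.S8804.dim_eq_one_iff _).mp hdimV).2
  have hdvr : IsDiscreteValuationRing (integralClosure Λ K') := by
    have htfae := (IsDiscreteValuationRing.TFAE (integralClosure Λ K') hnf).out 0 3
    rw [htfae]
    refine ⟨inferInstance, ?_⟩
    refine ⟨maximalIdeal _, ⟨?_, inferInstance⟩, ?_⟩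
    · intro h
      exact hnf ((IsLocalRing.isField_iff_maximalIdeal_eq).mpr h)
    · rintro Q ⟨hQ0, hQp⟩
      exact IsLocalRing.eq_maximalIdeal (hprimes Q hQ0 hQp)
  have hloc : IsLocalHom (algebraMap Λ (integralClosure Λ K')) := by
    refine ⟨fun a ha => ?_⟩
    by_contra hna
    have h1 : a ∈ maximalIdeal Λ := (IsLocalRing.mem_maximalIdeal a).mpr hna
    haveI hmax : (Ideal.comap (algebraMap Λ (integralClosure Λ K'))
        (maximalIdeal (integralClosure Λ K'))).IsMaximal :=
      Ideal.isMaximal_comap_of_isIntegral_of_isMaximal _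
    rw [← IsLocalRing.eq_maximalIdeal hmax, Ideal.mem_comap] at h1
    exact (IsLocalRing.mem_maximalIdeal _).mp h1 ha
  haveI := hloc
  refine ⟨hdvr, ?_, integralClosure.isFractionRing_of_finite_extension (FractionRing Λ) K',
    hinj, hloc⟩
  haveI : Algebra.IsIntegral (ResidueField Λ) (ResidueField (integralClosure Λ K')) :=
    Algebra.IsIntegral.of_finite _ _
  have hbij : Function.Bijective (algebraMap (ResidueField Λ)
      (ResidueField (integralClosure Λ K'))) :=
    IsAlgClosed.algebraMap_bijective_of_isIntegral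
  exact IsAlgClosed.of_ringEquiv (ResidueField Λ) (ResidueField (integralClosure Λ K'))
    (RingEquiv.ofBijective _ hbij)

set_option backward.isDefEq.respectTransparency false in
/-- A geometric point over the algebraic closure of the fraction field of `Λ` of a scheme locally
of finite type over `Y`, lying over `Spec Λ ⟶ Y`, descends to every sufficiently large finite
extension. -/
theorem exists_finite_descent {X Y : Scheme.{u}} (f : X ⟶ Y) [LocallyOfFiniteType f]
    {Λ : Type u} [CommRing Λ] [IsDomain Λ] [IsLocalRing Λ] (gΛ : Spec (.of Λ) ⟶ Y)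
    (s : Spec (.of (AlgebraicClosure (FractionRing Λ))) ⟶ X)
    (hs : s ≫ f = Spec.map (CommRingCat.ofHom
      (algebraMap Λ (AlgebraicClosure (FractionRing Λ)))) ≫ gΛ) :
    ∃ L : IntermediateField (FractionRing Λ) (AlgebraicClosure (FractionRing Λ)),
      FiniteDimensional (FractionRing Λ) L ∧
      ∀ L' : IntermediateField (FractionRing Λ) (AlgebraicClosure (FractionRing Λ)), L ≤ L' →
        ∃ σ : Spec (.of ↥L') ⟶ X, s = Spec.map (CommRingCat.ofHom
          (algebraMap ↥L' (AlgebraicClosure (FractionRing Λ)))) ≫ σ := by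
  obtain ⟨W, hW, hyW, -⟩ := exists_isAffineOpen_mem_and_subset (x := gΛ (closedPoint Λ))
    (U := ⊤) trivial
  obtain ⟨θ, hθ⟩ := exists_factor_fromSpec hW Λ gΛ hyW
  have hallW : ∀ t : Spec (.of Λ), gΛ t ∈ W := by
    intro t
    have h1 : t ⤳ closedPoint Λ := IsLocalRing.specializes_closedPoint t
    exact (h1.map gΛ.continuous).mem_open W.isOpen hyW
  have hx₀ : s (closedPoint (AlgebraicClosure (FractionRing Λ))) ∈ f ⁻¹ᵁ W := by
    show f (s (closedPoint _)) ∈ W
    rw [← Scheme.Hom.comp_apply, hs, Scheme.Hom.comp_apply]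
    exact hallW _
  obtain ⟨U, hU, hxU, hUW⟩ := exists_isAffineOpen_mem_and_subset
    (x := s (closedPoint (AlgebraicClosure (FractionRing Λ)))) (U := f ⁻¹ᵁ W) hx₀
  obtain ⟨ψ, hψ⟩ := exists_factor_fromSpec hU (AlgebraicClosure (FractionRing Λ)) s hxU
  have hft : (f.appLE W U hUW).hom.FiniteType := f.finiteType_appLE hW hU hUW
  have hrel : f.appLE W U hUW ≫ ψ =
      θ ≫ CommRingCat.ofHom (algebraMap Λ (AlgebraicClosure (FractionRing Λ))) := by
    apply Spec.map_injective
    haveI : Mono hW.fromSpec := inferInstance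
    rw [← cancel_mono hW.fromSpec, Spec.map_comp, Spec.map_comp, Category.assoc, Category.assoc,
      IsAffineOpen.SpecMap_appLE_fromSpec f hW hU hUW, ← hθ, ← Category.assoc, ← hψ, hs]
  have hrel' : ∀ r, ψ.hom ((f.appLE W U hUW).hom r) =
      algebraMap Λ (AlgebraicClosure (FractionRing Λ)) (θ.hom r) := by
    intro r
    exact congrArg (fun t => t.hom r) hrel
  letI : Algebra Γ(Y, W) Γ(X, U) := (f.appLE W U hUW).hom.toAlgebra
  haveI : Algebra.FiniteType Γ(Y, W) Γ(X, U) := hft
  obtain ⟨G, hG⟩ := (Algebra.FiniteType.out : (⊤ : Subalgebra Γ(Y, W) Γ(X, U)).FG)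
  haveI : Finite ↑(ψ.hom '' (G : Set Γ(X, U))) := (G.finite_toSet.image _).to_subtype
  refine ⟨IntermediateField.adjoin (FractionRing Λ) (ψ.hom '' (G : Set Γ(X, U))),
    IntermediateField.finiteDimensional_adjoin
      (fun x _ => (Algebra.IsAlgebraic.isAlgebraic x).isIntegral), ?_⟩
  intro L' hL'
  have hmem : ∀ r : Γ(X, U), ψ.hom r ∈ L' := by
    intro r
    have hr : r ∈ Algebra.adjoin Γ(Y, W) (G : Set Γ(X, U)) := by
      rw [hG]
      exact Algebra.mem_top
    induction hr using Algebra.adjoin_induction with
    | mem x hx =>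
      exact hL' (IntermediateField.subset_adjoin _ _ ⟨x, hx, rfl⟩)
    | algebraMap r₀ =>
      have h1 : ψ.hom (algebraMap Γ(Y, W) Γ(X, U) r₀) =
          algebraMap Λ (AlgebraicClosure (FractionRing Λ)) (θ.hom r₀) := hrel' r₀
      rw [h1, IsScalarTower.algebraMap_apply Λ (FractionRing Λ)
        (AlgebraicClosure (FractionRing Λ))]
      exact L'.algebraMap_mem _
    | add x y _ _ hx hy =>
      rw [map_add]
      exact L'.add_mem hx hy
    | mul x y _ _ hx hy =>
      rw [map_mul]
      exact L'.mul_mem hx hy
  refine ⟨Spec.map (CommRingCat.ofHom (ψ.hom.codRestrict L' hmem)) ≫ hU.fromSpec, ?_⟩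
  rw [← Category.assoc, ← Spec.map_comp]
  have h2 : CommRingCat.ofHom (ψ.hom.codRestrict L' hmem) ≫ CommRingCat.ofHom
      (algebraMap ↥L' (AlgebraicClosure (FractionRing Λ))) = ψ := by
    ext r
    rfl
  rw [h2]
  exact hψ

end Groth.Agent.H7
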