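import Mathlib.AlgebraicGeometry.Morphisms.Etale
import Mathlib.AlgebraicGeometry.ResidueField
import Mathlib.AlgebraicGeometry.Stalk
import Mathlib.RingTheory.Etale.StandardEtale
import Mathlib.Algebra.Polynomial.Lifts
import Mathlib.FieldTheory.IsAlgClosed.AlgebraicClosure
import Mathlib.FieldTheory.Separable

set_option autoImplicit false
set_option linter.style.haveILetI false
universe u

namespace Groth.Agent.H7

open AlgebraicGeometry CategoryTheory Limits IsLocalRing Polynomial

/-- Finitely many elements of a stalk are germs of sections over a common affine open. -/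
theorem exists_affineOpen_forall_mem_range_germ (Y : Scheme.{u}) (y : Y)
    (T : Finset (Y.presheaf.stalk y)) :
    ∃ (U : Y.Opens) (_ : IsAffineOpen U) (hy : y ∈ U),
      ∀ t ∈ T, t ∈ Set.range (Y.presheaf.germ U y hy).hom := by
  classical
  induction T using Finset.induction_on with
  | empty =>
    obtain ⟨_, ⟨(U : Y.Opens), hU, rfl⟩, hyU, -⟩ :=
      Y.isBasis_affineOpens.exists_subset_of_mem_open (Set.mem_univ y) isOpen_univ
    exact ⟨U, hU, hyU, by simp⟩
  | insert t T ht ih =>
    obtain ⟨U₁, hU₁, hy₁, h₁⟩ := ih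
    obtain ⟨U₂, hy₂, s₂, hs₂⟩ := Y.presheaf.exists_germ_eq t
    obtain ⟨_, ⟨(U₃ : Y.Opens), hU₃, rfl⟩, hy₃, hU₃le⟩ :=
      Y.isBasis_affineOpens.exists_subset_of_mem_open
        (show y ∈ ((U₁ ⊓ U₂ : Y.Opens) : Set Y) from ⟨hy₁, hy₂⟩) (U₁ ⊓ U₂).2
    have hle1 : U₃ ≤ U₁ := fun a ha => (hU₃le ha).1
    have hle2 : U₃ ≤ U₂ := fun a ha => (hU₃le ha).2
    refine ⟨U₃, hU₃, hy₃, fun t' ht' => ?_⟩
    rw [Finset.mem_insert] at ht'
    rcases ht' with rfl | ht'
    · refine ⟨Y.presheaf.map (homOfLE hle2).op s₂, ?_⟩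
      rw [← hs₂]
      exact TopCat.Presheaf.germ_res_apply _ (homOfLE hle2) y hy₃ s₂
    · obtain ⟨s, rfl⟩ := h₁ t' ht'
      exact ⟨Y.presheaf.map (homOfLE hle1).op s,
        TopCat.Presheaf.germ_res_apply _ (homOfLE hle1) y hy₃ s⟩

/-- A monic polynomial over the residue field at `y` lifts to a monic polynomial over the sections
on some affine open neighbourhood. -/
theorem exists_affineOpen_monic_lift (Y : Scheme.{u}) (y : Y) (μ : (Y.residueField y)[X])
    (hμ : μ.Monic) :
    ∃ (U : Y.Opens) (_ : IsAffineOpen U) (hy : y ∈ U) (N : Γ(Y, U)[X]), N.Monic ∧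
      N.map (Y.evaluation U y hy).hom = μ := by
  classical
  have hres : Function.Surjective (Y.residue y).hom := Y.residue_surjective y
  have hμl : μ ∈ Polynomial.lifts (Y.residue y).hom := by
    obtain ⟨p, hp⟩ := Polynomial.map_surjective _ hres μ
    exact (Polynomial.mem_lifts _).mpr ⟨p, hp⟩
  obtain ⟨μ', hμ'map, -, hμ'monic⟩ := Polynomial.lifts_and_degree_eq_and_monic hμl hμ
  obtain ⟨U, hU, hy, hT⟩ :=
    exists_affineOpen_forall_mem_range_germ Y y (μ'.support.image μ'.coeff)
  have hlift : μ' ∈ Polynomial.lifts (Y.presheaf.germ U y hy).hom := by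
    rw [Polynomial.lifts_iff_coeff_lifts]
    intro n
    by_cases h : μ'.coeff n = 0
    · rw [h]; exact ⟨0, map_zero _⟩
    · exact hT _ (Finset.mem_image.mpr ⟨n, Polynomial.mem_support_iff.mpr h, rfl⟩)
  obtain ⟨N, hNmap, -, hNmonic⟩ := Polynomial.lifts_and_degree_eq_and_monic hlift hμ'monic
  refine ⟨U, hU, hy, N, hNmonic, ?_⟩
  rw [← Scheme.germ_residue, CommRingCat.hom_comp, ← Polynomial.map_map, hNmap, hμ'map]

theorem specMap_evaluation_fromSpec {Y : Scheme.{u}} {U : Y.Opens} (hU : IsAffineOpen U) (y : Y)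
    (hy : y ∈ U) :
    Spec.map (Y.evaluation U y hy) ≫ hU.fromSpec = Y.fromSpecResidueField y := by
  rw [Scheme.fromSpecResidueField, ← hU.fromSpecStalk_eq_fromSpecStalk hy,
    IsAffineOpen.fromSpecStalk, ← Scheme.germ_residue, Spec.map_comp, Category.assoc]

/-- Given a monic separable polynomial `μ` of positive degree over the residue field of `y`, there
is an étale neighbourhood `(V, v)` of `y` such that `μ` has a root in the residue field of `v`. -/
theorem exists_etale_nbhd_root (Y : Scheme.{u}) (y : Y) (μ : (Y.residueField y)[X])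
    (hμ : μ.Monic) (hsep : μ.Separable) (hdeg : μ.natDegree ≠ 0) :
    ∃ (V : Scheme.{u}) (g : V ⟶ Y) (v : V) (hv : g v = y), Etale g ∧
      ∃ ξ : V.residueField v,
        (μ.map ((Y.residueFieldCongr hv).inv ≫ g.residueFieldMap v).hom).eval ξ = 0 := by
  obtain ⟨U, hU, hy, N, hN, hNμ⟩ := exists_affineOpen_monic_lift Y y μ hμ
  let P : StandardEtalePair Γ(Y, U) := ⟨N, hN, derivative N, ⟨1, 0, 1, by simp⟩⟩
  let ιy : Y.residueField y →+* AlgebraicClosure (Y.residueField y) := algebraMap _ _
  let φ : Γ(Y, U) →+* AlgebraicClosure (Y.residueField y) := ιy.comp (Y.evaluation U y hy).hom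
  letI : Algebra Γ(Y, U) (AlgebraicClosure (Y.residueField y)) := φ.toAlgebra
  have hdeg' : (μ.map ιy).degree ≠ 0 := by
    rw [Polynomial.degree_map]
    intro h
    exact hdeg (Polynomial.natDegree_eq_zero_iff_degree_le_zero.mpr h.le)
  obtain ⟨α, hα⟩ : ∃ α, (μ.map ιy).IsRoot α := IsAlgClosed.exists_root _ hdeg'
  have hNφ : N.map φ = μ.map ιy := by rw [← hNμ, Polynomial.map_map]
  have hmap : P.HasMap α := by
    refine ⟨?_, ?_⟩
    · show aeval α N = 0
      rw [Polynomial.aeval_def, ← Polynomial.eval_map]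
      show (N.map φ).eval α = 0
      rw [hNφ]; exact hα
    · show IsUnit (aeval α (derivative N))
      rw [isUnit_iff_ne_zero, Polynomial.aeval_def, ← Polynomial.eval_map]
      show eval α ((derivative N).map φ) ≠ 0
      rw [← Polynomial.derivative_map, hNφ]
      intro h0
      obtain ⟨a, b, hab⟩ := hsep.map (f := ιy)
      have := congrArg (eval α) hab
      simp only [eval_add, eval_mul, eval_one] at this
      rw [h0, show eval α (μ.map ιy) = 0 from hα] at this
      simp at this
  let θ := P.lift α hmap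
  let A : CommRingCat.{u} := CommRingCat.of P.Ring
  let g : Spec A ⟶ Y := Spec.map (CommRingCat.ofHom (algebraMap Γ(Y, U) P.Ring)) ≫ hU.fromSpec
  let vbar : Spec (.of (AlgebraicClosure (Y.residueField y))) ⟶ Spec A :=
    Spec.map (CommRingCat.ofHom θ.toRingHom)
  have hvbar : vbar ≫ g = Spec.map (CommRingCat.ofHom ιy) ≫ Y.fromSpecResidueField y := by
    rw [← specMap_evaluation_fromSpec hU y hy, ← Spec.map_comp_assoc, ← Category.assoc,
      ← Spec.map_comp]
    congr 2
    ext r
    exact θ.commutes r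
  let v : Spec A := vbar (closedPoint _)
  have hv : g v = y := by
    have h := congrArg (fun t : Spec (.of (AlgebraicClosure (Y.residueField y))) ⟶ Y =>
      t (closedPoint _)) hvbar
    exact h.trans (Y.fromSpecResidueField_apply y _)
  have hg : Etale g := by
    have : Etale (Spec.map (CommRingCat.ofHom (algebraMap Γ(Y, U) P.Ring))) := by
      rw [HasRingHomProperty.Spec_iff (P := @Etale)]
      exact RingHom.etale_algebraMap.mpr inferInstance
    infer_instance
  refine ⟨Spec A, g, v, hv, hg, ?_⟩
  -- the residue map at `v`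
  let ev : A ⟶ (Spec A).residueField v :=
    CommRingCat.ofHom (algebraMap A v.asIdeal.ResidueField) ≫ (Scheme.Spec.residueFieldIso A v).inv
  have hev : Spec.map ev = (Spec A).fromSpecResidueField v := by
    rw [Spec.map_comp]
    exact Scheme.Spec.map_residueFieldIso_inv_eq_fromSpecResidueField A v
  let ib : (Spec A).residueField v ⟶ .of (AlgebraicClosure (Y.residueField y)) :=
    Scheme.descResidueField (Scheme.stalkClosedPointTo vbar)
  have hib : Spec.map ib ≫ (Spec A).fromSpecResidueField v = vbar :=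
    Scheme.descResidueField_stalkClosedPointTo_fromSpecResidueField _ (Spec A) vbar
  have hθ : ev ≫ ib = CommRingCat.ofHom θ.toRingHom := by
    apply Spec.map_injective
    rw [Spec.map_comp, hev, hib]
  -- compatibility with the residue field of `y`
  have hR1 : g.residueFieldMap v ≫ ib = (Y.residueFieldCongr hv).hom ≫ CommRingCat.ofHom ιy := by
    apply Spec.map_injective
    rw [← cancel_mono (Y.fromSpecResidueField (g v))]
    rw [Spec.map_comp, Category.assoc, Scheme.Hom.SpecMap_residueFieldMap_fromSpecResidueField,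
      ← Category.assoc, hib, hvbar, Spec.map_comp, Category.assoc,
      Scheme.residueFieldCongr_fromSpecResidueField]
    rfl
  refine ⟨ev.hom P.X, ?_⟩
  apply ib.hom.injective
  rw [map_zero, ← Polynomial.eval₂_at_apply, Polynomial.eval₂_map]
  have h1 : ib.hom (ev.hom P.X) = α := by
    have := congrArg (fun q => q.hom P.X) hθ
    simp only [CommRingCat.hom_comp, RingHom.comp_apply, CommRingCat.hom_ofHom] at this
    rw [this]
    exact P.lift_X α hmap
  have h2 : ib.hom.comp ((Y.residueFieldCongr hv).inv ≫ g.residueFieldMap v).hom = ιy := by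
    have : ((Y.residueFieldCongr hv).inv ≫ g.residueFieldMap v) ≫ ib = CommRingCat.ofHom ιy := by
      rw [Category.assoc, hR1, Iso.inv_hom_id_assoc]
      rfl
    rw [← CommRingCat.hom_comp, this]
    rfl
  rw [h1, h2, Polynomial.eval₂_eq_eval_map]
  exact hα

end Groth.Agent.H7
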