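import Mathlib.FieldTheory.SeparableClosure
import Mathlib.FieldTheory.PrimitiveElement
import Mathlib.FieldTheory.Normal.Closure
import Mathlib.FieldTheory.IsAlgClosed.AlgebraicClosure
import Mathlib.FieldTheory.PurelyInseparable.Basic
import Mathlib.RingTheory.RingHom.Finite

set_option autoImplicit false
set_option linter.style.haveILetI false
universe u v

namespace Groth.Agent.H7

open Polynomial IntermediateField

/-- Given finitely many finite field extensions `L i / K`, there is a monic separable polynomial `μ`
over `K` such that in any field `K'` over `K` containing a root of `μ`, every element of `L i`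
separable over `K` becomes "rational over `K'`" in any common overfield. -/
theorem exists_separable_poly_splitting {K : Type u} [Field K] {ι : Type v} [Finite ι]
    (L : ι → Type u) [∀ i, Field (L i)] (φ : ∀ i, K →+* L i) (hφ : ∀ i, (φ i).Finite) :
    ∃ μ : K[X], μ.Monic ∧ μ.Separable ∧ μ.natDegree ≠ 0 ∧
      ∀ (K' : Type u) [Field K'] (j : K →+* K') (ξ : K'), (μ.map j).eval ξ = 0 →
        ∀ (i : ι) (Z : Type u) [Field Z] (p₁ : L i →+* Z) (p₂ : K' →+* Z),
          p₂.comp j = p₁.comp (φ i) →
          ∀ (a : L i) (q : K[X]), q.Separable → q.eval₂ (φ i) a = 0 → p₁ a ∈ p₂.range := by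
  classical
  letI alg : ∀ i, Algebra K (L i) := fun i => (φ i).toAlgebra
  haveI fd : ∀ i, FiniteDimensional K (L i) := fun i => hφ i
  let Ω := AlgebraicClosure K
  let N : ι → IntermediateField K Ω := fun i =>
    IntermediateField.normalClosure K (separableClosure K (L i)) Ω
  let M : IntermediateField K Ω := ⨆ i, N i
  haveI hNn : ∀ i, Normal K (N i) := fun i => normalClosure.normal K _ Ω
  haveI : Normal K M := IntermediateField.normal_iSup K Ω N
  haveI hNf : ∀ i, FiniteDimensional K (N i) := fun i => normalClosure.is_finiteDimensional K _ Ω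
  haveI : FiniteDimensional K M := IntermediateField.finiteDimensional_iSup_of_finite
  haveI : Algebra.IsSeparable K M := by
    rw [← le_separableClosure_iff]
    refine iSup_le fun i => normalClosure_le_iff.mpr fun σ => ?_
    rintro _ ⟨e, rfl⟩
    rw [mem_separableClosure_iff, IsSeparable]
    show (minpoly K (σ e)).Separable
    rw [minpoly.algHom_eq σ σ.injective]
    exact Algebra.IsSeparable.isSeparable K e
  obtain ⟨α, hα⟩ := Field.exists_primitive_element K M
  have hαint : IsIntegral K α := Algebra.IsIntegral.isIntegral α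
  refine ⟨minpoly K α, minpoly.monic hαint, Algebra.IsSeparable.isSeparable K α,
    (minpoly.natDegree_pos hαint).ne', ?_⟩
  intro K' _ j ξ hξ i Z _ p₁ p₂ hcomm a q hq hqa
  letI : Algebra K K' := j.toAlgebra
  have hroot : ξ ∈ (minpoly K α).aroots K' := by
    rw [Polynomial.mem_aroots]
    refine ⟨minpoly.ne_zero hαint, ?_⟩
    rw [Polynomial.aeval_def, ← Polynomial.eval_map]
    exact hξ
  let ψ₀ : K⟮α⟯ →ₐ[K] K' := (IntermediateField.algHomAdjoinIntegralEquiv K hαint).symm ⟨ξ, hroot⟩
  let eM : M ≃ₐ[K] K⟮α⟯ :=
    ((IntermediateField.equivOfEq hα).trans IntermediateField.topEquiv).symm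
  let ψ : M →ₐ[K] K' := ψ₀.comp eM.toAlgHom
  have ha_sep : IsSeparable K a := by
    refine hq.of_dvd (minpoly.dvd K a ?_)
    rw [Polynomial.aeval_def]
    exact hqa
  have ha_int : IsIntegral K a := Algebra.IsIntegral.isIntegral a
  let e : separableClosure K (L i) := ⟨a, mem_separableClosure_iff.mpr ha_sep⟩
  let σ : separableClosure K (L i) →ₐ[K] Ω := IsAlgClosed.lift
  have hmem : σ e ∈ M := (le_iSup N i) (σ.fieldRange_le_normalClosure ⟨e, rfl⟩)
  have hmin : minpoly K (⟨σ e, hmem⟩ : M) = minpoly K a := by
    rw [IntermediateField.minpoly_eq, minpoly.algHom_eq σ σ.injective,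
      IntermediateField.minpoly_eq]
  have hsplit : ((minpoly K a).map (algebraMap K M)).Splits := by
    rw [← hmin]
    exact Normal.splits inferInstance _
  have hsplit' : ((minpoly K a).map j).Splits := hsplit.of_algHom ψ
  have hne : (minpoly K a).map j ≠ 0 :=
    (Polynomial.map_ne_zero_iff j.injective).mpr (minpoly.ne_zero ha_int)
  refine hsplit'.mem_range_of_isRoot hne (i := p₂) (x := p₁ a) ?_
  rw [Polynomial.IsRoot.def, Polynomial.map_map, hcomm, Polynomial.eval_map,
    ← Polynomial.hom_eval₂]
  have : eval₂ (φ i) a (minpoly K a) = 0 := by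
    have := minpoly.aeval K a
    rwa [Polynomial.aeval_def] at this
  rw [this, map_zero]

end Groth.Agent.H7
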