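import Groth.Agent.H7.GeomFibre
import Groth.Agent.H7.SepSplit
import Groth.Agent.H7.EtaleRoot
import Mathlib.AlgebraicGeometry.PullbackCarrier

set_option autoImplicit false
set_option linter.style.haveILetI false
universe u

namespace Groth.Agent.H7

open AlgebraicGeometry CategoryTheory Limits IsLocalRing Polynomial

variable {X Y V : Scheme.{u}}

set_option backward.isDefEq.respectTransparency.types false in
set_option backward.defeqAttrib.useBackward true in
theorem residueFieldMap_square (f : X ⟶ Y) (g : V ⟶ Y) (z : ↑(pullback f g)) (y : Y) (v : V)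
    (hz : pullback.snd f g z = v) (hv : g v = y) (hx : f (pullback.fst f g z) = y) :
    ((Y.residueFieldCongr hv).inv ≫ g.residueFieldMap v) ≫
        ((V.residueFieldCongr hz).inv ≫ (pullback.snd f g).residueFieldMap z) =
      ((Y.residueFieldCongr hx).inv ≫ f.residueFieldMap (pullback.fst f g z)) ≫
        (pullback.fst f g).residueFieldMap z := by
  subst hz
  subst hv
  simp [← Scheme.residueFieldMap_comp, Scheme.Hom.residueFieldMap_congr pullback.condition]

/-- Two embeddings of the residue field of a point of a fibre product agree if they agree on the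
residue fields of the two projections. -/
theorem ringHom_ext_of_pullback (f : X ⟶ Y) (g : V ⟶ Y) (z : ↑(pullback f g)) {Ω : Type u}
    [Field Ω] (τ₁ τ₂ : (pullback f g).residueField z →+* Ω)
    (h1 : τ₁.comp ((pullback.fst f g).residueFieldMap z).hom =
      τ₂.comp ((pullback.fst f g).residueFieldMap z).hom)
    (h2 : τ₁.comp ((pullback.snd f g).residueFieldMap z).hom =
      τ₂.comp ((pullback.snd f g).residueFieldMap z).hom) : τ₁ = τ₂ := by
  have key : Spec.map (CommRingCat.ofHom τ₁) ≫ (pullback f g).fromSpecResidueField z =
      Spec.map (CommRingCat.ofHom τ₂) ≫ (pullback f g).fromSpecResidueField z := by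
    apply pullback.hom_ext
    · rw [Category.assoc, Category.assoc,
        ← Scheme.Hom.SpecMap_residueFieldMap_fromSpecResidueField, ← Spec.map_comp_assoc,
        ← Spec.map_comp_assoc]
      congr 2
      apply CommRingCat.hom_ext
      exact h1
    · rw [Category.assoc, Category.assoc,
        ← Scheme.Hom.SpecMap_residueFieldMap_fromSpecResidueField, ← Spec.map_comp_assoc,
        ← Spec.map_comp_assoc]
      congr 2
      apply CommRingCat.hom_ext
      exact h2
  rw [cancel_mono] at key
  exact congrArg CommRingCat.Hom.hom (Spec.map_injective key)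

/-- **Purely inseparable étale localization.** Given finitely many points of a fibre of `f` at
which `f` is quasi-finite, there is an étale neighbourhood `(V, v)` of the image point such that
every point of `X ×_Y V` over `v` and one of the given points has a residue field which is purely
inseparable over that of `v` (separable degree one). -/
theorem exists_etale_nbhd_sepDeg_eq_one (f : X ⟶ Y) (y : Y) (F : Set X) (hF : F.Finite)
    (hFy : ∀ x ∈ F, f x = y) (hFq : ∀ x ∈ F, f.QuasiFiniteAt x) :
    ∃ (V : Scheme.{u}) (g : V ⟶ Y) (v : V), Etale g ∧ g v = y ∧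
      ∀ z : ↑(pullback f g), pullback.snd f g z = v → pullback.fst f g z ∈ F →
        sepDegHom ((pullback.snd f g).residueFieldMap z).hom = 1 := by
  haveI : Finite ↥F := hF.to_subtype
  let φ : ∀ i : ↥F, Y.residueField y →+* X.residueField i.1 := fun i =>
    ((Y.residueFieldCongr (hFy i.1 i.2)).inv ≫ f.residueFieldMap i.1).hom
  have hφ : ∀ i, (φ i).Finite := fun i => by
    show ((f.residueFieldMap i.1).hom.comp (Y.residueFieldCongr (hFy i.1 i.2)).inv.hom).Finite
    refine (finite_residueFieldMap f i.1 (hFq i.1 i.2)).comp (RingHom.Finite.of_surjective _ ?_)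
    exact (ConcreteCategory.bijective_of_isIso (Y.residueFieldCongr (hFy i.1 i.2)).inv).surjective
  obtain ⟨μ, hμ, hsep, hdeg, H⟩ :=
    exists_separable_poly_splitting (fun i : ↥F => X.residueField i.1) φ hφ
  obtain ⟨V, g, v, hv, hg, ξ, hξ⟩ := exists_etale_nbhd_root Y y μ hμ hsep hdeg
  refine ⟨V, g, v, hg, hv, fun z hz hzF => ?_⟩
  have H' := H (V.residueField v) ((Y.residueFieldCongr hv).inv ≫ g.residueFieldMap v).hom ξ hξ
    ⟨_, hzF⟩ ((pullback f g).residueField z) ((pullback.fst f g).residueFieldMap z).hom
    ((V.residueFieldCongr hz).inv ≫ (pullback.snd f g).residueFieldMap z).hom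
    (congrArg CommRingCat.Hom.hom (residueFieldMap_square f g z y v hz hv (hFy _ hzF)))
  -- notation
  set ψ := ((pullback.snd f g).residueFieldMap z).hom with hψ
  set p₁ := ((pullback.fst f g).residueFieldMap z).hom with hp₁
  letI algψ : Algebra (V.residueField (pullback.snd f g z)) ((pullback f g).residueField z) :=
    ψ.toAlgebra
  letI algL : Algebra (Y.residueField y) (X.residueField (pullback.fst f g z)) :=
    (φ ⟨_, hzF⟩).toAlgebra
  haveI : FiniteDimensional (Y.residueField y) (X.residueField (pullback.fst f g z)) :=
    hφ ⟨_, hzF⟩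
  show Field.finSepDegree (V.residueField (pullback.snd f g z)) ((pullback f g).residueField z) = 1
  unfold Field.finSepDegree
  rw [Nat.card_eq_one_iff_unique]
  refine ⟨⟨fun (τ₁ τ₂ : (pullback f g).residueField z →ₐ[V.residueField (pullback.snd f g z)]
    AlgebraicClosure ((pullback f g).residueField z)) => ?_⟩, inferInstance⟩
  apply AlgHom.coe_ringHom_injective
  apply ringHom_ext_of_pullback f g z
  · -- agreement on the residue field of `fst z`: purely inseparable argument
    apply IsPurelyInseparable.injective_comp_algebraMap
      (separableClosure (Y.residueField y) (X.residueField (pullback.fst f g z)))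
      (X.residueField (pullback.fst f g z)) (AlgebraicClosure ((pullback f g).residueField z))
    ext ⟨a, ha⟩
    have hsepa : (minpoly (Y.residueField y) a).Separable := mem_separableClosure_iff.mp ha
    have hroot : (minpoly (Y.residueField y) a).eval₂ (φ ⟨_, hzF⟩) a = 0 := by
      have := minpoly.aeval (Y.residueField y) a
      rwa [Polynomial.aeval_def] at this
    obtain ⟨b, hb⟩ := H' a _ hsepa hroot
    show τ₁ (p₁ a) = τ₂ (p₁ a)
    rw [← hb]
    show τ₁ (ψ ((V.residueFieldCongr hz).inv.hom b)) = τ₂ (ψ ((V.residueFieldCongr hz).inv.hom b))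
    exact (τ₁.commutes _).trans (τ₂.commutes _).symm
  · ext r
    exact (τ₁.commutes r).trans (τ₂.commutes r).symm

end Groth.Agent.H7
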