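import Groth.Agent.H7.Weighting
import Groth.Agent.H7.PurelyInsep
import Groth.Agent.H7.EtaleLoc4
import Mathlib.AlgebraicGeometry.Morphisms.Proper

set_option autoImplicit false
set_option linter.style.haveILetI false
universe u

namespace Groth.Agent.H7

open AlgebraicGeometry CategoryTheory Limits IsLocalRing

variable {X Y V : Scheme.{u}}

section General

variable {U B W : Scheme.{u}}

/-- The sum of the weighted terms over the part of a fibre lying in a set. -/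
noncomputable def fibreSum (π : U ⟶ B) (w : U → ℤ) (S : Set U) (b : B) : ℤ :=
  ∑ᶠ x ∈ π ⁻¹' {b} ∩ S, fibreTerm π w x

theorem fibreIntegral_comp_openImmersion (j : W ⟶ U) [IsOpenImmersion j] (π : U ⟶ B)
    (w : U → ℤ) (b : B) :
    MoreMor.fibreIntegral (j ≫ π) (fun p => w (j p)) b = fibreSum π w (Set.range j) b := by
  rw [fibreIntegral_eq_finsum_mem, fibreSum]
  have himg : π ⁻¹' {b} ∩ Set.range j = j '' ((j ≫ π) ⁻¹' {b}) := by
    have : ((j ≫ π) ⁻¹' {b} : Set W) = j ⁻¹' (π ⁻¹' {b}) := rfl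
    rw [this, Set.image_preimage_eq_inter_range]
  rw [himg, finsum_mem_image (j.isOpenEmbedding.injective.injOn)]
  exact finsum_mem_congr rfl fun p _ => fibreTerm_comp_of_isOpenImmersion j π w p

theorem finite_fibre_inter_range (j : W ⟶ U) (π : U ⟶ B) [IsFinite (j ≫ π)] (b : B) :
    (π ⁻¹' {b} ∩ Set.range j).Finite := by
  have himg : π ⁻¹' {b} ∩ Set.range j = j '' ((j ≫ π) ⁻¹' {b}) := by
    have : ((j ≫ π) ⁻¹' {b} : Set W) = j ⁻¹' (π ⁻¹' {b}) := rfl
    rw [this, Set.image_preimage_eq_inter_range]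
  rw [himg]
  exact ((j ≫ π).finite_preimage_singleton b).image _

/-- The image of the difference of two open parts, the first of which is finite over the base, is
closed. -/
theorem isClosed_image_diff (j : W ⟶ U) (π : U ⟶ B) [IsFinite (j ≫ π)] (S : Set U)
    (hS : IsOpen S) : IsClosed (π '' (Set.range j \ S)) := by
  have : π '' (Set.range j \ S) = (j ≫ π) '' (j ⁻¹' Sᶜ) := by
    ext b
    constructor
    · rintro ⟨x, ⟨⟨p, rfl⟩, hxS⟩, rfl⟩
      exact ⟨p, hxS, rfl⟩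
    · rintro ⟨p, hp, rfl⟩
      exact ⟨j p, ⟨⟨p, rfl⟩, hp⟩, rfl⟩
  rw [this]
  exact (j ≫ π).isClosedMap _ (hS.isClosed_compl.preimage j.continuous)

/-- Two open parts, finite over the base, with the same fibre over `b₀`, have the same fibres over
all points near `b₀`. -/
theorem exists_nhds_fibre_eq {W' : Scheme.{u}} (j : W ⟶ U) (j' : W' ⟶ U) [IsOpenImmersion j]
    [IsOpenImmersion j'] (π : U ⟶ B) [IsFinite (j ≫ π)] [IsFinite (j' ≫ π)] (b₀ : B)
    (h : π ⁻¹' {b₀} ∩ Set.range j = π ⁻¹' {b₀} ∩ Set.range j') :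
    ∃ N : Set B, IsOpen N ∧ b₀ ∈ N ∧
      ∀ b ∈ N, π ⁻¹' {b} ∩ Set.range j = π ⁻¹' {b} ∩ Set.range j' := by
  have h1 := isClosed_image_diff j π (Set.range j') j'.isOpenEmbedding.isOpen_range
  have h2 := isClosed_image_diff j' π (Set.range j) j.isOpenEmbedding.isOpen_range
  refine ⟨(π '' (Set.range j \ Set.range j') ∪ π '' (Set.range j' \ Set.range j))ᶜ,
    (h1.union h2).isOpen_compl, ?_, ?_⟩
  · rintro (⟨x, ⟨hx1, hx2⟩, hxb⟩ | ⟨x, ⟨hx1, hx2⟩, hxb⟩)
    · have : x ∈ π ⁻¹' {b₀} ∩ Set.range j := ⟨hxb, hx1⟩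
      rw [h] at this
      exact hx2 this.2
    · have : x ∈ π ⁻¹' {b₀} ∩ Set.range j' := ⟨hxb, hx1⟩
      rw [← h] at this
      exact hx2 this.2
  · intro b hb
    ext x
    constructor
    · rintro ⟨hx1, hx2⟩
      refine ⟨hx1, ?_⟩
      by_contra hx3
      exact hb (Or.inl ⟨x, ⟨hx2, hx3⟩, hx1⟩)
    · rintro ⟨hx1, hx2⟩
      refine ⟨hx1, ?_⟩
      by_contra hx3
      exact hb (Or.inr ⟨x, ⟨hx2, hx3⟩, hx1⟩)

/-- A function is constant near a point. -/
def LocConstNear {T : Type*} [TopologicalSpace T] (G : T → ℤ) (t : T) : Prop :=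
  ∃ N : Set T, IsOpen N ∧ t ∈ N ∧ ∀ b ∈ N, G b = G t

theorem LocConstNear.of_comp_openMap {T T' : Type*} [TopologicalSpace T] [TopologicalSpace T']
    (e : T' → T) (he : IsOpenMap e) (G : T → ℤ) (t' : T') (h : LocConstNear (G ∘ e) t') :
    LocConstNear G (e t') := by
  obtain ⟨N, hN, ht, hc⟩ := h
  refine ⟨e '' N, he N hN, ⟨t', ht, rfl⟩, ?_⟩
  rintro _ ⟨b, hb, rfl⟩
  exact hc b hb

theorem isLocallyConstant_of_locConstNear {T : Type*} [TopologicalSpace T] (G : T → ℤ)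
    (h : ∀ t, LocConstNear G t) : IsLocallyConstant G := by
  rw [IsLocallyConstant.iff_exists_open]
  intro t
  obtain ⟨N, hN, ht, hc⟩ := h t
  exact ⟨N, hN, ht, hc⟩

end General

section Uniq

/-- Two geometric points of `X ×_Y V` over the same geometric point of `V` whose images in `X`
lie at the same point `x`, at which the residue field extension of `f` has separable degree one,
are equal. -/
theorem geomPt_ext_of_sepDeg_eq_one (f : X ⟶ Y) (γ : V ⟶ Y) (b : V) {Ω : Type u} [Field Ω]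
    [IsAlgClosed Ω] (ι : V.residueField b ⟶ .of Ω)
    (s₁ s₂ : Spec (.of Ω) ⟶ pullback f γ)
    (h₁ : s₁ ≫ pullback.snd f γ = Spec.map ι ≫ V.fromSpecResidueField b)
    (h₂ : s₂ ≫ pullback.snd f γ = Spec.map ι ≫ V.fromSpecResidueField b)
    (x : X) (hx₁ : (s₁ ≫ pullback.fst f γ) (closedPoint Ω) = x)
    (hx₂ : (s₂ ≫ pullback.fst f γ) (closedPoint Ω) = x)
    (hfin : (f.residueFieldMap x).hom.Finite)
    (hsd : sepDegHom (f.residueFieldMap x).hom = 1) : s₁ = s₂ := by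
  have hxy : f x = γ b := by
    have := congrArg (fun t : Spec (.of Ω) ⟶ Y => t (closedPoint Ω))
      (show (s₁ ≫ pullback.fst f γ) ≫ f = (Spec.map ι ≫ V.fromSpecResidueField b) ≫ γ by
        rw [Category.assoc, pullback.condition, ← Category.assoc, h₁])
    have h3 : f ((s₁ ≫ pullback.fst f γ) (closedPoint Ω)) =
        γ ((Spec.map ι ≫ V.fromSpecResidueField b) (closedPoint Ω)) := this
    rw [hx₁] at h3
    rw [h3]
    congr 1
    exact V.fromSpecResidueField_apply b _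
  have hy : ∀ s : Spec (.of Ω) ⟶ pullback f γ,
      s ≫ pullback.snd f γ = Spec.map ι ≫ V.fromSpecResidueField b →
      (s ≫ pullback.fst f γ) ≫ f =
        Spec.map (γ.residueFieldMap b ≫ ι) ≫ Y.fromSpecResidueField (γ b) := by
    intro s hs
    rw [Category.assoc, pullback.condition, ← Category.assoc, hs, Category.assoc,
      ← Scheme.Hom.SpecMap_residueFieldMap_fromSpecResidueField, ← Spec.map_comp_assoc]
  obtain ⟨hF, hcard⟩ := finite_and_card_geomPts_at f x (γ b) hxy (γ.residueFieldMap b ≫ ι) hfin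
  rw [hsd, Nat.card_eq_one_iff_unique] at hcard
  have hsub := hcard.1
  have key : (⟨s₁ ≫ pullback.fst f γ, hy s₁ h₁, hx₁⟩ :
      {s : Spec (.of Ω) ⟶ X // s ≫ f = Spec.map (γ.residueFieldMap b ≫ ι) ≫
        Y.fromSpecResidueField (γ b) ∧ s (closedPoint Ω) = x}) =
      ⟨s₂ ≫ pullback.fst f γ, hy s₂ h₂, hx₂⟩ := Subsingleton.elim _ _
  apply pullback.hom_ext
  · exact congrArg Subtype.val key
  · rw [h₁, h₂]

/-- If the residue field extension of `f` at `x` has separable degree one, there is at most one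
point of `X ×_Y V` over `x` and a given point of `V`. -/
theorem eq_of_fst_eq_of_snd_eq_of_sepDeg_eq_one (f : X ⟶ Y) [LocallyQuasiFinite f] (γ : V ⟶ Y)
    (ρ₁ ρ₂ : ↑(pullback f γ)) (h1 : pullback.fst f γ ρ₁ = pullback.fst f γ ρ₂)
    (h2 : pullback.snd f γ ρ₁ = pullback.snd f γ ρ₂)
    (hsd : sepDegHom (f.residueFieldMap (pullback.fst f γ ρ₂)).hom = 1) : ρ₁ = ρ₂ := by
  let Ω := AlgebraicClosure (V.residueField (pullback.snd f γ ρ₂))
  let ι : V.residueField (pullback.snd f γ ρ₂) ⟶ .of Ω :=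
    CommRingCat.ofHom (algebraMap (V.residueField (pullback.snd f γ ρ₂))
      (AlgebraicClosure (V.residueField (pullback.snd f γ ρ₂))))
  have hres : ∀ x, pullback.snd f γ x = pullback.snd f γ ρ₂ →
      ((pullback.snd f γ).residueFieldMap x).hom.Finite :=
    fun x _ => finite_residueFieldMap _ x ((pullback.snd f γ).quasiFiniteAt x)
  obtain ⟨s₁, hs₁⟩ := geomPtsToFibre_surjective (pullback.snd f γ) _ ι hres ⟨ρ₁, h2⟩
  obtain ⟨s₂, hs₂⟩ := geomPtsToFibre_surjective (pullback.snd f γ) _ ι hres ⟨ρ₂, rfl⟩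
  have e₁ : s₁.1 (closedPoint _) = ρ₁ := congrArg Subtype.val hs₁
  have e₂ : s₂.1 (closedPoint _) = ρ₂ := congrArg Subtype.val hs₂
  have := geomPt_ext_of_sepDeg_eq_one f γ _ ι s₁.1 s₂.1 s₁.2 s₂.2 (pullback.fst f γ ρ₂)
    (by show pullback.fst f γ (s₁.1 (closedPoint _)) = _; rw [e₁, h1])
    (by show pullback.fst f γ (s₂.1 (closedPoint _)) = _; rw [e₂])
    (finite_residueFieldMap f _ (f.quasiFiniteAt _)) hsd
  exact e₁.symm.trans ((congrArg (fun s : Spec (.of Ω) ⟶ pullback f γ => s (closedPoint _))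
    this).trans e₂)

end Uniq

section BaseChange

variable {A V₁ : Scheme.{u}}

/-- The comparison map between fibre products `X ×_Y V₁ ⟶ X ×_Y V` induced by `e : V₁ ⟶ V`. -/
noncomputable def pbMap (f : X ⟶ Y) (γ : V ⟶ Y) (e : V₁ ⟶ V) (γ₁ : V₁ ⟶ Y) (hγ : e ≫ γ = γ₁) :
    pullback f γ₁ ⟶ pullback f γ :=
  pullback.lift (pullback.fst f γ₁) (pullback.snd f γ₁ ≫ e) (by
    rw [Category.assoc, hγ]; exact pullback.condition)

@[reassoc]
theorem pbMap_fst (f : X ⟶ Y) (γ : V ⟶ Y) (e : V₁ ⟶ V) (γ₁ : V₁ ⟶ Y) (hγ : e ≫ γ = γ₁) :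
    pbMap f γ e γ₁ hγ ≫ pullback.fst f γ = pullback.fst f γ₁ := pullback.lift_fst _ _ _

@[reassoc]
theorem pbMap_snd (f : X ⟶ Y) (γ : V ⟶ Y) (e : V₁ ⟶ V) (γ₁ : V₁ ⟶ Y) (hγ : e ≫ γ = γ₁) :
    pbMap f γ e γ₁ hγ ≫ pullback.snd f γ = pullback.snd f γ₁ ≫ e := pullback.lift_snd _ _ _

theorem isPullback_pbMap (f : X ⟶ Y) (γ : V ⟶ Y) (e : V₁ ⟶ V) (γ₁ : V₁ ⟶ Y) (hγ : e ≫ γ = γ₁) :
    IsPullback (pbMap f γ e γ₁ hγ) (pullback.snd f γ₁) (pullback.snd f γ) e := by
  refine IsPullback.of_right ?_ (pbMap_snd f γ e γ₁ hγ) (IsPullback.of_hasPullback f γ)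
  rw [pbMap_fst, hγ]
  exact IsPullback.of_hasPullback f γ₁

/-- The base change of an open part `j : A ⟶ X ×_Y V` along `e : V₁ ⟶ V`, as a map into
`X ×_Y V₁`. -/
noncomputable def bcMap (f : X ⟶ Y) (γ : V ⟶ Y) (j : A ⟶ pullback f γ) (e : V₁ ⟶ V)
    (γ₁ : V₁ ⟶ Y) (hγ : e ≫ γ = γ₁) :
    pullback (j ≫ pullback.snd f γ) e ⟶ pullback f γ₁ :=
  pullback.lift (pullback.fst _ _ ≫ j ≫ pullback.fst f γ) (pullback.snd _ _) (by
    rw [Category.assoc, Category.assoc, pullback.condition, ← hγ, ← Category.assoc j,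
      ← Category.assoc, pullback.condition, Category.assoc])

@[reassoc]
theorem bcMap_fst (f : X ⟶ Y) (γ : V ⟶ Y) (j : A ⟶ pullback f γ) (e : V₁ ⟶ V)
    (γ₁ : V₁ ⟶ Y) (hγ : e ≫ γ = γ₁) :
    bcMap f γ j e γ₁ hγ ≫ pullback.fst f γ₁ = pullback.fst _ _ ≫ j ≫ pullback.fst f γ :=
  pullback.lift_fst _ _ _

@[reassoc]
theorem bcMap_snd (f : X ⟶ Y) (γ : V ⟶ Y) (j : A ⟶ pullback f γ) (e : V₁ ⟶ V)
    (γ₁ : V₁ ⟶ Y) (hγ : e ≫ γ = γ₁) :
    bcMap f γ j e γ₁ hγ ≫ pullback.snd f γ₁ = pullback.snd _ _ := pullback.lift_snd _ _ _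

theorem isPullback_bcMap (f : X ⟶ Y) (γ : V ⟶ Y) (j : A ⟶ pullback f γ) (e : V₁ ⟶ V)
    (γ₁ : V₁ ⟶ Y) (hγ : e ≫ γ = γ₁) :
    IsPullback (pullback.fst (j ≫ pullback.snd f γ) e) (bcMap f γ j e γ₁ hγ) j
      (pbMap f γ e γ₁ hγ) := by
  refine IsPullback.of_bot ?_ ?_ (isPullback_pbMap f γ e γ₁ hγ)
  · rw [bcMap_snd]
    exact IsPullback.of_hasPullback _ _
  · apply pullback.hom_ext
    · rw [Category.assoc, Category.assoc, pbMap_fst, bcMap_fst]
    · rw [Category.assoc, Category.assoc, pbMap_snd, bcMap_snd_assoc, pullback.condition]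

instance (f : X ⟶ Y) (γ : V ⟶ Y) (j : A ⟶ pullback f γ) [IsOpenImmersion j] (e : V₁ ⟶ V)
    (γ₁ : V₁ ⟶ Y) (hγ : e ≫ γ = γ₁) : IsOpenImmersion (bcMap f γ j e γ₁ hγ) :=
  MorphismProperty.of_isPullback (P := @IsOpenImmersion) (isPullback_bcMap f γ j e γ₁ hγ)
    inferInstance

/-- Base change formula for the fibre integral over an open part. -/
theorem fibreIntegral_bcMap (f : X ⟶ Y) (γ : V ⟶ Y) (j : A ⟶ pullback f γ)
    [IsFinite (j ≫ pullback.snd f γ)] (e : V₁ ⟶ V) (γ₁ : V₁ ⟶ Y) (hγ : e ≫ γ = γ₁)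
    (w : X → ℤ) (b : V₁) :
    MoreMor.fibreIntegral (bcMap f γ j e γ₁ hγ ≫ pullback.snd f γ₁)
        (fun τ => w (pullback.fst f γ₁ (bcMap f γ j e γ₁ hγ τ))) b =
      MoreMor.fibreIntegral (j ≫ pullback.snd f γ) (fun a => w (pullback.fst f γ (j a))) (e b) := by
  have hw : (fun τ => w (pullback.fst f γ₁ (bcMap f γ j e γ₁ hγ τ))) =
      (fun a => w (pullback.fst f γ (j a))) ∘ ⇑(pullback.fst (j ≫ pullback.snd f γ) e) := by
    funext τ
    have := congrArg (fun φ : pullback (j ≫ pullback.snd f γ) e ⟶ X => φ τ)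
      (bcMap_fst f γ j e γ₁ hγ)
    exact congrArg w this
  rw [hw, bcMap_snd]
  exact (fibreIntegral_baseChange (j ≫ pullback.snd f γ) (pullback.snd _ e) (pullback.fst _ e) e
    (IsPullback.of_hasPullback _ _) _ b ((j ≫ pullback.snd f γ).finite_preimage_singleton _)).2

end BaseChange

section Weighting

/-- A weighting gives locally constant integrals over open parts given by open immersions. -/
theorem locallyConstant_of_isWeighting (f : X ⟶ Y) (w : X → ℤ) (hw : MoreMor.IsWeighting f w)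
    (g : V ⟶ Y) [Etale g] {A : Scheme.{u}} (j : A ⟶ pullback f g) [IsOpenImmersion j]
    (hfin : IsFinite (j ≫ pullback.snd f g)) :
    IsLocallyConstant (MoreMor.fibreIntegral (j ≫ pullback.snd f g)
      (fun a => w (pullback.fst f g (j a)))) := by
  have hfin' : IsFinite (j.opensRange.ι ≫ pullback.snd f g) := by
    rw [← Scheme.Hom.isoOpensRange_inv_comp, Category.assoc]
    infer_instance
  have := hw V g j.opensRange hfin'
  have heq : MoreMor.fibreIntegral (j ≫ pullback.snd f g) (fun a => w (pullback.fst f g (j a))) =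
      MoreMor.fibreIntegral (j.opensRange.ι ≫ pullback.snd f g)
        (fun u => w (pullback.fst f g (j.opensRange.ι u))) := by
    funext b
    rw [fibreIntegral_comp_openImmersion j (pullback.snd f g) (fun p => w (pullback.fst f g p)) b,
      fibreIntegral_comp_openImmersion j.opensRange.ι (pullback.snd f g)
        (fun p => w (pullback.fst f g p)) b, Scheme.Opens.range_ι, Scheme.Hom.coe_opensRange]
  rw [heq]
  exact this

end Weighting

section Core

variable (f : X ⟶ Y) [LocallyQuasiFinite f] [LocallyOfFiniteType f] (w : X → ℤ)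

/-- Core case: an open part of a base change (along an arbitrary morphism) of `f`, finite over
the base, with a single point over `b₀` lying over a point `z` of `X` whose residue field has
separable degree one over its image: the fibre integral is constant near `b₀`. -/
theorem locConst_of_single_point (hw : MoreMor.IsWeighting f w) {V₁ A : Scheme.{u}} (γ₁ : V₁ ⟶ Y)
    (jA : A ⟶ pullback f γ₁) [IsOpenImmersion jA] [IsFinite (jA ≫ pullback.snd f γ₁)]
    (b₀ : V₁) (a₀ : A) (ha₀ : (jA ≫ pullback.snd f γ₁) a₀ = b₀)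
    (huniq : ∀ a, (jA ≫ pullback.snd f γ₁) a = b₀ → a = a₀)
    (hsd : sepDegHom (f.residueFieldMap (pullback.fst f γ₁ (jA a₀))).hom = 1) :
    LocConstNear (MoreMor.fibreIntegral (jA ≫ pullback.snd f γ₁)
      (fun a => w (pullback.fst f γ₁ (jA a)))) b₀ := by
  obtain ⟨V₂, g₂, v₂, hg₂, hgv₂, hres₂, W, t, htW, hWfin, hsndt, htuniq, hfstt⟩ :=
    exists_etale_nbhd_of_quasiFiniteAt f (pullback.fst f γ₁ (jA a₀)) (f.quasiFiniteAt _)
  haveI := hg₂
  haveI := hWfin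
  have hH := locallyConstant_of_isWeighting f w hw g₂ W.ι hWfin
  have hfz : f (pullback.fst f γ₁ (jA a₀)) = γ₁ b₀ := by
    have := congrArg (fun φ : pullback f γ₁ ⟶ Y => φ (jA a₀))
      (pullback.condition (f := f) (g := γ₁))
    rw [← ha₀]
    exact this
  obtain ⟨v3, hv3a, hv3b⟩ := Scheme.Pullback.exists_preimage_pullback (f := γ₁) (g := g₂) b₀ v₂
    (by rw [hgv₂, hfz])
  have hγ3 : pullback.snd γ₁ g₂ ≫ g₂ = pullback.fst γ₁ g₂ ≫ γ₁ := pullback.condition.symm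
  haveI : IsFinite (bcMap f γ₁ jA (pullback.fst γ₁ g₂) (pullback.fst γ₁ g₂ ≫ γ₁) rfl ≫
      pullback.snd f (pullback.fst γ₁ g₂ ≫ γ₁)) := by
    rw [bcMap_snd]; infer_instance
  haveI : IsFinite (bcMap f g₂ W.ι (pullback.snd γ₁ g₂) (pullback.fst γ₁ g₂ ≫ γ₁) hγ3 ≫
      pullback.snd f (pullback.fst γ₁ g₂ ≫ γ₁)) := by
    rw [bcMap_snd]; infer_instance
  have hIA := fun b => fibreIntegral_bcMap f γ₁ jA (pullback.fst γ₁ g₂)
    (pullback.fst γ₁ g₂ ≫ γ₁) rfl w b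
  have hIB := fun b => fibreIntegral_bcMap f g₂ W.ι (pullback.snd γ₁ g₂)
    (pullback.fst γ₁ g₂ ≫ γ₁) hγ3 w b
  have hSA : ∀ b, MoreMor.fibreIntegral
      (bcMap f γ₁ jA (pullback.fst γ₁ g₂) (pullback.fst γ₁ g₂ ≫ γ₁) rfl ≫
        pullback.snd f (pullback.fst γ₁ g₂ ≫ γ₁))
      (fun τ => w (pullback.fst f (pullback.fst γ₁ g₂ ≫ γ₁)
        (bcMap f γ₁ jA (pullback.fst γ₁ g₂) (pullback.fst γ₁ g₂ ≫ γ₁) rfl τ))) b =
      fibreSum (pullback.snd f (pullback.fst γ₁ g₂ ≫ γ₁))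
        (fun p => w (pullback.fst f (pullback.fst γ₁ g₂ ≫ γ₁) p))
        (Set.range (bcMap f γ₁ jA (pullback.fst γ₁ g₂) (pullback.fst γ₁ g₂ ≫ γ₁) rfl)) b :=
    fun b => fibreIntegral_comp_openImmersion _ (pullback.snd f (pullback.fst γ₁ g₂ ≫ γ₁))
      (fun p => w (pullback.fst f (pullback.fst γ₁ g₂ ≫ γ₁) p)) b
  have hSB : ∀ b, MoreMor.fibreIntegral
      (bcMap f g₂ W.ι (pullback.snd γ₁ g₂) (pullback.fst γ₁ g₂ ≫ γ₁) hγ3 ≫
        pullback.snd f (pullback.fst γ₁ g₂ ≫ γ₁))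
      (fun τ => w (pullback.fst f (pullback.fst γ₁ g₂ ≫ γ₁)
        (bcMap f g₂ W.ι (pullback.snd γ₁ g₂) (pullback.fst γ₁ g₂ ≫ γ₁) hγ3 τ))) b =
      fibreSum (pullback.snd f (pullback.fst γ₁ g₂ ≫ γ₁))
        (fun p => w (pullback.fst f (pullback.fst γ₁ g₂ ≫ γ₁) p))
        (Set.range (bcMap f g₂ W.ι (pullback.snd γ₁ g₂) (pullback.fst γ₁ g₂ ≫ γ₁) hγ3)) b :=
    fun b => fibreIntegral_comp_openImmersion _ (pullback.snd f (pullback.fst γ₁ g₂ ≫ γ₁))
      (fun p => w (pullback.fst f (pullback.fst γ₁ g₂ ≫ γ₁) p)) b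
  obtain ⟨τA, hτA1, hτA2⟩ := Scheme.Pullback.exists_preimage_pullback
    (f := jA ≫ pullback.snd f γ₁) (g := pullback.fst γ₁ g₂) a₀ v3 (by rw [ha₀, hv3a])
  obtain ⟨τB, hτB1, hτB2⟩ := Scheme.Pullback.exists_preimage_pullback
    (f := W.ι ≫ pullback.snd f g₂) (g := pullback.snd γ₁ g₂) ⟨t, htW⟩ v3
    (by rw [hv3b]; exact hsndt)
  have hsndA : ∀ τ, pullback.snd f (pullback.fst γ₁ g₂ ≫ γ₁)
      (bcMap f γ₁ jA (pullback.fst γ₁ g₂) (pullback.fst γ₁ g₂ ≫ γ₁) rfl τ) =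
      pullback.snd (jA ≫ pullback.snd f γ₁) (pullback.fst γ₁ g₂) τ := fun τ =>
    congrArg (fun φ : pullback (jA ≫ pullback.snd f γ₁) (pullback.fst γ₁ g₂) ⟶ _ => φ τ)
      (bcMap_snd f γ₁ jA (pullback.fst γ₁ g₂) (pullback.fst γ₁ g₂ ≫ γ₁) rfl)
  have hsndB : ∀ τ, pullback.snd f (pullback.fst γ₁ g₂ ≫ γ₁)
      (bcMap f g₂ W.ι (pullback.snd γ₁ g₂) (pullback.fst γ₁ g₂ ≫ γ₁) hγ3 τ) =
      pullback.snd (W.ι ≫ pullback.snd f g₂) (pullback.snd γ₁ g₂) τ := fun τ =>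
    congrArg (fun φ : pullback (W.ι ≫ pullback.snd f g₂) (pullback.snd γ₁ g₂) ⟶ _ => φ τ)
      (bcMap_snd f g₂ W.ι (pullback.snd γ₁ g₂) (pullback.fst γ₁ g₂ ≫ γ₁) hγ3)
  have hA : ∀ τ, pullback.snd (jA ≫ pullback.snd f γ₁) (pullback.fst γ₁ g₂) τ = v3 →
      pullback.fst f (pullback.fst γ₁ g₂ ≫ γ₁)
        (bcMap f γ₁ jA (pullback.fst γ₁ g₂) (pullback.fst γ₁ g₂ ≫ γ₁) rfl τ) =
      pullback.fst f γ₁ (jA a₀) := by
    intro τ hτ
    have h1 : (jA ≫ pullback.snd f γ₁) (pullback.fst _ (pullback.fst γ₁ g₂) τ) = b₀ := by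
      have := congrArg (fun φ : pullback (jA ≫ pullback.snd f γ₁) (pullback.fst γ₁ g₂) ⟶ V₁ =>
        φ τ) (pullback.condition (f := jA ≫ pullback.snd f γ₁) (g := pullback.fst γ₁ g₂))
      refine this.trans ?_
      show pullback.fst γ₁ g₂ (pullback.snd _ (pullback.fst γ₁ g₂) τ) = b₀
      rw [hτ, hv3a]
    have h2 := huniq _ h1
    have h3 := congrArg (fun φ : pullback (jA ≫ pullback.snd f γ₁) (pullback.fst γ₁ g₂) ⟶ X =>
      φ τ) (bcMap_fst f γ₁ jA (pullback.fst γ₁ g₂) (pullback.fst γ₁ g₂ ≫ γ₁) rfl)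
    refine h3.trans ?_
    show pullback.fst f γ₁ (jA (pullback.fst _ (pullback.fst γ₁ g₂) τ)) = _
    rw [h2]
  have hB : ∀ τ, pullback.snd (W.ι ≫ pullback.snd f g₂) (pullback.snd γ₁ g₂) τ = v3 →
      pullback.fst f (pullback.fst γ₁ g₂ ≫ γ₁)
        (bcMap f g₂ W.ι (pullback.snd γ₁ g₂) (pullback.fst γ₁ g₂ ≫ γ₁) hγ3 τ) =
      pullback.fst f γ₁ (jA a₀) := by
    intro τ hτ
    have h1 : pullback.snd f g₂ (W.ι (pullback.fst _ (pullback.snd γ₁ g₂) τ)) = v₂ := by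
      have := congrArg (fun φ : pullback (W.ι ≫ pullback.snd f g₂) (pullback.snd γ₁ g₂) ⟶ V₂ =>
        φ τ) (pullback.condition (f := W.ι ≫ pullback.snd f g₂) (g := pullback.snd γ₁ g₂))
      refine this.trans ?_
      show pullback.snd γ₁ g₂ (pullback.snd _ (pullback.snd γ₁ g₂) τ) = v₂
      rw [hτ, hv3b]
    have h2 : W.ι (pullback.fst (W.ι ≫ pullback.snd f g₂) (pullback.snd γ₁ g₂) τ) = t :=
      htuniq _ (pullback.fst (W.ι ≫ pullback.snd f g₂) (pullback.snd γ₁ g₂) τ).2 h1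
    have h3 := congrArg (fun φ : pullback (W.ι ≫ pullback.snd f g₂) (pullback.snd γ₁ g₂) ⟶ X =>
      φ τ) (bcMap_fst f g₂ W.ι (pullback.snd γ₁ g₂) (pullback.fst γ₁ g₂ ≫ γ₁) hγ3)
    refine h3.trans ?_
    show pullback.fst f g₂ (W.ι (pullback.fst _ (pullback.snd γ₁ g₂) τ)) = _
    rw [h2, hfstt]
  have hρ : bcMap f γ₁ jA (pullback.fst γ₁ g₂) (pullback.fst γ₁ g₂ ≫ γ₁) rfl τA =
      bcMap f g₂ W.ι (pullback.snd γ₁ g₂) (pullback.fst γ₁ g₂ ≫ γ₁) hγ3 τB :=
    eq_of_fst_eq_of_snd_eq_of_sepDeg_eq_one f _ _ _ (by rw [hA τA hτA2, hB τB hτB2])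
      (by rw [hsndA, hsndB, hτA2, hτB2]) (by rw [hB τB hτB2]; exact hsd)
  have hfib : pullback.snd f (pullback.fst γ₁ g₂ ≫ γ₁) ⁻¹' {v3} ∩
      Set.range (bcMap f γ₁ jA (pullback.fst γ₁ g₂) (pullback.fst γ₁ g₂ ≫ γ₁) rfl) =
      pullback.snd f (pullback.fst γ₁ g₂ ≫ γ₁) ⁻¹' {v3} ∩
      Set.range (bcMap f g₂ W.ι (pullback.snd γ₁ g₂) (pullback.fst γ₁ g₂ ≫ γ₁) hγ3) := by
    ext ρ
    constructor
    · rintro ⟨hρ1, τ, rfl⟩
      have hτ : pullback.snd (jA ≫ pullback.snd f γ₁) (pullback.fst γ₁ g₂) τ = v3 := by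
        rw [← hsndA]; exact hρ1
      have : bcMap f γ₁ jA (pullback.fst γ₁ g₂) (pullback.fst γ₁ g₂ ≫ γ₁) rfl τ =
          bcMap f γ₁ jA (pullback.fst γ₁ g₂) (pullback.fst γ₁ g₂ ≫ γ₁) rfl τA :=
        eq_of_fst_eq_of_snd_eq_of_sepDeg_eq_one f _ _ _ (by rw [hA τ hτ, hA τA hτA2])
          (by rw [hsndA, hsndA, hτ, hτA2]) (by rw [hA τA hτA2]; exact hsd)
      exact ⟨hρ1, τB, by rw [this, hρ]⟩
    · rintro ⟨hρ1, τ, rfl⟩
      have hτ : pullback.snd (W.ι ≫ pullback.snd f g₂) (pullback.snd γ₁ g₂) τ = v3 := by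
        rw [← hsndB]; exact hρ1
      have : bcMap f g₂ W.ι (pullback.snd γ₁ g₂) (pullback.fst γ₁ g₂ ≫ γ₁) hγ3 τ =
          bcMap f g₂ W.ι (pullback.snd γ₁ g₂) (pullback.fst γ₁ g₂ ≫ γ₁) hγ3 τB :=
        eq_of_fst_eq_of_snd_eq_of_sepDeg_eq_one f _ _ _ (by rw [hB τ hτ, hB τB hτB2])
          (by rw [hsndB, hsndB, hτ, hτB2]) (by rw [hB τB hτB2]; exact hsd)
      exact ⟨hρ1, τA, by rw [this, hρ]⟩
  obtain ⟨N, hN, hv3N, hNfib⟩ := exists_nhds_fibre_eq _ _
    (pullback.snd f (pullback.fst γ₁ g₂ ≫ γ₁)) v3 hfib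
  have hGH : ∀ b ∈ N, MoreMor.fibreIntegral (jA ≫ pullback.snd f γ₁)
      (fun a => w (pullback.fst f γ₁ (jA a))) (pullback.fst γ₁ g₂ b) =
      MoreMor.fibreIntegral (W.ι ≫ pullback.snd f g₂)
        (fun a => w (pullback.fst f g₂ (W.ι a))) (pullback.snd γ₁ g₂ b) := by
    intro b hb
    rw [← hIA b, ← hIB b, hSA b, hSB b, fibreSum, fibreSum, hNfib b hb]
  have hN₂ : IsOpen {b : ↑(pullback γ₁ g₂) | MoreMor.fibreIntegral (W.ι ≫ pullback.snd f g₂)
      (fun a => w (pullback.fst f g₂ (W.ι a))) (pullback.snd γ₁ g₂ b) =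
      MoreMor.fibreIntegral (W.ι ≫ pullback.snd f g₂)
      (fun a => w (pullback.fst f g₂ (W.ι a))) (pullback.snd γ₁ g₂ v3)} :=
    (hH.isOpen_fiber _).preimage (pullback.snd γ₁ g₂).continuous
  have hloc : LocConstNear ((MoreMor.fibreIntegral (jA ≫ pullback.snd f γ₁)
      (fun a => w (pullback.fst f γ₁ (jA a)))) ∘ ⇑(pullback.fst γ₁ g₂)) v3 :=
    ⟨N ∩ _, hN.inter hN₂, ⟨hv3N, rfl⟩, fun b hb => by
      show MoreMor.fibreIntegral _ _ (pullback.fst γ₁ g₂ b) =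
        MoreMor.fibreIntegral _ _ (pullback.fst γ₁ g₂ v3)
      rw [hGH b hb.1, hGH v3 hv3N]
      exact hb.2⟩
  have := LocConstNear.of_comp_openMap _ (pullback.fst γ₁ g₂).isOpenMap _ v3 hloc
  rwa [hv3a] at this

/-- Case where all points of the fibre have separable degree one over their images. -/
theorem locConst_of_sepDeg_one (hw : MoreMor.IsWeighting f w) {V' A : Scheme.{u}} (γ : V' ⟶ Y)
    (jA : A ⟶ pullback f γ) [IsOpenImmersion jA] [IsFinite (jA ≫ pullback.snd f γ)] (v' : V')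
    (hpi : ∀ a : A, (jA ≫ pullback.snd f γ) a = v' →
      sepDegHom (f.residueFieldMap (pullback.fst f γ (jA a))).hom = 1) :
    LocConstNear (MoreMor.fibreIntegral (jA ≫ pullback.snd f γ)
      (fun a => w (pullback.fst f γ (jA a)))) v' := by
  classical
  have hΦ : ((jA ≫ pullback.snd f γ) ⁻¹' {v'}).Finite :=
    (jA ≫ pullback.snd f γ).finite_preimage_singleton v'
  haveI : Finite ↑((jA ≫ pullback.snd f γ) ⁻¹' {v'}) := hΦ
  let en := Finite.equivFin ↑((jA ≫ pullback.snd f γ) ⁻¹' {v'})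
  let x : Fin (Nat.card ↑((jA ≫ pullback.snd f γ) ⁻¹' {v'})) → A := fun i => (en.symm i).1
  have hx : ∀ i, (jA ≫ pullback.snd f γ) (x i) = v' := fun i => (en.symm i).2
  obtain ⟨V'₁, e, v'₁, he, hev, hres, Vk, ptk, hVk⟩ :=
    exists_common_etale_nbhd_sep (jA ≫ pullback.snd f γ) v' _ x hx
      (fun i => (jA ≫ pullback.snd f γ).quasiFiniteAt _)
  haveI := he
  -- notation-free: the base change map
  haveI hfk : ∀ k, IsFinite (((Vk k).ι ≫ bcMap f γ jA e (e ≫ γ) rfl) ≫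
      pullback.snd f (e ≫ γ)) := fun k => by
    rw [Category.assoc, bcMap_snd]; exact (hVk k).1.2.1
  haveI hfm : IsFinite (bcMap f γ jA e (e ≫ γ) rfl ≫ pullback.snd f (e ≫ γ)) := by
    rw [bcMap_snd]; infer_instance
  have hsndm : ∀ τ, pullback.snd f (e ≫ γ) (bcMap f γ jA e (e ≫ γ) rfl τ) =
      pullback.snd (jA ≫ pullback.snd f γ) e τ := fun τ =>
    congrArg (fun φ : pullback (jA ≫ pullback.snd f γ) e ⟶ _ => φ τ)
      (bcMap_snd f γ jA e (e ≫ γ) rfl)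
  have hfstm : ∀ τ, pullback.fst f (e ≫ γ) (bcMap f γ jA e (e ≫ γ) rfl τ) =
      pullback.fst f γ (jA (pullback.fst (jA ≫ pullback.snd f γ) e τ)) := fun τ =>
    congrArg (fun φ : pullback (jA ≫ pullback.snd f γ) e ⟶ X => φ τ)
      (bcMap_fst f γ jA e (e ≫ γ) rfl)
  -- each piece is locally constant near `v'₁`
  have hpiece : ∀ k, LocConstNear (MoreMor.fibreIntegral
      (((Vk k).ι ≫ bcMap f γ jA e (e ≫ γ) rfl) ≫ pullback.snd f (e ≫ γ))
      (fun a => w (pullback.fst f (e ≫ γ) (((Vk k).ι ≫ bcMap f γ jA e (e ≫ γ) rfl) a)))) v'₁ := by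
    intro k
    obtain ⟨hmem, -, hsnd, huniqk, hfst⟩ := (hVk k).1
    refine locConst_of_single_point f w hw (e ≫ γ) ((Vk k).ι ≫ bcMap f γ jA e (e ≫ γ) rfl) v'₁
      ⟨ptk k, hmem⟩ ?_ ?_ ?_
    · show pullback.snd f (e ≫ γ) (bcMap f γ jA e (e ≫ γ) rfl (ptk k)) = v'₁
      rw [hsndm, hsnd]
    · intro a ha
      have ha' : pullback.snd (jA ≫ pullback.snd f γ) e a.1 = v'₁ := by
        rw [← hsndm]; exact ha
      exact Subtype.ext (huniqk a.1 a.2 ha')
    · show sepDegHom (f.residueFieldMap (pullback.fst f (e ≫ γ)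
        (bcMap f γ jA e (e ≫ γ) rfl (ptk k)))).hom = 1
      rw [hfstm, hfst]
      exact hpi (x k) (hx k)
  choose Nk hNk_open hNk_mem hNk_const using hpiece
  -- the closed set to avoid
  have hσclosed : IsClosedMap (pullback.snd (jA ≫ pullback.snd f γ) e) :=
    (pullback.snd (jA ≫ pullback.snd f γ) e).isClosedMap
  have hC1 : IsClosed (pullback.snd (jA ≫ pullback.snd f γ) e ''
      (⋃ k, (Vk k : Set ↑(pullback (jA ≫ pullback.snd f γ) e)))ᶜ) :=
    hσclosed _ (isOpen_iUnion fun k => (Vk k).2).isClosed_compl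
  have hC2 : IsClosed (⋃ p : {p : Fin (Nat.card ↑((jA ≫ pullback.snd f γ) ⁻¹' {v'})) ×
      Fin (Nat.card ↑((jA ≫ pullback.snd f γ) ⁻¹' {v'})) // p.1 ≠ p.2},
      pullback.snd (jA ≫ pullback.snd f γ) e ''
        ((Vk p.1.1 : Set ↑(pullback (jA ≫ pullback.snd f γ) e)) ∩ Vk p.1.2)) :=
    isClosed_iUnion_of_finite fun p => hσclosed _ ((hVk p.1.1).2.inter (hVk p.1.2).2)
  -- every point over `v'₁` is one of the distinguished points
  have hpt : ∀ τ, pullback.snd (jA ≫ pullback.snd f γ) e τ = v'₁ → ∃ k, τ = ptk k := by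
    intro τ hτ
    have hfτ : (jA ≫ pullback.snd f γ) (pullback.fst (jA ≫ pullback.snd f γ) e τ) = v' := by
      have := congrArg (fun φ : pullback (jA ≫ pullback.snd f γ) e ⟶ V' => φ τ)
        (pullback.condition (f := jA ≫ pullback.snd f γ) (g := e))
      refine this.trans ?_
      show e (pullback.snd (jA ≫ pullback.snd f γ) e τ) = v'
      rw [hτ, hev]
    refine ⟨en ⟨_, hfτ⟩, ?_⟩
    have hxi : x (en ⟨_, hfτ⟩) = pullback.fst (jA ≫ pullback.snd f γ) e τ := by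
      show (en.symm (en ⟨_, hfτ⟩)).1 = _
      rw [Equiv.symm_apply_apply]
    obtain ⟨-, -, hsnd, -, hfst⟩ := (hVk (en ⟨_, hfτ⟩)).1
    apply eq_of_fst_eq_of_snd_eq
    · rw [hfst, hxi]
    · rw [hsnd, hτ]
    · rw [hsnd]; exact hres
  have hv1C1 : v'₁ ∉ pullback.snd (jA ≫ pullback.snd f γ) e ''
      (⋃ k, (Vk k : Set ↑(pullback (jA ≫ pullback.snd f γ) e)))ᶜ := by
    rintro ⟨τ, hτR, hτ⟩
    obtain ⟨k, rfl⟩ := hpt τ hτ
    exact hτR (Set.mem_iUnion.mpr ⟨k, (hVk k).1.1⟩)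
  have hv1C2 : v'₁ ∉ ⋃ p : {p : Fin (Nat.card ↑((jA ≫ pullback.snd f γ) ⁻¹' {v'})) ×
      Fin (Nat.card ↑((jA ≫ pullback.snd f γ) ⁻¹' {v'})) // p.1 ≠ p.2},
      pullback.snd (jA ≫ pullback.snd f γ) e ''
        ((Vk p.1.1 : Set ↑(pullback (jA ≫ pullback.snd f γ) e)) ∩ Vk p.1.2) := by
    rintro h
    obtain ⟨⟨⟨k, l⟩, hkl⟩, τ, ⟨hτk, hτl⟩, hτ⟩ := Set.mem_iUnion.mp h
    have e1 := (hVk k).1.2.2.2.1 τ hτk hτ
    have e2 := (hVk l).1.2.2.2.1 τ hτl hτ
    have e3 : x k = x l := by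
      rw [← (hVk k).1.2.2.2.2, ← (hVk l).1.2.2.2.2, ← e1, ← e2]
    apply hkl
    have : en.symm k = en.symm l := Subtype.ext e3
    exact en.symm.injective this
  -- additivity away from the closed set
  have hadd : ∀ b, b ∉ pullback.snd (jA ≫ pullback.snd f γ) e ''
        (⋃ k, (Vk k : Set ↑(pullback (jA ≫ pullback.snd f γ) e)))ᶜ →
      b ∉ (⋃ p : {p : Fin (Nat.card ↑((jA ≫ pullback.snd f γ) ⁻¹' {v'})) ×
        Fin (Nat.card ↑((jA ≫ pullback.snd f γ) ⁻¹' {v'})) // p.1 ≠ p.2},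
        pullback.snd (jA ≫ pullback.snd f γ) e ''
          ((Vk p.1.1 : Set ↑(pullback (jA ≫ pullback.snd f γ) e)) ∩ Vk p.1.2)) →
      MoreMor.fibreIntegral (bcMap f γ jA e (e ≫ γ) rfl ≫ pullback.snd f (e ≫ γ))
        (fun τ => w (pullback.fst f (e ≫ γ) (bcMap f γ jA e (e ≫ γ) rfl τ))) b =
      ∑ k, MoreMor.fibreIntegral
        (((Vk k).ι ≫ bcMap f γ jA e (e ≫ γ) rfl) ≫ pullback.snd f (e ≫ γ))
        (fun a => w (pullback.fst f (e ≫ γ) (((Vk k).ι ≫ bcMap f γ jA e (e ≫ γ) rfl) a))) b := by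
    intro b hb1 hb2
    have h0 : MoreMor.fibreIntegral (bcMap f γ jA e (e ≫ γ) rfl ≫ pullback.snd f (e ≫ γ))
        (fun τ => w (pullback.fst f (e ≫ γ) (bcMap f γ jA e (e ≫ γ) rfl τ))) b =
        fibreSum (pullback.snd f (e ≫ γ)) (fun p => w (pullback.fst f (e ≫ γ) p))
          (Set.range (bcMap f γ jA e (e ≫ γ) rfl)) b :=
      fibreIntegral_comp_openImmersion _ (pullback.snd f (e ≫ γ))
        (fun p => w (pullback.fst f (e ≫ γ) p)) b
    have hk : ∀ k, MoreMor.fibreIntegral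
        (((Vk k).ι ≫ bcMap f γ jA e (e ≫ γ) rfl) ≫ pullback.snd f (e ≫ γ))
        (fun a => w (pullback.fst f (e ≫ γ) (((Vk k).ι ≫ bcMap f γ jA e (e ≫ γ) rfl) a))) b =
        fibreSum (pullback.snd f (e ≫ γ)) (fun p => w (pullback.fst f (e ≫ γ) p))
          (Set.range ((Vk k).ι ≫ bcMap f γ jA e (e ≫ γ) rfl)) b := fun k =>
      fibreIntegral_comp_openImmersion _ (pullback.snd f (e ≫ γ))
        (fun p => w (pullback.fst f (e ≫ γ) p)) b
    rw [h0, Finset.sum_congr rfl (fun k _ => hk k)]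
    unfold fibreSum
    have hunion : pullback.snd f (e ≫ γ) ⁻¹' {b} ∩ Set.range (bcMap f γ jA e (e ≫ γ) rfl) =
        ⋃ k, (pullback.snd f (e ≫ γ) ⁻¹' {b} ∩
          Set.range ((Vk k).ι ≫ bcMap f γ jA e (e ≫ γ) rfl)) := by
      ext ρ
      constructor
      · rintro ⟨hρ, τ, rfl⟩
        have hτb : pullback.snd (jA ≫ pullback.snd f γ) e τ = b := by
          rw [← hsndm]; exact hρ
        have : τ ∈ ⋃ k, (Vk k : Set ↑(pullback (jA ≫ pullback.snd f γ) e)) := by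
          by_contra hτ
          exact hb1 ⟨τ, hτ, hτb⟩
        obtain ⟨k, hk⟩ := Set.mem_iUnion.mp this
        exact Set.mem_iUnion.mpr ⟨k, hρ, ⟨τ, hk⟩, rfl⟩
      · intro h
        obtain ⟨k, hρ, a, rfl⟩ := Set.mem_iUnion.mp h
        exact ⟨hρ, a.1, rfl⟩
    have hdisj : Pairwise (Function.onFun Disjoint fun k => (pullback.snd f (e ≫ γ) ⁻¹' {b} ∩
          Set.range ((Vk k).ι ≫ bcMap f γ jA e (e ≫ γ) rfl))) := by
      intro k l hkl
      rw [Function.onFun, Set.disjoint_left]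
      rintro ρ ⟨hρ, a, rfl⟩ ⟨-, a', ha'⟩
      have hinj := (bcMap f γ jA e (e ≫ γ) rfl).isOpenEmbedding.injective
      have haa' : a'.1 = a.1 := hinj ha'
      apply hb2
      refine Set.mem_iUnion.mpr ⟨⟨⟨k, l⟩, hkl⟩, a.1, ⟨a.2, ?_⟩, ?_⟩
      · rw [← haa']; exact a'.2
      · rw [← hsndm]; exact hρ
    rw [hunion, finsum_mem_iUnion hdisj
      (fun k => finite_fibre_inter_range _ (pullback.snd f (e ≫ γ)) b),
      finsum_eq_sum_of_fintype]
  -- conclusion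
  have hloc : LocConstNear ((MoreMor.fibreIntegral (jA ≫ pullback.snd f γ)
      (fun a => w (pullback.fst f γ (jA a)))) ∘ ⇑e) v'₁ := by
    refine ⟨((pullback.snd (jA ≫ pullback.snd f γ) e ''
        (⋃ k, (Vk k : Set ↑(pullback (jA ≫ pullback.snd f γ) e)))ᶜ)ᶜ ∩
      (⋃ p : {p : Fin (Nat.card ↑((jA ≫ pullback.snd f γ) ⁻¹' {v'})) ×
        Fin (Nat.card ↑((jA ≫ pullback.snd f γ) ⁻¹' {v'})) // p.1 ≠ p.2},
        pullback.snd (jA ≫ pullback.snd f γ) e ''
          ((Vk p.1.1 : Set ↑(pullback (jA ≫ pullback.snd f γ) e)) ∩ Vk p.1.2))ᶜ) ∩ ⋂ k, Nk k,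
      (hC1.isOpen_compl.inter hC2.isOpen_compl).inter (isOpen_iInter_of_finite hNk_open),
      ⟨⟨hv1C1, hv1C2⟩, Set.mem_iInter.mpr hNk_mem⟩, ?_⟩
    rintro b ⟨⟨hb1, hb2⟩, hb3⟩
    show MoreMor.fibreIntegral _ _ (e b) = MoreMor.fibreIntegral _ _ (e v'₁)
    rw [← fibreIntegral_bcMap f γ jA e (e ≫ γ) rfl w b,
      ← fibreIntegral_bcMap f γ jA e (e ≫ γ) rfl w v'₁, hadd b hb1 hb2, hadd v'₁ hv1C1 hv1C2]
    exact Finset.sum_congr rfl fun k _ => hNk_const k b (Set.mem_iInter.mp hb3 k)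
  have := LocConstNear.of_comp_openMap _ e.isOpenMap _ v'₁ hloc
  rwa [hev] at this

omit [LocallyQuasiFinite f] [LocallyOfFiniteType f] in
/-- The étale base change of a weighting is a weighting. -/
theorem isWeighting_snd_of_etale (hw : MoreMor.IsWeighting f w) (gV : V ⟶ Y) [Etale gV] :
    MoreMor.IsWeighting (pullback.snd f gV) (fun p => w (pullback.fst f gV p)) := by
  intro V₂ g₂ _ U hU
  have hpaste : IsPullback (pullback.fst (pullback.snd f gV) g₂ ≫ pullback.fst f gV)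
      (pullback.snd (pullback.snd f gV) g₂) f (g₂ ≫ gV) :=
    (IsPullback.of_hasPullback (pullback.snd f gV) g₂).paste_horiz (IsPullback.of_hasPullback f gV)
  have hj : (U.ι ≫ hpaste.isoPullback.hom) ≫ pullback.snd f (g₂ ≫ gV) =
      U.ι ≫ pullback.snd (pullback.snd f gV) g₂ := by
    rw [Category.assoc, IsPullback.isoPullback_hom_snd]
  have hfin : IsFinite ((U.ι ≫ hpaste.isoPullback.hom) ≫ pullback.snd f (g₂ ≫ gV)) := by
    rw [hj]; exact hU
  have key := locallyConstant_of_isWeighting f w hw (g₂ ≫ gV) (U.ι ≫ hpaste.isoPullback.hom) hfin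
  have hw' : (fun a => w (pullback.fst f (g₂ ≫ gV) ((U.ι ≫ hpaste.isoPullback.hom) a))) =
      fun u => w (pullback.fst f gV (pullback.fst (pullback.snd f gV) g₂ (U.ι u))) := by
    funext a
    have := congrArg (fun φ : pullback (pullback.snd f gV) g₂ ⟶ X => φ (U.ι a))
      hpaste.isoPullback_hom_fst
    exact congrArg w this
  rw [hw', hj] at key
  exact key

/-- **General local constancy**: for a weighting `w` of `f`, the fibre integrals over open parts,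
finite over the base, of an arbitrary base change of `f` are locally constant. -/
theorem locConst_general (hw : MoreMor.IsWeighting f w) {V' A : Scheme.{u}} (γ : V' ⟶ Y)
    (jA : A ⟶ pullback f γ) [IsOpenImmersion jA] [IsFinite (jA ≫ pullback.snd f γ)] (v' : V') :
    LocConstNear (MoreMor.fibreIntegral (jA ≫ pullback.snd f γ)
      (fun a => w (pullback.fst f γ (jA a)))) v' := by
  have hΦ : ((jA ≫ pullback.snd f γ) ⁻¹' {v'}).Finite :=
    (jA ≫ pullback.snd f γ).finite_preimage_singleton v'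
  have hFy : ∀ x ∈ (fun a => pullback.fst f γ (jA a)) '' ((jA ≫ pullback.snd f γ) ⁻¹' {v'}),
      f x = γ v' := by
    rintro _ ⟨a, ha, rfl⟩
    have := congrArg (fun φ : pullback f γ ⟶ Y => φ (jA a)) (pullback.condition (f := f) (g := γ))
    refine this.trans ?_
    show γ ((jA ≫ pullback.snd f γ) a) = γ v'
    rw [ha]
  obtain ⟨V, gV, v, hgV, hv, hPI⟩ := exists_etale_nbhd_sepDeg_eq_one f (γ v') _ (hΦ.image _) hFy
    (fun x _ => f.quasiFiniteAt x)
  haveI := hgV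
  obtain ⟨v'', hv''a, hv''b⟩ := Scheme.Pullback.exists_preimage_pullback (f := γ) (g := gV) v' v
    hv.symm
  have hw₁ := isWeighting_snd_of_etale f w hw gV
  have hpaste : IsPullback (pullback.fst (pullback.snd f gV) (pullback.snd γ gV) ≫
      pullback.fst f gV) (pullback.snd (pullback.snd f gV) (pullback.snd γ gV)) f
      (pullback.snd γ gV ≫ gV) :=
    (IsPullback.of_hasPullback (pullback.snd f gV) (pullback.snd γ gV)).paste_horiz
      (IsPullback.of_hasPullback f gV)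
  have hγ : pullback.fst γ gV ≫ γ = pullback.snd γ gV ≫ gV := pullback.condition
  -- the open part of `pullback (snd f gV) (snd γ gV)`
  have h1 : (bcMap f γ jA (pullback.fst γ gV) (pullback.snd γ gV ≫ gV) hγ ≫
      hpaste.isoPullback.inv) ≫ pullback.snd (pullback.snd f gV) (pullback.snd γ gV) =
      bcMap f γ jA (pullback.fst γ gV) (pullback.snd γ gV ≫ gV) hγ ≫
        pullback.snd f (pullback.snd γ gV ≫ gV) := by
    rw [Category.assoc, IsPullback.isoPullback_inv_snd]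
  have h1' : (bcMap f γ jA (pullback.fst γ gV) (pullback.snd γ gV ≫ gV) hγ ≫
      hpaste.isoPullback.inv) ≫ pullback.snd (pullback.snd f gV) (pullback.snd γ gV) =
      pullback.snd (jA ≫ pullback.snd f γ) (pullback.fst γ gV) := by
    rw [h1, bcMap_snd]
  haveI : IsFinite ((bcMap f γ jA (pullback.fst γ gV) (pullback.snd γ gV ≫ gV) hγ ≫
      hpaste.isoPullback.inv) ≫ pullback.snd (pullback.snd f gV) (pullback.snd γ gV)) := by
    rw [h1']; infer_instance
  have hfstj : ∀ τ, pullback.fst f gV (pullback.fst (pullback.snd f gV) (pullback.snd γ gV)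
      ((bcMap f γ jA (pullback.fst γ gV) (pullback.snd γ gV ≫ gV) hγ ≫
        hpaste.isoPullback.inv) τ)) =
      pullback.fst f γ (jA (pullback.fst (jA ≫ pullback.snd f γ) (pullback.fst γ gV) τ)) := by
    intro τ
    have e1 := congrArg (fun φ : pullback f (pullback.snd γ gV ≫ gV) ⟶ X =>
      φ (bcMap f γ jA (pullback.fst γ gV) (pullback.snd γ gV ≫ gV) hγ τ))
      hpaste.isoPullback_inv_fst
    have e2 := congrArg (fun φ : pullback (jA ≫ pullback.snd f γ) (pullback.fst γ gV) ⟶ X => φ τ)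
      (bcMap_fst f γ jA (pullback.fst γ gV) (pullback.snd γ gV ≫ gV) hγ)
    exact e1.trans e2
  have hsndj : ∀ τ, pullback.snd (pullback.snd f gV) (pullback.snd γ gV)
      ((bcMap f γ jA (pullback.fst γ gV) (pullback.snd γ gV ≫ gV) hγ ≫
        hpaste.isoPullback.inv) τ) =
      pullback.snd (jA ≫ pullback.snd f γ) (pullback.fst γ gV) τ := fun τ =>
    congrArg (fun φ : pullback (jA ≫ pullback.snd f γ) (pullback.fst γ gV) ⟶ _ => φ τ) h1'
  have hS1 := locConst_of_sepDeg_one (pullback.snd f gV) (fun p => w (pullback.fst f gV p)) hw₁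
    (pullback.snd γ gV)
    (bcMap f γ jA (pullback.fst γ gV) (pullback.snd γ gV ≫ gV) hγ ≫ hpaste.isoPullback.inv) v''
    (by
      intro τ hτ
      have hτ' : pullback.snd (jA ≫ pullback.snd f γ) (pullback.fst γ gV) τ = v'' := by
        rw [← hsndj]; exact hτ
      apply hPI
      · have := congrArg (fun φ : pullback (pullback.snd f gV) (pullback.snd γ gV) ⟶ V =>
          φ ((bcMap f γ jA (pullback.fst γ gV) (pullback.snd γ gV ≫ gV) hγ ≫
            hpaste.isoPullback.inv) τ))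
          (pullback.condition (f := pullback.snd f gV) (g := pullback.snd γ gV))
        refine this.trans ?_
        show pullback.snd γ gV (pullback.snd (pullback.snd f gV) (pullback.snd γ gV) _) = v
        rw [hsndj, hτ', hv''b]
      · rw [hfstj]
        refine ⟨pullback.fst (jA ≫ pullback.snd f γ) (pullback.fst γ gV) τ, ?_, rfl⟩
        have := congrArg (fun φ : pullback (jA ≫ pullback.snd f γ) (pullback.fst γ gV) ⟶ V' =>
          φ τ) (pullback.condition (f := jA ≫ pullback.snd f γ) (g := pullback.fst γ gV))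
        refine this.trans ?_
        show pullback.fst γ gV (pullback.snd (jA ≫ pullback.snd f γ) (pullback.fst γ gV) τ) = v'
        rw [hτ', hv''a])
  have hw' : (fun τ => w (pullback.fst f gV (pullback.fst (pullback.snd f gV) (pullback.snd γ gV)
      ((bcMap f γ jA (pullback.fst γ gV) (pullback.snd γ gV ≫ gV) hγ ≫
        hpaste.isoPullback.inv) τ)))) =
      fun τ => w (pullback.fst f (pullback.snd γ gV ≫ gV)
        (bcMap f γ jA (pullback.fst γ gV) (pullback.snd γ gV ≫ gV) hγ τ)) := by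
    funext τ
    have e1 := congrArg (fun φ : pullback f (pullback.snd γ gV ≫ gV) ⟶ X =>
      φ (bcMap f γ jA (pullback.fst γ gV) (pullback.snd γ gV ≫ gV) hγ τ))
      hpaste.isoPullback_inv_fst
    exact congrArg w e1
  rw [hw', h1] at hS1
  have hloc : LocConstNear ((MoreMor.fibreIntegral (jA ≫ pullback.snd f γ)
      (fun a => w (pullback.fst f γ (jA a)))) ∘ ⇑(pullback.fst γ gV)) v'' := by
    obtain ⟨N, hN, hvN, hc⟩ := hS1
    refine ⟨N, hN, hvN, fun b hb => ?_⟩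
    show MoreMor.fibreIntegral _ _ (pullback.fst γ gV b) =
      MoreMor.fibreIntegral _ _ (pullback.fst γ gV v'')
    rw [← fibreIntegral_bcMap f γ jA (pullback.fst γ gV) (pullback.snd γ gV ≫ gV) hγ w b,
      ← fibreIntegral_bcMap f γ jA (pullback.fst γ gV) (pullback.snd γ gV ≫ gV) hγ w v'']
    exact hc b hb
  have := LocConstNear.of_comp_openMap _ (pullback.fst γ gV).isOpenMap _ v'' hloc
  rwa [hv''a] at this

/-- **Base change of weightings** (Stacks 0F3B). -/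
theorem isWeighting_baseChange (hw : MoreMor.IsWeighting f w) {X' Y' : Scheme.{u}} (f' : X' ⟶ Y')
    (h : X' ⟶ X) (g : Y' ⟶ Y) (hc : IsPullback h f' f g) :
    MoreMor.IsWeighting f' (w ∘ ⇑h) := by
  intro V' g' _ U' hU'
  apply isLocallyConstant_of_locConstNear
  intro v'
  have hpaste : IsPullback (pullback.fst f' g' ≫ h) (pullback.snd f' g') f (g' ≫ g) :=
    (IsPullback.of_hasPullback f' g').paste_horiz hc
  have hj : (U'.ι ≫ hpaste.isoPullback.hom) ≫ pullback.snd f (g' ≫ g) =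
      U'.ι ≫ pullback.snd f' g' := by
    rw [Category.assoc, IsPullback.isoPullback_hom_snd]
  haveI : IsFinite ((U'.ι ≫ hpaste.isoPullback.hom) ≫ pullback.snd f (g' ≫ g)) := by
    rw [hj]; exact hU'
  have key := locConst_general f w hw (g' ≫ g) (U'.ι ≫ hpaste.isoPullback.hom) v'
  have hw' : (fun a => w (pullback.fst f (g' ≫ g) ((U'.ι ≫ hpaste.isoPullback.hom) a))) =
      fun u => (w ∘ ⇑h) (pullback.fst f' g' (U'.ι u)) := by
    funext a
    have := congrArg (fun φ : pullback f' g' ⟶ X => φ (U'.ι a)) hpaste.isoPullback_hom_fst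
    exact congrArg w this
  rw [hw', hj] at key
  exact key

end Core

end Groth.Agent.H7
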