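import Groth.Agent.H7.SecCard
import Groth.Agent.H7.WeightingBC
import Mathlib.AlgebraicGeometry.Morphisms.UniversallyInjective
import Mathlib.FieldTheory.PurelyInseparable.Basic
import Mathlib.FieldTheory.IsSepClosed

set_option autoImplicit false
set_option linter.style.haveILetI false
universe u

namespace Groth.Agent.H7

open AlgebraicGeometry CategoryTheory Limits IsLocalRing

variable {X Y : Scheme.{u}}

/-! ### Sections and points of fibre products with the spectrum of a field -/

/-- The point of the fibre product attached to a section. -/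
noncomputable def secToPt (f : X ⟶ Y) {Ω : Type u} [Field Ω] (ybar : Spec (.of Ω) ⟶ Y)
    (s : {s : Spec (.of Ω) ⟶ X // s ≫ f = ybar}) : ↑(pullback f ybar) :=
  (pullback.lift s.1 (𝟙 _) (by rw [s.2, Category.id_comp])) (closedPoint Ω)

theorem secToPt_injective (f : X ⟶ Y) {Ω : Type u} [Field Ω] (ybar : Spec (.of Ω) ⟶ Y) :
    Function.Injective (secToPt f ybar) := by
  intro s₁ s₂ hs
  apply Subtype.ext
  have hlift : ∀ s : {s : Spec (.of Ω) ⟶ X // s ≫ f = ybar}, s.1 ≫ f = 𝟙 _ ≫ ybar := fun s => by
    rw [s.2, Category.id_comp]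
  have h0 := section_ext_of_apply_eq (pullback.snd f ybar) (pullback.lift s₁.1 (𝟙 _) (hlift s₁))
    (pullback.lift s₂.1 (𝟙 _) (hlift s₂)) (pullback.lift_snd _ _ _) (pullback.lift_snd _ _ _) hs
  have e1 : pullback.lift s₁.1 (𝟙 _) (hlift s₁) ≫ pullback.fst f ybar = s₁.1 :=
    pullback.lift_fst _ _ _
  have e2 : pullback.lift s₂.1 (𝟙 _) (hlift s₂) ≫ pullback.fst f ybar = s₂.1 :=
    pullback.lift_fst _ _ _
  rw [← e1, ← e2, h0]

theorem secToPt_surjective (f : X ⟶ Y) [LocallyQuasiFinite f] {Ω : Type u} [Field Ω]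
    [IsAlgClosed Ω] (ybar : Spec (.of Ω) ⟶ Y) : Function.Surjective (secToPt f ybar) := by
  intro t
  have hι' : Spec.map (Scheme.descResidueField
      (Scheme.stalkClosedPointTo (𝟙 (Spec (CommRingCat.of Ω))))) ≫
      (Spec (CommRingCat.of Ω)).fromSpecResidueField
        ((𝟙 (Spec (CommRingCat.of Ω)) : Spec (CommRingCat.of Ω) ⟶ Spec (CommRingCat.of Ω))
          (closedPoint Ω)) = 𝟙 _ :=
    Scheme.descResidueField_stalkClosedPointTo_fromSpecResidueField Ω (Spec (CommRingCat.of Ω))
      (𝟙 _)
  haveI : Subsingleton ↥(Spec (CommRingCat.of Ω)) :=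
    inferInstanceAs (Subsingleton (PrimeSpectrum Ω))
  have hres : ∀ x, pullback.snd f ybar x =
      ((𝟙 (Spec (CommRingCat.of Ω)) : Spec (CommRingCat.of Ω) ⟶ Spec (CommRingCat.of Ω))
        (closedPoint Ω)) → ((pullback.snd f ybar).residueFieldMap x).hom.Finite :=
    fun x _ => finite_residueFieldMap _ x ((pullback.snd f ybar).quasiFiniteAt x)
  obtain ⟨⟨σ, hσ⟩, hσt⟩ := geomPtsToFibre_surjective (Ω := Ω) (pullback.snd f ybar)
    ((𝟙 (Spec (CommRingCat.of Ω)) : Spec (CommRingCat.of Ω) ⟶ Spec (CommRingCat.of Ω))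
      (closedPoint Ω))
    (Scheme.descResidueField (Scheme.stalkClosedPointTo (𝟙 (Spec (CommRingCat.of Ω))))) hres
    ⟨t, Subsingleton.elim _ _⟩
  have hσt' : σ (closedPoint Ω) = t := congrArg Subtype.val hσt
  have hσq : σ ≫ pullback.snd f ybar = 𝟙 _ := hσ.trans hι'
  have hsec : (σ ≫ pullback.fst f ybar) ≫ f = ybar := by
    rw [Category.assoc, pullback.condition, ← Category.assoc, hσq, Category.id_comp]
  refine ⟨⟨σ ≫ pullback.fst f ybar, hsec⟩, ?_⟩
  have hlift : pullback.lift (σ ≫ pullback.fst f ybar) (𝟙 _)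
      (by rw [hsec, Category.id_comp]) = σ := by
    apply pullback.hom_ext
    · rw [pullback.lift_fst]
    · rw [pullback.lift_snd, hσq]
  show (pullback.lift (σ ≫ pullback.fst f ybar) (𝟙 _) _) (closedPoint Ω) = t
  rw [hlift]
  exact hσt'

/-! ### Purely inseparable extensions of the base field -/

theorem universallyInjective_SpecMap_of_isPurelyInseparable (S A : Type u) [Field S] [Field A]
    [Algebra S A] [IsPurelyInseparable S A] :
    UniversallyInjective (Spec.map (CommRingCat.ofHom (algebraMap S A))) := by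
  refine ((tfae_universallyInjective
    (f := Spec.map (CommRingCat.ofHom (algebraMap S A)))).out 0 1).mpr ?_
  intro K _ g₁ g₂ hg
  obtain ⟨φ₁, rfl⟩ := Spec.map_surjective g₁
  obtain ⟨φ₂, rfl⟩ := Spec.map_surjective g₂
  have hg' : Spec.map φ₁ ≫ Spec.map (CommRingCat.ofHom (algebraMap S A)) =
      Spec.map φ₂ ≫ Spec.map (CommRingCat.ofHom (algebraMap S A)) := hg
  rw [← Spec.map_comp, ← Spec.map_comp] at hg'
  have h1 := Spec.map_injective hg'
  have h2 : φ₁.hom.comp (algebraMap S A) = φ₂.hom.comp (algebraMap S A) :=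
    congrArg CommRingCat.Hom.hom h1
  have h3 := IsPurelyInseparable.injective_comp_algebraMap S A K h2
  congr 1
  exact CommRingCat.hom_ext h3

theorem bijective_pbMap_of_isPurelyInseparable (f : X ⟶ Y) (S A : Type u) [Field S] [Field A]
    [Algebra S A] [IsPurelyInseparable S A] (ybar : Spec (.of S) ⟶ Y) :
    Function.Bijective (pbMap f ybar (Spec.map (CommRingCat.ofHom (algebraMap S A)))
      (Spec.map (CommRingCat.ofHom (algebraMap S A)) ≫ ybar) rfl) := by
  have hsq := isPullback_pbMap f ybar (Spec.map (CommRingCat.ofHom (algebraMap S A)))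
    (Spec.map (CommRingCat.ofHom (algebraMap S A)) ≫ ybar) rfl
  haveI := universallyInjective_SpecMap_of_isPurelyInseparable S A
  haveI : Surjective (Spec.map (CommRingCat.ofHom (algebraMap S A))) := ⟨fun p => by
    haveI : Subsingleton ↥(Spec (CommRingCat.of S)) :=
      inferInstanceAs (Subsingleton (PrimeSpectrum S))
    exact ⟨closedPoint A, Subsingleton.elim _ _⟩⟩
  haveI h1 : UniversallyInjective (pbMap f ybar (Spec.map (CommRingCat.ofHom (algebraMap S A)))
      (Spec.map (CommRingCat.ofHom (algebraMap S A)) ≫ ybar) rfl) :=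
    MorphismProperty.of_isPullback (P := @UniversallyInjective) hsq.flip inferInstance
  haveI h2 : Surjective (pbMap f ybar (Spec.map (CommRingCat.ofHom (algebraMap S A)))
      (Spec.map (CommRingCat.ofHom (algebraMap S A)) ≫ ybar) rfl) :=
    MorphismProperty.of_isPullback (P := @Surjective) hsq.flip inferInstance
  exact ⟨Scheme.Hom.injective _, Scheme.Hom.surjective _⟩

/-! ### The number of geometric points of a fibre -/

/-- The number of points of the fibre product with an algebraically closed field is the fibre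
integral of the constant function `1`. -/
theorem card_pullback_eq_fibreIntegral_one (f : X ⟶ Y) [LocallyQuasiFinite f] (y : Y)
    (hfib : (f ⁻¹' {y}).Finite) {Ω : Type u} [Field Ω] [IsAlgClosed Ω]
    (ι : Y.residueField y ⟶ .of Ω) :
    ENat.card ↑(pullback f (Spec.map ι ≫ Y.fromSpecResidueField y)) =
      ((MoreMor.fibreIntegral f (fun _ => 1) y).toNat : ℕ∞) := by
  classical
  have hres : ∀ x, f x = y → (f.residueFieldMap x).hom.Finite :=
    fun x _ => finite_residueFieldMap f x (f.quasiFiniteAt x)
  obtain ⟨hS, hI⟩ := fibreIntegral_eq_finsum_geomPts f (fun _ => 1) y ι hfib hres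
  haveI := Fintype.ofFinite
    {s : Spec (.of Ω) ⟶ X // s ≫ f = Spec.map ι ≫ Y.fromSpecResidueField y}
  have e := Equiv.ofBijective _
    ⟨secToPt_injective f (Spec.map ι ≫ Y.fromSpecResidueField y),
      secToPt_surjective f (Spec.map ι ≫ Y.fromSpecResidueField y)⟩
  rw [← ENat.card_congr e, ENat.card_eq_coe_fintype_card, hI, finsum_eq_sum_of_fintype]
  simp

/-- **The geometric number of points of a fibre of a locally quasi-finite morphism** is the fibre
integral of the constant function `1`. -/
theorem nGeomConnComp_eq_fibreIntegral_one (f : X ⟶ Y) [LocallyQuasiFinite f] (y : Y)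
    (hfib : (f ⁻¹' {y}).Finite) :
    MoreMor.nGeomConnComp f y = ((MoreMor.fibreIntegral f (fun _ => 1) y).toNat : ℕ∞) := by
  rw [nGeomConnComp_eq_card, ENat.card_congr (Scheme.homeoOfIso (geomFiberIso f y)).toEquiv]
  have hbij := bijective_pbMap_of_isPurelyInseparable f (SeparableClosure (Y.residueField y))
    (AlgebraicClosure (SeparableClosure (Y.residueField y)))
    (Spec.map (CommRingCat.ofHom (algebraMap (Y.residueField y)
      (SeparableClosure (Y.residueField y)))) ≫ Y.fromSpecResidueField y)
  rw [← ENat.card_congr (Equiv.ofBijective _ hbij)]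
  have hcomp : Spec.map (CommRingCat.ofHom (algebraMap (SeparableClosure (Y.residueField y))
      (AlgebraicClosure (SeparableClosure (Y.residueField y))))) ≫
      Spec.map (CommRingCat.ofHom (algebraMap (Y.residueField y)
        (SeparableClosure (Y.residueField y)))) ≫ Y.fromSpecResidueField y =
      Spec.map (CommRingCat.ofHom ((algebraMap (SeparableClosure (Y.residueField y))
        (AlgebraicClosure (SeparableClosure (Y.residueField y)))).comp
        (algebraMap (Y.residueField y) (SeparableClosure (Y.residueField y))))) ≫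
      Y.fromSpecResidueField y := by
    rw [← Category.assoc, ← Spec.map_comp]
    rfl
  rw [hcomp]
  exact card_pullback_eq_fibreIntegral_one f y hfib _

theorem fibreIntegral_one_nonneg (f : X ⟶ Y) (y : Y) :
    0 ≤ MoreMor.fibreIntegral f (fun _ => 1) y := by
  rw [fibreIntegral_eq_finsum_mem]
  exact finsum_mem_nonneg' _ _ fun a _ => fibreTerm_nonneg f _ a zero_le_one

end Groth.Agent.H7
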