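import Mathlib
import Groth.Agent.H7.GeomCount

/-!
# Counting the points of a fibre over a non-closed field (helper7)

If every geometric point of `X` over `Spec Ω ⟶ Spec K₀ ⟶ T ⟶ Y` descends to `K₀`, the number of
points of `X ×_Y T` over the image of `Spec K₀ ⟶ T` (a monomorphism) is the geometric number of
points of the fibre.
-/

set_option autoImplicit false
set_option linter.style.haveILetI false
universe u

namespace Groth.Agent.H7

open AlgebraicGeometry CategoryTheory Limits IsLocalRing

variable {X Y : Scheme.{u}}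

/-- The number of points of the fibre product with any geometric point. -/
theorem card_pullback_eq_nGeomConnComp (f : X ⟶ Y) [LocallyQuasiFinite f]
    (hfin : ∀ z : Y, (f ⁻¹' {z}).Finite) {Ω : Type u} [Field Ω] [IsAlgClosed Ω]
    (ybar : Spec (.of Ω) ⟶ Y) :
    ENat.card ↑(pullback f ybar) = MoreMor.nGeomConnComp f (ybar (closedPoint Ω)) := by
  rw [nGeomConnComp_eq_fibreIntegral_one f _ (hfin _)]
  have h := card_pullback_eq_fibreIntegral_one f (ybar (closedPoint Ω)) (hfin _)
    (Scheme.descResidueField (Scheme.stalkClosedPointTo ybar))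
  rw [Scheme.descResidueField_stalkClosedPointTo_fromSpecResidueField] at h
  exact h

set_option backward.isDefEq.respectTransparency false in
theorem card_preimage_eq_nGeomConnComp (f : X ⟶ Y) [LocallyQuasiFinite f]
    (hfin : ∀ z : Y, (f ⁻¹' {z}).Finite) {T : Scheme.{u}} (g : T ⟶ Y) {Ω K₀ : Type u}
    [Field Ω] [IsAlgClosed Ω] [Field K₀] (b : Spec (.of Ω) ⟶ Spec (.of K₀))
    (c : Spec (.of K₀) ⟶ T) [Mono c]
    (hdesc : ∀ s : Spec (.of Ω) ⟶ X, s ≫ f = b ≫ c ≫ g →
      ∃ σ : Spec (.of K₀) ⟶ X, σ ≫ f = c ≫ g ∧ s = b ≫ σ) :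
    ENat.card ↑((pullback.snd f g) ⁻¹' {c (closedPoint K₀)}) =
      MoreMor.nGeomConnComp f (g (c (closedPoint K₀))) := by
  haveI : Subsingleton ↥(Spec (CommRingCat.of K₀)) :=
    inferInstanceAs (Subsingleton (PrimeSpectrum K₀))
  haveI : Subsingleton ↥(Spec (CommRingCat.of Ω)) :=
    inferInstanceAs (Subsingleton (PrimeSpectrum Ω))
  obtain ⟨ybar, hybar⟩ : ∃ ybar : Spec (.of Ω) ⟶ Y, ybar = b ≫ c ≫ g := ⟨_, rfl⟩
  have hpt : ybar (closedPoint Ω) = g (c (closedPoint K₀)) := by
    rw [hybar]
    simp only [Scheme.Hom.comp_apply]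
    rw [Subsingleton.elim (b (closedPoint Ω)) (closedPoint K₀)]
  have hcard := card_pullback_eq_nGeomConnComp f hfin ybar
  rw [hpt] at hcard
  rw [← hcard]
  have hbc : (b ≫ c) ≫ g = ybar := by rw [hybar, Category.assoc]
  have hsq := isPullback_pbMap f g (b ≫ c) ybar hbc
  apply le_antisymm
  · -- surjection from the geometric fibre
    have hsurj : ∀ u : ↑((pullback.snd f g) ⁻¹' {c (closedPoint K₀)}),
        ∃ z : ↑(pullback f ybar), pbMap f g (b ≫ c) ybar hbc z = u.1 := by
      intro u
      have hu : (pullback.snd f g) u.1 = (b ≫ c) (closedPoint Ω) := by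
        rw [Scheme.Hom.comp_apply, Subsingleton.elim (b (closedPoint Ω)) (closedPoint K₀)]
        exact u.2
      obtain ⟨z, hz1, -⟩ := Scheme.exists_preimage_of_isPullback hsq u.1 (closedPoint Ω) hu
      exact ⟨z, hz1⟩
    choose φ hφ using hsurj
    apply ENat.card_le_card_of_injective (f := φ)
    intro u₁ u₂ h
    apply Subtype.ext
    rw [← hφ u₁, ← hφ u₂, h]
  · -- injection from the sections
    have hmono : Mono (pbMap f g c (c ≫ g) rfl) :=
      (isPullback_pbMap f g c (c ≫ g) rfl).mono_fst_of_mono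
    have hinj : Function.Injective (pbMap f g c (c ≫ g) rfl) := Scheme.Hom.injective _
    choose σ hσ1 hσ2 using hdesc
    -- the map on sections
    let Φ : {s : Spec (.of Ω) ⟶ X // s ≫ f = ybar} →
        ↑((pullback.snd f g) ⁻¹' {c (closedPoint K₀)}) := fun s =>
      ⟨pbMap f g c (c ≫ g) rfl
        (secToPt f (c ≫ g) ⟨σ s.1 (s.2.trans hybar), hσ1 s.1 (s.2.trans hybar)⟩), by
        show (pullback.snd f g) _ = _
        rw [← Scheme.Hom.comp_apply, pbMap_snd, Scheme.Hom.comp_apply]
        exact congrArg (fun t => c t) (Subsingleton.elim _ _)⟩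
    have hΦ : Function.Injective Φ := by
      intro s₁ s₂ h
      have h1 := congrArg Subtype.val h
      have h2 := secToPt_injective f (c ≫ g) (hinj h1)
      have h3 : σ s₁.1 (s₁.2.trans hybar) = σ s₂.1 (s₂.2.trans hybar) := congrArg Subtype.val h2
      apply Subtype.ext
      rw [hσ2 s₁.1 (s₁.2.trans hybar), hσ2 s₂.1 (s₂.2.trans hybar), h3]
    have e := Equiv.ofBijective _ ⟨secToPt_injective f ybar, secToPt_surjective f ybar⟩
    rw [← ENat.card_congr e]
    exact ENat.card_le_card_of_injective hΦ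

end Groth.Agent.H7
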