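import Mathlib
import Groth.Agent.H7.GeomCountField
import Groth.Agent.H7.CompleteDVRFinite
import Groth.Agent.H7.CompleteDVRCriterion
import Groth.Agent.H73.DVRSpec

/-!
# A discrete valuation ring realizing the geometric numbers of points of two fibres
(EGA IV 15.5.x) (helper7)
-/

set_option autoImplicit false
set_option linter.style.haveILetI false
universe u

namespace Groth.Agent.H7

open AlgebraicGeometry CategoryTheory TopologicalSpace IsLocalRing Limits

set_option backward.isDefEq.respectTransparency false in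
theorem exists_dvr_realizing_nGeomPoints {X Y : Scheme.{u}} [IsLocallyNoetherian Y] (f : X ⟶ Y)
    [IsSeparated f] [LocallyQuasiFinite f] [LocallyOfFiniteType f] [QuasiCompact f] (y y' : Y)
    (hne : y' ≠ y) (hgen : y' ⤳ y) :
    ∃ (A : Type u) (_ : CommRing A) (_ : IsDomain A) (_ : IsDiscreteValuationRing A)
      (g : Spec (CommRingCat.of A) ⟶ Y),
      g.base (IsLocalRing.closedPoint A) = y ∧
      g.base (genericPoint (Spec (CommRingCat.of A))) = y' ∧
      MoreMor.nGeomConnComp f y =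
        ENat.card ↥((pullback.snd f g).fiber (IsLocalRing.closedPoint A)) ∧
      MoreMor.nGeomConnComp f y' =
        ENat.card ↥((pullback.snd f g).fiber (genericPoint (Spec (CommRingCat.of A)))) := by
  have hfin : ∀ z : Y, (f ⁻¹' {z}).Finite := fun z => f.finite_preimage_singleton z
  -- Step 1: a discrete valuation ring through the specialization
  obtain ⟨A₁, _, _, hA₁dvr, g₁, hg₁cl, hg₁gen⟩ : ∃ (A₁ : Type u) (_ : CommRing A₁)
      (_ : IsDomain A₁) (_ : IsDiscreteValuationRing A₁) (g₁ : Spec (CommRingCat.of A₁) ⟶ Y),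
      g₁ (closedPoint A₁) = y ∧ ∀ t : Spec (CommRingCat.of A₁), t.asIdeal = ⊥ → g₁ t = y' := by
    obtain ⟨A, hA, hDVR, hcl, hcomp⟩ := Groth.Agent.H73.KA.exists_dvr_through_specialization
      (𝟙 Y) y' y hgen (Ne.symm hne)
    haveI := hDVR
    refine ⟨A, inferInstance, inferInstance, hDVR, hA, hcl, ?_⟩
    intro t ht
    have hbot : (Spec.map (CommRingCat.ofHom A.subtype)
        (closedPoint (Y.residueField y'))).asIdeal = ⊥ := by
      ext a
      show (A.subtype a) ∈ IsLocalRing.maximalIdeal _ ↔ a ∈ (⊥ : Ideal A)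
      rw [IsLocalRing.maximalIdeal_eq_bot, Ideal.mem_bot, Ideal.mem_bot]
      exact ⟨fun h => Subtype.ext h, fun h => by rw [h]; rfl⟩
    have ht' : t = Spec.map (CommRingCat.ofHom A.subtype) (closedPoint (Y.residueField y')) :=
      PrimeSpectrum.ext (ht.trans hbot.symm)
    rw [ht', ← Scheme.Hom.comp_apply, hcomp, Category.comp_id]
    exact Scheme.fromSpecResidueField_apply y' _
  haveI := hA₁dvr
  -- Step 2: enlarge to a complete DVR with algebraically closed residue field
  obtain ⟨π, hπirr⟩ := IsDiscreteValuationRing.exists_irreducible A₁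
  have hπnz : ∀ z : A₁, π * z = 0 → z = 0 :=
    fun z hz => (mul_eq_zero.mp hz).resolve_left hπirr.ne_zero
  have hπmem : π ∈ maximalIdeal A₁ := by
    rw [hπirr.maximalIdeal_eq]
    exact Ideal.subset_span rfl
  have hAK : ∀ a ∈ maximalIdeal A₁,
      algebraMap A₁ (AlgebraicClosure (ResidueField A₁)) a = 0 := by
    intro a ha
    rw [IsScalarTower.algebraMap_apply A₁ (ResidueField A₁) (AlgebraicClosure (ResidueField A₁)),
      IsLocalRing.ResidueField.algebraMap_eq, (residue_eq_zero_iff a).mpr ha, map_zero]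
  obtain ⟨Λ, _, _, _, hΛdvr, hΛc, hΛmax, -, e, -⟩ :=
    Groth.Agent.H25.CohenDVR.exists_complete_dvr π hπnz hπirr.maximalIdeal_eq
      (AlgebraicClosure (ResidueField A₁)) hAK
  haveI := hΛdvr
  haveI := hΛc
  haveI : IsAlgClosed (ResidueField Λ) :=
    IsAlgClosed.of_ringEquiv (AlgebraicClosure (ResidueField A₁)) (ResidueField Λ) e.symm
  have hloc₁ : ∀ a ∈ maximalIdeal A₁, algebraMap A₁ Λ a ∈ maximalIdeal Λ := by
    intro a ha
    rw [hπirr.maximalIdeal_eq, Ideal.mem_span_singleton] at ha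
    obtain ⟨c, rfl⟩ := ha
    rw [hΛmax, map_mul]
    exact Ideal.mul_mem_right _ _ (Ideal.subset_span rfl)
  have hπΛ : algebraMap A₁ Λ π ≠ 0 := by
    intro h0
    have h1 : maximalIdeal Λ = ⊥ := by
      rw [hΛmax, h0]
      exact Ideal.span_singleton_eq_bot.mpr rfl
    exact IsDiscreteValuationRing.not_isField Λ (IsLocalRing.isField_iff_maximalIdeal_eq.mpr h1)
  obtain ⟨gΛ, hgΛ⟩ : ∃ gΛ : Spec (CommRingCat.of Λ) ⟶ Y,
      gΛ = Spec.map (CommRingCat.ofHom (algebraMap A₁ Λ)) ≫ g₁ := ⟨_, rfl⟩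
  have hgΛcl : gΛ (closedPoint Λ) = y := by
    rw [hgΛ, Scheme.Hom.comp_apply]
    have e1 : Spec.map (CommRingCat.ofHom (algebraMap A₁ Λ)) (closedPoint Λ) = closedPoint A₁ := by
      apply PrimeSpectrum.ext
      show Ideal.comap (algebraMap A₁ Λ) (maximalIdeal Λ) = maximalIdeal A₁
      have h1 : maximalIdeal A₁ ≤ Ideal.comap (algebraMap A₁ Λ) (maximalIdeal Λ) :=
        fun a ha => hloc₁ a ha
      exact ((maximalIdeal.isMaximal A₁).eq_of_le
        (Ideal.comap_ne_top _ (maximalIdeal.isMaximal Λ).ne_top) h1).symm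
    rw [e1]
    exact hg₁cl
  have hgΛgen : ∀ t : Spec (CommRingCat.of Λ), t.asIdeal = ⊥ → gΛ t = y' := by
    intro t ht
    rw [hgΛ, Scheme.Hom.comp_apply]
    apply hg₁gen
    apply asIdeal_eq_bot_of_ne_closedPoint
    intro hcontra
    have e0 := congrArg PrimeSpectrum.asIdeal hcontra
    have e1 : π ∈ (closedPoint A₁).asIdeal := hπmem
    rw [← e0] at e1
    have e2 : algebraMap A₁ Λ π ∈ t.asIdeal := e1
    rw [ht, Ideal.mem_bot] at e2
    exact hπΛ e2
  -- Step 3: geometric points over the generic point and a finite extension splitting them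
  obtain ⟨ybar, hybar⟩ : ∃ ybar : Spec (.of (AlgebraicClosure (FractionRing Λ))) ⟶ Y,
      ybar = Spec.map (CommRingCat.ofHom
        (algebraMap Λ (AlgebraicClosure (FractionRing Λ)))) ≫ gΛ := ⟨_, rfl⟩
  have hfinP : Finite ↑(pullback f ybar) := by
    have h := card_pullback_eq_nGeomConnComp f hfin ybar
    rw [nGeomConnComp_eq_fibreIntegral_one f _ (hfin _)] at h
    apply ENat.card_lt_top.mp
    rw [h]
    exact ENat.natCast_lt_top _
  haveI : Finite {s : Spec (.of (AlgebraicClosure (FractionRing Λ))) ⟶ X // s ≫ f = ybar} :=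
    Finite.of_injective _ (secToPt_injective f ybar)
  have hD : ∀ s : {s : Spec (.of (AlgebraicClosure (FractionRing Λ))) ⟶ X // s ≫ f = ybar},
      ∃ L : IntermediateField (FractionRing Λ) (AlgebraicClosure (FractionRing Λ)),
      FiniteDimensional (FractionRing Λ) L ∧
      ∀ L' : IntermediateField (FractionRing Λ) (AlgebraicClosure (FractionRing Λ)), L ≤ L' →
        ∃ σ : Spec (.of ↥L') ⟶ X, s.1 = Spec.map (CommRingCat.ofHom
          (algebraMap ↥L' (AlgebraicClosure (FractionRing Λ)))) ≫ σ :=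
    fun s => exists_finite_descent f gΛ s.1 (s.2.trans hybar)
  choose L hLfin hLdesc using hD
  haveI : ∀ s, FiniteDimensional (FractionRing Λ) (L s) := hLfin
  obtain ⟨K', hK'⟩ : ∃ K' : IntermediateField (FractionRing Λ)
      (AlgebraicClosure (FractionRing Λ)), K' = ⨆ s, L s := ⟨_, rfl⟩
  haveI : FiniteDimensional (FractionRing Λ) K' := by
    rw [hK']
    infer_instance
  have hdescK : ∀ s : Spec (.of (AlgebraicClosure (FractionRing Λ))) ⟶ X, s ≫ f = ybar →
      ∃ σ : Spec (.of ↥K') ⟶ X, s = Spec.map (CommRingCat.ofHom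
        (algebraMap ↥K' (AlgebraicClosure (FractionRing Λ)))) ≫ σ :=
    fun s hs => hLdesc ⟨s, hs⟩ K' (by rw [hK']; exact le_iSup L ⟨s, hs⟩)
  -- Step 4: the integral closure of `Λ` in `K'`
  obtain ⟨hVdvr, hValg, hVfrac, hVinj, hVloc⟩ := integralClosure_dvr_of_complete Λ ↥K'
  haveI := hVdvr
  haveI := hValg
  haveI := hVfrac
  haveI := hVloc
  obtain ⟨g, hg⟩ : ∃ g : Spec (CommRingCat.of ↥(integralClosure Λ ↥K')) ⟶ Y,
      g = Spec.map (CommRingCat.ofHom (algebraMap Λ ↥(integralClosure Λ ↥K'))) ≫ gΛ := ⟨_, rfl⟩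
  obtain ⟨c, hc⟩ : ∃ c : Spec (.of ↥K') ⟶ Spec (CommRingCat.of ↥(integralClosure Λ ↥K')),
      c = Spec.map (CommRingCat.ofHom (algebraMap ↥(integralClosure Λ ↥K') ↥K')) := ⟨_, rfl⟩
  obtain ⟨b, hb⟩ : ∃ b : Spec (.of (AlgebraicClosure (FractionRing Λ))) ⟶ Spec (.of ↥K'),
      b = Spec.map (CommRingCat.ofHom
        (algebraMap ↥K' (AlgebraicClosure (FractionRing Λ)))) := ⟨_, rfl⟩
  haveI : IsPreimmersion c := by
    rw [hc]
    exact IsPreimmersion.of_isLocalization (nonZeroDivisors ↥(integralClosure Λ ↥K'))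
  haveI : Mono c := inferInstance
  have hbcg : b ≫ c ≫ g = ybar := by
    rw [hb, hc, hg, hybar, ← Category.assoc, ← Category.assoc, ← Spec.map_comp,
      ← Spec.map_comp]
    rfl
  haveI : Subsingleton ↥(Spec (CommRingCat.of ↥K')) :=
    inferInstanceAs (Subsingleton (PrimeSpectrum ↥K'))
  haveI : Epi b := by
    haveI : Flat b := by
      rw [hb, Flat.SpecMap_iff]
      show RingHom.Flat (algebraMap ↥K' (AlgebraicClosure (FractionRing Λ)))
      rw [RingHom.flat_algebraMap_iff]
      infer_instance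
    haveI : Surjective b := ⟨fun p => ⟨closedPoint _, Subsingleton.elim _ _⟩⟩
    exact Flat.epi_of_flat_of_surjective b
  have hdesc : ∀ s : Spec (.of (AlgebraicClosure (FractionRing Λ))) ⟶ X, s ≫ f = b ≫ c ≫ g →
      ∃ σ : Spec (.of ↥K') ⟶ X, σ ≫ f = c ≫ g ∧ s = b ≫ σ := by
    intro s hs
    obtain ⟨σ, hσ⟩ := hdescK s (hs.trans hbcg)
    rw [← hb] at hσ
    refine ⟨σ, ?_, hσ⟩
    rw [← cancel_epi b, ← Category.assoc, ← hσ, hs]
  have hgen_count := card_preimage_eq_nGeomConnComp f hfin g b c hdesc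
  have hcgen : c (closedPoint ↥K') =
      genericPoint (Spec (CommRingCat.of ↥(integralClosure Λ ↥K'))) := by
    rw [genericPoint_eq_bot_of_affine]
    apply PrimeSpectrum.ext
    rw [hc]
    show Ideal.comap (algebraMap ↥(integralClosure Λ ↥K') ↥K') (maximalIdeal ↥K') = ⊥
    rw [IsLocalRing.maximalIdeal_eq_bot, ← RingHom.ker_eq_comap_bot,
      (RingHom.injective_iff_ker_eq_bot _).mp (IsFractionRing.injective _ _)]
  -- the closed point
  obtain ⟨c₀, hc₀def⟩ : ∃ c₀ : Spec (.of (ResidueField ↥(integralClosure Λ ↥K'))) ⟶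
      Spec (CommRingCat.of ↥(integralClosure Λ ↥K')),
      c₀ = Spec.map (CommRingCat.ofHom (residue ↥(integralClosure Λ ↥K'))) := ⟨_, rfl⟩
  haveI : IsClosedImmersion c₀ := by
    rw [hc₀def]
    exact IsClosedImmersion.spec_of_surjective _ residue_surjective
  haveI : Mono c₀ := inferInstance
  have hcl_count := card_preimage_eq_nGeomConnComp f hfin g
    (𝟙 (Spec (.of (ResidueField ↥(integralClosure Λ ↥K'))))) c₀
    (fun s hs => ⟨s, by rw [hs, Category.id_comp], (Category.id_comp s).symm⟩)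
  have hc₀ : c₀ (closedPoint (ResidueField ↥(integralClosure Λ ↥K'))) =
      closedPoint ↥(integralClosure Λ ↥K') := by
    rw [hc₀def]
    exact IsLocalRing.comap_closedPoint (residue ↥(integralClosure Λ ↥K'))
  have hgcl : g (closedPoint ↥(integralClosure Λ ↥K')) = y := by
    rw [hg, Scheme.Hom.comp_apply]
    have e1 : Spec.map (CommRingCat.ofHom (algebraMap Λ ↥(integralClosure Λ ↥K')))
        (closedPoint ↥(integralClosure Λ ↥K')) = closedPoint Λ :=
      IsLocalRing.comap_closedPoint (algebraMap Λ ↥(integralClosure Λ ↥K'))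
    rw [e1]
    exact hgΛcl
  have hggen : g (genericPoint (Spec (CommRingCat.of ↥(integralClosure Λ ↥K')))) = y' := by
    rw [hg, Scheme.Hom.comp_apply]
    apply hgΛgen
    rw [genericPoint_eq_bot_of_affine]
    show Ideal.comap (algebraMap Λ ↥(integralClosure Λ ↥K')) ⊥ = ⊥
    rw [← RingHom.ker_eq_comap_bot, (RingHom.injective_iff_ker_eq_bot _).mp hVinj]
  refine ⟨↥(integralClosure Λ ↥K'), inferInstance, inferInstance, hVdvr, g, hgcl, hggen, ?_, ?_⟩
  · rw [← hgcl, ENat.card_congr ((pullback.snd f g).fiberHomeo _).toEquiv, ← hc₀]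
    exact hcl_count.symm
  · rw [← hggen, ENat.card_congr ((pullback.snd f g).fiberHomeo _).toEquiv, ← hcgen]
    exact hgen_count.symm

end Groth.Agent.H7
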