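import Groth.Agent.H7.SecCard
import Mathlib.RingTheory.Kaehler.Basic
import Mathlib.AlgebraicGeometry.Morphisms.Separated
import Mathlib.AlgebraicGeometry.Morphisms.FiniteType

set_option autoImplicit false
set_option linter.style.haveILetI false
universe u

namespace Groth.Agent.H7

open AlgebraicGeometry CategoryTheory Limits IsLocalRing TensorProduct

/-! ### The complement of the diagonal is quasi-compact -/

set_option backward.isDefEq.respectTransparency false in
theorem isCompact_compl_range_diagonal_Spec (R S : Type u) [CommRing R] [CommRing S] [Algebra R S]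
    [Algebra.FiniteType R S] :
    IsCompact (Set.range (pullback.diagonal (Spec.map (CommRingCat.ofHom (algebraMap R S)))))ᶜ := by
  let μ : CommRingCat.of (S ⊗[R] S) ⟶ CommRingCat.of S :=
    CommRingCat.ofHom (Algebra.TensorProduct.lmul' R : S ⊗[R] S →ₐ[R] S).toRingHom
  have hsurj : Function.Surjective μ.hom := fun s => ⟨s ⊗ₜ 1, by simp [μ]⟩
  have h1 : Set.range (Spec.map μ) = PrimeSpectrum.zeroLocus (RingHom.ker μ.hom) :=
    _root_.range_comap_of_surjective _ _ hsurj
  have h2 : IsCompact (Set.range (Spec.map μ))ᶜ := by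
    rw [h1]
    exact (PrimeSpectrum.isCompact_isOpen_iff_ideal.mpr
      ⟨KaehlerDifferential.ideal R S, KaehlerDifferential.ideal_fg R S, rfl⟩).1
  have h3 : Set.range (pullback.diagonal (Spec.map (CommRingCat.ofHom (algebraMap R S)))) =
      (pullbackSpecIso R S S).hom ⁻¹' (Set.range (Spec.map μ)) := by
    rw [AlgebraicGeometry.diagonal_SpecMap R S]
    ext z
    constructor
    · rintro ⟨p, rfl⟩
      refine ⟨p, ?_⟩
      have := congrArg (fun φ : Spec (CommRingCat.of S) ⟶ Spec (.of (S ⊗[R] S)) => φ p)
        (show (Spec.map μ ≫ (pullbackSpecIso R S S).inv) ≫ (pullbackSpecIso R S S).hom =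
          Spec.map μ by rw [Category.assoc, Iso.inv_hom_id, Category.comp_id])
      exact this.symm
    · rintro ⟨p, hp⟩
      refine ⟨p, ?_⟩
      have h4 : (pullbackSpecIso R S S).inv ((pullbackSpecIso R S S).hom z) = z := by
        have := congrArg (fun φ : pullback (Spec.map (CommRingCat.ofHom (algebraMap R S)))
            (Spec.map (CommRingCat.ofHom (algebraMap R S))) ⟶ _ => φ z)
          (pullbackSpecIso R S S).hom_inv_id
        exact this
      rw [← h4, ← hp]
      rfl
  rw [h3, ← Set.preimage_compl]
  exact (Scheme.homeoOfIso (pullbackSpecIso R S S)).isCompact_preimage.mpr h2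

theorem isCompact_compl_range_diagonal_of_iso {U V U' V' : Scheme.{u}} (π : U ⟶ V) (π' : U' ⟶ V')
    (a : U ⟶ U') (b : V ⟶ V') [IsIso a] [IsIso b] (hab : π ≫ b = a ≫ π')
    (h : IsCompact (Set.range (pullback.diagonal π'))ᶜ) :
    IsCompact (Set.range (pullback.diagonal π))ᶜ := by
  let θ : pullback π π ⟶ pullback π' π' := pullback.map π π π' π' a a b hab hab
  haveI : IsIso θ := by dsimp only [θ]; infer_instance
  have hθ : pullback.diagonal π ≫ θ = a ≫ pullback.diagonal π' := by
    have h1 : θ ≫ pullback.fst π' π' = pullback.fst π π ≫ a := pullback.lift_fst _ _ _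
    have h2 : θ ≫ pullback.snd π' π' = pullback.snd π π ≫ a := pullback.lift_snd _ _ _
    apply pullback.hom_ext
    · rw [Category.assoc, h1, ← Category.assoc, pullback.diagonal_fst, Category.id_comp,
        Category.assoc, pullback.diagonal_fst, Category.comp_id]
    · rw [Category.assoc, h2, ← Category.assoc, pullback.diagonal_snd, Category.id_comp,
        Category.assoc, pullback.diagonal_snd, Category.comp_id]
  have hrange : Set.range (pullback.diagonal π) = θ ⁻¹' (Set.range (pullback.diagonal π')) := by
    ext z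
    constructor
    · rintro ⟨p, rfl⟩
      refine ⟨a p, ?_⟩
      have := congrArg (fun φ : U ⟶ pullback π' π' => φ p) hθ
      exact this.symm
    · rintro ⟨p', hp'⟩
      obtain ⟨p, rfl⟩ := a.homeomorph.surjective p'
      refine ⟨p, ?_⟩
      apply θ.homeomorph.injective
      have := congrArg (fun φ : U ⟶ pullback π' π' => φ p) hθ
      exact this.trans hp'
  rw [hrange, ← Set.preimage_compl]
  exact θ.homeomorph.isCompact_preimage.mpr h

/-- For a morphism of finite type between affine schemes, the complement of the diagonal is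
quasi-compact. -/
theorem isCompact_compl_range_diagonal {U V : Scheme.{u}} (π : U ⟶ V) [IsAffine U] [IsAffine V]
    [LocallyOfFiniteType π] : IsCompact (Set.range (pullback.diagonal π))ᶜ := by
  have hft : π.appTop.hom.FiniteType :=
    (HasRingHomProperty.iff_of_isAffine (P := @LocallyOfFiniteType)).mp inferInstance
  letI := π.appTop.hom.toAlgebra
  haveI : Algebra.FiniteType Γ(V, ⊤) Γ(U, ⊤) := hft
  have key := isCompact_compl_range_diagonal_Spec Γ(V, ⊤) Γ(U, ⊤)
  exact isCompact_compl_range_diagonal_of_iso π
    (Spec.map (CommRingCat.ofHom (algebraMap Γ(V, ⊤) Γ(U, ⊤)))) U.isoSpec.hom V.isoSpec.hom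
    (Scheme.isoSpec_hom_naturality π).symm key

/-! ### Sections have separable degree one -/

theorem sepDegHom_id (K : Type u) [Field K] : sepDegHom (RingHom.id K) = 1 := by
  unfold sepDegHom
  exact Field.finSepDegree_self K

theorem bijective_residueFieldMap_of_eq_id {U : Scheme.{u}} (c : U ⟶ U) (hc : c = 𝟙 U) (p : U) :
    Function.Bijective (c.residueFieldMap p).hom := by
  subst hc
  exact ConcreteCategory.bijective_of_isIso ((𝟙 U : U ⟶ U).residueFieldMap p)

theorem sepDegHom_section_eq_one {T U : Scheme.{u}} (p : T ⟶ U) (Δ : U ⟶ T) (hΔ : Δ ≫ p = 𝟙 U)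
    (x : U) : sepDegHom (p.residueFieldMap (Δ x)).hom = 1 := by
  have hcomp : ((Δ ≫ p).residueFieldMap x).hom =
      (Δ.residueFieldMap x).hom.comp (p.residueFieldMap (Δ x)).hom := by
    rw [Scheme.residueFieldMap_comp]
    rfl
  have hbij := bijective_residueFieldMap_of_eq_id (Δ ≫ p) hΔ x
  rw [hcomp] at hbij
  have hinjΔ : Function.Injective (Δ.residueFieldMap x).hom := (Δ.residueFieldMap x).hom.injective
  have hsurj : Function.Surjective (p.residueFieldMap (Δ x)).hom := by
    intro l
    obtain ⟨k, hk⟩ := hbij.2 ((Δ.residueFieldMap x).hom l)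
    exact ⟨k, hinjΔ hk⟩
  have hbijp : Function.Bijective (p.residueFieldMap (Δ x)).hom :=
    ⟨(p.residueFieldMap (Δ x)).hom.injective, hsurj⟩
  rw [sepDegHom_eq_of_equiv (p.residueFieldMap (Δ x)).hom (RingHom.id _) (RingEquiv.refl _)
    (RingEquiv.ofBijective _ hbijp).symm
    (fun a => (RingEquiv.ofBijective _ hbijp).symm_apply_apply a)]
  exact sepDegHom_id _

/-! ### The fibre integral of the base change to itself -/

theorem fibreIntegral_diag_formula {U V : Scheme.{u}} (π : U ⟶ V) [LocallyQuasiFinite π]
    (W : (pullback π π).Opens)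
    (hW : (W : Set ↑(pullback π π)) = (Set.range (pullback.diagonal π))ᶜ)
    (w : U → ℤ) (x : U) (hfib : (π ⁻¹' {π x}).Finite) :
    MoreMor.fibreIntegral π w (π x) = w x +
      MoreMor.fibreIntegral (W.ι ≫ pullback.fst π π)
        (fun z => w (pullback.snd π π (W.ι z))) x := by
  have hc : IsPullback (pullback.snd π π) (pullback.fst π π) π π :=
    (IsPullback.of_hasPullback π π).flip
  obtain ⟨hfib', hI⟩ :=
    fibreIntegral_baseChange π (pullback.fst π π) (pullback.snd π π) π hc w x hfib
  have hfstΔ : ∀ p : U, pullback.fst π π (pullback.diagonal π p) = p := fun p => by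
    rw [← Scheme.Hom.comp_apply, pullback.diagonal_fst]
    rfl
  have hsndΔ : ∀ p : U, pullback.snd π π (pullback.diagonal π p) = p := fun p => by
    rw [← Scheme.Hom.comp_apply, pullback.diagonal_snd]
    rfl
  have hset : (pullback.fst π π) ⁻¹' {x} \ (W : Set ↑(pullback π π)) =
      {pullback.diagonal π x} := by
    ext z
    constructor
    · rintro ⟨hz1, hz2⟩
      rw [hW, Set.mem_compl_iff, not_not] at hz2
      obtain ⟨p, rfl⟩ := hz2
      have hz1' : pullback.fst π π (pullback.diagonal π p) = x := hz1
      rw [hfstΔ] at hz1'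
      rw [hz1']
      rfl
    · intro hz
      have hz' : z = pullback.diagonal π x := hz
      subst hz'
      refine ⟨hfstΔ x, ?_⟩
      rw [hW]
      exact fun h => h ⟨x, rfl⟩
  have hopen := fibreIntegral_opens_ι (pullback.fst π π) W (w ∘ ⇑(pullback.snd π π)) x
  have hterm : fibreTerm (pullback.fst π π) (w ∘ ⇑(pullback.snd π π)) (pullback.diagonal π x) =
      w x := by
    unfold fibreTerm
    rw [sepDegHom_section_eq_one (pullback.fst π π) (pullback.diagonal π)
      (pullback.diagonal_fst π) x]
    simp only [Function.comp_apply, Nat.cast_one, mul_one]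
    rw [hsndΔ]
  rw [← hI, fibreIntegral_eq_finsum_mem,
    ← finsum_mem_inter_add_sdiff (W : Set ↑(pullback π π)) hfib', hset, finsum_mem_singleton,
    hterm, add_comm]
  congr 1
  exact hopen.symm

end Groth.Agent.H7
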