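import Mathlib
import Groth.Agent.S3447

set_option autoImplicit false
set_option linter.style.haveILetI false
universe u

namespace Groth.Agent.H7

open IsLocalRing

set_option backward.isDefEq.respectTransparency false in
/-- Variant of `ringKrullDim_quotient_succ_le_of_nonZeroDivisor` for an element avoiding all
minimal primes. -/
theorem ringKrullDim_quotient_succ_le_of_notMem_minimalPrimes {R : Type*} [CommRing R] {r : R}
    (hr : ∀ p ∈ minimalPrimes R, r ∉ p) :
    ringKrullDim (R ⧸ Ideal.span {r}) + 1 ≤ ringKrullDim R := by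
  by_cases hr' : Ideal.span {r} = ⊤
  · rw [hr', ringKrullDim_eq_bot_of_subsingleton]
    simp
  have : Nonempty (PrimeSpectrum.zeroLocus (R := R) (Ideal.span {r})) := by
    rwa [Set.nonempty_coe_sort, Set.nonempty_iff_ne_empty, ne_eq,
      PrimeSpectrum.zeroLocus_empty_iff_eq_top]
  have := Ideal.Quotient.nontrivial_iff.mpr hr'
  have := (Ideal.Quotient.mk (Ideal.span {r})).domain_nontrivial
  rw [ringKrullDim_quotient, Order.krullDim_eq_iSup_length, ringKrullDim,
    Order.krullDim_eq_iSup_length, ← WithBot.coe_one, ← WithBot.coe_add,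
    ENat.iSup_add, WithBot.coe_le_coe, iSup_le_iff]
  intro l
  obtain ⟨p, hp, hp'⟩ := Ideal.exists_minimalPrimes_le (J := l.head.1.asIdeal) bot_le
  let p' : PrimeSpectrum R := ⟨p, hp.1.1⟩
  have hp' : p' < l.head := lt_of_le_of_ne hp' fun h ↦ hr p hp
    (show r ∈ p by simpa [← h] using l.head.2)
  refine le_trans ?_ (le_iSup _ ((l.map Subtype.val (fun _ _ ↦ id)).cons p' hp'))
  simp

/-- The induced map on quotients by an element and its image. -/
noncomputable def quotSpanMap {A C : Type*} [CommRing A] [CommRing C] (φ : A →+* C) (a : A) :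
    A ⧸ Ideal.span {a} →+* C ⧸ Ideal.span {φ a} :=
  Ideal.quotientMap (Ideal.span {φ a}) φ (by
    rw [Ideal.span_singleton_le_iff_mem, Ideal.mem_comap]
    exact Ideal.mem_span_singleton_self _)

theorem quotSpanMap_mk {A C : Type*} [CommRing A] [CommRing C] (φ : A →+* C) (a x : A) :
    quotSpanMap φ a (Ideal.Quotient.mk _ x) = Ideal.Quotient.mk _ (φ x) :=
  Ideal.quotientMap_mk

theorem quotSpanMap_comp_mk {A C : Type*} [CommRing A] [CommRing C] (φ : A →+* C) (a : A) :
    (quotSpanMap φ a).comp (Ideal.Quotient.mk (Ideal.span {a})) =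
      (Ideal.Quotient.mk (Ideal.span {φ a})).comp φ :=
  RingHom.ext fun x => quotSpanMap_mk φ a x

theorem comap_quotSpanMap_surjective {A C : Type*} [CommRing A] [CommRing C] (φ : A →+* C)
    (hsurj : Function.Surjective (PrimeSpectrum.comap φ)) (a : A) :
    Function.Surjective (PrimeSpectrum.comap (quotSpanMap φ a)) := by
  intro p₁
  obtain ⟨P, hP⟩ := hsurj (PrimeSpectrum.comap (Ideal.Quotient.mk (Ideal.span {a})) p₁)
  have hP' : P.asIdeal.comap φ = p₁.asIdeal.comap (Ideal.Quotient.mk (Ideal.span {a})) :=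
    congrArg PrimeSpectrum.asIdeal hP
  have haP : φ a ∈ P.asIdeal := by
    have h1 : a ∈ P.asIdeal.comap φ := by
      rw [hP', Ideal.mem_comap]
      have h2 : Ideal.Quotient.mk (Ideal.span {a}) a = 0 :=
        Ideal.Quotient.eq_zero_iff_mem.mpr (Ideal.mem_span_singleton_self a)
      rw [h2]
      exact p₁.asIdeal.zero_mem
    exact h1
  have hJP : Ideal.span {φ a} ≤ P.asIdeal := (Ideal.span_singleton_le_iff_mem _).mpr haP
  haveI := P.isPrime
  refine ⟨⟨P.asIdeal.map (Ideal.Quotient.mk (Ideal.span {φ a})),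
    Ideal.isPrime_map_quotientMk_of_isPrime hJP⟩, ?_⟩
  apply PrimeSpectrum.ext
  apply Ideal.comap_injective_of_surjective (Ideal.Quotient.mk (Ideal.span {a}))
    Ideal.Quotient.mk_surjective
  show Ideal.comap (Ideal.Quotient.mk (Ideal.span {a})) (Ideal.comap (quotSpanMap φ a)
    (P.asIdeal.map (Ideal.Quotient.mk (Ideal.span {φ a})))) = _
  rw [Ideal.comap_comap, quotSpanMap_comp_mk, ← Ideal.comap_comap,
    Ideal.comap_map_of_surjective _ Ideal.Quotient.mk_surjective, ← RingHom.ker_eq_comap_bot,
    Ideal.mk_ker, sup_eq_left.mpr hJP, hP']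

theorem isLocalRing_quot_span {A : Type*} [CommRing A] [IsLocalRing A] (a : A)
    (ha : a ∈ maximalIdeal A) : IsLocalRing (A ⧸ Ideal.span {a}) := by
  haveI : Nontrivial (A ⧸ Ideal.span {a}) := Ideal.Quotient.nontrivial_iff.mpr (fun h => by
    have h1 : Ideal.span {a} ≤ maximalIdeal A := (Ideal.span_singleton_le_iff_mem _).mpr ha
    exact (maximalIdeal.isMaximal A).ne_top (top_le_iff.mp (h ▸ h1)))
  exact IsLocalRing.of_surjective' (Ideal.Quotient.mk _) Ideal.Quotient.mk_surjective

section

variable {A C : Type u} [CommRing A] [CommRing C] [IsLocalRing A] [IsLocalRing C]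

theorem map_maximalIdeal_le_of_surjective_comap (φ : A →+* C)
    (hsurj : Function.Surjective (PrimeSpectrum.comap φ)) :
    (maximalIdeal A).map φ ≤ maximalIdeal C := by
  obtain ⟨P, hP⟩ := hsurj (closedPoint A)
  have h1 : P.asIdeal.comap φ = maximalIdeal A := congrArg PrimeSpectrum.asIdeal hP
  exact (Ideal.map_le_iff_le_comap.mpr h1.ge).trans (le_maximalIdeal P.isPrime.ne_top)

theorem ringKrullDim_le_zero_or_exists_avoid [IsNoetherianRing C] (φ : A →+* C)
    (hsurj : Function.Surjective (PrimeSpectrum.comap φ))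
    (hprim : ∀ Q : Ideal C, Q.IsPrime → (maximalIdeal A).map φ ≤ Q → Q = maximalIdeal C) :
    ringKrullDim A ≤ 0 ∨ ∃ a ∈ maximalIdeal A, ∀ Q ∈ minimalPrimes C, φ a ∉ Q := by
  classical
  by_cases hcase : ∃ Q ∈ minimalPrimes C, maximalIdeal A ≤ Q.comap φ
  · left
    obtain ⟨Q, hQ, hle⟩ := hcase
    have hQm : Q = maximalIdeal C := hprim Q hQ.1.1 (Ideal.map_le_iff_le_comap.mpr hle)
    have hall : ∀ P : PrimeSpectrum C, P.asIdeal = maximalIdeal C := by
      intro P
      have h1 : P.asIdeal ≤ Q := hQm ▸ le_maximalIdeal P.isPrime.ne_top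
      exact (le_antisymm h1 (hQ.2 ⟨P.isPrime, bot_le⟩ h1)).trans hQm
    haveI : Subsingleton (PrimeSpectrum A) := by
      refine ⟨fun p p' => ?_⟩
      obtain ⟨P, rfl⟩ := hsurj p
      obtain ⟨P', rfl⟩ := hsurj p'
      have h2 : P = P' := PrimeSpectrum.ext ((hall P).trans (hall P').symm)
      rw [h2]
    exact Order.krullDim_nonpos_of_subsingleton
  · right
    push Not at hcase
    have hfin : (minimalPrimes C).Finite := minimalPrimes.finite_of_isNoetherianRing C
    have hnot : ¬ ((maximalIdeal A : Set A) ⊆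
        ⋃ Q ∈ (↑hfin.toFinset : Set (Ideal C)), ((Q.comap φ : Ideal A) : Set A)) := by
      intro hsub
      obtain ⟨Q, hQ, hle⟩ := (Ideal.subset_union_prime (s := hfin.toFinset)
        (f := fun Q : Ideal C => Q.comap φ) ⊤ ⊤ (fun Q hQ _ _ => by
          have hQ' : Q ∈ minimalPrimes C := hfin.mem_toFinset.mp hQ
          haveI := hQ'.1.1
          exact Ideal.comap_isPrime φ Q)).mp hsub
      exact hcase Q (hfin.mem_toFinset.mp hQ) hle
    obtain ⟨a, ha, hau⟩ := Set.not_subset.mp hnot
    refine ⟨a, ha, fun Q hQ hmem => hau ?_⟩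
    exact Set.mem_iUnion₂.mpr ⟨Q, Finset.mem_coe.mpr (hfin.mem_toFinset.mpr hQ), hmem⟩

end

/-- A local homomorphism of Noetherian local rings which is surjective on spectra and has
zero-dimensional closed fibre does not lower the dimension. -/
theorem ringKrullDim_le_of_surjective_comap_aux (d : ℕ) :
    ∀ (A C : Type u) [CommRing A] [CommRing C] [IsLocalRing A] [IsLocalRing C]
      [IsNoetherianRing A] [IsNoetherianRing C] (φ : A →+* C),
      Function.Surjective (PrimeSpectrum.comap φ) →
      (∀ Q : Ideal C, Q.IsPrime → (maximalIdeal A).map φ ≤ Q → Q = maximalIdeal C) →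
      ringKrullDim C < (d : WithBot ℕ∞) → ringKrullDim A ≤ ringKrullDim C := by
  induction d with
  | zero =>
    intro A C _ _ _ _ _ _ φ _ _ hd
    exfalso
    exact absurd (lt_of_le_of_lt ringKrullDim_nonneg_of_nontrivial hd) (by simp)
  | succ d ih =>
    intro A C _ _ _ _ _ _ φ hsurj hprim hd
    rcases ringKrullDim_le_zero_or_exists_avoid φ hsurj hprim with h0 | ⟨a, ha, hav⟩
    · exact h0.trans ringKrullDim_nonneg_of_nontrivial
    · have hφa : φ a ∈ maximalIdeal C :=
        map_maximalIdeal_le_of_surjective_comap φ hsurj (Ideal.mem_map_of_mem φ ha)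
      haveI : IsLocalRing (A ⧸ Ideal.span {a}) := isLocalRing_quot_span a ha
      haveI : IsLocalRing (C ⧸ Ideal.span {φ a}) := isLocalRing_quot_span (φ a) hφa
      have hsurj₁ : Function.Surjective (PrimeSpectrum.comap (quotSpanMap φ a)) :=
        comap_quotSpanMap_surjective φ hsurj a
      have hprim₁ : ∀ Q₁ : Ideal (C ⧸ Ideal.span {φ a}), Q₁.IsPrime →
          (maximalIdeal (A ⧸ Ideal.span {a})).map (quotSpanMap φ a) ≤ Q₁ →
          Q₁ = maximalIdeal (C ⧸ Ideal.span {φ a}) := by
        intro Q₁ hQ₁ hle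
        haveI : IsLocalHom (Ideal.Quotient.mk (Ideal.span {a})) :=
          IsLocalHom.of_surjective _ Ideal.Quotient.mk_surjective
        have hQ : Q₁.comap (Ideal.Quotient.mk (Ideal.span {φ a})) = maximalIdeal C := by
          apply hprim _ (Ideal.comap_isPrime _ Q₁)
          rw [Ideal.map_le_iff_le_comap]
          intro x hx
          rw [Ideal.mem_comap, Ideal.mem_comap]
          have h1 : Ideal.Quotient.mk (Ideal.span {a}) x ∈ maximalIdeal (A ⧸ Ideal.span {a}) :=
            map_nonunit _ x hx
          have h2 := hle (Ideal.mem_map_of_mem (quotSpanMap φ a) h1)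
          rwa [quotSpanMap_mk] at h2
        refine le_antisymm (le_maximalIdeal hQ₁.ne_top) ?_
        intro y hy
        obtain ⟨c, rfl⟩ := Ideal.Quotient.mk_surjective y
        have hc : c ∈ maximalIdeal C := by
          by_contra hc
          have hcu : IsUnit c := by
            rwa [mem_maximalIdeal, mem_nonunits_iff, not_not] at hc
          exact ((mem_maximalIdeal _).mp hy) (hcu.map _)
        rw [← hQ] at hc
        exact hc
      have h1 := ringKrullDim_quotient_succ_le_of_notMem_minimalPrimes (r := φ a) hav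
      have h2 : ringKrullDim (C ⧸ Ideal.span {φ a}) < (d : WithBot ℕ∞) := by
        by_contra hcon
        rw [not_lt] at hcon
        have h3 : (d : WithBot ℕ∞) + 1 ≤ ringKrullDim C :=
          (add_le_add_left hcon 1).trans h1
        have h4 := h3.trans_lt hd
        push_cast at h4
        exact lt_irrefl _ h4
      have h3 := ih (A ⧸ Ideal.span {a}) (C ⧸ Ideal.span {φ a}) (quotSpanMap φ a) hsurj₁ hprim₁ h2
      have h4 : ringKrullDim A ≤ ringKrullDim (A ⧸ Ideal.span {a}) + 1 := by
        have h5 := ringKrullDim_le_ringKrullDim_quotient_add_encard ({a} : Set A) (by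
          rw [IsLocalRing.ringJacobson_eq_maximalIdeal]
          exact Set.singleton_subset_iff.mpr ha)
        simpa using h5
      exact h4.trans ((add_le_add_left h3 1).trans h1)

theorem ringKrullDim_le_of_surjective_comap {A C : Type u} [CommRing A] [CommRing C]
    [IsLocalRing A] [IsLocalRing C] [IsNoetherianRing A] [IsNoetherianRing C] (φ : A →+* C)
    (hsurj : Function.Surjective (PrimeSpectrum.comap φ))
    (hprim : ∀ Q : Ideal C, Q.IsPrime → (maximalIdeal A).map φ ≤ Q → Q = maximalIdeal C) :
    ringKrullDim A ≤ ringKrullDim C := by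
  obtain ⟨n, hn⟩ : ∃ n : ℕ, ringKrullDim C < (n : WithBot ℕ∞) := by
    have hfin : ringKrullDim C < ⊤ := ringKrullDim_lt_top
    obtain ⟨c, hc⟩ := WithBot.ne_bot_iff_exists.mp
      (bot_lt_iff_ne_bot.mp (lt_of_lt_of_le (WithBot.bot_lt_coe (0 : ℕ∞))
        (ringKrullDim_nonneg_of_nontrivial (R := C))))
    rw [← hc] at hfin ⊢
    have hc' : c ≠ ⊤ := by
      rintro rfl
      exact lt_irrefl _ hfin
    obtain ⟨m, rfl⟩ := ENat.ne_top_iff_exists.mp hc'
    exact ⟨m + 1, by exact_mod_cast Nat.lt_succ_self m⟩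
  exact ringKrullDim_le_of_surjective_comap_aux n A C φ hsurj hprim hn

/-- Ring-level form of EGA IV 14.2.1: if every prime of `A` lifts to a generization of each
minimal prime of the closed fibre, then `dim B = dim A + dim B/m_A B`. -/
theorem ringKrullDim_eq_add_of_generizations {A B : Type u} [CommRing A] [CommRing B]
    [IsLocalRing A] [IsLocalRing B] [IsNoetherianRing A] [IsNoetherianRing B] (φ : A →+* B)
    [IsLocalHom φ]
    (h : ∀ q ∈ ((maximalIdeal A).map φ).minimalPrimes, ∀ p : PrimeSpectrum A,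
      ∃ t : PrimeSpectrum B, t.asIdeal ≤ q ∧ t.asIdeal.comap φ = p.asIdeal) :
    ringKrullDim B = ringKrullDim A + ringKrullDim (B ⧸ (maximalIdeal A).map φ) := by
  refine le_antisymm (Groth.Agent.S3447.dim_le φ) ?_
  set I := (maximalIdeal A).map φ with hI
  have hIle : I ≤ maximalIdeal B :=
    Ideal.map_le_iff_le_comap.mpr (IsLocalRing.maximalIdeal_comap φ).ge
  obtain ⟨a', ha'⟩ := WithBot.ne_bot_iff_exists.mp
    (bot_lt_iff_ne_bot.mp (lt_of_lt_of_le (WithBot.bot_lt_coe (0 : ℕ∞))
      (ringKrullDim_nonneg_of_nontrivial (R := A))))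
  obtain ⟨b', hb'⟩ := WithBot.ne_bot_iff_exists.mp
    (bot_lt_iff_ne_bot.mp (lt_of_lt_of_le (WithBot.bot_lt_coe (0 : ℕ∞))
      (ringKrullDim_nonneg_of_nontrivial (R := B))))
  haveI : Nonempty (PrimeSpectrum.zeroLocus (R := B) I) := ⟨⟨closedPoint B, hIle⟩⟩
  have hsup : (⨆ x : PrimeSpectrum B, Order.height x + Order.coheight x) = b' := by
    have h1 : ringKrullDim B = ((⨆ x : PrimeSpectrum B, Order.height x + Order.coheight x : ℕ∞) :
        WithBot ℕ∞) := Order.krullDim_eq_iSup_height_add_coheight_of_nonempty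
    rw [← hb'] at h1
    exact (WithBot.coe_injective h1).symm
  rw [ringKrullDim_quotient, Order.krullDim_eq_iSup_length, ← ha', ← hb', ← WithBot.coe_add,
    WithBot.coe_le_coe, ENat.add_iSup, iSup_le_iff]
  intro l
  obtain ⟨q, hq, hqle⟩ := Ideal.exists_minimalPrimes_le (I := I) (J := l.head.1.asIdeal) l.head.2
  haveI hqp : q.IsPrime := hq.1.1
  let qpt : PrimeSpectrum B := ⟨q, hqp⟩
  -- the coheight bound
  have h1 : (l.length : ℕ∞) ≤ Order.coheight qpt := by
    have h2 := Order.length_le_coheight (x := qpt) (p := l.map Subtype.val (fun _ _ h => h))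
      (by rw [LTSeries.head_map]; exact hqle)
    simpa using h2
  -- the height bound, via the localization at `q`
  have h2 : a' ≤ q.height := by
    let C := Localization.AtPrime q
    haveI : IsNoetherianRing C := IsLocalization.isNoetherianRing q.primeCompl C inferInstance
    let φC : A →+* C := (algebraMap B C).comp φ
    have hsurj : Function.Surjective (PrimeSpectrum.comap φC) := by
      intro p
      obtain ⟨t, htq, htp⟩ := h q hq p
      have hdisj : Disjoint (q.primeCompl : Set B) (t.asIdeal : Set B) := by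
        rw [Set.disjoint_left]
        intro x hx hxt
        exact hx (htq hxt)
      refine ⟨⟨t.asIdeal.map (algebraMap B C),
        IsLocalization.isPrime_of_isPrime_disjoint q.primeCompl C t.asIdeal t.isPrime hdisj⟩, ?_⟩
      apply PrimeSpectrum.ext
      show Ideal.comap φC (t.asIdeal.map (algebraMap B C)) = p.asIdeal
      have hcm : Ideal.comap (algebraMap B C) (Ideal.map (algebraMap B C) t.asIdeal) = t.asIdeal :=
        IsLocalization.under_map_of_isPrime_disjoint q.primeCompl C t.isPrime hdisj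
      rw [← Ideal.comap_comap, hcm, htp]
    have hprim : ∀ Q : Ideal C, Q.IsPrime → (maximalIdeal A).map φC ≤ Q → Q = maximalIdeal C := by
      intro Q hQ hle
      have hQ0p : (Q.comap (algebraMap B C)).IsPrime := Ideal.comap_isPrime _ Q
      have hQ0q : Q.comap (algebraMap B C) ≤ q := by
        intro x hx
        by_contra hxq
        have hu : IsUnit (algebraMap B C x) :=
          IsLocalization.map_units C (⟨x, hxq⟩ : q.primeCompl)
        exact hQ.ne_top (Ideal.eq_top_of_isUnit_mem _ hx hu)
      have hIQ0 : I ≤ Q.comap (algebraMap B C) := by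
        rw [hI, Ideal.map_le_iff_le_comap]
        intro x hx
        exact hle (Ideal.mem_map_of_mem φC hx)
      have hQ0 : Q.comap (algebraMap B C) = q := le_antisymm hQ0q (hq.2 ⟨hQ0p, hIQ0⟩ hQ0q)
      have hmc : Ideal.map (algebraMap B C) (Ideal.comap (algebraMap B C) Q) = Q :=
        IsLocalization.map_under q.primeCompl C Q
      rw [← hmc, hQ0]
      exact IsLocalization.AtPrime.map_eq_maximalIdeal q C
    have h3 := ringKrullDim_le_of_surjective_comap φC hsurj hprim
    rw [IsLocalization.AtPrime.ringKrullDim_eq_height q C, ← ha'] at h3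
    exact WithBot.coe_le_coe.mp h3
  have h3 : Order.height qpt + Order.coheight qpt ≤ b' := by
    rw [← hsup]
    exact le_iSup (fun x : PrimeSpectrum B => Order.height x + Order.coheight x) qpt
  have h4 : q.height = Order.height qpt := PrimeSpectrum.height_eq_orderHeight qpt
  calc a' + (l.length : ℕ∞) ≤ q.height + Order.coheight qpt := add_le_add h2 h1
    _ = Order.height qpt + Order.coheight qpt := by rw [h4]
    _ ≤ b' := h3

end Groth.Agent.H7
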