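import Mathlib
import Groth.Agent.H7.DimSurj
import Groth.Agent.H7.DVRFlat

set_option autoImplicit false
set_option linter.style.haveILetI false
universe u

namespace Groth.Agent.H7

open AlgebraicGeometry CategoryTheory Limits TopologicalSpace Topology IsLocalRing

set_option backward.isDefEq.respectTransparency false in
/-- If `f` is open at the generic points of the components of the fibre through `x`, then every
prime of `O_{Y,f x}` lifts to a generization of each minimal prime of `m_y O_{X,x}`. -/
theorem exists_le_comap_eq_of_isOpenAt_generic {X Y : Scheme.{u}} (f : X ⟶ Y) (x : X)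
    (h : ∀ z : ↥(f.fiber (f.base x)), f.asFiber x ∈ closure {z} →
      (∀ z' : ↥(f.fiber (f.base x)), z ∈ closure {z'} → z' = z) →
      EGA43.IsOpenAt f.base ((f.fiberι (f.base x)).base z))
    (q : Ideal (X.presheaf.stalk x))
    (hq : q ∈ (Ideal.map (f.stalkMap x).hom
      (maximalIdeal (Y.presheaf.stalk (f.base x)))).minimalPrimes)
    (p : PrimeSpectrum (Y.presheaf.stalk (f.base x))) :
    ∃ t : PrimeSpectrum (X.presheaf.stalk x),
      t.asIdeal ≤ q ∧ t.asIdeal.comap (f.stalkMap x).hom = p.asIdeal := by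
  have hqp : q.IsPrime := hq.1.1
  let qpt : Spec (X.presheaf.stalk x) := ⟨q, hqp⟩
  have hξx : X.fromSpecStalk x qpt ⤳ x := by
    have : X.fromSpecStalk x qpt ∈ Set.range (X.fromSpecStalk x) := ⟨qpt, rfl⟩
    rwa [Scheme.range_fromSpecStalk] at this
  have hfξ : f (X.fromSpecStalk x qpt) = f x := by
    rw [map_fromSpecStalk_eq_iff]
    exact ((maximalIdeal.isMaximal _).eq_of_le (Ideal.comap_ne_top _ hqp.ne_top)
      (Ideal.map_le_iff_le_comap.mp hq.1.2)).symm
  obtain ⟨z, hz⟩ : X.fromSpecStalk x qpt ∈ Set.range (f.fiberι (f x)) := by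
    rw [Scheme.Hom.range_fiberι]
    exact hfξ
  have hz1 : f.asFiber x ∈ closure {z} := by
    rw [← specializes_iff_mem_closure,
      ← (f.fiberι (f x)).isEmbedding.isInducing.specializes_iff, hz, Scheme.Hom.fiberι_asFiber]
    exact hξx
  have hz2 : ∀ z' : ↥(f.fiber (f x)), z ∈ closure {z'} → z' = z := by
    intro z' hz'
    rw [← specializes_iff_mem_closure] at hz'
    have h1 : f.fiberι (f x) z' ⤳ X.fromSpecStalk x qpt := by
      rw [← hz]
      exact hz'.map (f.fiberι (f x)).continuous
    obtain ⟨t', ht'⟩ : f.fiberι (f x) z' ∈ Set.range (X.fromSpecStalk x) := by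
      rw [Scheme.range_fromSpecStalk]
      exact h1.trans hξx
    have h2 : t' ⤳ qpt := by
      rw [← (X.fromSpecStalk x).isEmbedding.isInducing.specializes_iff, ht']
      exact h1
    have h3 : t'.asIdeal ≤ q := (PrimeSpectrum.le_iff_specializes t' qpt).mpr h2
    have h4 : f (X.fromSpecStalk x t') = f x := by
      rw [ht']
      have : f.fiberι (f x) z' ∈ f ⁻¹' {f x} := by
        rw [← Scheme.Hom.range_fiberι]
        exact ⟨z', rfl⟩
      exact this
    rw [map_fromSpecStalk_eq_iff] at h4
    have h5 : Ideal.map (f.stalkMap x).hom (maximalIdeal _) ≤ t'.asIdeal :=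
      Ideal.map_le_iff_le_comap.mpr h4.ge
    have h6 : q ≤ t'.asIdeal := hq.2 ⟨t'.isPrime, h5⟩ h3
    have h7 : t' = qpt := PrimeSpectrum.ext (le_antisymm h3 h6)
    apply (f.fiberι (f x)).isEmbedding.injective
    rw [hz, ← ht', h7]
  have hopen : EGA43.IsOpenAt f.base (X.fromSpecStalk x qpt) := by
    have := h z hz1 hz2
    rwa [show (f.fiberι (f.base x)).base z = X.fromSpecStalk x qpt from hz] at this
  have hgen := (Groth.Agent.S3404.result f (X.fromSpecStalk x qpt)).1 hopen
  let ppt : Spec (Y.presheaf.stalk (f.base x)) := p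
  have hpy : Y.fromSpecStalk (f.base x) ppt ⤳ f.base (X.fromSpecStalk x qpt) := by
    rw [show f.base (X.fromSpecStalk x qpt) = f.base x from hfξ]
    have : Y.fromSpecStalk (f.base x) ppt ∈ Set.range (Y.fromSpecStalk (f.base x)) := ⟨ppt, rfl⟩
    rwa [Scheme.range_fromSpecStalk] at this
  obtain ⟨ξ'', hξ''1, hξ''2⟩ := hgen _ hpy
  obtain ⟨t'', ht''⟩ : ξ'' ∈ Set.range (X.fromSpecStalk x) := by
    rw [Scheme.range_fromSpecStalk]
    exact hξ''1.trans hξx
  refine ⟨t'', ?_, ?_⟩
  · have h2 : t'' ⤳ qpt := by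
      rw [← (X.fromSpecStalk x).isEmbedding.isInducing.specializes_iff, ht'']
      exact hξ''1
    exact (PrimeSpectrum.le_iff_specializes t'' qpt).mpr h2
  · have hcomm := congrArg (fun φ : Spec (X.presheaf.stalk x) ⟶ Y => φ t'')
      (Scheme.SpecMap_stalkMap_fromSpecStalk (f := f) (x := x))
    simp only [Scheme.Hom.comp_apply] at hcomm
    rw [ht'', hξ''2] at hcomm
    have h3 := (Y.fromSpecStalk (f x)).isEmbedding.injective hcomm
    exact congrArg PrimeSpectrum.asIdeal h3

set_option backward.isDefEq.respectTransparency false in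
/-- EGA IV 14.2.1: the dimension formula under openness at the generic points of the fibre
components through `x`. -/
theorem ringKrullDim_stalk_eq_of_isOpenAt {X Y : Scheme.{u}} [IsLocallyNoetherian X]
    [IsLocallyNoetherian Y] (f : X ⟶ Y) (x : X)
    (h : ∀ z : ↥(f.fiber (f.base x)), f.asFiber x ∈ closure {z} →
      (∀ z' : ↥(f.fiber (f.base x)), z ∈ closure {z'} → z' = z) →
      EGA43.IsOpenAt f.base ((f.fiberι (f.base x)).base z)) :
    ringKrullDim (X.presheaf.stalk x) =
      ringKrullDim (Y.presheaf.stalk (f.base x)) +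
        ringKrullDim ((f.fiber (f.base x)).presheaf.stalk (f.asFiber x)) := by
  have key := ringKrullDim_eq_add_of_generizations (f.stalkMap x).hom
    (fun q hq p => exists_le_comap_eq_of_isOpenAt_generic f x h q hq p)
  rw [key]
  congr 1
  have e := Groth.Agent.H9.fiberStalkEquiv f (f.base x) (f.asFiber x)
  have hxx : (f.fiberι (f.base x)).base (f.asFiber x) = x := f.fiberι_asFiber x
  revert e
  rw [hxx]
  intro e
  exact ringKrullDim_eq_of_ringEquiv e

end Groth.Agent.H7
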