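import Mathlib
import Groth.Agent.S4949
import Groth.Agent.S0386
import Groth.Agent.H60.EquidimAtFlat
import Groth.Agent.H54.GenericComp
import Groth.Prelude.Def_EGA43

/-!
# Flat with Cohen–Macaulay fibre ⇒ equidimensional at the point (EGA IV 15.4.3)
-/

set_option linter.style.haveILetI false
set_option autoImplicit false
open CategoryTheory AlgebraicGeometry
universe u

namespace Groth.Agent.H7

open Groth.Agent.H9.CMFlatSch Groth.Agent.H9.CMFlatRing Groth.Agent.H9.FibDim TensorProduct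

set_option maxHeartbeats 1600000 in
/-- Chart data extracted from the proof of `Groth.Agent.S4949.forward`. -/
theorem exists_chart_of_isCMAt {X Y : Scheme.{u}} (f : X ⟶ Y) [LocallyOfFinitePresentation f]
    (x : X) (hCM : MoreMor.IsCMAt f x) :
    ∃ (n : ℕ) (V : Y.Opens) (hV : IsAffineOpen V) (W : X.Opens) (hW : IsAffineOpen W)
      (hWV : W ≤ f ⁻¹ᵁ V) (hx : x ∈ W)
      (Ψ : CommRingCat.of (MvPolynomial (ULift.{u} (Fin n)) Γ(Y, V)) ⟶ Γ(X, W)),
      CommRingCat.ofHom MvPolynomial.C ≫ Ψ = f.appLE V W hWV ∧ Ψ.hom.QuasiFinite ∧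
        ((chartG hV hW n Ψ).stalkMap ⟨x, hx⟩).hom.Flat := by
  obtain ⟨n, hn⟩ := exists_nat_fibreDimAt f x
  obtain ⟨V, hV, hxV, -⟩ :=
    exists_isAffineOpen_mem_and_subset (X := Y) (x := f.base x) (U := ⊤) trivial
  obtain ⟨W₀, hW₀, hxW₀, e₀⟩ :=
    exists_isAffineOpen_mem_and_subset (X := X) (x := x) (U := f ⁻¹ᵁ V) hxV
  letI algRS : Algebra Γ(Y, V) Γ(X, W₀) := (f.appLE V W₀ e₀).hom.toAlgebra
  haveI : Algebra.FiniteType Γ(Y, V) Γ(X, W₀) := f.finiteType_appLE hV hW₀ e₀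
  set q := (hW₀.primeIdealOf ⟨x, hxW₀⟩).asIdeal with hq
  set p := q.under Γ(Y, V) with hp
  haveI : q.LiesOver p := ⟨rfl⟩
  obtain ⟨Q, hQ⟩ := exists_fiber_prime p q
  have hdim : FlatMor.localDim (PrimeSpectrum (p.Fiber Γ(X, W₀))) Q = (n : WithBot ℕ∞) := by
    rw [← hn]
    exact localDim_fiber_eq_fibreDimAt f x hV hW₀ e₀ hxW₀ p rfl Q hQ
  obtain ⟨s, hsq, φ, -, hφ⟩ := Groth.Agent.S9175.result Γ(Y, V) Γ(X, W₀) p q Q hQ n hdim
  have hW : IsAffineOpen (X.basicOpen s) := hW₀.basicOpen s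
  have hWW₀ : X.basicOpen s ≤ W₀ := X.basicOpen_le s
  have hxW : x ∈ X.basicOpen s := by
    have h1 : hW₀.primeIdealOf ⟨x, hxW₀⟩ ∈ (hW₀.fromSpec ⁻¹ᵁ X.basicOpen s) := by
      rw [hW₀.fromSpec_preimage_basicOpen]
      exact hsq
    have h2 := hW₀.fromSpec_primeIdealOf ⟨x, hxW₀⟩
    have h3 : hW₀.fromSpec (hW₀.primeIdealOf ⟨x, hxW₀⟩) ∈ X.basicOpen s := h1
    rw [h2] at h3
    exact h3
  have eW : X.basicOpen s ≤ f ⁻¹ᵁ V := hWW₀.trans e₀
  haveI hloc : IsLocalization.Away s Γ(X, X.basicOpen s) := hW₀.isLocalization_basicOpen s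
  let ε : Localization.Away s ≃ₐ[Γ(X, W₀)] Γ(X, X.basicOpen s) :=
    IsLocalization.algEquiv (Submonoid.powers s) _ _
  let ren : MvPolynomial (ULift.{u} (Fin n)) Γ(Y, V) ≃ₐ[Γ(Y, V)] MvPolynomial (Fin n) Γ(Y, V) :=
    MvPolynomial.renameEquiv _ Equiv.ulift
  let Ψ : CommRingCat.of (MvPolynomial (ULift.{u} (Fin n)) Γ(Y, V)) ⟶ Γ(X, X.basicOpen s) :=
    CommRingCat.ofHom ((ε.toRingHom.comp φ.toRingHom).comp ren.toRingHom)
  have hΨ : CommRingCat.ofHom MvPolynomial.C ≫ Ψ = f.appLE V (X.basicOpen s) eW := by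
    ext r
    show ε (φ (ren (MvPolynomial.C r))) = f.appLE V (X.basicOpen s) eW r
    have h1 : ren (MvPolynomial.C r) = algebraMap Γ(Y, V) _ r := by
      simp [ren, MvPolynomial.algebraMap_eq]
    rw [h1, φ.commutes, IsScalarTower.algebraMap_apply Γ(Y, V) Γ(X, W₀) (Localization.Away s),
      ε.commutes, ← Scheme.Hom.appLE_map f e₀ (homOfLE hWW₀).op]
    rfl
  have hqf : Ψ.hom.QuasiFinite := by
    show ((ε.toRingHom.comp φ.toRingHom).comp ren.toRingHom).QuasiFinite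
    refine RingHom.QuasiFinite.comp (RingHom.QuasiFinite.comp ?_ hφ) ?_
    · exact RingHom.QuasiFinite.of_finite (RingHom.Finite.of_surjective _ ε.surjective)
    · exact RingHom.QuasiFinite.of_finite (RingHom.Finite.of_surjective _ ren.surjective)
  have key := chart_flat_iff Groth.Agent.H49.FibreCrit.core f x hV hW eW hxW n Ψ hΨ hqf
  exact ⟨n, V, hV, X.basicOpen s, hW, eW, hxW, Ψ, hΨ, hqf, key.mpr ⟨hCM, hn⟩⟩

/-- The chart morphism is locally of finite presentation. -/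
theorem locallyOfFinitePresentation_chartG {X Y : Scheme.{u}} (f : X ⟶ Y)
    [LocallyOfFinitePresentation f] {V : Y.Opens} (hV : IsAffineOpen V) {W : X.Opens}
    (hW : IsAffineOpen W) (hWV : W ≤ f ⁻¹ᵁ V) (n : ℕ)
    (Ψ : CommRingCat.of (MvPolynomial (ULift.{u} (Fin n)) Γ(Y, V)) ⟶ Γ(X, W))
    (hΨ : CommRingCat.ofHom MvPolynomial.C ≫ Ψ = f.appLE V W hWV) :
    LocallyOfFinitePresentation (chartG hV hW n Ψ) := by
  have h1 : (f.appLE V W hWV).hom.FinitePresentation := f.finitePresentation_appLE hV hW hWV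
  have h2 : (Ψ.hom.comp
      (algebraMap Γ(Y, V) (MvPolynomial (ULift.{u} (Fin n)) Γ(Y, V)))).FinitePresentation := by
    have h3 : Ψ.hom.comp (algebraMap Γ(Y, V) (MvPolynomial (ULift.{u} (Fin n)) Γ(Y, V))) =
        (f.appLE V W hWV).hom := by
      rw [← hΨ]; rfl
    rw [h3]; exact h1
  have hΨfp : Ψ.hom.FinitePresentation :=
    RingHom.FinitePresentation.of_comp_finiteType _ h2
      (RingHom.finiteType_algebraMap.mpr inferInstance)
  haveI : LocallyOfFinitePresentation (Spec.map Ψ) :=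
    (HasRingHomProperty.Spec_iff (P := @LocallyOfFinitePresentation)).mpr hΨfp
  unfold chartG
  infer_instance

set_option maxHeartbeats 1600000 in
/-- **EGA IV 15.4.3.** Over a locally Noetherian base, a morphism locally of finite type which is
Cohen–Macaulay at `x` (flat at `x` with Cohen–Macaulay fibre local ring) is equidimensional at
`x`. -/
theorem isEquidimAt_of_isCMAt {X Y : Scheme.{u}} [IsLocallyNoetherian Y] (f : X ⟶ Y)
    [LocallyOfFiniteType f] (x : X) (hCM : MoreMor.IsCMAt f x) : EGA43.IsEquidimAt f x := by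
  haveI : LocallyOfFinitePresentation f :=
    LocallyOfFinitePresentation.iff_locallyOfFiniteType.mpr inferInstance
  haveI : IsLocallyNoetherian X := LocallyOfFiniteType.isLocallyNoetherian f
  obtain ⟨n, V, hV, W, hW, hWV, hxW, Ψ, hΨ, hqf, hfl⟩ := exists_chart_of_isCMAt f x hCM
  haveI : LocallyOfFinitePresentation (chartG hV hW n Ψ) :=
    locallyOfFinitePresentation_chartG f hV hW hWV n Ψ hΨ
  have hopen : IsOpen {z : (W : Scheme.{u}) | ((chartG hV hW n Ψ).stalkMap z).hom.Flat} :=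
    Groth.Agent.S0386.result (chartG hV hW n Ψ)
  have key : ∀ z : (W : Scheme.{u}), ((chartG hV hW n Ψ).stalkMap z).hom.Flat →
      MoreMor.IsCMAt f (W.ι.base z) ∧ FlatMor.fibreDimAt f (W.ι.base z) = (n : WithBot ℕ∞) := by
    intro z hz
    have h := chart_flat_iff Groth.Agent.H49.FibreCrit.core f (W.ι.base z) hV hW hWV z.2 n Ψ hΨ hqf
    exact h.mp hz
  let W₁ : X.Opens :=
    ⟨W.ι.base '' {z : (W : Scheme.{u}) | ((chartG hV hW n Ψ).stalkMap z).hom.Flat},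
      W.ι.isOpenEmbedding.isOpenMap _ hopen⟩
  have hxW₁ : x ∈ W₁ := ⟨⟨x, hxW⟩, hfl, rfl⟩
  have hW₁ : ∀ z : X, z ∈ W₁ →
      MoreMor.IsCMAt f z ∧ FlatMor.fibreDimAt f z = (n : WithBot ℕ∞) := by
    rintro _ ⟨z, hz, rfl⟩
    exact key z hz
  obtain ⟨U, hxU, hU⟩ := Groth.Agent.H60.EquidimAtFlat.exists_open_generic_of_isLocallyNoetherian x
  -- the restriction of `f` to `W₁` is flat
  haveI hflat : Flat (W₁.ι ≫ f) := by
    rw [Flat.iff_flat_stalkMap]
    intro z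
    rw [flat_stalkMap_comp_left W₁.ι f z]
    exact (hW₁ _ z.2).1.1
  have hgen : GeneralizingMap (W₁.ι ≫ f).base := Flat.generalizingMap (W₁.ι ≫ f)
  refine Groth.Agent.H60.EquidimAtFlat.isEquidimAt_of_forall' f x n (W₁ ⊓ U) ⟨hxW₁, hxU⟩ ?_ ?_
  · intro ξ hξ hmax
    obtain ⟨ξ₀, h1, h2⟩ := hU ξ hξ.2
    have h3 : ξ₀ = ξ := hmax ξ₀ h1
    rw [h3] at h2
    refine ⟨?_, h2.map f.continuous⟩
    apply Groth.Agent.H54.closure_mem_irreducibleComponents_of_forall
    have hmax' : ∀ t : (W₁ : Scheme.{u}), t ⤳ (⟨ξ, hξ.1⟩ : (W₁ : Scheme.{u})) →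
        t = (⟨ξ, hξ.1⟩ : (W₁ : Scheme.{u})) := by
      intro t ht
      have h4 : W₁.ι.base t ⤳ W₁.ι.base (⟨ξ, hξ.1⟩ : (W₁ : Scheme.{u})) := ht.map W₁.ι.continuous
      have h5 : W₁.ι.base t = ξ := hmax _ h4
      exact Subtype.ext h5
    have h6 := Groth.Agent.H60.EquidimAtFlat.map_maximal_of_generalizingMap hgen hmax'
    exact h6
  · intro z hz
    exact (hW₁ z hz.1).2

end Groth.Agent.H7
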