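import Mathlib
import Groth.Agent.H7.DimOpenAt
import Groth.Agent.H60.EquidimAtConv

/-!
# Equidimensionality at a point from openness at the generic points of the fibre (helper7)
-/

set_option autoImplicit false
set_option linter.style.haveILetI false
universe u

namespace Groth.Agent.H7

open AlgebraicGeometry CategoryTheory Limits TopologicalSpace Topology IsLocalRing

/-- EGA IV 14.2.2-type statement: if `O_{X,x}` is equidimensional and `f` is open at the generic
points of the components of the fibre through `x`, then `f` is equidimensional at `x`. -/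
theorem isEquidimAt_of_isOpenAt_of_isEquidim_stalk {X Y : Scheme.{u}} [IsLocallyNoetherian Y]
    (f : X ⟶ Y) [LocallyOfFiniteType f] (x : X) (hX : EGA4.IsEquidim (X.presheaf.stalk x))
    (h : ∀ z : ↥(f.fiber (f.base x)), f.asFiber x ∈ closure {z} →
      (∀ z' : ↥(f.fiber (f.base x)), z ∈ closure {z'} → z' = z) →
      EGA43.IsOpenAt f.base ((f.fiberι (f.base x)).base z)) :
    EGA43.IsEquidimAt f x := by
  haveI : IsLocallyNoetherian X := LocallyOfFiniteType.isLocallyNoetherian f
  exact Groth.Agent.H60.EquidimAtConv.isEquidimAt_of_dim_formula f x hX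
    (ringKrullDim_stalk_eq_of_isOpenAt f x h)

/-- A ring all of whose primes contain a given prime `p` has the same dimension as `R ⧸ p`. -/
theorem ringKrullDim_quotient_eq_of_forall_le {R : Type u} [CommRing R] (p : Ideal R)
    (hp : ∀ q : PrimeSpectrum R, p ≤ q.asIdeal) : ringKrullDim (R ⧸ p) = ringKrullDim R := by
  apply le_antisymm (ringKrullDim_quotient_le p)
  rw [ringKrullDim_quotient]
  exact Order.krullDim_le_of_strictMono
    (fun q : PrimeSpectrum R => (⟨q, hp q⟩ : ↥(PrimeSpectrum.zeroLocus (p : Set R))))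
    (fun a b hab => hab)

/-- The local rings of an irreducible scheme are equidimensional. -/
theorem isEquidim_stalk_of_irreducibleSpace {X : Scheme.{u}} [IrreducibleSpace X] (x : X) :
    EGA4.IsEquidim (X.presheaf.stalk x) := by
  -- every minimal prime corresponds to the generic point
  have key : ∀ p ∈ minimalPrimes (X.presheaf.stalk x), ∀ hp : p.IsPrime,
      (X.fromSpecStalk x).base ⟨p, hp⟩ = genericPoint X := by
    intro p hpmin hp
    have h1 : genericPoint X ⤳ (X.fromSpecStalk x).base ⟨p, hp⟩ := genericPoint_specializes _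
    have h2 : (X.fromSpecStalk x).base ⟨p, hp⟩ ⤳ x := by
      have : (X.fromSpecStalk x).base ⟨p, hp⟩ ∈ Set.range (X.fromSpecStalk x).base := ⟨_, rfl⟩
      rw [Scheme.range_fromSpecStalk] at this
      exact this
    have h3 : genericPoint X ∈ Set.range (X.fromSpecStalk x).base := by
      rw [Scheme.range_fromSpecStalk]
      exact h1.trans h2
    obtain ⟨v, hv⟩ := h3
    rw [← hv] at h1
    have h4 : v ⤳ ⟨p, hp⟩ :=
      (X.fromSpecStalk x).isEmbedding.isInducing.specializes_iff.mp h1
    have h5 : v.asIdeal ≤ p := (PrimeSpectrum.le_iff_specializes v ⟨p, hp⟩).mpr h4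
    have h6 : p ≤ v.asIdeal := hpmin.2 ⟨v.isPrime, bot_le⟩ h5
    have h7 : v = ⟨p, hp⟩ := PrimeSpectrum.ext (le_antisymm h5 h6)
    rw [← hv, h7]
  intro p hpmin
  haveI hp : p.IsPrime := hpmin.1.1
  apply ringKrullDim_quotient_eq_of_forall_le
  intro q
  obtain ⟨p', hp'min, hp'q⟩ := Ideal.exists_minimalPrimes_le (I := ⊥) (J := q.asIdeal) bot_le
  haveI hp' : p'.IsPrime := hp'min.1.1
  have e : (⟨p, hp⟩ : PrimeSpectrum (X.presheaf.stalk x)) = ⟨p', hp'⟩ :=
    (X.fromSpecStalk x).isEmbedding.injective
      ((key p hpmin hp).trans (key p' hp'min hp').symm)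
  have e' : p = p' := congrArg PrimeSpectrum.asIdeal e
  rw [e']
  exact hp'q

/-- EGA IV 14.2.? : irreducible source. -/
theorem isEquidimAt_of_isOpenAt_of_irreducibleSpace {X Y : Scheme.{u}} [IsLocallyNoetherian Y]
    [IrreducibleSpace X] (f : X ⟶ Y) [LocallyOfFiniteType f] (x : X)
    (h : ∀ z : ↥(f.fiber (f.base x)), f.asFiber x ∈ closure {z} →
      (∀ z' : ↥(f.fiber (f.base x)), z ∈ closure {z'} → z' = z) →
      EGA43.IsOpenAt f.base ((f.fiberι (f.base x)).base z)) :
    EGA43.IsEquidimAt f x :=
  isEquidimAt_of_isOpenAt_of_isEquidim_stalk f x (isEquidim_stalk_of_irreducibleSpace x) h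

end Groth.Agent.H7
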