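import Mathlib
import Groth.Agent.H7.ChevalleyPointwise
import Groth.Agent.H7.EquidimOpenAt
import Groth.Agent.H60.EquidimCrit
import Groth.Agent.H9.SubschemeStalk

/-!
# Equidimensional morphisms over a geometrically unibranch point (helper7)

EGA IV 14.4.6-type equivalences.
-/

set_option autoImplicit false
set_option linter.style.haveILetI false
universe u

namespace Groth.Agent.H7

open AlgebraicGeometry CategoryTheory Limits TopologicalSpace Topology IsLocalRing
open Groth.Agent.H54 Groth.Agent.H9.DimFormulaEq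
  Groth.Agent.H9.FibreFormula Groth.Agent.H9.FibDim Groth.Agent.H9.Equidim

/-- Universal openness at a point implies openness at that point. -/
theorem isOpenAt_of_isUnivOpenAt {X Y : Scheme.{u}} (f : X ⟶ Y) (x : X)
    (h : EGA43.IsUnivOpenAt f x) : EGA43.IsOpenAt f.base x :=
  Groth.Agent.H25.isOpenAt_of_isPullback (IsPullback.id_horiz f) x h x rfl

/-- Equidimensionality at `x` passes to generizations of `x` in the same fibre. -/
theorem isEquidimAt_of_specializes_of_eq {X Y : Scheme.{u}} (f : X ⟶ Y) (x z' : X)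
    (h : EGA43.IsEquidimAt f x) (hz : z' ⤳ x) (hfz : f.base z' = f.base x) :
    EGA43.IsEquidimAt f z' := by
  obtain ⟨e, U, hxU, h1, h2⟩ := h
  refine ⟨e, U, hz.mem_open U.2 hxU, ?_, h2⟩
  rw [hfz]
  exact h1

/-- If `f` is equidimensional at `x` and `f x` is geometrically unibranch, then `f` is universally
open at all generizations of `x` in its fibre. -/
theorem isUnivOpenAt_fibre_generization_of_isEquidimAt {X Y : Scheme.{u}} [IsLocallyNoetherian Y]
    (f : X ⟶ Y) [LocallyOfFiniteType f] (x : X) (h : EGA43.IsEquidimAt f x)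
    (hy : CAlg2.IsGeomUnibranch (Y.presheaf.stalk (f.base x)))
    (z : ↥(f.fiber (f.base x))) (hz : f.asFiber x ∈ closure {z}) :
    EGA43.IsUnivOpenAt f ((f.fiberι (f.base x)).base z) := by
  have h1 : z ⤳ f.asFiber x := specializes_iff_mem_closure.mpr hz
  have h2 : (f.fiberι (f.base x)).base z ⤳ (f.fiberι (f.base x)).base (f.asFiber x) :=
    h1.map (f.fiberι (f.base x)).continuous
  have h3 : (f.fiberι (f.base x)).base (f.asFiber x) = x := f.fiberι_asFiber x
  rw [h3] at h2
  have h4 : f.base ((f.fiberι (f.base x)).base z) = f.base x := by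
    have : (f.fiberι (f.base x)).base z ∈ f.base ⁻¹' {f.base x} := by
      rw [← f.range_fiberι]
      exact ⟨z, rfl⟩
    exact this
  have h5 := isEquidimAt_of_specializes_of_eq f x _ h h2 h4
  have key : ∀ t : Y, t = f.base x → CAlg2.IsGeomUnibranch (Y.presheaf.stalk t) := by
    rintro _ rfl
    exact hy
  exact isUnivOpenAt_of_isEquidimAt_of_isGeomUnibranch f _ h5 (key _ h4)

/-- The local ring of the reduced closed subscheme on `closure {ξ}` at a point over `x` has
dimension at most that of `O_{X,x} / p`, where `p` is the prime of `ξ`. -/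
theorem ringKrullDim_stalk_subscheme_le {X : Scheme.{u}} (W : TopologicalSpace.Closeds X)
    (w : ↥((Scheme.IdealSheafData.vanishingIdeal W).subscheme)) (x : X)
    (hw : (Scheme.IdealSheafData.vanishingIdeal W).subschemeι.base w = x)
    (p : Ideal (X.presheaf.stalk x)) (hp : p.IsPrime)
    (hW : (W : Set X) = closure {(X.fromSpecStalk x).base ⟨p, hp⟩}) :
    ringKrullDim ((Scheme.IdealSheafData.vanishingIdeal W).subscheme.presheaf.stalk w) ≤
      ringKrullDim (X.presheaf.stalk x ⧸ p) := by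
  obtain ⟨ι, hι⟩ : ∃ ι : (Scheme.IdealSheafData.vanishingIdeal W).subscheme ⟶ X,
    ι = (Scheme.IdealSheafData.vanishingIdeal W).subschemeι := ⟨_, rfl⟩
  rw [← hι] at hw
  subst hw
  have hrange : Set.range ι.base = (W : Set X) := by
    rw [hι, Scheme.IdealSheafData.range_subschemeι,
      Scheme.IdealSheafData.coe_support_vanishingIdeal]
  have hsurj : Function.Surjective (ι.stalkMap w).hom := by
    rw [hι]
    exact Groth.Agent.H9.stalkMap_subschemeι_surjective _ w
  have e := RingHom.quotientKerEquivOfSurjective hsurj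
  rw [← ringKrullDim_eq_of_ringEquiv e, ringKrullDim_quotient, ringKrullDim_quotient]
  have hsub : PrimeSpectrum.zeroLocus ((RingHom.ker (ι.stalkMap w).hom : Ideal _) : Set _) ⊆
      PrimeSpectrum.zeroLocus (p : Set (X.presheaf.stalk (ι.base w))) := by
    intro t ht
    rw [← range_comap_of_surjective _ _ hsurj] at ht
    obtain ⟨v, rfl⟩ := ht
    have hnat := congrArg (fun ψ : Spec _ ⟶ X => ψ.base v)
      (Scheme.SpecMap_stalkMap_fromSpecStalk ι (x := w))
    simp only [Scheme.Hom.comp_apply] at hnat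
    have h1 : (X.fromSpecStalk (ι.base w)).base ((Spec.map (ι.stalkMap w)).base v) ∈
        (W : Set X) := by
      rw [hnat, ← hrange]
      exact ⟨_, rfl⟩
    rw [hW] at h1
    have h2 : (X.fromSpecStalk (ι.base w)).base ⟨p, hp⟩ ⤳
        (X.fromSpecStalk (ι.base w)).base ((Spec.map (ι.stalkMap w)).base v) :=
      specializes_iff_mem_closure.mpr h1
    have h3 := (X.fromSpecStalk (ι.base w)).isEmbedding.isInducing.specializes_iff.mp h2
    have h4 : p ≤ ((Spec.map (ι.stalkMap w)).base v).asIdeal :=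
      (PrimeSpectrum.le_iff_specializes ⟨p, hp⟩ _).mpr h3
    exact h4
  exact Order.krullDim_le_of_strictMono (Set.inclusion hsub) (fun a b hab => hab)

/-- **EGA IV 14.4.6, a) ⇒ equidimensionality of the local ring**: if `f` is equidimensional at `x`
and `f x` is a geometrically unibranch point, then `O_{X,x}` is equidimensional. -/
theorem isEquidim_stalk_of_isEquidimAt_of_isGeomUnibranch {X Y : Scheme.{u}}
    [IsLocallyNoetherian Y] (f : X ⟶ Y) [LocallyOfFiniteType f] (x : X)
    (h : EGA43.IsEquidimAt f x) (hy : CAlg2.IsGeomUnibranch (Y.presheaf.stalk (f.base x))) :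
    EGA4.IsEquidim (X.presheaf.stalk x) := by
  haveI : IsLocallyNoetherian X := LocallyOfFiniteType.isLocallyNoetherian f
  have hopen : ∀ z : ↥(f.fiber (f.base x)), f.asFiber x ∈ closure {z} →
      (∀ z' : ↥(f.fiber (f.base x)), z ∈ closure {z'} → z' = z) →
      EGA43.IsOpenAt f.base ((f.fiberι (f.base x)).base z) := fun z hz _ =>
    isOpenAt_of_isUnivOpenAt f _ (isUnivOpenAt_fibre_generization_of_isEquidimAt f x h hy z hz)
  have hdimX := ringKrullDim_stalk_eq_of_isOpenAt f x hopen
  intro p hpmin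
  have hp : p.IsPrime := hpmin.1.1
  apply le_antisymm (ringKrullDim_quotient_le p)
  -- the maximal point `ξ`
  obtain ⟨ξ, hξ⟩ : ∃ ξ, ξ = (X.fromSpecStalk x).base ⟨p, hp⟩ := ⟨_, rfl⟩
  have hξx : ξ ⤳ x := by
    have : ξ ∈ Set.range (X.fromSpecStalk x).base := ⟨_, hξ.symm⟩
    rw [Scheme.range_fromSpecStalk] at this
    exact this
  have hξmax : ∀ t : X, t ⤳ ξ → t = ξ := by
    intro t ht
    have h1 : t ∈ Set.range (X.fromSpecStalk x).base := by
      rw [Scheme.range_fromSpecStalk]
      exact ht.trans hξx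
    obtain ⟨v, rfl⟩ := h1
    rw [hξ] at ht ⊢
    have h4 := (X.fromSpecStalk x).isEmbedding.isInducing.specializes_iff.mp ht
    have h5 : v.asIdeal ≤ p := (PrimeSpectrum.le_iff_specializes v ⟨p, hp⟩).mpr h4
    have h6 : p ≤ v.asIdeal := hpmin.2 ⟨v.isPrime, bot_le⟩ h5
    have h7 : v = ⟨p, hp⟩ := PrimeSpectrum.ext (le_antisymm h5 h6)
    rw [h7]
  -- the component
  obtain ⟨W, hW⟩ : ∃ W : TopologicalSpace.Closeds X, (W : Set X) = closure {ξ} :=
    ⟨⟨closure {ξ}, isClosed_closure⟩, rfl⟩
  have hrange : Set.range (Scheme.IdealSheafData.vanishingIdeal W).subschemeι.base =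
      (W : Set X) := by
    rw [Scheme.IdealSheafData.range_subschemeι, Scheme.IdealSheafData.coe_support_vanishingIdeal]
  obtain ⟨w, hw⟩ : x ∈ Set.range (Scheme.IdealSheafData.vanishingIdeal W).subschemeι.base := by
    rw [hrange, hW]
    exact hξx.mem_closure
  have hEq' := Groth.Agent.H60.EquidimComp.isEquidimAt_component f x h ξ hξx hξmax W hW w hw
  obtain ⟨ι, hι⟩ : ∃ ι : (Scheme.IdealSheafData.vanishingIdeal W).subscheme ⟶ X,
    ι = (Scheme.IdealSheafData.vanishingIdeal W).subschemeι := ⟨_, rfl⟩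
  haveI : IsClosedImmersion ι := by rw [hι]; infer_instance
  rw [← hι] at hEq' hw
  have hpt : (ι ≫ f).base w = f.base x := by
    rw [Scheme.Hom.comp_apply, hw]
  have key : ∀ t : Y, t = f.base x → CAlg2.IsGeomUnibranch (Y.presheaf.stalk t) := by
    rintro _ rfl
    exact hy
  haveI : LocallyOfFiniteType (ι ≫ f) := inferInstance
  haveI : IsLocallyNoetherian (Scheme.IdealSheafData.vanishingIdeal W).subscheme :=
    LocallyOfFiniteType.isLocallyNoetherian (ι ≫ f)
  have hopen' : ∀ z : ↥((ι ≫ f).fiber ((ι ≫ f).base w)), (ι ≫ f).asFiber w ∈ closure {z} →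
      (∀ z' : ↥((ι ≫ f).fiber ((ι ≫ f).base w)), z ∈ closure {z'} → z' = z) →
      EGA43.IsOpenAt (ι ≫ f).base (((ι ≫ f).fiberι ((ι ≫ f).base w)).base z) := fun z hz _ =>
    isOpenAt_of_isUnivOpenAt (ι ≫ f) _
      (isUnivOpenAt_fibre_generization_of_isEquidimAt (ι ≫ f) w hEq' (key _ hpt) z hz)
  have hdimX' := ringKrullDim_stalk_eq_of_isOpenAt (ι ≫ f) w hopen'
  have hbase : ringKrullDim (Y.presheaf.stalk ((ι ≫ f).base w)) =
      ringKrullDim (Y.presheaf.stalk (f.base x)) :=
    congrArg (fun t => ringKrullDim (Y.presheaf.stalk t)) hpt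
  -- the fibre dimensions
  obtain ⟨e₀, U, hxU, hB, hA⟩ := Groth.Agent.H60.EquidimAtFlat.exists_of_isEquidimAt' f x h
  have hξU : ξ ∈ U := hξx.mem_open U.2 hxU
  have hfd' : FlatMor.fibreDimAt (ι ≫ f) w = (e₀ : WithBot ℕ∞) := by
    rw [hι]
    exact Groth.Agent.H60.EquidimCrit.fibreDimAt_component_eq f e₀ U hB ξ hξU hξmax W hW w
      (by rw [← hι, hw]; exact hxU)
  have hfd : FlatMor.fibreDimAt f x = (e₀ : WithBot ℕ∞) := hB x hxU
  obtain ⟨n', b', hn', hb', hform'⟩ := fibre_formula (ι ≫ f) w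
  obtain ⟨n, b, hn, hb, hform⟩ := fibre_formula f x
  have hnn : n' = n := by
    have h3 := trdeg_comp_of_surjectiveOnStalks ι f w
    have h4 := trdeg_congr_point f hw
    have h5 : (n' : Cardinal.{u}) = (n : Cardinal.{u}) := by
      rw [← hn', h3, h4, hn]
    exact_mod_cast h5
  have hbb : b' = b := by
    rw [hfd'] at hform'
    rw [hfd] at hform
    have h1 : ((n' + b' : ℕ) : WithBot ℕ∞) = ((n + b : ℕ) : WithBot ℕ∞) := hform'.symm.trans hform
    have h2 : n' + b' = n + b := by exact_mod_cast h1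
    omega
  have hXX' : ringKrullDim ((Scheme.IdealSheafData.vanishingIdeal W).subscheme.presheaf.stalk w) =
      ringKrullDim (X.presheaf.stalk x) := by
    rw [hdimX', hdimX, hbase, hb', hb, hbb]
  rw [← hXX']
  exact ringKrullDim_stalk_subscheme_le W w x (by rw [← hι]; exact hw) p hp (by rw [hW, hξ])

/-- **EGA IV 14.4.6** (equivalences a), b), c)). -/
theorem tfae_isEquidimAt_of_isGeomUnibranch {X Y : Scheme.{u}} [IsLocallyNoetherian Y] (f : X ⟶ Y)
    [LocallyOfFiniteType f] (x : X) (hy : CAlg2.IsGeomUnibranch (Y.presheaf.stalk (f.base x))) :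
    List.TFAE [EGA43.IsEquidimAt f x,
      EGA4.IsEquidim (X.presheaf.stalk x) ∧ (∀ z : ↥(f.fiber (f.base x)), f.asFiber x ∈ closure {z} →
        (∀ z' : ↥(f.fiber (f.base x)), z ∈ closure {z'} → z' = z) → EGA43.IsOpenAt f.base ((f.fiberι (f.base x)).base z)),
      EGA4.IsEquidim (X.presheaf.stalk x) ∧ (∀ z : ↥(f.fiber (f.base x)), f.asFiber x ∈ closure {z} →
        (∀ z' : ↥(f.fiber (f.base x)), z ∈ closure {z'} → z' = z) → EGA43.IsUnivOpenAt f ((f.fiberι (f.base x)).base z))] := by
  tfae_have 1 → 3 := fun h =>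
    ⟨isEquidim_stalk_of_isEquidimAt_of_isGeomUnibranch f x h hy,
      fun z hz _ => isUnivOpenAt_fibre_generization_of_isEquidimAt f x h hy z hz⟩
  tfae_have 3 → 2 := fun h =>
    ⟨h.1, fun z hz hmax => isOpenAt_of_isUnivOpenAt f _ (h.2 z hz hmax)⟩
  tfae_have 2 → 1 := fun h => isEquidimAt_of_isOpenAt_of_isEquidim_stalk f x h.1 h.2
  tfae_finish

end Groth.Agent.H7
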