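import Mathlib
import Groth.Agent.H7.QuasiSection
import Groth.Agent.H7.DimOnePrime

/-!
# Quasi-finite quotients of essentially finite type local algebras (helper7)
-/

set_option autoImplicit false
set_option linter.style.haveILetI false
universe u

namespace Groth.Agent.H7

open IsLocalRing

/-- A local algebra essentially of finite type over a Noetherian local ring, with finite residue
field extension and whose only prime over the maximal ideal is the maximal ideal, is
quasi-finite. -/
theorem quasiFinite_of_essFiniteType_local {A D : Type u} [CommRing A] [CommRing D]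
    [IsLocalRing A] [IsLocalRing D] [IsNoetherianRing A] [Algebra A D]
    [IsLocalHom (algebraMap A D)] [Algebra.EssFiniteType A D]
    [Module.Finite (ResidueField A) (ResidueField D)]
    (hfib : ∀ Q : Ideal D, Q.IsPrime → (maximalIdeal A).map (algebraMap A D) ≤ Q →
      Q = maximalIdeal D) : Algebra.QuasiFinite A D := by
  obtain ⟨D₀, hD₀⟩ : ∃ D₀ : Subalgebra A D, D₀ = Algebra.EssFiniteType.subalgebra A D := ⟨_, rfl⟩
  haveI : Algebra.FiniteType A D₀ := by
    rw [hD₀]
    infer_instance
  haveI : IsNoetherianRing D₀ := Algebra.FiniteType.isNoetherianRing A D₀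
  obtain ⟨P₀, hP₀⟩ : ∃ P₀ : Ideal D₀, P₀ = (maximalIdeal D).comap (algebraMap D₀ D) := ⟨_, rfl⟩
  haveI hP₀prime : P₀.IsPrime := by
    rw [hP₀]
    exact Ideal.comap_isPrime _ _
  haveI : IsLocalization.AtPrime D P₀ := by
    have h1 : IsLocalization (Algebra.EssFiniteType.submonoid A D) D := inferInstance
    have h2 : P₀.primeCompl = (hD₀ ▸ Algebra.EssFiniteType.submonoid A D : Submonoid D₀) := by
      subst hD₀
      ext x
      show x ∉ P₀ ↔ IsUnit (algebraMap _ D x)
      rw [hP₀, Ideal.mem_comap, IsLocalRing.mem_maximalIdeal, mem_nonunits_iff, not_not]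
    subst hD₀
    show IsLocalization P₀.primeCompl D
    rw [h2]
    exact h1
  -- `P₀` lies over the maximal ideal
  have hP₀A : P₀.comap (algebraMap A D₀) = maximalIdeal A := by
    rw [hP₀, Ideal.comap_comap, ← IsScalarTower.algebraMap_eq]
    exact ((maximalIdeal.isMaximal A).eq_of_le (Ideal.comap_ne_top _
      (maximalIdeal.isMaximal D).ne_top) (fun a ha => by
        rw [Ideal.mem_comap]
        exact (IsLocalRing.mem_maximalIdeal _).mpr
          (fun hu => (IsLocalRing.mem_maximalIdeal a).mp ha (isUnit_of_map_unit _ a hu)))).symm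
  -- `P₀` is maximal
  have hP₀max : P₀.IsMaximal := by
    have hint : ((residue D).comp (algebraMap D₀ D)).IsIntegral := by
      apply RingHom.IsIntegral.tower_top (algebraMap A D₀)
      have h1 : ((residue D).comp (algebraMap D₀ D)).comp (algebraMap A D₀) =
          (algebraMap (ResidueField A) (ResidueField D)).comp (residue A) := by
        ext a
        simp only [RingHom.comp_apply]
        rw [IsLocalRing.ResidueField.algebraMap_residue, ← IsScalarTower.algebraMap_apply]
      rw [h1]
      exact RingHom.IsIntegral.trans _ _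
        (RingHom.isIntegral_of_surjective _ residue_surjective)
        (algebraMap_isIntegral_iff.mpr (Algebra.IsIntegral.of_finite _ _))
    have h2 : P₀ = Ideal.comap ((residue D).comp (algebraMap D₀ D)) ⊥ := by
      rw [hP₀, ← Ideal.comap_comap, ← RingHom.ker_eq_comap_bot (residue D),
        IsLocalRing.ker_residue]
    rw [h2]
    haveI : (⊥ : Ideal (ResidueField D)).IsMaximal := Ideal.bot_isMaximal
    exact Ideal.isMaximal_comap_of_isIntegral_of_isMaximal' _ hint ⊥
  -- quasi-finiteness at `P₀`
  have hqfa : Algebra.QuasiFiniteAt A P₀ := by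
    have hmain : ∀ q : PrimeSpectrum D₀, q.asIdeal = P₀ → Algebra.QuasiFiniteAt A q.asIdeal := by
      intro q hq
      apply Algebra.QuasiFiniteAt.of_isOpen_singleton_fiber q
      haveI : QuasiSober ↑(PrimeSpectrum.comap (algebraMap A D₀) ⁻¹'
          {q.comap (algebraMap A D₀)}) :=
        (PrimeSpectrum.preimageHomeomorphFiber A D₀
          (q.comap (algebraMap A D₀))).isClosedEmbedding.quasiSober
      apply isOpen_singleton_of_noetherianSpace
      · apply isClosed_singleton_of_forall_specializes
        intro b hb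
        have h1 : q ⤳ b.1 := hb.map continuous_subtype_val
        have h2 : q.asIdeal ≤ b.1.asIdeal := (PrimeSpectrum.le_iff_specializes q b.1).mpr h1
        rw [hq] at h2
        have h3 : P₀ = b.1.asIdeal := hP₀max.eq_of_le b.1.isPrime.ne_top h2
        exact Subtype.ext (PrimeSpectrum.ext (by rw [← h3, hq]))
      · intro b hb
        have h1 : b.1 ⤳ q := hb.map continuous_subtype_val
        have h2 : b.1.asIdeal ≤ q.asIdeal := (PrimeSpectrum.le_iff_specializes b.1 q).mpr h1
        rw [hq] at h2
        have hbA : b.1.asIdeal.comap (algebraMap A D₀) = maximalIdeal A := by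
          have h3 : b.1.comap (algebraMap A D₀) = q.comap (algebraMap A D₀) := b.2
          have h4 := congrArg PrimeSpectrum.asIdeal h3
          have h5 : b.1.asIdeal.comap (algebraMap A D₀) = q.asIdeal.comap (algebraMap A D₀) := h4
          rw [h5, hq, hP₀A]
        have hdisj : Disjoint (P₀.primeCompl : Set D₀) (b.1.asIdeal : Set D₀) := by
          rw [Set.disjoint_left]
          intro x hx hxb
          exact hx (h2 hxb)
        have hQprime : (b.1.asIdeal.map (algebraMap D₀ D)).IsPrime :=
          IsLocalization.isPrime_of_isPrime_disjoint P₀.primeCompl D _ b.1.isPrime hdisj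
        have hQcomap : (b.1.asIdeal.map (algebraMap D₀ D)).comap (algebraMap D₀ D) =
            b.1.asIdeal :=
          IsLocalization.under_map_of_isPrime_disjoint P₀.primeCompl D b.1.isPrime hdisj
        have hQle : (maximalIdeal A).map (algebraMap A D) ≤ b.1.asIdeal.map (algebraMap D₀ D) := by
          rw [Ideal.map_le_iff_le_comap]
          intro a ha
          rw [Ideal.mem_comap, IsScalarTower.algebraMap_apply A D₀ D]
          apply Ideal.mem_map_of_mem
          rw [← hbA] at ha
          exact ha
        have hQ := hfib _ hQprime hQle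
        have h6 : b.1.asIdeal = P₀ := by
          rw [← hQcomap, hQ, hP₀]
        exact Subtype.ext (PrimeSpectrum.ext (by rw [h6, hq]))
    exact hmain ⟨P₀, hP₀prime⟩ rfl
  -- transfer along the isomorphism with the localization
  have hqf : Algebra.QuasiFinite A (Localization.AtPrime P₀) := hqfa
  exact (Algebra.QuasiFinite.iff_of_algEquiv
    ((IsLocalization.algEquiv P₀.primeCompl (Localization.AtPrime P₀) D).restrictScalars A)).mp hqf

/-- **Stacks-type lemma.** -/
theorem exists_prime_in_open_with_quasiFinite_quotient {A B : Type u} [CommRing A] [CommRing B]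
    [IsLocalRing A] [IsLocalRing B] [IsNoetherianRing A]
    [Algebra A B] [IsLocalHom (algebraMap A B)] [Algebra.EssFiniteType A B]
    [Module.Finite (IsLocalRing.ResidueField A) (IsLocalRing.ResidueField B)]
    (V : Set (PrimeSpectrum B)) (hV : IsOpen V)
    (hne : ∃ q ∈ V, q.asIdeal.comap (algebraMap A B) ≠ IsLocalRing.maximalIdeal A) :
    ∃ q ∈ V, q.asIdeal.comap (algebraMap A B) ≠ IsLocalRing.maximalIdeal A ∧
      Algebra.QuasiFinite A (B ⧸ q.asIdeal) := by
  haveI : IsNoetherianRing B := Algebra.EssFiniteType.isNoetherianRing A B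
  obtain ⟨q₀, hq₀V, hq₀A⟩ := hne
  -- the ideal of the complement of `V`
  obtain ⟨J, hJ⟩ : ∃ J : Ideal B, ∀ t : PrimeSpectrum B, J ≤ t.asIdeal ↔ t ∉ V := by
    refine ⟨PrimeSpectrum.vanishingIdeal Vᶜ, fun t => ?_⟩
    have h1 : t ∈ PrimeSpectrum.zeroLocus (PrimeSpectrum.vanishingIdeal Vᶜ : Set B) ↔ t ∈ Vᶜ := by
      rw [PrimeSpectrum.zeroLocus_vanishingIdeal_eq_closure, hV.isClosed_compl.closure_eq]
    exact (SetLike.coe_subset_coe.symm.trans (PrimeSpectrum.mem_zeroLocus _ _).symm).trans h1
  have hover : ∀ t : Ideal B, t.IsPrime → ((maximalIdeal A).map (algebraMap A B) ≤ t ↔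
      t.comap (algebraMap A B) = maximalIdeal A) := by
    intro t ht
    rw [Ideal.map_le_iff_le_comap]
    constructor
    · intro h
      exact ((maximalIdeal.isMaximal A).eq_of_le (Ideal.comap_ne_top _ ht.ne_top) h).symm
    · intro h
      exact h.ge
  have h₀ : ¬ (maximalIdeal A).map (algebraMap A B) * J ≤ q₀.asIdeal := by
    intro h
    rcases (Ideal.IsPrime.mul_le q₀.isPrime).mp h with h1 | h1
    · exact hq₀A ((hover _ q₀.isPrime).mp h1)
    · exact (hJ q₀).mp h1 hq₀V
  haveI := q₀.isPrime
  obtain ⟨q, hqp, -, hIq, hmax⟩ := exists_prime_maximal_not_le _ q₀.asIdeal h₀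
  haveI := hqp
  refine ⟨⟨q, hqp⟩, ?_, ?_, ?_⟩
  · by_contra h
    exact hIq (Ideal.mul_le_right.trans ((hJ ⟨q, hqp⟩).mpr h))
  · intro h
    exact hIq (Ideal.mul_le_left.trans ((hover q hqp).mpr h))
  · show Algebra.QuasiFinite A (B ⧸ q)
    haveI : Nontrivial (B ⧸ q) := Ideal.Quotient.nontrivial_iff.mpr hqp.ne_top
    haveI : IsLocalRing (B ⧸ q) :=
      IsLocalRing.of_surjective' (Ideal.Quotient.mk q) Ideal.Quotient.mk_surjective
    have hmk : ∀ b : B, IsUnit (Ideal.Quotient.mk q b) → IsUnit b := by
      intro b hb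
      by_contra hnb
      have h1 : b ∈ maximalIdeal B := (IsLocalRing.mem_maximalIdeal b).mpr hnb
      obtain ⟨c, hc⟩ := hb.exists_right_inv
      obtain ⟨c', rfl⟩ := Ideal.Quotient.mk_surjective c
      rw [← map_mul, ← map_one (Ideal.Quotient.mk q), Ideal.Quotient.eq] at hc
      have h2 : b * c' - 1 ∈ maximalIdeal B := (IsLocalRing.le_maximalIdeal hqp.ne_top) hc
      have h3 : (1 : B) ∈ maximalIdeal B := by
        have h4 := (maximalIdeal B).sub_mem (Ideal.mul_mem_right c' _ h1) h2
        rwa [sub_sub_cancel] at h4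
      exact (maximalIdeal.isMaximal B).ne_top ((Ideal.eq_top_iff_one _).mpr h3)
    haveI : IsLocalHom (algebraMap A (B ⧸ q)) := by
      refine ⟨fun a ha => ?_⟩
      have h1 : IsUnit (Ideal.Quotient.mk q (algebraMap A B a)) := ha
      exact isUnit_of_map_unit (algebraMap A B) a (hmk _ h1)
    haveI : IsLocalHom (algebraMap B (B ⧸ q)) := ⟨fun b hb => hmk b hb⟩
    haveI : Module.Finite (ResidueField A) (ResidueField (B ⧸ q)) := by
      haveI : Module.Finite (ResidueField B) (ResidueField (B ⧸ q)) := by
        haveI : Module.Finite B (B ⧸ q) :=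
          Module.Finite.of_surjective (Algebra.linearMap B (B ⧸ q)) Ideal.Quotient.mk_surjective
        infer_instance
      exact Module.Finite.trans (ResidueField B) (ResidueField (B ⧸ q))
    apply quasiFinite_of_essFiniteType_local
    intro Q hQ hQle
    have h1 : (Q.comap (Ideal.Quotient.mk q)).IsPrime := Ideal.comap_isPrime _ _
    have h2 : q ≤ Q.comap (Ideal.Quotient.mk q) := by
      intro b hb
      rw [Ideal.mem_comap, Ideal.Quotient.eq_zero_iff_mem.mpr hb]
      exact Ideal.zero_mem _
    have h3 : (maximalIdeal A).map (algebraMap A B) ≤ Q.comap (Ideal.Quotient.mk q) := by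
      rw [Ideal.map_le_iff_le_comap] at hQle ⊢
      intro a ha
      exact hQle ha
    have h4 := hmax _ h1 h2 (Ideal.mul_le_left.trans h3)
    have h6 : ((maximalIdeal (B ⧸ q)).comap (Ideal.Quotient.mk q)) = maximalIdeal B := by
      haveI : ((maximalIdeal (B ⧸ q)).comap (Ideal.Quotient.mk q)).IsMaximal :=
        Ideal.comap_isMaximal_of_surjective _ Ideal.Quotient.mk_surjective
      exact IsLocalRing.eq_maximalIdeal this
    exact Ideal.comap_injective_of_surjective _ Ideal.Quotient.mk_surjective (h4.trans h6.symm)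

end Groth.Agent.H7
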