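import Mathlib.AlgebraicGeometry.ZariskisMainTheorem
import Groth.Agent.H7.SpecResidue

set_option autoImplicit false
universe u

namespace Groth.Agent.H7

open AlgebraicGeometry CategoryTheory Limits

variable {X S : Scheme.{u}} (f : X ⟶ S) [LocallyOfFiniteType f]

set_option backward.defeqAttrib.useBackward true in
set_option backward.isDefEq.respectTransparency false in
open TensorProduct in
/-- Étale localization of a quasi-finite point, strong form (Stacks 02LK, separated case):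
after an elementary étale neighbourhood `(U, u) → (S, f x)` the base change splits off an open and
closed piece `V`, finite over `U`, whose only point over `u` is a point `v` lying over `x`. -/
theorem exists_etale_isCompl_of_quasiFiniteAt_strong [IsSeparated f]
    (x : X) (hx : f.QuasiFiniteAt x) :
    ∃ (U : Scheme.{u}) (g : U ⟶ S) (u : U), Etale g ∧ g u = f x ∧
      Function.Bijective (g.residueFieldMap u) ∧
    ∃ (V W : (pullback f g).Opens) (v : ↑(pullback f g)), IsCompl V W ∧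
      IsFinite (V.ι ≫ pullback.snd f g) ∧ v ∈ V ∧
      pullback.fst f g v = x ∧ pullback.snd f g v = u ∧
      ∀ w ∈ V, pullback.snd f g w = u → w = v := by
  obtain ⟨_, ⟨U, hU, rfl⟩, hxU, -⟩ := S.isBasis_affineOpens.exists_subset_of_mem_open
    (Set.mem_univ (f x)) isOpen_univ
  obtain ⟨_, ⟨V, hV, rfl⟩, hxV, hUV : V ≤ f ⁻¹ᵁ U⟩ :=
    X.isBasis_affineOpens.exists_subset_of_mem_open hxU (f ⁻¹ᵁ U).2
  have : (f.appLE U V hUV).hom.FiniteType := f.finiteType_appLE hU hV hUV
  algebraize [(f.appLE U V hUV).hom]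
  have : (hV.primeIdealOf ⟨x, hxV⟩).asIdeal.LiesOver (hU.primeIdealOf ⟨f x, hxU⟩).asIdeal := by
    suffices hU.primeIdealOf ⟨f x, hxU⟩ = Spec.map (f.appLE U V hUV) (hV.primeIdealOf ⟨x, hxV⟩) from
      ⟨congr(($this).1)⟩
    apply hU.isoSpec.inv.homeomorph.injective
    apply Subtype.ext
    simp only [IsAffineOpen.primeIdealOf, Scheme.Hom.homeomorph_apply,
      ← Scheme.Hom.comp_apply, ← Scheme.Opens.ι_apply, IsAffineOpen.isoSpec_hom]
    simp
  have : Algebra.QuasiFiniteAt Γ(S, U) (hV.primeIdealOf ⟨x, hxV⟩).asIdeal :=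
    hx.quasiFiniteAt hV hU hUV hxV
  obtain ⟨R, _, _, _, P, _, _, e, _, P', _, _, hP', heP', hbij, _, huniq⟩ :=
    Algebra.exists_etale_isIdempotentElem_forall_liesOver_eq
    (hU.primeIdealOf ⟨f x, hxU⟩).asIdeal (hV.primeIdealOf ⟨x, hxV⟩).asIdeal
  have : (algebraMap R (Localization.Away e)).Finite := RingHom.finite_algebraMap.mpr ‹_›
  let φ : Γ(S, U) ⟶ .of R := CommRingCat.ofHom <| algebraMap Γ(S, U) R
  have hφ : φ.hom.Etale := RingHom.etale_algebraMap.mpr ‹_›
  have : Etale (Spec.map φ) := HasRingHomProperty.Spec_iff.mpr hφ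
  let e₁ : Spec (.of (R ⊗ Γ(X, V))) ≅ pullback (Spec.map (f.appLE U V hUV)) (Spec.map φ) :=
    (pullbackSpecIso _ _ _).symm ≪≫ pullbackSymmetry _ _
  have he₁ : e₁.hom ≫ pullback.fst _ _ =
      Spec.map (CommRingCat.ofHom Algebra.TensorProduct.includeRight.toRingHom) := by
    dsimp [e₁, RingHom.algebraMap_toAlgebra]
    rw [Category.assoc, pullbackSymmetry_hom_comp_fst]
    exact pullbackSpecIso_inv_snd ..
  have he₁' : e₁.hom ≫ pullback.snd _ _ =
      Spec.map (CommRingCat.ofHom (algebraMap R (R ⊗[Γ(S, U)] Γ(X, V)))) := by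
    dsimp [e₁, RingHom.algebraMap_toAlgebra]
    rw [Category.assoc, pullbackSymmetry_hom_comp_snd]
    exact pullbackSpecIso_inv_fst ..
  let g : Spec (.of (R ⊗[Γ(S, U)] Γ(X, V))) ⟶ pullback f (Spec.map φ ≫ hU.fromSpec) :=
    e₁.hom ≫ pullback.map _ _ _ _ hV.fromSpec (𝟙 _) hU.fromSpec
      (IsAffineOpen.SpecMap_appLE_fromSpec ..) (by simp)
  have hgsnd : g ≫ pullback.snd f (Spec.map φ ≫ hU.fromSpec) =
      Spec.map (CommRingCat.ofHom (algebraMap R (R ⊗[Γ(S, U)] Γ(X, V)))) := by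
    simp only [g, Category.assoc, pullback.lift_snd, pullback.map]
    rw [Category.comp_id, he₁']
  let W₁ := g ''ᵁ PrimeSpectrum.basicOpen e
  have : IsFinite (W₁.ι ≫ pullback.snd f _) := by
    let ι : Spec (.of (Localization.Away e)) ⟶ pullback f (Spec.map φ ≫ hU.fromSpec) :=
      Spec.map (CommRingCat.ofHom <| algebraMap _ _) ≫ g
    have : ι.opensRange = W₁ := by
      simp only [Scheme.Hom.opensRange_comp, ι, W₁]
      congr 1
      exact TopologicalSpace.Opens.ext <| PrimeSpectrum.localization_away_comap_range _ _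
    rw [← this, ← MorphismProperty.cancel_left_of_respectsIso @IsFinite
      (Scheme.Hom.isoOpensRange _).hom]
    have H : (pullbackSpecIso _ R _).inv ≫ pullback.fst _ (Spec.map (f.appLE U V hUV)) = _ :=
      pullbackSpecIso_inv_fst ..
    simpa [Scheme.Hom.isoOpensRange, ι, g, e₁, RingHom.algebraMap_toAlgebra, φ, H,
      ← Spec.map_comp, IsFinite.SpecMap_iff]
  have : IsFinite W₁.ι := .of_comp _ (pullback.snd f _)
  let W₂ : (pullback f (Spec.map φ ≫ hU.fromSpec)).Opens :=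
    ⟨W₁ᶜ, by simpa using W₁.ι.isClosedMap.isClosed_range⟩
  have hu : (Spec.map φ ≫ hU.fromSpec) ⟨P, ‹_›⟩ = f x := by
    dsimp [Spec.map_apply]
    convert! hU.fromSpec_primeIdealOf ⟨f x, hxU⟩
    exact PrimeSpectrum.ext (Ideal.over_def _ _).symm
  have hsndv : pullback.snd f (Spec.map φ ≫ hU.fromSpec) (g ⟨P', ‹_›⟩) = ⟨P, ‹_›⟩ := by
    rw [← Scheme.Hom.comp_apply, hgsnd]
    exact PrimeSpectrum.ext (Ideal.over_def P' P).symm
  refine ⟨Spec (.of R), Spec.map φ ≫ hU.fromSpec, ⟨P, ‹_›⟩, inferInstance, hu, ?_,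
    W₁, W₂, g ⟨P', ‹_›⟩, ?_, ‹_›, ?_, ?_, hsndv, ?_⟩
  · -- residue fields
    rw [Scheme.residueFieldMap_comp]
    have h1 : Function.Bijective ((Spec.map φ).residueFieldMap ⟨P, ‹_›⟩) := by
      rw [Spec_residueFieldMap_bijective_iff]
      exact (residueField_map_bijective_congr _ _ P φ.hom rfl (P.over_def _)).mpr hbij
    have h2 := ConcreteCategory.bijective_of_isIso
      (hU.fromSpec.residueFieldMap ((Spec.map φ) ⟨P, ‹_›⟩))
    exact h1.comp h2
  · simp [isCompl_iff, disjoint_iff, codisjoint_iff, W₂, SetLike.ext'_iff]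
  · exact ⟨⟨P', ‹_›⟩, heP', rfl⟩
  · trans hV.fromSpec ⟨P'.comap Algebra.TensorProduct.includeRight.toRingHom, inferInstance⟩
    · simp [← Scheme.Hom.comp_apply, -Scheme.Hom.comp_base, g, reassoc_of% he₁]; rfl
    convert! hV.fromSpec_primeIdealOf ⟨x, hxV⟩
  · rintro _ ⟨⟨P'', hP''⟩, hP''e, rfl⟩ hw
    have hw' : (g ≫ pullback.snd f (Spec.map φ ≫ hU.fromSpec)) ⟨P'', hP''⟩ = ⟨P, ‹_›⟩ := hw
    rw [hgsnd] at hw'
    have : P''.LiesOver P := ⟨(congrArg PrimeSpectrum.asIdeal hw').symm⟩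
    have := huniq P'' hP'' this hP''e
    subst this
    rfl

end Groth.Agent.H7
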