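import Mathlib.AlgebraicGeometry.Noetherian
import Mathlib.AlgebraicGeometry.Morphisms.Flat
import Mathlib.AlgebraicGeometry.Morphisms.UniversallyOpen
import Mathlib.AlgebraicGeometry.Morphisms.Descent
import Mathlib.AlgebraicGeometry.Morphisms.FinitePresentation
import Mathlib.RingTheory.Flat.FaithfullyFlat.Basic

set_option autoImplicit false
universe u

namespace Groth.Agent.H7

theorem isNoetherianRing_of_faithfullyFlat {A B : Type u} [CommRing A] [CommRing B] (φ : A →+* B)
    (hφ : φ.FaithfullyFlat) [IsNoetherianRing B] : IsNoetherianRing A := by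
  algebraize [φ]
  have : Module.FaithfullyFlat A B := hφ
  apply Submodule.IsNoetherian.of_isNoetherian_tensorProduct_of_faithfullyFlat (A := B)
  exact isNoetherian_of_linearEquiv (TensorProduct.AlgebraTensorModule.rid A B B).symm

open AlgebraicGeometry CategoryTheory Limits

theorem isNoetherianRing_of_fppf_affine {X' X : Scheme.{u}} [IsAffine X] (a : X' ⟶ X) [Flat a]
    [Surjective a] [LocallyOfFinitePresentation a] [IsLocallyNoetherian X'] :
    IsNoetherianRing Γ(X, ⊤) := by
  obtain ⟨V₀, hV, e⟩ := a.isOpenMap.exists_opens_image_eq_of_prespectralSpace a.continuous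
    (U := Set.univ) (by simp [a.surjective.range_eq]) isOpen_univ isCompact_univ
  let V : X'.Opens := V₀
  have : CompactSpace ↥V := isCompact_iff_compactSpace.mp hV
  have : CompactSpace ((V : Scheme.{u}) : Type u) := this
  obtain ⟨Y, p, hp1, ⟨hp2, hp3⟩, hY⟩ :=
    Scheme.exists_hom_isAffine_of_isZariskiLocalAtSource (@Flat ⊓ @LocallyOfFiniteType) (V : Scheme.{u})
  have : Flat p := hp2
  have : LocallyOfFiniteType p := hp3
  have : IsLocallyNoetherian Y := LocallyOfFiniteType.isLocallyNoetherian p
  let q : Y ⟶ X := p ≫ V.ι ≫ a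
  have hq1 : Flat q := inferInstance
  have hq2 : Surjective q := by
    constructor
    intro x
    have hx : x ∈ a '' (V : Set X') := by rw [e]; trivial
    obtain ⟨v, hv, rfl⟩ := hx
    obtain ⟨y, hy⟩ := p.surjective ⟨v, hv⟩
    refine ⟨y, ?_⟩
    simp only [q, Scheme.Hom.comp_apply, hy]
    rfl
  have hff := (Flat.flat_and_surjective_iff_faithfullyFlat_of_isAffine (f := q)).mp ⟨hq1, hq2⟩
  have : IsNoetherianRing Γ(Y, ⊤) :=
    IsLocallyNoetherian.component_noetherian ⟨⊤, isAffineOpen_top Y⟩
  exact isNoetherianRing_of_faithfullyFlat _ hff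

theorem isLocallyNoetherian_of_fppf_affine {X' X : Scheme.{u}} [IsAffine X] (a : X' ⟶ X) [Flat a]
    [Surjective a] [LocallyOfFinitePresentation a] [IsLocallyNoetherian X'] :
    IsLocallyNoetherian X := by
  have := isNoetherianRing_of_fppf_affine a
  have : IsLocallyNoetherian (Spec Γ(X, ⊤)) := inferInstance
  exact isLocallyNoetherian_of_isOpenImmersion X.isoSpec.hom

/-- Local Noetherianity descends along fppf covers. -/
theorem isLocallyNoetherian_of_fppf {X' X : Scheme.{u}} (a : X' ⟶ X) [Flat a]
    [Surjective a] [LocallyOfFinitePresentation a] [IsLocallyNoetherian X'] :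
    IsLocallyNoetherian X := by
  rw [isLocallyNoetherian_iff_openCover X.affineCover]
  intro i
  have : IsLocallyNoetherian (pullback a (X.affineCover.f i)) :=
    isLocallyNoetherian_of_isOpenImmersion (pullback.fst a (X.affineCover.f i))
  have : Surjective (pullback.snd a (X.affineCover.f i)) :=
    MorphismProperty.pullback_snd (P := @Surjective) _ _ ‹_›
  exact isLocallyNoetherian_of_fppf_affine (pullback.snd a (X.affineCover.f i))

/-- For an fppf cover `a : X' ⟶ X`, `X` is locally Noetherian iff `X'` is. -/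
theorem isLocallyNoetherian_iff_of_fppf {X' X : Scheme.{u}} (a : X' ⟶ X) [Flat a]
    [Surjective a] [LocallyOfFinitePresentation a] :
    IsLocallyNoetherian X ↔ IsLocallyNoetherian X' :=
  ⟨fun _ => LocallyOfFiniteType.isLocallyNoetherian a, fun _ => isLocallyNoetherian_of_fppf a⟩

end Groth.Agent.H7
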