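import Mathlib.AlgebraicGeometry.Morphisms.Flat
import Mathlib.AlgebraicGeometry.Noetherian
import Mathlib.RingTheory.RingHomProperties
import Groth.Agent.H7.NoethDescent

set_option autoImplicit false
universe u

namespace Groth.Agent.H7

open AlgebraicGeometry CategoryTheory Limits

section
variable {X Y : Scheme.{u}} {k k' : CommRingCat.{u}} {φ : k ⟶ k'} {g₀ : Y ⟶ X}
  {iX : X ⟶ Spec k} {iY : Y ⟶ Spec k'} (H : IsPullback g₀ iY iX (Spec.map φ))

include H in
theorem isAffineOpen_preimage_of_isPullback_Spec {U : X.Opens} (hU : IsAffineOpen U) :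
    IsAffineOpen (g₀ ⁻¹ᵁ U) := by
  have hUY : g₀ ⁻¹ᵁ U = g₀ ⁻¹ᵁ U ⊓ iY ⁻¹ᵁ ⊤ := by simp
  have : IsAffine ((⊤ : (Spec k).Opens) : Scheme.{u}) := isAffineOpen_top (Spec k)
  have : IsAffine ((⊤ : (Spec k').Opens) : Scheme.{u}) := isAffineOpen_top (Spec k')
  have : IsAffine (U : Scheme.{u}) := hU
  exact .of_isIso (Scheme.Hom.isPullback_resLE H (US := ⊤) (UT := ⊤) (UX := U)
    (by simp) (by simp) hUY).isoPullback.hom

include H in
/-- In a cartesian square over `Spec.map φ`, ring-hom properties stable under base change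
pass from `φ` to the maps on sections over affine opens. -/
theorem app_of_isPullback_Spec {P : ∀ {R S : Type u} [CommRing R] [CommRing S], (R →+* S) → Prop}
    (hP : RingHom.IsStableUnderBaseChange @P) (hP' : RingHom.RespectsIso @P) (hφ : P φ.hom)
    {U : X.Opens} (hU : IsAffineOpen U) : P (g₀.app U).hom := by
  have hUY : g₀ ⁻¹ᵁ U = g₀ ⁻¹ᵁ U ⊓ iY ⁻¹ᵁ ⊤ := by simp
  have hiso := isIso_pushoutSection_of_isAffineOpen H (US := ⊤) (UT := ⊤) (UX := U)
    (by simp) (by simp) hUY (isAffineOpen_top _) (isAffineOpen_top _) hU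
  have hpo := (isIso_pushoutSection_iff H (US := ⊤) (UT := ⊤) (UX := U)
    (by simp) (by simp) hUY).mp hiso
  have h1 : (RingHom.toMorphismProperty @P).IsStableUnderCobaseChange :=
    RingHom.isStableUnderCobaseChange_toMorphismProperty_iff.mpr hP
  have h2 : (RingHom.toMorphismProperty @P).RespectsIso :=
    RingHom.toMorphismProperty_respectsIso_iff.mp hP'
  have h3 : RingHom.toMorphismProperty @P ((Spec.map φ).appLE ⊤ ⊤ (by simp)) := by
    have : (Spec.map φ).appLE ⊤ ⊤ (by simp) = (Spec.map φ).appTop := by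
      simp [Scheme.Hom.appLE]
    rw [this]
    have e : (Spec.map φ).appTop = (Scheme.ΓSpecIso k).hom ≫ φ ≫ (Scheme.ΓSpecIso k').inv := by
      rw [← Category.assoc, ← Scheme.ΓSpecIso_naturality, Category.assoc, Iso.hom_inv_id,
        Category.comp_id]
    rw [e]
    refine ((RingHom.toMorphismProperty @P).cancel_left_of_respectsIso _ _).mpr ?_
    refine ((RingHom.toMorphismProperty @P).cancel_right_of_respectsIso _ _).mpr ?_
    exact hφ
  have h4 := MorphismProperty.IsStableUnderCobaseChange.of_isPushout hpo h3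
  have : g₀.appLE U (g₀ ⁻¹ᵁ U) (by simp) = g₀.app U := Scheme.Hom.appLE_eq_app _
  rw [this] at h4
  exact h4

include H in
theorem isLocallyNoetherian_of_isPullback_Spec_of_essFiniteType (hφ : φ.hom.EssFiniteType)
    [IsLocallyNoetherian X] : IsLocallyNoetherian Y := by
  apply isLocallyNoetherian_of_affine_cover
    (S := fun U : X.affineOpens => ⟨g₀ ⁻¹ᵁ U.1, isAffineOpen_preimage_of_isPullback_Spec H U.2⟩)
  · simp only
    rw [← Scheme.Hom.preimage_iSup, iSup_affineOpens_eq_top]
    rfl
  · intro U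
    have h := app_of_isPullback_Spec H RingHom.EssFiniteType.isStableUnderBaseChange
      RingHom.EssFiniteType.respectsIso hφ U.2
    algebraize [(g₀.app U.1).hom]
    have : IsNoetherianRing Γ(X, U.1) := IsLocallyNoetherian.component_noetherian U
    exact Algebra.EssFiniteType.isNoetherianRing Γ(X, U.1) _

include H in
theorem isLocallyNoetherian_of_isPullback_Spec_of_faithfullyFlat (hφ : φ.hom.FaithfullyFlat)
    [IsLocallyNoetherian Y] : IsLocallyNoetherian X := by
  constructor
  intro U
  have h := app_of_isPullback_Spec H RingHom.FaithfullyFlat.isStableUnderBaseChange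
    RingHom.FaithfullyFlat.respectsIso hφ U.2
  have : IsNoetherianRing Γ(Y, g₀ ⁻¹ᵁ U.1) :=
    IsLocallyNoetherian.component_noetherian ⟨_, isAffineOpen_preimage_of_isPullback_Spec H U.2⟩
  exact isNoetherianRing_of_faithfullyFlat _ h

end

end Groth.Agent.H7
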