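import Groth.Agent.H7.GeomCountLSC
import Groth.Agent.H7.DiagCompl
import Mathlib.AlgebraicGeometry.Morphisms.FormallyUnramified

set_option autoImplicit false
set_option linter.style.haveILetI false
universe u

namespace Groth.Agent.H7

open AlgebraicGeometry CategoryTheory Limits

variable {X Y : Scheme.{u}}

theorem fibreIntegral_eq_zero_of_isEmpty_fibre {U V : Scheme.{u}} (π : U ⟶ V) (w : U → ℤ) (v : V)
    (h : ∀ x, π x ≠ v) : MoreMor.fibreIntegral π w v = 0 := by
  rw [fibreIntegral_eq_finsum_mem]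
  have : π ⁻¹' {v} = ∅ := Set.eq_empty_of_forall_notMem fun x hx => h x hx
  rw [this, finsum_mem_empty]

theorem one_le_fibreIntegral_one_of_mem {U V : Scheme.{u}} (π : U ⟶ V) [LocallyQuasiFinite π]
    (x : U) (hfib : (π ⁻¹' {π x}).Finite) :
    1 ≤ MoreMor.fibreIntegral π (fun _ => 1) (π x) := by
  rw [fibreIntegral_eq_finsum_mem]
  have h1 : (1 : ℤ) ≤ fibreTerm π (fun _ => 1) x := fibreTerm_pos π (fun _ => 1) x one_pos
  have h2 := le_finsum_mem_of_nonneg _ hfib (fibreTerm π (fun _ => 1))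
    (fun a _ => fibreTerm_nonneg π _ a zero_le_one) x rfl
  linarith

/-- For a finite étale morphism the complement of the diagonal is again finite étale over the
source. -/
theorem exists_diag_compl {P B : Scheme.{u}} (π : P ⟶ B) [IsFinite π] [Etale π] :
    ∃ W : (pullback π π).Opens,
      (W : Set ↑(pullback π π)) = (Set.range (pullback.diagonal π))ᶜ ∧
      IsFinite (W.ι ≫ pullback.fst π π) ∧ Etale (W.ι ≫ pullback.fst π π) := by
  have hclosed : IsClosed (Set.range (pullback.diagonal π)) :=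
    (pullback.diagonal π).isClosedEmbedding.isClosed_range
  have hopen : IsOpen (Set.range (pullback.diagonal π)) :=
    (pullback.diagonal π).isOpenEmbedding.isOpen_range
  let W : (pullback π π).Opens := ⟨(Set.range (pullback.diagonal π))ᶜ, hclosed.isOpen_compl⟩
  haveI : IsClosedImmersion W.ι :=
    .of_isPreimmersion _ (by rw [Scheme.Opens.range_ι]; exact hopen.isClosed_compl)
  exact ⟨W, rfl, inferInstance, inferInstance⟩

/-- Upper semicontinuity of the number of geometric points of the fibres of a finite étale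
morphism. -/
theorem exists_nhds_fibreIntegral_one_le_of_finite_etale :
    ∀ (d : ℕ) {P B : Scheme.{u}} (π : P ⟶ B) (_ : IsFinite π) (_ : Etale π) (b : B),
      MoreMor.fibreIntegral π (fun _ => 1) b ≤ d →
      ∃ O : B.Opens, b ∈ O ∧ ∀ z ∈ O,
        MoreMor.fibreIntegral π (fun _ => 1) z ≤ MoreMor.fibreIntegral π (fun _ => 1) b := by
  intro d
  induction d with
  | zero =>
    intro P B π hfin het b hb
    haveI := hfin
    haveI := het
    have hfib : ∀ z : B, (π ⁻¹' {z}).Finite := fun z => π.finite_preimage_singleton z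
    have hb0 : MoreMor.fibreIntegral π (fun _ => 1) b = 0 :=
      le_antisymm (by exact_mod_cast hb) (fibreIntegral_one_nonneg π b)
    have hnot : b ∉ Set.range π := by
      rintro ⟨x, rfl⟩
      have := one_le_fibreIntegral_one_of_mem π x (hfib _)
      omega
    refine ⟨⟨(Set.range π)ᶜ, π.isClosedMap.isClosed_range.isOpen_compl⟩, hnot, fun z hz => ?_⟩
    rw [hb0, fibreIntegral_eq_zero_of_isEmpty_fibre π _ z (fun x hx => hz ⟨x, hx⟩)]
  | succ d ih =>
    intro P B π hfin het b hb
    haveI := hfin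
    haveI := het
    have hfib : ∀ z : B, (π ⁻¹' {z}).Finite := fun z => π.finite_preimage_singleton z
    by_cases hbd : MoreMor.fibreIntegral π (fun _ => 1) b ≤ d
    · exact ih π hfin het b hbd
    have hbeq : MoreMor.fibreIntegral π (fun _ => 1) b = d + 1 := by
      push_cast at hb
      omega
    obtain ⟨W, hW, hWfin, hWet⟩ := exists_diag_compl π
    have hdiag : ∀ x : P, MoreMor.fibreIntegral π (fun _ => 1) (π x) =
        1 + MoreMor.fibreIntegral (W.ι ≫ pullback.fst π π) (fun _ => 1) x := fun x =>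
      fibreIntegral_diag_formula π W hW (fun _ => 1) x (hfib _)
    have hG : ∀ x : P, π x = b →
        {x' : P | MoreMor.fibreIntegral (W.ι ≫ pullback.fst π π) (fun _ => 1) x' ≤ d} ∈
          nhds x := by
      intro x hx
      have hx1 : MoreMor.fibreIntegral (W.ι ≫ pullback.fst π π) (fun _ => 1) x = d := by
        have := hdiag x
        rw [hx, hbeq] at this
        linarith
      obtain ⟨O, hxO, hO⟩ := ih (W.ι ≫ pullback.fst π π) hWfin hWet x hx1.le
      refine Filter.mem_of_superset (O.isOpen.mem_nhds hxO) fun x' hx' => ?_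
      exact (hO x' hx').trans hx1.le
    have hGopen : IsOpen (interior
        {x' : P | MoreMor.fibreIntegral (W.ι ≫ pullback.fst π π) (fun _ => 1) x' ≤ d}) :=
      isOpen_interior
    have hC : IsClosed (π '' (interior
        {x' : P | MoreMor.fibreIntegral (W.ι ≫ pullback.fst π π) (fun _ => 1) x' ≤ d})ᶜ) :=
      π.isClosedMap _ hGopen.isClosed_compl
    have hbC : b ∉ π '' (interior
        {x' : P | MoreMor.fibreIntegral (W.ι ≫ pullback.fst π π) (fun _ => 1) x' ≤ d})ᶜ := by
      rintro ⟨x, hxG, hxb⟩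
      exact hxG (mem_interior_iff_mem_nhds.mpr (hG x hxb))
    refine ⟨⟨_, hC.isOpen_compl⟩, hbC, fun z hz => ?_⟩
    rw [hbeq]
    by_cases hzr : ∃ x, π x = z
    · obtain ⟨x, rfl⟩ := hzr
      have hxG : x ∈ interior
          {x' : P | MoreMor.fibreIntegral (W.ι ≫ pullback.fst π π) (fun _ => 1) x' ≤ d} := by
        by_contra hx
        exact hz ⟨x, hx, rfl⟩
      have h2 : x ∈ {x' : P |
          MoreMor.fibreIntegral (W.ι ≫ pullback.fst π π) (fun _ => 1) x' ≤ d} :=
        interior_subset hxG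
      have h3 : MoreMor.fibreIntegral (W.ι ≫ pullback.fst π π) (fun _ => 1) x ≤ d := h2
      rw [hdiag x]
      linarith
    · simp only [not_exists] at hzr
      rw [fibreIntegral_eq_zero_of_isEmpty_fibre π _ z hzr]
      positivity

/-- **The number of geometric points of the fibres of a finite étale morphism is locally
constant.** -/
theorem isLocallyConstant_fibreIntegral_one_of_finite_etale {P B : Scheme.{u}} (π : P ⟶ B)
    [IsFinite π] [Etale π] : IsLocallyConstant (MoreMor.fibreIntegral π (fun _ => 1)) := by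
  rw [IsLocallyConstant.iff_exists_open]
  intro b
  have hfib : ∀ z : B, (π ⁻¹' {z}).Finite := fun z => π.finite_preimage_singleton z
  obtain ⟨O₁, hb1, h1⟩ := exists_nhds_fibreIntegral_one_le π hfib b
    (fun x _ => isUnivOpenAt_of_universallyOpen π x)
  obtain ⟨O₂, hb2, h2⟩ := exists_nhds_fibreIntegral_one_le_of_finite_etale
    (MoreMor.fibreIntegral π (fun _ => 1) b).toNat π inferInstance inferInstance b
    (by rw [Int.toNat_of_nonneg (fibreIntegral_one_nonneg π b)])
  exact ⟨((O₁ ⊓ O₂ : B.Opens) : Set B), (O₁ ⊓ O₂).isOpen, ⟨hb1, hb2⟩,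
    fun z hz => le_antisymm (h2 z hz.2) (h1 z hz.1)⟩

/-- The constant function `1` is a weighting of any étale morphism. -/
theorem isWeighting_one_of_etale (f : X ⟶ Y) [Etale f] : MoreMor.IsWeighting f (fun _ => 1) := by
  intro V g _ U hU
  haveI := hU
  exact isLocallyConstant_fibreIntegral_one_of_finite_etale (U.ι ≫ pullback.snd f g)

section EtaleCount

variable (f : X ⟶ Y) [Etale f] [IsSeparated f] [QuasiCompact f]

theorem card_geomFiber_eq_fibreIntegral_one [LocallyQuasiFinite f] (y : Y) :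
    ENat.card ↥(MoreMor.geomFiber f y) =
      ((MoreMor.fibreIntegral f (fun _ => 1) y).toNat : ℕ∞) := by
  rw [← nGeomConnComp_eq_card,
    nGeomConnComp_eq_fibreIntegral_one f y (f.finite_preimage_singleton y)]

theorem exists_isFinite_restrict_of_card_const (y : Y)
    (h : ∃ U : Y.Opens, y ∈ U ∧ ∀ y' : Y, y' ∈ U →
      ENat.card ↥(MoreMor.geomFiber f y') = ENat.card ↥(MoreMor.geomFiber f y)) :
    ∃ U : Y.Opens, y ∈ U ∧ IsFinite (f ∣_ U) := by
  haveI : LocallyQuasiFinite f := locallyQuasiFinite_of_etale f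
  have hfin : ∀ z : Y, (f ⁻¹' {z}).Finite := fun z => f.finite_preimage_singleton z
  obtain ⟨U, hyU, hU⟩ := h
  obtain ⟨O, hyO, hO⟩ := exists_isProper_restrict_of_nGeomConnComp_const f hfin y
    (fun x _ => isUnivOpenAt_of_universallyOpen f x)
    ⟨(U : Set Y), U.isOpen.mem_nhds hyU, fun z hz => by
      rw [nGeomConnComp_eq_card, nGeomConnComp_eq_card]
      exact hU z hz⟩
  refine ⟨O, hyO, ?_⟩
  haveI := hO
  haveI : LocallyQuasiFinite (f ∣_ O) :=
    MorphismProperty.of_isPullback (P := @LocallyQuasiFinite)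
      (isPullback_morphismRestrict f O).flip inferInstance
  exact IsFinite.of_isProper_of_locallyQuasiFinite _

theorem exists_card_const_of_isFinite_restrict (y : Y) (U : Y.Opens) (hyU : y ∈ U)
    (hU : IsFinite (f ∣_ U)) :
    ∃ O : Y.Opens, y ∈ O ∧ ∀ y' : Y, y' ∈ O →
      ENat.card ↥(MoreMor.geomFiber f y') = ENat.card ↥(MoreMor.geomFiber f y) := by
  haveI : LocallyQuasiFinite f := locallyQuasiFinite_of_etale f
  have hfin : ∀ z : Y, (f ⁻¹' {z}).Finite := fun z => f.finite_preimage_singleton z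
  haveI := hU
  have hlc := isLocallyConstant_fibreIntegral_one_of_finite_etale (f ∣_ U)
  have hc : IsPullback (f ⁻¹ᵁ U).ι (f ∣_ U) f U.ι := (isPullback_morphismRestrict f U).flip
  have hbc : ∀ u : U, MoreMor.fibreIntegral (f ∣_ U) (fun _ => 1) u =
      MoreMor.fibreIntegral f (fun _ => 1) (U.ι u) := fun u =>
    (fibreIntegral_baseChange f (f ∣_ U) (f ⁻¹ᵁ U).ι U.ι hc (fun _ => 1) u (hfin _)).2
  have hSopen := hlc.isOpen_fiber (MoreMor.fibreIntegral (f ∣_ U) (fun _ => 1) ⟨y, hyU⟩)
  refine ⟨⟨U.ι '' {u | MoreMor.fibreIntegral (f ∣_ U) (fun _ => 1) u =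
      MoreMor.fibreIntegral (f ∣_ U) (fun _ => 1) ⟨y, hyU⟩},
    U.ι.isOpenEmbedding.isOpenMap _ hSopen⟩, ⟨⟨y, hyU⟩, rfl, rfl⟩, ?_⟩
  rintro _ ⟨u, hu, rfl⟩
  rw [card_geomFiber_eq_fibreIntegral_one, card_geomFiber_eq_fibreIntegral_one, ← hbc u,
    show y = U.ι ⟨y, hyU⟩ from rfl, ← hbc ⟨y, hyU⟩]
  exact congrArg (fun n : ℤ => ((n.toNat : ℕ) : ℕ∞)) hu

end EtaleCount

end Groth.Agent.H7
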