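import Mathlib
import Groth.Agent.H38.FibreDimDense
import Groth.Agent.H38.FibreDimLSC
import Groth.Agent.H9.FibreGeneric
import Groth.Agent.H9.FibDimGeneric
import Groth.Agent.H9.CMFlatSch
import Groth.Agent.H9.TrdegBridge
import Groth.Agent.H9.TrdegSq
import Groth.Agent.H8.FlatBaseChange
import Groth.Agent.H29.FiberStalkAt

/-!
# Fibre dimension at a flat point of a morphism of finite type with irreducible source

* `exists_generization_of_flat_stalkMap`: generizations lift along a morphism at a point where the
  stalk map is flat.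
* `exists_fibre_max_generization`: every point has a generization in its fibre which is maximal
  in the fibre and of at least the same local fibre dimension.
* `fibreDimAt_eq_generic_of_flat`: for `f` locally of finite type with irreducible source, flat at
  all generizations of `x`, the fibre dimension at `x` is the one at the generic point.
* `main`: the dimension formula `dim (B/m_A B) + trdeg κ(A) κ(B) = trdeg A B` for a flat local
  homomorphism of local domains essentially of finite type (no noetherian hypothesis).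
-/

set_option autoImplicit false
set_option linter.style.haveILetI false
universe u
open CategoryTheory AlgebraicGeometry Limits

namespace Groth.Agent.H7.FlatDimFormula

open Groth.Agent.H54 Groth.Agent.H38.SectionComp

/-- Generizations lift along a morphism at a point where the stalk map is flat. -/
theorem exists_generization_of_flat_stalkMap {P T : Scheme.{u}} (g : P ⟶ T) (z : P)
    (hz : (g.stalkMap z).hom.Flat) (a : T) (ha : a ⤳ g.base z) :
    ∃ ξ : P, ξ ⤳ z ∧ g.base ξ = a := by
  have ha' : a ∈ Set.range (T.fromSpecStalk (g.base z)) := by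
    rw [Scheme.range_fromSpecStalk]; exact ha
  obtain ⟨p, rfl⟩ := ha'
  algebraize [(g.stalkMap z).hom]
  haveI : Module.FaithfullyFlat (T.presheaf.stalk (g.base z)) (P.presheaf.stalk z) :=
    @Module.FaithfullyFlat.of_flat_of_isLocalHom _ _ _ _ _ _ _ hz (g.toLRSHom.prop z)
  obtain ⟨q, hq⟩ := PrimeSpectrum.comap_surjective_of_faithfullyFlat
    (A := T.presheaf.stalk (g.base z)) (B := P.presheaf.stalk z) p
  refine ⟨P.fromSpecStalk z q, ?_, ?_⟩
  · have : P.fromSpecStalk z q ∈ Set.range (P.fromSpecStalk z) := ⟨q, rfl⟩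
    rw [Scheme.range_fromSpecStalk] at this
    exact this
  · have h1 : (Spec.map (g.stalkMap z) ≫ T.fromSpecStalk (g.base z)) q =
        (P.fromSpecStalk z ≫ g) q := by
      rw [Scheme.SpecMap_stalkMap_fromSpecStalk]
    rw [Scheme.Hom.comp_apply, Scheme.Hom.comp_apply] at h1
    rw [← hq]
    exact h1.symm

/-- Every point has a generization in its fibre which is maximal in the fibre and has at least the
same local fibre dimension. -/
theorem exists_fibre_max_generization {X Y : Scheme.{u}} (f : X ⟶ Y) [LocallyOfFiniteType f]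
    (x : X) :
    ∃ z : X, z ⤳ x ∧ f.base z = f.base x ∧
      (∀ x' : X, f.base x' = f.base z → z ∈ closure {x'} → x' = z) ∧
      FlatMor.fibreDimAt f x ≤ FlatMor.fibreDimAt f z := by
  obtain ⟨ζ, hζz, hle⟩ := Groth.Agent.H9.FibreGeneric.exists_specializes_localDim_le
    (fiberQ f (f.base x)) (f.asFiber x)
  obtain ⟨ζ', hζ'ζ, hζ'comp⟩ := exists_generic_specializes ζ
  have hmem : f.base ((f.fiberι (f.base x)).base ζ') = f.base x := fiberι_mem f (f.base x) ζ'
  refine ⟨(f.fiberι (f.base x)).base ζ', ?_, hmem, ?_, ?_⟩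
  · have := (hζ'ζ.trans hζz).map (f.fiberι (f.base x)).continuous
    rwa [f.fiberι_asFiber] at this
  · intro x' hx' hcl
    obtain ⟨b, rfl⟩ := exists_fiber_pt f (f.base x) x' (hx'.trans hmem)
    have hb : b ⤳ ζ' := by
      rw [← (f.fiberι (f.base x)).isEmbedding.isInducing.specializes_iff,
        specializes_iff_mem_closure]
      exact hcl
    rw [eq_of_specializes_generic hζ'comp hb]
  · have h1 : FlatMor.fibreDimAt f x ≤ ((tdeg (fiberQ f (f.base x)) ζ : ℕ) : WithBot ℕ∞) := hle
    have h2 : tdeg (fiberQ f (f.base x)) ζ ≤ tdeg (fiberQ f (f.base x)) ζ' :=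
      tdeg_le_of_specializes _ hζ'ζ
    have h3 := Groth.Agent.H38.ProdLocalDim.tdeg_le_localDim (fiberQ f (f.base x))
      (specializes_rfl : ζ' ⤳ ζ')
    rw [Groth.Agent.H9.FibDim.localDim_fiber] at h3
    refine h1.trans (le_trans ?_ h3)
    exact_mod_cast h2

/-- For `f` locally of finite type with irreducible source, flat at all generizations of `x`, the
local fibre dimension at `x` equals the one at the generic point. -/
theorem fibreDimAt_eq_generic_of_flat {X Y : Scheme.{u}} (f : X ⟶ Y) [LocallyOfFiniteType f]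
    [IrreducibleSpace X] (x : X) (hflat : ∀ z : X, z ⤳ x → (f.stalkMap z).hom.Flat) :
    FlatMor.fibreDimAt f x = FlatMor.fibreDimAt f (genericPoint X) := by
  apply le_antisymm
  · obtain ⟨z, hzx, hfz, hmax, hle⟩ := exists_fibre_max_generization f x
    have hgen : f.base (genericPoint X) ⤳ f.base z :=
      ((genericPoint_spec X).specializes trivial).map f.continuous
    have hlift : ∀ (V : Type u) [CommRing V] [IsDomain V] [ValuationRing V]
        (γ : Spec (CommRingCat.of V) ⟶ Y) (z' : ↥(pullback f γ)),
        (pullback.fst f γ).base z' = z → ∀ a' : ↥(Spec (CommRingCat.of V)),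
          a' ⤳ (pullback.snd f γ).base z' →
          ∃ ξ : ↥(pullback f γ), ξ ⤳ z' ∧ (pullback.snd f γ).base ξ = a' := by
      intro V _ _ _ γ z' hz' a' ha'
      have key : ∀ t : X, z = t → (f.stalkMap t).hom.Flat := by
        rintro _ rfl; exact hflat z hzx
      have hfl := key _ hz'.symm
      have hfl' := Groth.Agent.H8.flat_stalkMap_baseChange
        (IsPullback.of_hasPullback f γ).flip z' hfl
      exact exists_generization_of_flat_stalkMap (pullback.snd f γ) z' hfl' a' ha'
    obtain ⟨w, hwz, hfw, hle2⟩ := Groth.Agent.H38.FibreDimDense.exists_generization_of_lifting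
      f z hmax hlift (f.base (genericPoint X)) hgen
    rw [Groth.Agent.H9.FibDim.fibreDimAt_eq_of_generic f w hfw] at hle2
    exact hle.trans hle2
  · obtain ⟨n, hn⟩ := Groth.Agent.H9.CMFlatSch.exists_nat_fibreDimAt f x
    have hopen := Groth.Agent.H9.FibDim.isOpen_setOf_fibreDimAt_le f n
    have hξ : genericPoint X ∈ {x' : X | FlatMor.fibreDimAt f x' ≤ (n : WithBot ℕ∞)} := by
      rw [(genericPoint_spec X).mem_open_set_iff hopen]
      exact ⟨x, trivial, hn.le⟩
    rw [hn]
    exact hξ

section Ring

/-- The ring map `A → S` as a morphism of `CommRingCat`. -/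
noncomputable abbrev phi (A S : Type u) [CommRing A] [CommRing S] [Algebra A S] :
    CommRingCat.of A ⟶ CommRingCat.of S :=
  CommRingCat.ofHom (algebraMap A S)

/-- If `B = S_{q₀}` is flat over `A`, so is `S_q` for every prime `q ⊆ q₀`. -/
theorem flat_localization_of_le {A S B : Type u} [CommRing A] [CommRing S] [CommRing B]
    [Algebra A S] [Algebra S B] [Algebra A B] [IsScalarTower A S B] [Module.Flat A B]
    (q₀ : Ideal S) [q₀.IsPrime] [IsLocalization.AtPrime B q₀] (q : Ideal S) [q.IsPrime]
    (hq : q ≤ q₀) : Module.Flat A (Localization.AtPrime q) := by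
  have hM : q₀.primeCompl ≤ q.primeCompl := fun s hs hsq => hs (hq hsq)
  letI : Algebra B (Localization.AtPrime q) :=
    (IsLocalization.lift (M := q₀.primeCompl) (S := B)
      (g := algebraMap S (Localization.AtPrime q))
      (fun y => IsLocalization.map_units (Localization.AtPrime q) ⟨y.1, hM y.2⟩)).toAlgebra
  haveI : IsScalarTower S B (Localization.AtPrime q) :=
    IsScalarTower.of_algebraMap_eq (fun s => (IsLocalization.lift_eq _ s).symm)
  haveI : IsLocalization (q.primeCompl.map (algebraMap S B)) (Localization.AtPrime q) :=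
    IsLocalization.isLocalization_of_submonoid_le B (Localization.AtPrime q) q₀.primeCompl
      q.primeCompl hM
  haveI : Module.Flat B (Localization.AtPrime q) :=
    IsLocalization.flat (Localization.AtPrime q) (q.primeCompl.map (algebraMap S B))
  haveI : IsScalarTower A B (Localization.AtPrime q) :=
    IsScalarTower.of_algebraMap_eq (fun a => by
      rw [IsScalarTower.algebraMap_apply A S (Localization.AtPrime q),
        IsScalarTower.algebraMap_apply S B (Localization.AtPrime q),
        ← IsScalarTower.algebraMap_apply A S B])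
  exact Module.Flat.trans A B (Localization.AtPrime q)

/-- A ring map all of whose target elements are fractions of source elements is algebraic. -/
theorem isAlgebraic_of_fractions {S' B' : Type u} [CommRing S'] [CommRing B'] (d : S' →+* B')
    (h : ∀ y : B', ∃ s t : S', d t ≠ 0 ∧ y * d t = d s) :
    @Algebra.IsAlgebraic S' B' _ _ d.toAlgebra := by
  letI := d.toAlgebra
  refine ⟨fun y => ?_⟩
  obtain ⟨s, t, ht, hst⟩ := h y
  refine ⟨Polynomial.C t * Polynomial.X - Polynomial.C s, ?_, ?_⟩
  · intro h0
    apply ht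
    have h1 := congrArg (fun p => Polynomial.coeff p 1) h0
    simp at h1
    rw [h1, map_zero]
  · simp only [map_sub, map_mul, Polynomial.aeval_C, Polynomial.aeval_X]
    rw [RingHom.algebraMap_toAlgebra, mul_comm, hst, sub_self]

/-- The dimension of the local ring of the fibre of `Spec S → Spec A` at the point `x`
with `S_x = B` is the dimension of `B / m_A B`. -/
theorem dim_fibreStalk_eq {A S B : Type u} [CommRing A] [CommRing S] [CommRing B]
    [IsLocalRing A] [IsLocalRing B] [Algebra A S] [Algebra S B] [Algebra A B]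
    [IsScalarTower A S B]
    (x : PrimeSpectrum S) [IsLocalization.AtPrime B x.asIdeal]
    (hp : x.asIdeal.comap (algebraMap A S) = IsLocalRing.maximalIdeal A) :
    ringKrullDim (((Spec.map (phi A S)).fiber ((Spec.map (phi A S)).base x)).presheaf.stalk
        ((Spec.map (phi A S)).asFiber x)) =
      ringKrullDim (B ⧸ Ideal.map (algebraMap A B) (IsLocalRing.maximalIdeal A)) := by
  obtain ⟨e0⟩ := Groth.Agent.H29.FiberStalkAt.nonempty_fiberStalkEquiv (Spec.map (phi A S)) x
  let ar := Scheme.arrowStalkMapSpecIso (phi A S) x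
  let α := (Arrow.leftFunc.mapIso ar).commRingCatIsoToRingEquiv
  let β := (Arrow.rightFunc.mapIso ar).commRingCatIsoToRingEquiv
  have h : ∀ a, β (((Spec.map (phi A S)).stalkMap x).hom a) =
      Localization.localRingHom (x.asIdeal.comap (algebraMap A S)) x.asIdeal (algebraMap A S) rfl
        (α a) := by
    intro a
    have := ar.hom.w
    exact (congr($(this) a)).symm
  let e1 := Groth.Agent.H9.CMFlatSch.quotEquivOfArrow ((Spec.map (phi A S)).stalkMap x).hom
    (Localization.localRingHom (x.asIdeal.comap (algebraMap A S)) x.asIdeal (algebraMap A S) rfl)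
    α β h
  have hunits : (x.asIdeal.comap (algebraMap A S)).primeCompl ≤ IsUnit.submonoid A := by
    intro a ha
    rw [IsUnit.mem_submonoid_iff]
    have : a ∉ IsLocalRing.maximalIdeal A := by rw [← hp]; exact ha
    exact IsLocalRing.notMem_maximalIdeal.mp this
  let α₂ : A ≃+* Localization.AtPrime (x.asIdeal.comap (algebraMap A S)) :=
    (IsLocalization.atUnits A (x.asIdeal.comap (algebraMap A S)).primeCompl hunits).toRingEquiv
  let β₂ : B ≃+* Localization.AtPrime x.asIdeal :=
    (IsLocalization.algEquiv x.asIdeal.primeCompl B (Localization.AtPrime x.asIdeal)).toRingEquiv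
  have h₂ : ∀ a, β₂ (algebraMap A B a) =
      Localization.localRingHom (x.asIdeal.comap (algebraMap A S)) x.asIdeal (algebraMap A S) rfl
        (α₂ a) := by
    intro a
    have e1 : α₂ a = algebraMap A _ a :=
      (IsLocalization.atUnits A (x.asIdeal.comap (algebraMap A S)).primeCompl hunits).commutes a
    rw [e1, Localization.localRingHom_to_map, IsScalarTower.algebraMap_apply A S B]
    exact (IsLocalization.algEquiv x.asIdeal.primeCompl B
      (Localization.AtPrime x.asIdeal)).commutes _
  let e2 := Groth.Agent.H9.CMFlatSch.quotEquivOfArrow (algebraMap A B)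
    (Localization.localRingHom (x.asIdeal.comap (algebraMap A S)) x.asIdeal (algebraMap A S) rfl)
    α₂ β₂ h₂
  exact (ringKrullDim_eq_of_ringEquiv e0).symm.trans
    ((ringKrullDim_eq_of_ringEquiv e1).trans (ringKrullDim_eq_of_ringEquiv e2).symm)

/-- Residue field transcendence degree, ring form. -/
theorem trdeg_residue_eq {A S B : Type u} [CommRing A] [CommRing S] [CommRing B]
    [IsLocalRing A] [IsLocalRing B] [Algebra A S] [Algebra S B] [Algebra A B]
    [IsScalarTower A S B] [IsLocalHom (algebraMap A B)]
    (q₀ : Ideal S) [q₀.IsPrime] [IsLocalization.AtPrime B q₀]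
    (hq₀ : (IsLocalRing.maximalIdeal B).comap (algebraMap S B) = q₀)
    (hp : q₀.comap (algebraMap A S) = IsLocalRing.maximalIdeal A) :
    @Algebra.trdeg (A ⧸ q₀.comap (algebraMap A S)) (S ⧸ q₀) _ _
        (Ideal.quotientMap q₀ (algebraMap A S) le_rfl).toAlgebra =
      Algebra.trdeg (IsLocalRing.ResidueField A) (IsLocalRing.ResidueField B) := by
  let c : (A ⧸ q₀.comap (algebraMap A S)) →+* IsLocalRing.ResidueField A :=
    (Ideal.quotEquivOfEq hp).toRingHom
  let d : (S ⧸ q₀) →+* IsLocalRing.ResidueField B :=
    Ideal.quotientMap (IsLocalRing.maximalIdeal B) (algebraMap S B) hq₀.ge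
  refine (Groth.Agent.H9.TrdegSq.trdeg_eq_of_sq
    (Ideal.quotientMap q₀ (algebraMap A S) le_rfl)
    (algebraMap (IsLocalRing.ResidueField A) (IsLocalRing.ResidueField B)) c d
    ?_ ?_ ?_ ?_ ?_ ?_ ?_).trans ?_
  rotate_left 7
  · congr 1
  · exact Ideal.quotientMap_injective' le_rfl
  · exact (algebraMap (IsLocalRing.ResidueField A) (IsLocalRing.ResidueField B)).injective
  · exact (Ideal.quotEquivOfEq hp).injective
  · exact Ideal.quotientMap_injective' hq₀.le
  · apply Ideal.Quotient.ringHom_ext
    ext r
    show Ideal.Quotient.mk _ (algebraMap S B (algebraMap A S r)) =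
      algebraMap (IsLocalRing.ResidueField A) (IsLocalRing.ResidueField B)
        (Ideal.Quotient.mk _ r)
    rw [← IsScalarTower.algebraMap_apply]
    rfl
  · exact Groth.Agent.H9.TrdegSq.isAlgebraic_of_surjective c (Ideal.quotEquivOfEq hp).surjective
  · apply isAlgebraic_of_fractions
    intro y
    obtain ⟨b, rfl⟩ := Ideal.Quotient.mk_surjective y
    obtain ⟨⟨s, t⟩, hst⟩ := IsLocalization.surj q₀.primeCompl b
    refine ⟨Ideal.Quotient.mk _ s, Ideal.Quotient.mk _ t.1, ?_, ?_⟩
    · show Ideal.Quotient.mk (IsLocalRing.maximalIdeal B) (algebraMap S B t.1) ≠ 0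
      rw [Ne, Ideal.Quotient.eq_zero_iff_mem]
      intro hmem
      have hmem' : t.1 ∈ (IsLocalRing.maximalIdeal B).comap (algebraMap S B) := hmem
      rw [hq₀] at hmem'
      exact t.2 hmem'
    · show Ideal.Quotient.mk (IsLocalRing.maximalIdeal B) b *
        Ideal.Quotient.mk (IsLocalRing.maximalIdeal B) (algebraMap S B t.1) =
        Ideal.Quotient.mk (IsLocalRing.maximalIdeal B) (algebraMap S B s)
      rw [← map_mul, hst]

/-- Generic transcendence degree, ring form. -/
theorem trdeg_generic_eq {A S B : Type u} [CommRing A] [CommRing S] [CommRing B] [IsDomain A]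
    [IsDomain B] [Algebra A S] [Algebra S B] [Algebra A B] [IsScalarTower A S B]
    (M : Submonoid S) [IsLocalization M B]
    (hAS : Function.Injective (algebraMap A S)) (hSB : Function.Injective (algebraMap S B))
    (J : Ideal S) (hJ : J = ⊥) :
    @Algebra.trdeg (A ⧸ J.comap (algebraMap A S)) (S ⧸ J) _ _
        (Ideal.quotientMap J (algebraMap A S) le_rfl).toAlgebra = Algebra.trdeg A B := by
  subst hJ
  have hbot : (⊥ : Ideal S).comap (algebraMap A S) = ⊥ := by
    rw [← RingHom.ker_eq_comap_bot]; exact (RingHom.injective_iff_ker_eq_bot _).mp hAS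
  haveI : ((⊥ : Ideal S).comap (algebraMap A S)).IsPrime := by rw [hbot]; exact Ideal.isPrime_bot
  let c : (A ⧸ (⊥ : Ideal S).comap (algebraMap A S)) →+* A :=
    ((Ideal.quotEquivOfEq hbot).trans (RingEquiv.quotientBot A)).toRingHom
  let d : (S ⧸ (⊥ : Ideal S)) →+* B :=
    (algebraMap S B).comp (RingEquiv.quotientBot S).toRingHom
  refine (Groth.Agent.H9.TrdegSq.trdeg_eq_of_sq
    (Ideal.quotientMap (⊥ : Ideal S) (algebraMap A S) le_rfl) (algebraMap A B) c d
    ?_ ?_ ?_ ?_ ?_ ?_ ?_).trans ?_
  rotate_left 7
  · congr 1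
  · exact Ideal.quotientMap_injective' le_rfl
  · have : (algebraMap A B : A → B) = algebraMap S B ∘ algebraMap A S := by
      ext a; exact IsScalarTower.algebraMap_apply A S B a
    rw [this]
    exact hSB.comp hAS
  · exact ((Ideal.quotEquivOfEq hbot).trans (RingEquiv.quotientBot A)).injective
  · exact hSB.comp (RingEquiv.quotientBot S).injective
  · apply Ideal.Quotient.ringHom_ext
    ext r
    show algebraMap S B (algebraMap A S r) = algebraMap A B r
    rw [← IsScalarTower.algebraMap_apply]
  · exact Groth.Agent.H9.TrdegSq.isAlgebraic_of_surjective c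
      ((Ideal.quotEquivOfEq hbot).trans (RingEquiv.quotientBot A)).surjective
  · apply isAlgebraic_of_fractions
    intro b
    obtain ⟨⟨s, t⟩, hst⟩ := IsLocalization.surj M b
    refine ⟨Ideal.Quotient.mk _ s, Ideal.Quotient.mk _ t.1, ?_, ?_⟩
    · show algebraMap S B t.1 ≠ 0
      exact (IsLocalization.map_units B t).ne_zero
    · show b * algebraMap S B t.1 = algebraMap S B s
      exact hst

/-- **Dimension formula for flat local homomorphisms of local domains essentially of finite type**
(chart form: `B` is the localization of the finite type `A`-algebra `S` at the prime `x`). -/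
theorem main {A S B : Type u} [CommRing A] [CommRing S] [CommRing B] [IsDomain A] [IsDomain S]
    [IsDomain B] [IsLocalRing A] [IsLocalRing B] [Algebra A S] [Algebra S B] [Algebra A B]
    [IsScalarTower A S B] [IsLocalHom (algebraMap A B)] [FaithfulSMul A B]
    [Algebra.FiniteType A S] [Module.Flat A B] (x : PrimeSpectrum S)
    [IsLocalization.AtPrime B x.asIdeal] (hSB : Function.Injective (algebraMap S B)) :
    ∃ d e : ℕ, ringKrullDim (B ⧸ Ideal.map (algebraMap A B) (IsLocalRing.maximalIdeal A)) = d ∧
      Algebra.trdeg (IsLocalRing.ResidueField A) (IsLocalRing.ResidueField B) = e ∧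
      Algebra.trdeg A B = ((d + e : ℕ) : Cardinal.{u}) := by
  have hq₀ : (IsLocalRing.maximalIdeal B).comap (algebraMap S B) = x.asIdeal :=
    IsLocalization.AtPrime.comap_maximalIdeal B x.asIdeal
  have hmA : (IsLocalRing.maximalIdeal B).comap (algebraMap A B) = IsLocalRing.maximalIdeal A :=
    ((IsLocalRing.local_hom_TFAE (algebraMap A B)).out 0 4 rfl rfl).mp inferInstance
  have hAB : Function.Injective (algebraMap A B) := FaithfulSMul.algebraMap_injective A B
  have hAS : Function.Injective (algebraMap A S) := by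
    have : (algebraMap A B : A → B) = algebraMap S B ∘ algebraMap A S := by
      ext a; exact IsScalarTower.algebraMap_apply A S B a
    rw [this] at hAB
    exact Function.Injective.of_comp hAB
  have hp : x.asIdeal.comap (algebraMap A S) = IsLocalRing.maximalIdeal A := by
    rw [← hq₀, Ideal.comap_comap, ← IsScalarTower.algebraMap_eq A S B, hmA]
  haveI : LocallyOfFiniteType (Spec.map (phi A S)) := by
    rw [HasRingHomProperty.Spec_iff (P := @LocallyOfFiniteType)]
    exact RingHom.finiteType_algebraMap.mpr inferInstance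
  -- flatness at the generizations of `x`
  have hflat : ∀ z : ↥(Spec (CommRingCat.of S)), z ⤳ (x : ↥(Spec (CommRingCat.of S))) →
      ((Spec.map (phi A S)).stalkMap z).hom.Flat := by
    intro z hz
    have hle : z.asIdeal ≤ x.asIdeal := (PrimeSpectrum.le_iff_specializes z x).mpr hz
    rw [RingHom.Flat.respectsIso.arrow_mk_iso_iff (Scheme.arrowStalkMapSpecIso (phi A S) z)]
    exact (Groth.Agent.H9.CMFlatSch.flat_localRingHom_iff (A := A) (B := S) z.asIdeal _ rfl).mpr
      (flat_localization_of_le (B := B) x.asIdeal z.asIdeal hle)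
  have hS := fibreDimAt_eq_generic_of_flat (Spec.map (phi A S)) x hflat
  -- the generic point
  obtain ⟨ξ, hξ⟩ : ∃ ξ : ↥(Spec (CommRingCat.of S)), ξ.asIdeal = ⊥ :=
    ⟨(⟨⊥, Ideal.isPrime_bot⟩ : PrimeSpectrum S), rfl⟩
  have hξsp : ∀ y : ↥(Spec (CommRingCat.of S)), ξ ⤳ y := fun y =>
    (PrimeSpectrum.le_iff_specializes ξ y).mp (by
      show ξ.asIdeal ≤ y.asIdeal
      rw [hξ]; exact bot_le)
  have hξgen : IsGenericPoint ξ (⊤ : Set ↥(Spec (CommRingCat.of S))) := by
    rw [isGenericPoint_def]
    exact eq_top_iff.mpr (fun y _ => (hξsp y).mem_closure)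
  have hgp : genericPoint ↥(Spec (CommRingCat.of S)) = ξ := (genericPoint_spec _).eq hξgen
  have hmaxξ : ∀ x' : ↥(Spec (CommRingCat.of S)), x' ⤳ ξ → x' = ξ := fun x' h =>
    (h.antisymm (hξsp x')).eq
  -- the fibre formulas
  obtain ⟨n, b, h1, h2, h3⟩ :=
    Groth.Agent.H9.FibreFormula.fibre_formula (Spec.map (phi A S)) x
  obtain ⟨n', b', h1', -, -⟩ :=
    Groth.Agent.H9.FibreFormula.fibre_formula (Spec.map (phi A S)) ξ
  have h3' := Groth.Agent.H9.FibreGeneric.fibreDimAt_eq_trdeg_of_forall (Spec.map (phi A S)) ξ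
    hmaxξ n' h1'
  rw [hgp, h3, h3'] at hS
  have hnb : n + b = n' := by exact_mod_cast hS
  -- bridges
  have hsq : 𝟙 _ ≫ Spec.map (phi A S) = Spec.map (phi A S) ≫ 𝟙 _ := by
    rw [Category.id_comp, Category.comp_id]
  have hbx := Groth.Agent.H9.TrdegBridge.trdeg_residueFieldMap_chart (Spec.map (phi A S))
    (𝟙 _) (𝟙 _) (phi A S) hsq x
  have hbξ := Groth.Agent.H9.TrdegBridge.trdeg_residueFieldMap_chart (Spec.map (phi A S))
    (𝟙 _) (𝟙 _) (phi A S) hsq ξ
  have ha : ringKrullDim (B ⧸ Ideal.map (algebraMap A B) (IsLocalRing.maximalIdeal A)) =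
      (b : WithBot ℕ∞) := (dim_fibreStalk_eq (B := B) x hp).symm.trans h2
  have hb : Algebra.trdeg (IsLocalRing.ResidueField A) (IsLocalRing.ResidueField B) =
      (n : Cardinal.{u}) :=
    (trdeg_residue_eq (B := B) x.asIdeal hq₀ hp).symm.trans (hbx.symm.trans h1)
  have hc : Algebra.trdeg A B = (n' : Cardinal.{u}) :=
    (trdeg_generic_eq (B := B) x.asIdeal.primeCompl hAS hSB ξ.asIdeal hξ).symm.trans
      (hbξ.symm.trans h1')
  refine ⟨b, n, ha, hb, ?_⟩
  rw [hc, ← hnb, add_comm]

end Ring

end Groth.Agent.H7.FlatDimFormula
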