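import Mathlib
import Groth.Prelude.Def_FlatMod2
import Groth.Agent.H8.FlatBC
import Groth.Agent.H8.SectionsExact
import Groth.Agent.H8.PullbackStalk
import Groth.Agent.H39.PullTrack5
import Groth.Agent.H39.ConormalMono
import Groth.Agent.H64.FlatQuot_FR

/-!
# S4684, piece (MA): the adjunct `i^* G ⟶ G'` of a monomorphism `G ⟶ i_* G'` is a monomorphism
(`i` the inclusion of the generic fibre of `f : X ⟶ Y`, `Y` integral).
-/

set_option autoImplicit false
set_option linter.style.haveILetI false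
universe u
open CategoryTheory CategoryTheory.Limits AlgebraicGeometry TopologicalSpace Opposite TensorProduct
open Groth.Agent.H39.PullTrack

namespace Groth.Agent.H7.FlatQuotMA

open Groth.Agent.H64.FlatQuot_FR (isFractionRing_appLE)

/-- The adjunction formula on sections: the adjunct of `m` sends the pulled-back section of `s`
to `m s`. -/
lemma adjunct_app_pullSect {X' X : Scheme.{u}} (h : X' ⟶ X) {G : X.Modules} {G' : X'.Modules}
    (m : G ⟶ (Scheme.Modules.pushforward h).obj G') (U : X.Opens) (s : Γ(G, U)) :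
    (((Scheme.Modules.pullbackPushforwardAdjunction h).homEquiv G G').symm m).app (h ⁻¹ᵁ U)
      (OmegaSh.pullSect h G U s) = (show Γ(G', h ⁻¹ᵁ U) from m.app U s) := by
  have h1 : (Scheme.Modules.pullbackPushforwardAdjunction h).unit.app G ≫
      (Scheme.Modules.pushforward h).map
        (((Scheme.Modules.pullbackPushforwardAdjunction h).homEquiv G G').symm m) = m := by
    have h0 := (Scheme.Modules.pullbackPushforwardAdjunction h).homEquiv_unit
      (f := ((Scheme.Modules.pullbackPushforwardAdjunction h).homEquiv G G').symm m)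
    rw [Equiv.apply_symm_apply] at h0
    exact h0.symm
  exact congrArg (fun t => (Scheme.Modules.Hom.app t U) s) h1

theorem mono_adjunct {X Y : Scheme.{u}} [IsIntegral Y] (f : X ⟶ Y)
    (G : X.Modules) [G.IsQuasicoherent] (G' : (f.fiber (genericPoint Y)).Modules)
    [G'.IsQuasicoherent]
    (m : G ⟶ (Scheme.Modules.pushforward (f.fiberι (genericPoint Y))).obj G') [Mono m] :
    Mono (((Scheme.Modules.pullbackPushforwardAdjunction (f.fiberι (genericPoint Y))).homEquiv
      G G').symm m) := by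
  have hsq : IsPullback (f.fiberι (genericPoint Y)) (f.fiberToSpecResidueField (genericPoint Y)) f
      (Y.fromSpecResidueField (genericPoint Y)) :=
    IsPullback.of_hasPullback f (Y.fromSpecResidueField (genericPoint Y))
  haveI : ((Scheme.Modules.pullback (f.fiberι (genericPoint Y))).obj G).IsQuasicoherent :=
    Groth.Agent.H8.isQuasicoherent_pullback (f.fiberι (genericPoint Y)) G
  have hηmem : ∀ (V : Y.Opens) (y : Y), y ∈ V → genericPoint Y ∈ V := by
    intro V y hy
    exact ((genericPoint_spec Y).mem_open_set_iff V.2).mpr ⟨y, trivial, hy⟩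
  have hle : ∀ V : Y.Opens, genericPoint Y ∈ V →
      (⊤ : (Spec (Y.residueField (genericPoint Y))).Opens) ≤
        (Y.fromSpecResidueField (genericPoint Y)) ⁻¹ᵁ V := by
    intro V hη t _
    show (Y.fromSpecResidueField (genericPoint Y)) t ∈ V
    rw [Scheme.fromSpecResidueField_apply]
    exact hη
  let ι := {q : X.affineOpens × Y.affineOpens //
    (q.1 : X.Opens) ≤ f ⁻¹ᵁ (q.2 : Y.Opens) ∧ genericPoint Y ∈ (q.2 : Y.Opens)}
  let W : ι → (f.fiber (genericPoint Y)).Opens := fun q =>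
    (f.fiberι (genericPoint Y)) ⁻¹ᵁ (q.1.1 : X.Opens) ⊓
      (f.fiberToSpecResidueField (genericPoint Y)) ⁻¹ᵁ ⊤
  apply Groth.Agent.H39.ConormalMono.mono_of_injective_affine_cover _ W
  · apply le_antisymm le_top
    intro z _
    obtain ⟨V, hV, hyV, -⟩ := exists_isAffineOpen_mem_and_subset
      (x := f ((f.fiberι (genericPoint Y)) z)) (U := (⊤ : Y.Opens)) trivial
    obtain ⟨U, hU, hxU, hUV⟩ := exists_isAffineOpen_mem_and_subset
      (x := (f.fiberι (genericPoint Y)) z) (U := f ⁻¹ᵁ V) hyV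
    exact Opens.mem_iSup.mpr ⟨⟨(⟨U, hU⟩, ⟨V, hV⟩), hUV, hηmem V _ hyV⟩, ⟨hxU, trivial⟩⟩
  · rintro ⟨⟨U, V⟩, hUV, hη⟩
    exact Groth.Agent.H8.FlatBC.isAffineOpen_inf hsq V.2 (isAffineOpen_top _) (hle V hη) U.2 hUV
  · rintro ⟨⟨U, V⟩, hUV, hη⟩
    show Function.Injective ((((Scheme.Modules.pullbackPushforwardAdjunction
      (f.fiberι (genericPoint Y))).homEquiv G G').symm m).app
        ((f.fiberι (genericPoint Y)) ⁻¹ᵁ (U : X.Opens) ⊓
          (f.fiberToSpecResidueField (genericPoint Y)) ⁻¹ᵁ ⊤))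
    have hUV' : (U : X.Opens) ≤ f ⁻¹ᵁ (V : Y.Opens) := hUV
    letI algAK : Algebra Γ(Y, (V : Y.Opens)) Γ(Spec (Y.residueField (genericPoint Y)), ⊤) :=
      ((Y.fromSpecResidueField (genericPoint Y)).appLE V ⊤ (hle V hη)).hom.toAlgebra
    haveI hfr : IsFractionRing Γ(Y, (V : Y.Opens)) Γ(Spec (Y.residueField (genericPoint Y)), ⊤) :=
      isFractionRing_appLE V.2 (hle V hη)
    letI modM : Module Γ(Y, (V : Y.Opens)) Γ(G, (U : X.Opens)) :=
      Groth.Agent.H8.FlatBC.modOver G hUV'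
    obtain ⟨Θ, hΘ⟩ := Groth.Agent.H8.FlatBC.exists_tensorEquiv hsq G V.2 (isAffineOpen_top _)
      (hle V hη) U.2 hUV'
    rw [injective_iff_map_eq_zero]
    intro w hw
    obtain ⟨y, rfl⟩ := Θ.surjective w
    obtain ⟨⟨s, c⟩, hcs⟩ := IsLocalizedModule.surj (nonZeroDivisors Γ(Y, (V : Y.Opens)))
      (TensorProduct.mk Γ(Y, (V : Y.Opens)) Γ(Spec (Y.residueField (genericPoint Y)), ⊤)
        Γ(G, (U : X.Opens)) 1) y
    have hcu : IsUnit (algebraMap Γ(Y, (V : Y.Opens))
        Γ(Spec (Y.residueField (genericPoint Y)), ⊤) (c : Γ(Y, (V : Y.Opens)))) :=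
      IsLocalization.map_units _ c
    obtain ⟨u, hu⟩ := hcu
    have hy : y = (↑u⁻¹ : Γ(Spec (Y.residueField (genericPoint Y)), ⊤)) ⊗ₜ[Γ(Y, (V : Y.Opens))] s := by
      have h1 : (c : Γ(Y, (V : Y.Opens))) • y =
          (1 : Γ(Spec (Y.residueField (genericPoint Y)), ⊤)) ⊗ₜ[Γ(Y, (V : Y.Opens))] s := hcs
      have h2 : (u : Γ(Spec (Y.residueField (genericPoint Y)), ⊤)) • y =
          (c : Γ(Y, (V : Y.Opens))) • y := by
        rw [hu, algebraMap_smul]
      calc y = ((↑u⁻¹ : Γ(Spec (Y.residueField (genericPoint Y)), ⊤)) *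
            (u : Γ(Spec (Y.residueField (genericPoint Y)), ⊤))) • y := by
            rw [Units.inv_mul, one_smul]
        _ = (↑u⁻¹ : Γ(Spec (Y.residueField (genericPoint Y)), ⊤)) •
            ((u : Γ(Spec (Y.residueField (genericPoint Y)), ⊤)) • y) := mul_smul _ _ _
        _ = (↑u⁻¹ : Γ(Spec (Y.residueField (genericPoint Y)), ⊤)) •
            ((1 : Γ(Spec (Y.residueField (genericPoint Y)), ⊤)) ⊗ₜ[Γ(Y, (V : Y.Opens))] s) := by
            rw [h2, h1]
        _ = _ := by rw [TensorProduct.smul_tmul', smul_eq_mul, mul_one]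
    rw [hy, hΘ] at hw
    rw [Scheme.Modules.Hom.app_smul] at hw
    have hunit : IsUnit ((f.fiberToSpecResidueField (genericPoint Y)).appLE ⊤
        ((f.fiberι (genericPoint Y)) ⁻¹ᵁ (U : X.Opens) ⊓
          (f.fiberToSpecResidueField (genericPoint Y)) ⁻¹ᵁ ⊤) inf_le_right
        (↑u⁻¹ : Γ(Spec (Y.residueField (genericPoint Y)), ⊤))) :=
      (Units.isUnit u⁻¹).map _
    have h3 := (hunit.smul_eq_zero).mp hw
    rw [pullSectLE_apply, app_res, adjunct_app_pullSect] at h3
    have hWge : (f.fiberι (genericPoint Y)) ⁻¹ᵁ (U : X.Opens) ≤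
        (f.fiberι (genericPoint Y)) ⁻¹ᵁ (U : X.Opens) ⊓
          (f.fiberToSpecResidueField (genericPoint Y)) ⁻¹ᵁ ⊤ := fun z hz => ⟨hz, trivial⟩
    have h5 : (show Γ(G', (f.fiberι (genericPoint Y)) ⁻¹ᵁ (U : X.Opens)) from m.app U s) = 0 := by
      have h4 := congrArg (G'.presheaf.map (homOfLE hWge).op) h3
      rw [res_res, res_self, map_zero] at h4
      exact h4
    have h6 : s = 0 := by
      apply Groth.Agent.H8.app_injective_of_mono m U
      rw [map_zero]
      exact h5
    rw [hy, h6, TensorProduct.tmul_zero, map_zero]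

end Groth.Agent.H7.FlatQuotMA
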