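import Mathlib
import Groth.Agent.H38.FibreDimDense
import Groth.Agent.H95.StalkSupport
import Groth.Agent.H70.QuasiFlat
import Groth.Agent.S1391
import Groth.Agent.S4357
import Groth.Agent.H8.PullbackFinType
import Groth.Agent.H8.SuppClosed

/-!
# Dimension of the support of a flat module in the fibres (over an irreducible base)

`dim Supp(F_η) ≤ r ⇒ dim Supp(F_s) ≤ r` for `F` quasi-coherent of finite type and flat over an
irreducible base `S` (no Noetherian hypothesis).
-/

set_option autoImplicit false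
set_option linter.style.haveILetI false
open CategoryTheory CategoryTheory.Limits AlgebraicGeometry
universe u

namespace Groth.Agent.H7.FlatSuppDim

/-- A local homomorphism `A → B` of local rings and a nonzero finite `B`-module `M` flat over `A`:
every prime of `A` is the contraction of a prime in the support of `M`. -/
theorem exists_prime_support_of_flat {A B : Type u} [CommRing A] [CommRing B]
    [IsLocalRing A] [IsLocalRing B] (φ : A →+* B) [IsLocalHom φ]
    (M : Type u) [AddCommGroup M] [Module B M] [Module.Finite B M] [Nontrivial M]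
    (hflat : @Module.Flat A M _ _ (Module.compHom M φ)) (p : PrimeSpectrum A) :
    ∃ q : PrimeSpectrum B, PrimeSpectrum.comap φ q = p ∧ q ∈ Module.support B M := by
  obtain ⟨I, hI⟩ : ∃ I : Ideal B, I = Module.annihilator B M := ⟨_, rfl⟩
  have hItop : I ≠ ⊤ := by
    intro h
    rw [hI, Module.annihilator_eq_top_iff] at h
    exact not_subsingleton M h
  have htors : Module.IsTorsionBySet B M (I : Set B) := by
    rw [hI]; exact Module.isTorsionBySet_annihilator B M
  haveI : Nontrivial (B ⧸ I) := Ideal.Quotient.nontrivial_iff.mpr hItop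
  haveI : IsLocalRing (B ⧸ I) :=
    IsLocalRing.of_surjective' (Ideal.Quotient.mk I) Ideal.Quotient.mk_surjective
  haveI : IsLocalHom (Ideal.Quotient.mk I) :=
    IsLocalHom.of_surjective (Ideal.Quotient.mk I) Ideal.Quotient.mk_surjective
  letI mod1 : Module (B ⧸ I) M := htors.module
  have hsmul : ∀ (b : B) (m : M), (Ideal.Quotient.mk I b) • m = b • m := fun b m => rfl
  haveI : IsScalarTower B (B ⧸ I) M := IsScalarTower.of_algebraMap_smul fun b m => hsmul b m
  haveI : Module.Finite (B ⧸ I) M := Module.Finite.of_restrictScalars_finite B (B ⧸ I) M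
  let φ₁ : A →+* B ⧸ I := (Ideal.Quotient.mk I).comp φ
  haveI : IsLocalHom φ₁ := RingHom.isLocalHom_comp _ _
  have hflat₁ : @Module.Flat A M _ _ (Module.compHom M φ₁) := by
    have heq : (Module.compHom M φ₁ : Module A M) = Module.compHom M φ := by
      refine Module.ext' _ _ fun a m => ?_
      rfl
    rw [heq]; exact hflat
  obtain ⟨q₁, hq₁⟩ := Groth.Agent.H70.QuasiFlat.comap_surjective_of_flat_module φ₁ M hflat₁ p
  refine ⟨PrimeSpectrum.comap (Ideal.Quotient.mk I) q₁, ?_, ?_⟩
  · rw [← hq₁]; rfl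
  · rw [Module.mem_support_iff_of_finite, ← hI]
    intro b hb
    show Ideal.Quotient.mk I b ∈ q₁.asIdeal
    rw [Ideal.Quotient.eq_zero_iff_mem.mpr hb]
    exact q₁.asIdeal.zero_mem

/-- Generizations of `f x` lift to generizations of `x` in the support of a finite type
quasi-coherent module which is flat over the base at `x`. -/
theorem exists_generization_mem_support {X T : Scheme.{u}} (f : X ⟶ T) (F : X.Modules)
    (hF : Coh.IsCoh F) (x : X) (hx : Nontrivial (F.presheaf.stalk x))
    (hfl : FlatMod.IsFlatOverAt f F x) (t' : T) (ht' : t' ⤳ f.base x) :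
    ∃ x'' : X, x'' ⤳ x ∧ f.base x'' = t' ∧ Nontrivial (F.presheaf.stalk x'') := by
  haveI : F.IsQuasicoherent := hF.1
  have ht'' : t' ∈ Set.range (T.fromSpecStalk (f.base x)) := by
    rw [Scheme.range_fromSpecStalk]; exact ht'
  obtain ⟨p, rfl⟩ := ht''
  haveI := Groth.Agent.H8.finite_stalk_of_isCoh F hF x
  haveI := hx
  obtain ⟨Q, hQ, hQs⟩ :=
    exists_prime_support_of_flat (f.stalkMap x).hom (F.presheaf.stalk x) hfl p
  obtain ⟨V, hV, hxV, -⟩ :=
    exists_isAffineOpen_mem_and_subset (x := x) (U := (⊤ : X.Opens)) trivial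
  have hsp : X.fromSpecStalk x Q ⤳ x := by
    have : X.fromSpecStalk x Q ∈ Set.range (X.fromSpecStalk x) := ⟨Q, rfl⟩
    rw [Scheme.range_fromSpecStalk] at this
    exact this
  have hx''V : X.fromSpecStalk x Q ∈ V := hsp.mem_open V.2 hxV
  refine ⟨X.fromSpecStalk x Q, hsp, ?_, ?_⟩
  · have h1 : (Spec.map (f.stalkMap x) ≫ T.fromSpecStalk (f.base x)) Q =
        (X.fromSpecStalk x ≫ f) Q := by
      rw [Scheme.SpecMap_stalkMap_fromSpecStalk]
    rw [Scheme.Hom.comp_apply, Scheme.Hom.comp_apply] at h1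
    rw [← hQ]
    exact h1.symm
  · haveI hqprime : (Q.asIdeal.comap (X.presheaf.germ V x hxV).hom).IsPrime :=
      Ideal.comap_isPrime _ _
    have hpt : X.fromSpecStalk x Q =
        Groth.Agent.H8.pointOfPrime hV (Q.asIdeal.comap (X.presheaf.germ V x hxV).hom) := by
      rw [← hV.fromSpecStalk_eq_fromSpecStalk hxV]
      show (Spec.map (X.presheaf.germ V x hxV) ≫ hV.fromSpec) Q = _
      rw [Scheme.Hom.comp_apply]
      rfl
    have hq : ∀ (y : X) (hy : y ∈ V),
        y = Groth.Agent.H8.pointOfPrime hV (Q.asIdeal.comap (X.presheaf.germ V x hxV).hom) →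
        (hV.primeIdealOf ⟨y, hy⟩).asIdeal =
          Q.asIdeal.comap (X.presheaf.germ V x hxV).hom := by
      rintro _ hy rfl
      exact congrArg PrimeSpectrum.asIdeal (Groth.Agent.H8.primeIdealOf_pointOfPrime hV _)
    exact Groth.Agent.H95.StalkSupport.nontrivial_of_mem_support F hV x hxV Q _ hx''V
      (hq _ hx''V hpt) hQs

/-- For a morphism `j : Z ⟶ X` which is an embedding with image `X'`, the fibre of `j ≫ f` over `η`
is homeomorphic to `X' ∩ f⁻¹(η)`; in particular they have the same dimension. -/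
theorem dim_fiber_comp_eq {Z X Y : Scheme.{u}} (j : Z ⟶ X)
    (hj : Topology.IsEmbedding j.base) (X' : Set X) (hr : Set.range j.base = X') (f : X ⟶ Y)
    (η : Y) :
    topologicalKrullDim ↥((j ≫ f).fiber η) = topologicalKrullDim ↥(X' ∩ f.base ⁻¹' {η}) := by
  have hmem : ∀ a : ↥((j ≫ f).fiber η),
      (j.base ∘ ((j ≫ f).fiberι η).base) a ∈ X' ∩ f.base ⁻¹' {η} := by
    intro a
    refine ⟨hr ▸ ⟨_, rfl⟩, ?_⟩
    have h1 : ((j ≫ f).fiberι η).base a ∈ (j ≫ f).base ⁻¹' {η} := by
      rw [← (j ≫ f).range_fiberι]; exact ⟨a, rfl⟩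
    have h2 : (j ≫ f).base (((j ≫ f).fiberι η).base a) = η := h1
    rw [Scheme.Hom.comp_apply] at h2
    exact h2
  have hemb : Topology.IsEmbedding (j.base ∘ ((j ≫ f).fiberι η).base) :=
    hj.comp ((j ≫ f).fiberι η).isEmbedding
  have hφ : IsHomeomorph (Set.codRestrict (j.base ∘ ((j ≫ f).fiberι η).base) _ hmem) := by
    rw [isHomeomorph_iff_isEmbedding_surjective]
    refine ⟨hemb.codRestrict _ hmem, ?_⟩
    rintro ⟨t, ht1, ht2⟩
    obtain ⟨w, rfl⟩ : t ∈ Set.range j.base := hr ▸ ht1
    have hw : w ∈ Set.range ((j ≫ f).fiberι η).base := by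
      rw [(j ≫ f).range_fiberι]
      show (j ≫ f).base w = η
      rw [Scheme.Hom.comp_apply]
      exact ht2
    obtain ⟨a, rfl⟩ := hw
    exact ⟨a, rfl⟩
  exact IsHomeomorph.topologicalKrullDim_eq _ hφ

/-- Lifting of generizations for the (reduced) support of a flat module, after any base change. -/
theorem exists_generization_pullback {X S T Z : Scheme.{u}} (f : X ⟶ S) (F : X.Modules)
    (hF : Coh.IsCoh F) (hfl : FlatMod.IsFlatOver f F) (ι : Z ⟶ X) [IsClosedImmersion ι]
    (hrange : Set.range ι.base = CohB1.support F)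
    (γ : T ⟶ S) (z' : ↥(pullback (ι ≫ f) γ)) (a' : T)
    (ha' : a' ⤳ (pullback.snd (ι ≫ f) γ).base z') :
    ∃ ξ : ↥(pullback (ι ≫ f) γ), ξ ⤳ z' ∧ (pullback.snd (ι ≫ f) γ).base ξ = a' := by
  haveI : F.IsQuasicoherent := hF.1
  haveI : Coh.IsQCoh F := hF.1
  haveI : SheafOfModules.IsFiniteType (R := X.ringCatSheaf) F := hF.2
  have e₁ : (ι ≫ f) ≫ 𝟙 S = ι ≫ f := Category.comp_id _
  have e₂ : γ ≫ 𝟙 S = 𝟙 T ≫ γ := by rw [Category.comp_id, Category.id_comp]
  obtain ⟨j, hj⟩ : ∃ j, j = pullback.map (ι ≫ f) γ f γ ι (𝟙 T) (𝟙 S) e₁ e₂ := ⟨_, rfl⟩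
  have hj1 : j ≫ pullback.fst f γ = pullback.fst (ι ≫ f) γ ≫ ι := by
    rw [hj]; exact pullback.lift_fst _ _ _
  have hj2 : j ≫ pullback.snd f γ = pullback.snd (ι ≫ f) γ := by
    rw [hj]; exact (pullback.lift_snd _ _ _).trans (Category.comp_id _)
  have hsq : IsPullback (pullback.fst (ι ≫ f) γ) j ι (pullback.fst f γ) := by
    refine IsPullback.of_bot ?_ hj1.symm (IsPullback.of_hasPullback f γ)
    rw [hj2]
    exact IsPullback.of_hasPullback (ι ≫ f) γ
  haveI : IsClosedImmersion j :=
    MorphismProperty.of_isPullback (P := @IsClosedImmersion) hsq inferInstance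
  have hrj : ∀ x₁ : ↥(pullback f γ), (pullback.fst f γ).base x₁ ∈ CohB1.support F →
      x₁ ∈ Set.range j.base := by
    intro x₁ hx₁
    have h1 : x₁ ∈ (pullback.fst f γ).base ⁻¹' Set.range ι.base := by
      rw [Set.mem_preimage, hrange]
      exact hx₁
    rw [← Scheme.Pullback.range_snd] at h1
    obtain ⟨w, hw⟩ := h1
    refine ⟨hsq.isoPullback.inv.base w, ?_⟩
    rw [← Scheme.Hom.comp_apply, hsq.isoPullback_inv_snd]
    exact hw
  -- the pulled back module
  obtain ⟨FA, hFA⟩ : ∃ FA, FA = (Scheme.Modules.pullback (pullback.fst f γ)).obj F := ⟨_, rfl⟩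
  have hFAcoh : Coh.IsCoh FA := by
    rw [hFA]
    exact ⟨Groth.Agent.H8.isQuasicoherent_pullback _ F, Groth.Agent.H8.isFiniteType_pullback _ F⟩
  have hFAfl : FlatMod.IsFlatOver (pullback.snd f γ) FA := by
    rw [hFA]
    intro x₁
    exact Groth.Agent.S1391.result f (pullback.snd f γ) (pullback.fst f γ) γ
      (IsPullback.of_hasPullback f γ) F hF.1 x₁ (hfl _)
  have hsupp : CohB1.support FA = (pullback.fst f γ).base ⁻¹' CohB1.support F := by
    rw [hFA]
    exact Groth.Agent.S4357.result (pullback.fst f γ) F hF.2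
  have hx'supp : j.base z' ∈ CohB1.support FA := by
    rw [hsupp]
    show (pullback.fst f γ).base (j.base z') ∈ CohB1.support F
    rw [← Scheme.Hom.comp_apply, hj1, Scheme.Hom.comp_apply, ← hrange]
    exact ⟨_, rfl⟩
  have hnt : Nontrivial (FA.presheaf.stalk (j.base z')) :=
    not_subsingleton_iff_nontrivial.mp hx'supp
  have hsnd : (pullback.snd f γ).base (j.base z') = (pullback.snd (ι ≫ f) γ).base z' := by
    rw [← Scheme.Hom.comp_apply, hj2]
  obtain ⟨x'', hx''1, hx''2, hx''3⟩ := exists_generization_mem_support (pullback.snd f γ) FA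
    hFAcoh (j.base z') hnt (hFAfl _) a' (by rw [hsnd]; exact ha')
  have hx''supp : x'' ∈ CohB1.support FA := not_subsingleton_iff_nontrivial.mpr hx''3
  rw [hsupp] at hx''supp
  obtain ⟨ξ, rfl⟩ := hrj x'' hx''supp
  refine ⟨ξ, ?_, ?_⟩
  · exact j.isClosedEmbedding.isEmbedding.isInducing.specializes_iff.mp hx''1
  · rw [← hj2, Scheme.Hom.comp_apply]; exact hx''2

open Groth.Agent.H38.SectionComp in
/-- **Main theorem.** `S` irreducible, `f` locally of finite type, `F` quasi-coherent of finite type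
and flat over `S`: a bound on the dimension of the support of `F` in the generic fibre holds in
every fibre. -/
theorem dim_fibre_support_le {X S : Scheme.{u}} (f : X ⟶ S) [LocallyOfFiniteType f]
    [IrreducibleSpace ↑S] (F : X.Modules) (hF : Coh.IsCoh F) (hfl : FlatMod.IsFlatOver f F)
    (r : WithBot ℕ∞)
    (h : topologicalKrullDim ↑(f.base ⁻¹' {genericPoint ↑S} ∩ CohB1.support F) ≤ r) (s : S) :
    topologicalKrullDim ↑(f.base ⁻¹' {s} ∩ CohB1.support F) ≤ r := by
  haveI : F.IsQuasicoherent := hF.1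
  haveI : SheafOfModules.IsFiniteType (R := X.ringCatSheaf) F := hF.2
  have hcl : IsClosed (CohB1.support F) := Groth.Agent.H8.isClosed_support_of_isFiniteType F
  obtain ⟨C, hC⟩ : ∃ C : TopologicalSpace.Closeds X, (C : Set X) = CohB1.support F :=
    ⟨⟨CohB1.support F, hcl⟩, rfl⟩
  obtain ⟨ι, hι⟩ : ∃ ι, ι = (Scheme.IdealSheafData.vanishingIdeal C).subschemeι := ⟨_, rfl⟩
  haveI : IsClosedImmersion ι := by rw [hι]; infer_instance
  have hrange : Set.range ι.base = CohB1.support F := by
    rw [hι, Scheme.IdealSheafData.range_subschemeι,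
      Scheme.IdealSheafData.coe_support_vanishingIdeal, hC]
  have hemb : Topology.IsEmbedding ι.base := ι.isClosedEmbedding.isEmbedding
  have hdim : ∀ t : S, topologicalKrullDim ↥((ι ≫ f).fiber t) =
      topologicalKrullDim ↑(f.base ⁻¹' {t} ∩ CohB1.support F) := by
    intro t
    have h0 := dim_fiber_comp_eq ι hemb (CohB1.support F) hrange f t
    rw [Set.inter_comm] at h0
    exact h0
  rw [← hdim] at h ⊢
  by_contra hcon
  rw [not_le] at hcon
  obtain ⟨z, hzs, hzmax, hzdim⟩ :=
    Groth.Agent.H38.FibreDimLSC.exists_isMax_lt_fibreDimAt (ι ≫ f) s r hcon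
  have hsp : genericPoint ↑S ⤳ (ι ≫ f).base z := genericPoint_specializes _
  obtain ⟨w, hwz, hwη, hle⟩ :=
    Groth.Agent.H38.FibreDimDense.exists_generization_of_lifting (ι ≫ f) z hzmax
      (fun A _ _ _ γ z' _ a' ha' => exists_generization_pullback f F hF hfl ι hrange γ z' a' ha')
      (genericPoint ↑S) hsp
  obtain ⟨w₀, hw₀⟩ := exists_fiber_pt (ι ≫ f) (genericPoint ↑S) w hwη
  have h1 : FlatMor.fibreDimAt (ι ≫ f) w ≤
      topologicalKrullDim ↥((ι ≫ f).fiber (genericPoint ↑S)) := by
    rw [← hw₀, ← Groth.Agent.H9.FibDim.localDim_fiber]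
    exact Groth.Agent.H9.FibDim.localDim_le_dim _ _
  exact absurd (hzdim.trans_le (hle.trans (h1.trans h))) (lt_irrefl _)

end Groth.Agent.H7.FlatSuppDim
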