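import Groth.Agent.H7.WeightingOpen
import Groth.Agent.H7.EtaleLoc4
import Mathlib.AlgebraicGeometry.Morphisms.FlatDescent
import Mathlib.AlgebraicGeometry.ZariskisMainTheorem
import Mathlib.CategoryTheory.Limits.Shapes.KernelPair

set_option autoImplicit false
set_option linter.style.haveILetI false
universe u

namespace Groth.Agent.H7

open AlgebraicGeometry CategoryTheory Limits IsLocalRing

variable {X Y : Scheme.{u}}

/-- If an open part containing every point is finite over the base, so is the whole scheme. -/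
theorem isFinite_of_forall_mem {P B : Scheme.{u}} (π : P ⟶ B) (V : P.Opens) (hV : ∀ p, p ∈ V)
    (h : IsFinite (V.ι ≫ π)) : IsFinite π := by
  obtain rfl : V = ⊤ := by
    ext p
    simp [hV p]
  haveI : IsIso (⊤ : P.Opens).ι := inferInstanceAs (IsIso P.topIso.hom)
  exact (MorphismProperty.cancel_left_of_respectsIso @IsFinite (⊤ : P.Opens).ι π).mp h

section

variable (f : X ⟶ Y) [LocallyQuasiFinite f] [LocallyOfFiniteType f] [IsSeparated f]
  (hfin : ∀ y : Y, (f ⁻¹' {y}).Finite) (w : X → ℤ) (hw : MoreMor.IsWeighting f w)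
  (hpos : ∀ x, 0 < w x) (d : ℤ) (hI : ∀ y, MoreMor.fibreIntegral f w y = d)

include hfin hw hpos hI in
/-- If the fibre integral of a positive weighting is constant, `f` is universally closed near
every point of the target. -/
theorem exists_nhds_universallyClosed (y₀ : Y) :
    ∃ O : Y.Opens, y₀ ∈ O ∧ UniversallyClosed (f ∣_ O) := by
  obtain ⟨U, g, u, hg, hgu, -, V, W, -, hVfin, hV⟩ :=
    exists_etale_nbhd_clopen_finite_part f y₀ (hfin y₀)
  haveI := hg
  have hlc := hw U g V hVfin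
  have hbc := fun u' : U => fibreIntegral_baseChange f (pullback.snd f g)
    (pullback.fst f g) g (IsPullback.of_hasPullback f g) w u' (hfin (g u'))
  have hJform : ∀ b, MoreMor.fibreIntegral (V.ι ≫ pullback.snd f g)
      (fun p => w (pullback.fst f g (V.ι p))) b =
      ∑ᶠ p ∈ pullback.snd f g ⁻¹' {b} ∩ (V : Set ↑(pullback f g)),
        fibreTerm (pullback.snd f g) (w ∘ ⇑(pullback.fst f g)) p := fun b =>
    fibreIntegral_opens_ι (pullback.snd f g) V (w ∘ ⇑(pullback.fst f g)) b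
  have hJu : MoreMor.fibreIntegral (V.ι ≫ pullback.snd f g)
      (fun p => w (pullback.fst f g (V.ι p))) u = d := by
    rw [← hI (g u), ← (hbc u).2]
    exact fibreIntegral_opens_ι_eq (pullback.snd f g) V (w ∘ ⇑(pullback.fst f g)) u hV
  let N : U.Opens := ⟨{u' | MoreMor.fibreIntegral (V.ι ≫ pullback.snd f g)
      (fun p => w (pullback.fst f g (V.ι p))) u' = MoreMor.fibreIntegral (V.ι ≫ pullback.snd f g)
      (fun p => w (pullback.fst f g (V.ι p))) u}, hlc.isOpen_fiber _⟩
  have hNmem : ∀ u' : U, u' ∈ N → MoreMor.fibreIntegral (V.ι ≫ pullback.snd f g)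
      (fun p => w (pullback.fst f g (V.ι p))) u' = d := fun u' hu' => Eq.trans hu' hJu
  have huN : u ∈ N := rfl
  have hnoW : ∀ p : ↑(pullback f g), pullback.snd f g p ∈ N → p ∈ V := by
    intro p hpN
    by_contra hpV
    have h1 : MoreMor.fibreIntegral (pullback.snd f g) (w ∘ ⇑(pullback.fst f g))
        (pullback.snd f g p) = d := by
      rw [(hbc (pullback.snd f g p)).2]
      exact hI _
    have h2 := hNmem _ hpN
    rw [hJform] at h2
    rw [fibreIntegral_eq_finsum_mem,
      ← finsum_mem_inter_add_sdiff (V : Set ↑(pullback f g)) (hbc (pullback.snd f g p)).1,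
      h2] at h1
    have hfin2 : (pullback.snd f g ⁻¹' {pullback.snd f g p} \ (V : Set ↑(pullback f g))).Finite :=
      (hbc (pullback.snd f g p)).1.subset Set.sdiff_subset
    have h3 : fibreTerm (pullback.snd f g) (w ∘ ⇑(pullback.fst f g)) p ≤
        ∑ᶠ x ∈ pullback.snd f g ⁻¹' {pullback.snd f g p} \ (V : Set ↑(pullback f g)),
          fibreTerm (pullback.snd f g) (w ∘ ⇑(pullback.fst f g)) x :=
      le_finsum_mem_of_nonneg _ hfin2 _
        (fun a _ => fibreTerm_nonneg _ _ a (hpos _).le) p ⟨rfl, hpV⟩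
    have h4 : 0 < fibreTerm (pullback.snd f g) (w ∘ ⇑(pullback.fst f g)) p :=
      lt_of_lt_of_le (hpos _) (fibreTerm_pos (pullback.snd f g) _ p (hpos _))
    linarith
  let O : Y.Opens := ⟨g '' (N : Set U), g.isOpenMap _ N.isOpen⟩
  refine ⟨O, ⟨u, huN, hgu⟩, ?_⟩
  have hfinsnd : IsFinite (pullback.snd f (N.ι ≫ g)) := by
    have hsq := (isPullback_morphismRestrict (pbMap f g N.ι (N.ι ≫ g) rfl) V).paste_vert
      (isPullback_pbMap f g N.ι (N.ι ≫ g) rfl)
    have h1 : IsFinite (((pbMap f g N.ι (N.ι ≫ g) rfl) ⁻¹ᵁ V).ι ≫ pullback.snd f (N.ι ≫ g)) :=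
      MorphismProperty.of_isPullback (P := @IsFinite) hsq hVfin
    refine isFinite_of_forall_mem _ _ (fun p' => ?_) h1
    show pbMap f g N.ι (N.ι ≫ g) rfl p' ∈ V
    apply hnoW
    have := congrArg (fun φ : pullback f (N.ι ≫ g) ⟶ U => φ p') (pbMap_snd f g N.ι (N.ι ≫ g) rfl)
    rw [show pullback.snd f g (pbMap f g N.ι (N.ι ≫ g) rfl p') =
      N.ι (pullback.snd f (N.ι ≫ g) p') from this]
    exact (pullback.snd f (N.ι ≫ g) p').2
  have hrange : Set.range (N.ι ≫ g) ⊆ Set.range O.ι := by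
    rintro _ ⟨n, rfl⟩
    rw [Scheme.Opens.range_ι]
    exact ⟨N.ι n, n.2, rfl⟩
  let gN : N.toScheme ⟶ O.toScheme := IsOpenImmersion.lift O.ι (N.ι ≫ g) hrange
  have hgN : gN ≫ O.ι = N.ι ≫ g := IsOpenImmersion.lift_fac _ _ _
  have hsqN : IsPullback (𝟙 N.toScheme) gN (N.ι ≫ g) O.ι := by
    have h := (IsPullback.id_horiz gN).paste_vert (IsKernelPair.id_of_mono O.ι)
    rwa [Category.comp_id, hgN] at h
  haveI : Etale gN := MorphismProperty.of_isPullback (P := @Etale) hsqN inferInstance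
  haveI : Surjective gN := ⟨fun o => by
    obtain ⟨n, hn, hno⟩ := o.2
    refine ⟨⟨n, hn⟩, O.ι.isOpenEmbedding.injective ?_⟩
    have := congrArg (fun φ : N.toScheme ⟶ Y => φ ⟨n, hn⟩) hgN
    exact this.trans hno⟩
  have hrange2 : Set.range (pullback.fst f (N.ι ≫ g)) ⊆ Set.range (f ⁻¹ᵁ O).ι := by
    rintro _ ⟨p, rfl⟩
    rw [Scheme.Opens.range_ι]
    show f (pullback.fst f (N.ι ≫ g) p) ∈ O
    have := congrArg (fun φ : pullback f (N.ι ≫ g) ⟶ Y => φ p)
      (pullback.condition (f := f) (g := N.ι ≫ g))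
    rw [show f (pullback.fst f (N.ι ≫ g) p) = (N.ι ≫ g) (pullback.snd f (N.ι ≫ g) p) from this]
    exact ⟨N.ι (pullback.snd f (N.ι ≫ g) p), (pullback.snd f (N.ι ≫ g) p).2, rfl⟩
  let q : pullback f (N.ι ≫ g) ⟶ (f ⁻¹ᵁ O).toScheme :=
    IsOpenImmersion.lift (f ⁻¹ᵁ O).ι (pullback.fst f (N.ι ≫ g)) hrange2
  have hq : q ≫ (f ⁻¹ᵁ O).ι = pullback.fst f (N.ι ≫ g) := IsOpenImmersion.lift_fac _ _ _
  have hcomm : q ≫ (f ∣_ O) = pullback.snd f (N.ι ≫ g) ≫ gN := by
    rw [← cancel_mono O.ι, Category.assoc, Category.assoc, morphismRestrict_ι, ← Category.assoc,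
      hq, hgN]
    exact pullback.condition
  have hsq : IsPullback q (pullback.snd f (N.ι ≫ g)) (f ∣_ O) gN := by
    refine IsPullback.of_right ?_ hcomm (isPullback_morphismRestrict f O).flip
    rw [hq, hgN]
    exact IsPullback.of_hasPullback f (N.ι ≫ g)
  have hUC : UniversallyClosed (pullback.snd f (N.ι ≫ g)) := inferInstance
  exact MorphismProperty.of_isPullback_of_descendsAlong (P := @UniversallyClosed)
    (Q := @Surjective ⊓ @Flat ⊓ @LocallyOfFinitePresentation) hsq.flip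
    ⟨⟨inferInstance, inferInstance⟩, inferInstance⟩ hUC

include hfin hw hpos hI in
/-- If the fibre integral of a positive weighting of a separated locally quasi-finite morphism
with finite fibres is constant, the morphism is finite. -/
theorem isFinite_of_fibreIntegral_const : IsFinite f := by
  haveI : UniversallyClosed f :=
    IsZariskiLocalAtTarget.of_forall_exists_morphismRestrict (P := @UniversallyClosed)
      (fun y => exists_nhds_universallyClosed f hfin w hw hpos d hI y)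
  haveI : IsProper f := {}
  exact IsFinite.of_isProper_of_locallyQuasiFinite f

end

/-- Stacks 0F3I: over the locus where the fibre integral of a positive weighting is maximal, a
separated locally quasi-finite morphism with finite fibres is finite. -/
theorem isFinite_over_max_locus (f : X ⟶ Y) [LocallyQuasiFinite f] [LocallyOfFiniteType f]
    [IsSeparated f] (hfin : ∀ y : Y, (f ⁻¹' {y}).Finite) (w : X → ℤ)
    (hw : MoreMor.IsWeighting f w) (hpos : ∀ x, 0 < w x) (d : ℤ)
    (Yd : Y.Opens) (hYd : ∀ y, y ∈ Yd ↔ MoreMor.fibreIntegral f w y = d) :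
    IsFinite (f ∣_ Yd) := by
  have hc : IsPullback (f ⁻¹ᵁ Yd).ι (f ∣_ Yd) f Yd.ι := (isPullback_morphismRestrict f Yd).flip
  have hbc := fun y : Yd => fibreIntegral_baseChange f (f ∣_ Yd) (f ⁻¹ᵁ Yd).ι Yd.ι hc w y
    (hfin (Yd.ι y))
  refine isFinite_of_fibreIntegral_const (f ∣_ Yd) (fun y => (hbc y).1) (w ∘ ⇑(f ⁻¹ᵁ Yd).ι)
    (isWeighting_baseChange f w hw (f ∣_ Yd) (f ⁻¹ᵁ Yd).ι Yd.ι hc) (fun x => hpos _) d ?_
  intro y
  rw [(hbc y).2]
  exact (hYd _).mp y.2

end Groth.Agent.H7
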