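import Groth.Agent.H7.GeomCount
import Groth.Agent.H7.PurelyInsepLoc
import Groth.Agent.H7.WeightingFinite
import Groth.Agent.H7.FiniteUnion
import Groth.Prelude.Def_EGA43

set_option autoImplicit false
set_option linter.style.haveILetI false
universe u

namespace Groth.Agent.H7

open AlgebraicGeometry CategoryTheory Limits IsLocalRing

variable {X Y : Scheme.{u}}

theorem finsum_mem_mono_of_nonneg {α : Type*} (s t : Set α) (hst : s ⊆ t) (ht : t.Finite)
    (F : α → ℤ) (hF : ∀ a ∈ t, 0 ≤ F a) : ∑ᶠ a ∈ s, F a ≤ ∑ᶠ a ∈ t, F a := by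
  rw [← finsum_mem_inter_add_sdiff s ht]
  have h1 : t ∩ s = s := Set.inter_eq_right.mpr hst
  rw [h1]
  have := finsum_mem_nonneg' (t \ s) F (fun x hx => hF x hx.1)
  linarith

/-- A universally open morphism is universally open at every point. -/
theorem isUnivOpenAt_of_universallyOpen (f : X ⟶ Y) [UniversallyOpen f] (x : X) :
    EGA43.IsUnivOpenAt f x := by
  intro Y' g x' _ S hS
  exact (pullback.snd f g).isOpenMap.image_mem_nhds hS

/-- An open part which is finite over the base of a separated morphism is closed. -/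
theorem isClosed_opens_of_isFinite_comp {P B : Scheme.{u}} (π : P ⟶ B) [IsSeparated π]
    (V : P.Opens) (hV : IsFinite (V.ι ≫ π)) : IsClosed (V : Set P) := by
  haveI := hV
  haveI : IsFinite V.ι := IsFinite.of_comp V.ι π
  have := V.ι.isClosedMap.isClosed_range
  rwa [Scheme.Opens.range_ι] at this

theorem isClosed_image_inter_of_isFinite_comp {P B : Scheme.{u}} (π : P ⟶ B) [IsSeparated π]
    (V V' : P.Opens) (hV : IsFinite (V.ι ≫ π)) (hV' : IsFinite (V'.ι ≫ π)) :
    IsClosed (π '' ((V : Set P) ∩ (V' : Set P))) := by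
  haveI := hV
  have h1 : IsClosed (V.ι ⁻¹' (V' : Set P)) :=
    (isClosed_opens_of_isFinite_comp π V' hV').preimage V.ι.continuous
  have h2 := (V.ι ≫ π).isClosedMap _ h1
  have h3 : (V.ι ≫ π) '' (V.ι ⁻¹' (V' : Set P)) = π '' ((V : Set P) ∩ (V' : Set P)) := by
    ext b
    constructor
    · rintro ⟨p, hp, rfl⟩
      exact ⟨V.ι p, ⟨p.2, hp⟩, rfl⟩
    · rintro ⟨p, ⟨hp1, hp2⟩, rfl⟩
      exact ⟨⟨p, hp1⟩, hp2, rfl⟩
  rwa [h3] at h2

/-- Repackaging of `exists_etale_nbhd_purelyInsep_parts` for the whole (finite) fibre, with a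
single index type. -/
theorem exists_etale_nbhd_parts_flat (f : X ⟶ Y) [LocallyQuasiFinite f] [LocallyOfFiniteType f]
    (y : Y) (hfib : (f ⁻¹' {y}).Finite) :
    ∃ (U : Scheme.{u}) (g : U ⟶ Y) (u : U), Etale g ∧ g u = y ∧
      ∃ (A : Type) (_ : Finite A) (V : A → (pullback f g).Opens) (v : A → ↑(pullback f g)),
        (∀ a, v a ∈ V a ∧ IsFinite ((V a).ι ≫ pullback.snd f g) ∧ pullback.snd f g (v a) = u ∧
          (∀ w : ↑(pullback f g), w ∈ V a → pullback.snd f g w = u → w = v a) ∧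
          sepDegHom ((pullback.snd f g).residueFieldMap (v a)).hom = 1) ∧
        Function.Injective v ∧
        (∀ w : ↑(pullback f g), pullback.snd f g w = u → ∃ a, w = v a) := by
  classical
  haveI : Finite ↥(f ⁻¹' {y}) := hfib.to_subtype
  let e : ↥(f ⁻¹' {y}) ≃ Fin (Nat.card ↥(f ⁻¹' {y})) := Finite.equivFin _
  let x : Fin (Nat.card ↥(f ⁻¹' {y})) → ↑X := fun i => (e.symm i).1
  have hinj : Function.Injective x := fun i j hij => e.symm.injective (Subtype.ext hij)
  have hs : ∀ i, f (x i) = y := fun i => (e.symm i).2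
  have hx : ∀ i, f.QuasiFiniteAt (x i) := fun i => f.quasiFiniteAt _
  have hsurj : ∀ p : X, f p = y → ∃ i, x i = p := fun p hp =>
    ⟨e ⟨p, hp⟩, by show (e.symm (e ⟨p, hp⟩)).1 = p; rw [Equiv.symm_apply_apply]⟩
  obtain ⟨U, g, u, hg, hgu, J, hJ, V, v, hV, hvinj, hvsurj⟩ :=
    exists_etale_nbhd_purelyInsep_parts f y x hinj hs hx
  haveI := hJ
  refine ⟨U, g, u, hg, hgu, (Σ i, J i), inferInstance, fun a => V a.1 a.2, fun a => v a.1 a.2,
    fun a => ⟨(hV a.1 a.2).1, (hV a.1 a.2).2.1, (hV a.1 a.2).2.2.1, (hV a.1 a.2).2.2.2.1,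
      (hV a.1 a.2).2.2.2.2.2.1⟩, ?_, ?_⟩
  · intro a b hab
    obtain ⟨h1, h2⟩ := hvinj a.1 a.2 b.1 b.2 hab
    exact Sigma.ext h1 h2
  · intro w hw
    have hcond : f (pullback.fst f g w) = g (pullback.snd f g w) :=
      congrArg (fun φ : pullback f g ⟶ Y => φ w) (pullback.condition (f := f) (g := g))
    have hfw : f (pullback.fst f g w) = y := by rw [hcond, hw, hgu]
    obtain ⟨i, hi⟩ := hsurj _ hfw
    obtain ⟨j, hj⟩ := hvsurj w i hw hi.symm
    exact ⟨⟨i, j⟩, hj⟩

/-- **Étale-local model for counting geometric points near a fibre along which the morphism is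
universally open**: after an étale base change `g : U ⟶ Y` hitting `y`, there is an open part `V`
of `X ×_Y U`, finite over `U` and containing the whole fibre over `u`, such that the number of
geometric points of `V` over `u'` is at least that over `u` for all `u'` near `u`. -/
theorem exists_etale_nbhd_count (f : X ⟶ Y) [LocallyQuasiFinite f] [LocallyOfFiniteType f]
    [IsSeparated f] (y : Y) (hfib : (f ⁻¹' {y}).Finite)
    (hopen : ∀ x : X, f x = y → EGA43.IsUnivOpenAt f x) :
    ∃ (U : Scheme.{u}) (g : U ⟶ Y) (u : U), Etale g ∧ g u = y ∧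
      ∃ V : (pullback f g).Opens, IsFinite (V.ι ≫ pullback.snd f g) ∧
        (∀ w : ↑(pullback f g), pullback.snd f g w = u → w ∈ V) ∧
        ∃ N : U.Opens, u ∈ N ∧ ∀ u' ∈ N,
          MoreMor.fibreIntegral (V.ι ≫ pullback.snd f g) (fun _ => 1) u ≤
            MoreMor.fibreIntegral (V.ι ≫ pullback.snd f g) (fun _ => 1) u' := by
  classical
  obtain ⟨U, g, u, hg, hgu, A, hA, V, v, hV, hvinj, hvsurj⟩ :=
    exists_etale_nbhd_parts_flat f y hfib
  haveI := hg
  haveI := hA
  haveI : Fintype A := Fintype.ofFinite A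
  have hVtotfin : IsFinite ((⨆ a, V a).ι ≫ pullback.snd f g) :=
    isFinite_iSup (h := pullback.snd f g) A V (fun a => (hV a).2.1)
  have hVtot : ∀ w : ↑(pullback f g), pullback.snd f g w = u → w ∈ ⨆ a, V a := by
    intro w hw
    obtain ⟨a, rfl⟩ := hvsurj w hw
    exact TopologicalSpace.Opens.mem_iSup.mpr ⟨a, (hV a).1⟩
  have hO : ∀ a, pullback.snd f g '' (V a : Set ↑(pullback f g)) ∈ nhds u := by
    intro a
    have hcond : f (pullback.fst f g (v a)) = g (pullback.snd f g (v a)) :=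
      congrArg (fun φ : pullback f g ⟶ Y => φ (v a)) (pullback.condition (f := f) (g := g))
    have hfa : f (pullback.fst f g (v a)) = y := by rw [hcond, (hV a).2.2.1, hgu]
    have h1 := hopen _ hfa U g (v a) rfl (V a : Set ↑(pullback f g))
      ((V a).isOpen.mem_nhds (hV a).1)
    have h2 : pullback.snd f g (v a) = u := (hV a).2.2.1
    rw [← h2]
    exact h1
  have hC : ∀ a b, IsClosed (pullback.snd f g ''
      ((V a : Set ↑(pullback f g)) ∩ (V b : Set ↑(pullback f g)))) := fun a b =>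
    isClosed_image_inter_of_isFinite_comp (pullback.snd f g) (V a) (V b) (hV a).2.1 (hV b).2.1
  have huC : ∀ a b, a ≠ b → u ∉ pullback.snd f g ''
      ((V a : Set ↑(pullback f g)) ∩ (V b : Set ↑(pullback f g))) := by
    rintro a b hab ⟨w, ⟨hwa, hwb⟩, hwu⟩
    exact hab (hvinj (((hV a).2.2.2.1 w hwa hwu).symm.trans ((hV b).2.2.2.1 w hwb hwu)))
  have hS : ∀ᶠ u' in nhds u, (∀ a, u' ∈ pullback.snd f g '' (V a : Set ↑(pullback f g))) ∧
      ∀ a b, a ≠ b → u' ∉ pullback.snd f g ''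
        ((V a : Set ↑(pullback f g)) ∩ (V b : Set ↑(pullback f g))) := by
    refine Filter.Eventually.and ?_ ?_
    · rw [Filter.eventually_all]
      exact fun a => Filter.eventually_mem_set.mpr (hO a)
    · rw [Filter.eventually_all]
      intro a
      rw [Filter.eventually_all]
      intro b
      by_cases hab : a = b
      · exact Filter.Eventually.of_forall fun _ h => absurd hab h
      · filter_upwards [(hC a b).isOpen_compl.mem_nhds (huC a b hab)] with u' hu' _ using hu'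
  obtain ⟨N0, hN0sub, hN0open, huN0⟩ := eventually_nhds_iff.mp hS
  have hform : ∀ b : U,
      MoreMor.fibreIntegral ((⨆ a, V a).ι ≫ pullback.snd f g) (fun _ => 1) b =
      ∑ᶠ p ∈ pullback.snd f g ⁻¹' {b} ∩
        ((⨆ a, V a : (pullback f g).Opens) : Set ↑(pullback f g)),
        fibreTerm (pullback.snd f g) (fun _ => 1) p := fun b =>
    fibreIntegral_opens_ι (pullback.snd f g) (⨆ a, V a) (fun _ => 1) b
  have hrange : pullback.snd f g ⁻¹' {u} ∩
      ((⨆ a, V a : (pullback f g).Opens) : Set ↑(pullback f g)) = Set.range v := by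
    ext w
    constructor
    · rintro ⟨hw, -⟩
      obtain ⟨a, rfl⟩ := hvsurj w hw
      exact ⟨a, rfl⟩
    · rintro ⟨a, rfl⟩
      exact ⟨(hV a).2.2.1, TopologicalSpace.Opens.mem_iSup.mpr ⟨a, (hV a).1⟩⟩
  have hterm : ∀ a, fibreTerm (pullback.snd f g) (fun _ => 1) (v a) = 1 := by
    intro a
    simp [fibreTerm, (hV a).2.2.2.2]
  have hu_val : MoreMor.fibreIntegral ((⨆ a, V a).ι ≫ pullback.snd f g) (fun _ => 1) u =
      (Fintype.card A : ℤ) := by
    rw [hform, hrange, finsum_mem_range hvinj, finsum_eq_sum_of_fintype]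
    simp [hterm]
  refine ⟨U, g, u, hg, hgu, ⨆ a, V a, hVtotfin, hVtot, ⟨N0, hN0open⟩, huN0, fun u' hu' => ?_⟩
  obtain ⟨hin, hout⟩ := hN0sub u' hu'
  choose p hpV hpu using hin
  have hpinj : Function.Injective p := by
    intro a b hab
    by_contra hne
    refine hout a b hne ⟨p a, ⟨hpV a, ?_⟩, hpu a⟩
    rw [hab]
    exact hpV b
  have hfinfib : (pullback.snd f g ⁻¹' {u'} ∩
      ((⨆ a, V a : (pullback f g).Opens) : Set ↑(pullback f g))).Finite := by
    haveI := hVtotfin
    have h1 : (((⨆ a, V a).ι ≫ pullback.snd f g) ⁻¹' {u'}).Finite :=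
      Scheme.Hom.finite_preimage_singleton _ u'
    refine (h1.image (⨆ a, V a).ι).subset ?_
    rintro w ⟨hw1, hw2⟩
    exact ⟨⟨w, hw2⟩, hw1, rfl⟩
  rw [hu_val, hform u']
  calc (Fintype.card A : ℤ) = ∑ᶠ _a : A, (1 : ℤ) := by
        rw [finsum_eq_sum_of_fintype]
        simp
    _ ≤ ∑ᶠ a : A, fibreTerm (pullback.snd f g) (fun _ => 1) (p a) := by
        rw [finsum_eq_sum_of_fintype, finsum_eq_sum_of_fintype]
        exact Finset.sum_le_sum fun a _ =>
          fibreTerm_pos (pullback.snd f g) (fun _ => 1) (p a) one_pos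
    _ = ∑ᶠ w ∈ Set.range p, fibreTerm (pullback.snd f g) (fun _ => 1) w :=
        (finsum_mem_range hpinj).symm
    _ ≤ _ := by
        refine finsum_mem_mono_of_nonneg _ _ ?_ hfinfib _
          (fun w _ => fibreTerm_nonneg _ _ w zero_le_one)
        rintro _ ⟨a, rfl⟩
        exact ⟨hpu a, TopologicalSpace.Opens.mem_iSup.mpr ⟨a, hpV a⟩⟩

/-- Étale descent of universal closedness: if, after an étale base change `g : U ⟶ Y`, every point
of `X ×_Y U` over an open `N ⊆ U` lies in an open part `V` finite over `U`, then `f` is universally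
closed over the open `g(N)`. -/
theorem universallyClosed_restrict_of_finite_part (f : X ⟶ Y) {U : Scheme.{u}} (g : U ⟶ Y)
    [Etale g] (V : (pullback f g).Opens) (hVfin : IsFinite (V.ι ≫ pullback.snd f g)) (N : U.Opens)
    (hnoW : ∀ p : ↑(pullback f g), pullback.snd f g p ∈ N → p ∈ V) :
    UniversallyClosed (f ∣_ (⟨g '' (N : Set U), g.isOpenMap _ N.isOpen⟩ : Y.Opens)) := by
  let O : Y.Opens := ⟨g '' (N : Set U), g.isOpenMap _ N.isOpen⟩
  show UniversallyClosed (f ∣_ O)
  have hfinsnd : IsFinite (pullback.snd f (N.ι ≫ g)) := by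
    have hsq := (isPullback_morphismRestrict (pbMap f g N.ι (N.ι ≫ g) rfl) V).paste_vert
      (isPullback_pbMap f g N.ι (N.ι ≫ g) rfl)
    have h1 : IsFinite (((pbMap f g N.ι (N.ι ≫ g) rfl) ⁻¹ᵁ V).ι ≫ pullback.snd f (N.ι ≫ g)) :=
      MorphismProperty.of_isPullback (P := @IsFinite) hsq hVfin
    refine isFinite_of_forall_mem _ _ (fun p' => ?_) h1
    show pbMap f g N.ι (N.ι ≫ g) rfl p' ∈ V
    apply hnoW
    have := congrArg (fun φ : pullback f (N.ι ≫ g) ⟶ U => φ p') (pbMap_snd f g N.ι (N.ι ≫ g) rfl)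
    rw [show pullback.snd f g (pbMap f g N.ι (N.ι ≫ g) rfl p') =
      N.ι (pullback.snd f (N.ι ≫ g) p') from this]
    exact (pullback.snd f (N.ι ≫ g) p').2
  have hrange : Set.range (N.ι ≫ g) ⊆ Set.range O.ι := by
    rintro _ ⟨n, rfl⟩
    rw [Scheme.Opens.range_ι]
    exact ⟨N.ι n, n.2, rfl⟩
  let gN : N.toScheme ⟶ O.toScheme := IsOpenImmersion.lift O.ι (N.ι ≫ g) hrange
  have hgN : gN ≫ O.ι = N.ι ≫ g := IsOpenImmersion.lift_fac _ _ _
  have hsqN : IsPullback (𝟙 N.toScheme) gN (N.ι ≫ g) O.ι := by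
    have h := (IsPullback.id_horiz gN).paste_vert (IsKernelPair.id_of_mono O.ι)
    rwa [Category.comp_id, hgN] at h
  haveI : Etale gN := MorphismProperty.of_isPullback (P := @Etale) hsqN inferInstance
  haveI : Surjective gN := ⟨fun o => by
    obtain ⟨n, hn, hno⟩ := o.2
    refine ⟨⟨n, hn⟩, O.ι.isOpenEmbedding.injective ?_⟩
    have := congrArg (fun φ : N.toScheme ⟶ Y => φ ⟨n, hn⟩) hgN
    exact this.trans hno⟩
  have hrange2 : Set.range (pullback.fst f (N.ι ≫ g)) ⊆ Set.range (f ⁻¹ᵁ O).ι := by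
    rintro _ ⟨p, rfl⟩
    rw [Scheme.Opens.range_ι]
    show f (pullback.fst f (N.ι ≫ g) p) ∈ O
    have := congrArg (fun φ : pullback f (N.ι ≫ g) ⟶ Y => φ p)
      (pullback.condition (f := f) (g := N.ι ≫ g))
    rw [show f (pullback.fst f (N.ι ≫ g) p) = (N.ι ≫ g) (pullback.snd f (N.ι ≫ g) p) from this]
    exact ⟨N.ι (pullback.snd f (N.ι ≫ g) p), (pullback.snd f (N.ι ≫ g) p).2, rfl⟩
  let q : pullback f (N.ι ≫ g) ⟶ (f ⁻¹ᵁ O).toScheme :=
    IsOpenImmersion.lift (f ⁻¹ᵁ O).ι (pullback.fst f (N.ι ≫ g)) hrange2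
  have hq : q ≫ (f ⁻¹ᵁ O).ι = pullback.fst f (N.ι ≫ g) := IsOpenImmersion.lift_fac _ _ _
  have hcomm : q ≫ (f ∣_ O) = pullback.snd f (N.ι ≫ g) ≫ gN := by
    rw [← cancel_mono O.ι, Category.assoc, Category.assoc, morphismRestrict_ι, ← Category.assoc,
      hq, hgN]
    exact pullback.condition
  have hsq : IsPullback q (pullback.snd f (N.ι ≫ g)) (f ∣_ O) gN := by
    refine IsPullback.of_right ?_ hcomm (isPullback_morphismRestrict f O).flip
    rw [hq, hgN]
    exact IsPullback.of_hasPullback f (N.ι ≫ g)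
  have hUC : UniversallyClosed (pullback.snd f (N.ι ≫ g)) := inferInstance
  exact MorphismProperty.of_isPullback_of_descendsAlong (P := @UniversallyClosed)
    (Q := @Surjective ⊓ @Flat ⊓ @LocallyOfFinitePresentation) hsq.flip
    ⟨⟨inferInstance, inferInstance⟩, inferInstance⟩ hUC

section Count

variable (f : X ⟶ Y) [LocallyQuasiFinite f] [LocallyOfFiniteType f] [IsSeparated f]
  (hfin : ∀ z : Y, (f ⁻¹' {z}).Finite) (y : Y)
  (hopen : ∀ x : X, f x = y → EGA43.IsUnivOpenAt f x)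

include hfin hopen in
/-- The number of geometric points of the fibres is lower semicontinuous at a point `y` such that
`f` is universally open along the fibre over `y` (in terms of fibre integrals). -/
theorem exists_nhds_fibreIntegral_one_le :
    ∃ O : Y.Opens, y ∈ O ∧ ∀ z ∈ O,
      MoreMor.fibreIntegral f (fun _ => 1) y ≤ MoreMor.fibreIntegral f (fun _ => 1) z := by
  obtain ⟨U, g, u, hg, hgu, V, hVfin, hV, N, huN, hN⟩ :=
    exists_etale_nbhd_count f y (hfin y) hopen
  haveI := hg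
  have hbc : ∀ u' : U, (pullback.snd f g ⁻¹' {u'}).Finite ∧
      MoreMor.fibreIntegral (pullback.snd f g) (fun _ => 1) u' =
        MoreMor.fibreIntegral f (fun _ => 1) (g u') := fun u' =>
    fibreIntegral_baseChange f (pullback.snd f g) (pullback.fst f g) g
      (IsPullback.of_hasPullback f g) (fun _ => 1) u' (hfin (g u'))
  refine ⟨⟨g '' (N : Set U), g.isOpenMap _ N.isOpen⟩, ⟨u, huN, hgu⟩, ?_⟩
  rintro _ ⟨u', hu', rfl⟩
  calc MoreMor.fibreIntegral f (fun _ => 1) y
      = MoreMor.fibreIntegral f (fun _ => 1) (g u) := by rw [hgu]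
    _ = MoreMor.fibreIntegral (pullback.snd f g) (fun _ => 1) u := (hbc u).2.symm
    _ = MoreMor.fibreIntegral (V.ι ≫ pullback.snd f g) (fun _ => 1) u :=
        (fibreIntegral_opens_ι_eq (pullback.snd f g) V (fun _ => 1) u hV).symm
    _ ≤ MoreMor.fibreIntegral (V.ι ≫ pullback.snd f g) (fun _ => 1) u' := hN u' hu'
    _ ≤ MoreMor.fibreIntegral (pullback.snd f g) (fun _ => 1) u' :=
        fibreIntegral_opens_ι_le (pullback.snd f g) V (fun _ => 1) (fun _ => zero_le_one) u'
          (hbc u').1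
    _ = MoreMor.fibreIntegral f (fun _ => 1) (g u') := (hbc u').2

include hfin hopen in
/-- If moreover the number of geometric points is constant near `y`, then `f` is proper over a
neighbourhood of `y` (in terms of fibre integrals). -/
theorem exists_isProper_restrict_of_fibreIntegral_one_const
    (hc : ∃ W ∈ nhds y, ∀ z ∈ W,
      MoreMor.fibreIntegral f (fun _ => 1) z = MoreMor.fibreIntegral f (fun _ => 1) y) :
    ∃ O : Y.Opens, y ∈ O ∧ IsProper (f ∣_ O) := by
  obtain ⟨U, g, u, hg, hgu, V, hVfin, hV, N, huN, hN⟩ :=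
    exists_etale_nbhd_count f y (hfin y) hopen
  haveI := hg
  obtain ⟨W, hW, hWc⟩ := hc
  obtain ⟨W0, hW0sub, hW0open, hyW0⟩ := mem_nhds_iff.mp hW
  have hbc : ∀ u' : U, (pullback.snd f g ⁻¹' {u'}).Finite ∧
      MoreMor.fibreIntegral (pullback.snd f g) (fun _ => 1) u' =
        MoreMor.fibreIntegral f (fun _ => 1) (g u') := fun u' =>
    fibreIntegral_baseChange f (pullback.snd f g) (pullback.fst f g) g
      (IsPullback.of_hasPullback f g) (fun _ => 1) u' (hfin (g u'))
  let N' : U.Opens := N ⊓ g ⁻¹ᵁ ⟨W0, hW0open⟩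
  have huN' : u ∈ N' := ⟨huN, by show g u ∈ W0; rw [hgu]; exact hyW0⟩
  have hnoW : ∀ p : ↑(pullback f g), pullback.snd f g p ∈ N' → p ∈ V := by
    intro p hpN
    by_contra hpV
    have hb1 : pullback.snd f g p ∈ N := hpN.1
    have hb2 : g (pullback.snd f g p) ∈ W0 := hpN.2
    have h1 : MoreMor.fibreIntegral (pullback.snd f g) (fun _ => 1) (pullback.snd f g p) =
        MoreMor.fibreIntegral (V.ι ≫ pullback.snd f g) (fun _ => 1) u := by
      rw [(hbc _).2, hWc _ (hW0sub hb2), ← hgu, ← (hbc u).2]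
      exact (fibreIntegral_opens_ι_eq (pullback.snd f g) V (fun _ => 1) u hV).symm
    have h2 := hN _ hb1
    have h3 : MoreMor.fibreIntegral (V.ι ≫ pullback.snd f g) (fun _ => 1) (pullback.snd f g p) =
        ∑ᶠ q ∈ pullback.snd f g ⁻¹' {pullback.snd f g p} ∩ (V : Set ↑(pullback f g)),
          fibreTerm (pullback.snd f g) (fun _ => 1) q :=
      fibreIntegral_opens_ι (pullback.snd f g) V (fun _ => 1) _
    rw [fibreIntegral_eq_finsum_mem,
      ← finsum_mem_inter_add_sdiff (V : Set ↑(pullback f g)) (hbc (pullback.snd f g p)).1,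
      ← h3] at h1
    have hfin2 : (pullback.snd f g ⁻¹' {pullback.snd f g p} \ (V : Set ↑(pullback f g))).Finite :=
      (hbc (pullback.snd f g p)).1.subset Set.sdiff_subset
    have h4 : fibreTerm (pullback.snd f g) (fun _ => 1) p ≤
        ∑ᶠ q ∈ pullback.snd f g ⁻¹' {pullback.snd f g p} \ (V : Set ↑(pullback f g)),
          fibreTerm (pullback.snd f g) (fun _ => 1) q :=
      le_finsum_mem_of_nonneg _ hfin2 _
        (fun a _ => fibreTerm_nonneg _ _ a zero_le_one) p ⟨rfl, hpV⟩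
    have h5 : (1 : ℤ) ≤ fibreTerm (pullback.snd f g) (fun _ => 1) p :=
      fibreTerm_pos (pullback.snd f g) (fun _ => 1) p one_pos
    linarith
  refine ⟨⟨g '' (N' : Set U), g.isOpenMap _ N'.isOpen⟩, ⟨u, huN', hgu⟩, ?_⟩
  haveI := universallyClosed_restrict_of_finite_part f g V hVfin N' hnoW
  exact {}

include hfin hopen in
theorem nGeomConnComp_le_nhds :
    ∃ O : Y.Opens, y ∈ O ∧ ∀ z ∈ O, MoreMor.nGeomConnComp f y ≤ MoreMor.nGeomConnComp f z := by
  obtain ⟨O, hyO, hO⟩ := exists_nhds_fibreIntegral_one_le f hfin y hopen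
  refine ⟨O, hyO, fun z hz => ?_⟩
  rw [nGeomConnComp_eq_fibreIntegral_one f y (hfin y),
    nGeomConnComp_eq_fibreIntegral_one f z (hfin z)]
  exact Nat.cast_le.mpr (Int.toNat_le_toNat (hO z hz))

include hfin in
theorem fibreIntegral_one_eq_of_nGeomConnComp_eq (z : Y)
    (h : MoreMor.nGeomConnComp f z = MoreMor.nGeomConnComp f y) :
    MoreMor.fibreIntegral f (fun _ => 1) z = MoreMor.fibreIntegral f (fun _ => 1) y := by
  rw [nGeomConnComp_eq_fibreIntegral_one f z (hfin z),
    nGeomConnComp_eq_fibreIntegral_one f y (hfin y)] at h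
  have h' : (MoreMor.fibreIntegral f (fun _ => 1) z).toNat =
      (MoreMor.fibreIntegral f (fun _ => 1) y).toNat := by exact_mod_cast h
  calc MoreMor.fibreIntegral f (fun _ => 1) z
      = ((MoreMor.fibreIntegral f (fun _ => 1) z).toNat : ℤ) :=
        (Int.toNat_of_nonneg (fibreIntegral_one_nonneg f z)).symm
    _ = ((MoreMor.fibreIntegral f (fun _ => 1) y).toNat : ℤ) := by rw [h']
    _ = MoreMor.fibreIntegral f (fun _ => 1) y :=
        Int.toNat_of_nonneg (fibreIntegral_one_nonneg f y)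

include hfin hopen in
theorem exists_isProper_restrict_of_nGeomConnComp_const
    (hc : ∃ W ∈ nhds y, ∀ z ∈ W, MoreMor.nGeomConnComp f z = MoreMor.nGeomConnComp f y) :
    ∃ O : Y.Opens, y ∈ O ∧ IsProper (f ∣_ O) := by
  obtain ⟨W, hW, hWc⟩ := hc
  exact exists_isProper_restrict_of_fibreIntegral_one_const f hfin y hopen
    ⟨W, hW, fun z hz => fibreIntegral_one_eq_of_nGeomConnComp_eq f hfin y z (hWc z hz)⟩

end Count

end Groth.Agent.H7
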