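import Groth.Prelude.Def_MoreMor
import Mathlib.AlgebraicGeometry.ZariskisMainTheorem
import Mathlib.AlgebraicGeometry.PullbackCarrier
import Mathlib.LinearAlgebra.FreeModule.Finite.Matrix
import Mathlib.FieldTheory.IsAlgClosed.AlgebraicClosure
import Mathlib.Topology.Connected.TotallyDisconnected
import Mathlib.Data.Set.Card.Arithmetic

set_option autoImplicit false
set_option linter.style.haveILetI false
universe u

namespace Groth.Agent.H7

open AlgebraicGeometry CategoryTheory Limits TensorProduct

/-! ### Topology: components of a discrete space -/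

theorem encard_irreducibleComponents_eq_card (T : Type*) [TopologicalSpace T]
    [DiscreteTopology T] : (irreducibleComponents T).encard = ENat.card T := by
  have h1 : irreducibleComponents T = Set.range (fun t : T => ({t} : Set T)) := by
    ext s
    constructor
    · intro hs
      have hirr : IsIrreducible s := hs.prop
      obtain ⟨t, ht⟩ := hirr.nonempty
      refine ⟨t, ?_⟩
      have hsub : s.Subsingleton := isPreirreducible_iff_subsingleton.mp hirr.isPreirreducible
      exact (hsub.eq_singleton_of_mem ht).symm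
    · rintro ⟨t, rfl⟩
      refine ⟨isIrreducible_singleton, fun s' hs' hle => ?_⟩
      have hsub : s'.Subsingleton := isPreirreducible_iff_subsingleton.mp hs'.isPreirreducible
      have ht : t ∈ s' := hle rfl
      rw [hsub.eq_singleton_of_mem ht]
  rw [h1]
  have hinj : Function.Injective (fun t : T => ({t} : Set T)) := Set.singleton_injective
  show ENat.card ↥(Set.range (fun t : T => ({t} : Set T))) = ENat.card T
  exact (ENat.card_congr (Equiv.ofInjective _ hinj)).symm

theorem card_connectedComponents_eq_card (T : Type*) [TopologicalSpace T]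
    [DiscreteTopology T] : ENat.card (ConnectedComponents T) = ENat.card T := by
  have hbij : Function.Bijective (ConnectedComponents.mk : T → ConnectedComponents T) := by
    refine ⟨fun a b h => ?_, ConnectedComponents.surjective_coe⟩
    have h' := ConnectedComponents.coe_eq_coe.mp h
    rw [connectedComponent_eq_singleton, connectedComponent_eq_singleton] at h'
    exact Set.singleton_injective h'
  exact (ENat.card_congr (Equiv.ofBijective _ hbij)).symm

/-! ### Algebra: the number of primes of a finite algebra over a field -/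

theorem card_primeSpectrum_tensor_le {R B K : Type u} [CommRing R] [CommRing B] [Algebra R B]
    [Field K] [Algebra R K] (m : ℕ) (s : Fin m → B) (hs : Submodule.span R (Set.range s) = ⊤) :
    ENat.card (PrimeSpectrum (K ⊗[R] B)) ≤ m := by
  classical
  haveI : Module.Finite R B := ⟨⟨Finset.univ.image s, by simpa using hs⟩⟩
  haveI : Module.Finite K (K ⊗[R] B) := inferInstance
  have hrank : Module.finrank K (K ⊗[R] B) ≤ m := by
    have hspan : Submodule.span K (Set.range (fun i => (1 : K) ⊗ₜ[R] s i)) = ⊤ := by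
      have h1 := Submodule.baseChange_span (R := R) (A := K) (Set.range s)
      rw [hs, Submodule.baseChange_top, ← Set.range_comp] at h1
      exact h1.symm
    have h2 := finrank_range_le_card (R := K) (fun i => (1 : K) ⊗ₜ[R] s i)
    rw [Set.finrank, hspan, finrank_top, Fintype.card_fin] at h2
    exact h2
  have hcard : Nat.card (K ⊗[R] B →ₐ[K] AlgebraicClosure K) ≤ m :=
    (card_algHom_le_finrank K (K ⊗[R] B) (AlgebraicClosure K)).trans hrank
  haveI : IsArtinianRing (K ⊗[R] B) := IsArtinianRing.of_finite K (K ⊗[R] B)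
  have hex : ∀ P : PrimeSpectrum (K ⊗[R] B), ∃ σ : (K ⊗[R] B) →ₐ[K] AlgebraicClosure K,
      RingHom.ker σ.toRingHom = P.asIdeal := by
    intro P
    haveI : P.asIdeal.IsMaximal := IsArtinianRing.isMaximal_of_isPrime P.asIdeal
    letI : Field ((K ⊗[R] B) ⧸ P.asIdeal) := Ideal.Quotient.field _
    haveI : Module.Finite K ((K ⊗[R] B) ⧸ P.asIdeal) :=
      Module.Finite.of_surjective (Ideal.Quotient.mkₐ K P.asIdeal).toLinearMap
        Ideal.Quotient.mk_surjective
    haveI : Algebra.IsAlgebraic K ((K ⊗[R] B) ⧸ P.asIdeal) := Algebra.IsAlgebraic.of_finite _ _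
    let τ : ((K ⊗[R] B) ⧸ P.asIdeal) →ₐ[K] AlgebraicClosure K := IsAlgClosed.lift
    refine ⟨τ.comp (Ideal.Quotient.mkₐ K P.asIdeal), ?_⟩
    ext c
    rw [RingHom.mem_ker]
    show τ (Ideal.Quotient.mk P.asIdeal c) = 0 ↔ _
    rw [map_eq_zero_iff τ τ.toRingHom.injective, Ideal.Quotient.eq_zero_iff_mem]
  choose σ hσ using hex
  have hinj : Function.Injective σ := fun P Q h =>
    PrimeSpectrum.ext (by rw [← hσ P, ← hσ Q, h])
  haveI : Finite (K ⊗[R] B →ₐ[K] AlgebraicClosure K) := inferInstance
  haveI := Fintype.ofFinite (K ⊗[R] B →ₐ[K] AlgebraicClosure K)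
  calc ENat.card (PrimeSpectrum (K ⊗[R] B))
      ≤ ENat.card (K ⊗[R] B →ₐ[K] AlgebraicClosure K) := ENat.card_le_card_of_injective hinj
    _ = (Nat.card (K ⊗[R] B →ₐ[K] AlgebraicClosure K) : ℕ∞) := by
        rw [ENat.card_eq_coe_fintype_card, Nat.card_eq_fintype_card]
    _ ≤ m := by exact_mod_cast hcard

/-! ### Local structure of a quasi-finite point: an open neighbourhood which is open in a
finite scheme over an affine open of the base -/

variable {X Y : Scheme.{u}}

set_option backward.isDefEq.respectTransparency false in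
theorem exists_local_finite_model (f : X ⟶ Y) [LocallyOfFiniteType f] (x : X)
    (hx : f.QuasiFiniteAt x) :
    ∃ (D : X.Opens), x ∈ D ∧ ∃ (R B : Type u) (_ : CommRing R) (_ : CommRing B)
      (_ : Algebra R B) (m : ℕ) (s : Fin m → B) (ι : Spec (.of R) ⟶ Y)
      (j : D.toScheme ⟶ Spec (.of B)),
      Submodule.span R (Set.range s) = ⊤ ∧ IsOpenImmersion ι ∧ IsOpenImmersion j ∧
      j ≫ Spec.map (CommRingCat.ofHom (algebraMap R B)) ≫ ι = D.ι ≫ f := by
  obtain ⟨_, ⟨V, hV, rfl⟩, hxV, -⟩ := Y.isBasis_affineOpens.exists_subset_of_mem_open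
    (Set.mem_univ (f x)) isOpen_univ
  obtain ⟨_, ⟨U, hU, rfl⟩, hxU, hUV : U ≤ f ⁻¹ᵁ V⟩ :=
    X.isBasis_affineOpens.exists_subset_of_mem_open hxV (f ⁻¹ᵁ V).2
  have : (f.appLE V U hUV).hom.FiniteType := f.finiteType_appLE hV hU hUV
  algebraize [(f.appLE V U hUV).hom]
  have : Algebra.QuasiFiniteAt Γ(Y, V) (hU.primeIdealOf ⟨x, hxU⟩).asIdeal :=
    hx.quasiFiniteAt hU hV hUV hxU
  obtain ⟨B', hB', r, hr, hbij⟩ :=
    Algebra.QuasiFiniteAt.exists_fg_and_exists_notMem_and_awayMap_bijective (R := Γ(Y, V))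
      (hU.primeIdealOf ⟨x, hxU⟩).asIdeal
  have hxD : x ∈ X.basicOpen (r.1 : Γ(X, U)) := by
    have h1 : hU.fromSpec (hU.primeIdealOf ⟨x, hxU⟩) = x := hU.fromSpec_primeIdealOf ⟨x, hxU⟩
    have h2 : hU.primeIdealOf ⟨x, hxU⟩ ∈ hU.fromSpec ⁻¹ᵁ X.basicOpen (r.1 : Γ(X, U)) := by
      rw [hU.fromSpec_preimage_basicOpen]
      exact hr
    rw [← h1]
    exact h2
  have hD : IsAffineOpen (X.basicOpen (r.1 : Γ(X, U))) := hU.basicOpen r.1
  have hDU : X.basicOpen (r.1 : Γ(X, U)) ≤ U := X.basicOpen_le _
  haveI : Module.Finite Γ(Y, V) B' := ⟨(Submodule.fg_top _).mpr hB'⟩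
  obtain ⟨m, s, hs⟩ := Module.Finite.exists_fin (R := Γ(Y, V)) (M := B')
  letI algBD : Algebra B' Γ(X, X.basicOpen (r.1 : Γ(X, U))) :=
    ((algebraMap Γ(X, U) Γ(X, X.basicOpen (r.1 : Γ(X, U)))).comp B'.val.toRingHom).toAlgebra
  haveI locA : IsLocalization.Away (r.1 : Γ(X, U)) Γ(X, X.basicOpen (r.1 : Γ(X, U))) :=
    hU.isLocalization_basicOpen r.1
  let e₁ : Localization.Away r ≃+* Localization.Away (r.1 : Γ(X, U)) :=
    RingEquiv.ofBijective (Localization.awayMap B'.val.toRingHom r) hbij
  let e₂ : Localization.Away (r.1 : Γ(X, U)) ≃ₐ[Γ(X, U)] Γ(X, X.basicOpen (r.1 : Γ(X, U))) :=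
    IsLocalization.algEquiv (Submonoid.powers (r.1 : Γ(X, U))) _ _
  let e : Localization.Away r ≃ₐ[B'] Γ(X, X.basicOpen (r.1 : Γ(X, U))) :=
    AlgEquiv.ofRingEquiv (f := e₁.trans e₂.toRingEquiv) (by
      intro b
      show e₂ (Localization.awayMap B'.val.toRingHom r (algebraMap B' (Localization.Away r) b)) =
        algebraMap Γ(X, U) Γ(X, X.basicOpen (r.1 : Γ(X, U))) (b : Γ(X, U))
      rw [Localization.awayMap, IsLocalization.Away.map, IsLocalization.map_eq]
      exact e₂.commutes _)
  haveI : IsLocalization.Away r Γ(X, X.basicOpen (r.1 : Γ(X, U))) :=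
    IsLocalization.isLocalization_of_algEquiv (Submonoid.powers r) e
  haveI : IsOpenImmersion (Spec.map (CommRingCat.ofHom
      (algebraMap B' Γ(X, X.basicOpen (r.1 : Γ(X, U)))))) :=
    IsOpenImmersion.of_isLocalization r
  have hring : CommRingCat.ofHom (algebraMap Γ(Y, V) B') ≫
      CommRingCat.ofHom (algebraMap B' Γ(X, X.basicOpen (r.1 : Γ(X, U)))) =
      f.appLE V (X.basicOpen (r.1 : Γ(X, U))) (hDU.trans hUV) := by
    rw [← Scheme.Hom.appLE_map f hUV (homOfLE hDU).op]
    rfl
  refine ⟨X.basicOpen (r.1 : Γ(X, U)), hxD, Γ(Y, V), B', inferInstance, inferInstance,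
    inferInstance, m, s, hV.fromSpec,
    hD.isoSpec.hom ≫ Spec.map (CommRingCat.ofHom
      (algebraMap B' Γ(X, X.basicOpen (r.1 : Γ(X, U))))), hs, inferInstance, inferInstance, ?_⟩
  rw [Category.assoc, ← Spec.map_comp_assoc, hring, IsAffineOpen.SpecMap_appLE_fromSpec f hV hD,
    ← Category.assoc, hD.isoSpec_hom_fromSpec]

/-! ### Bounding the number of points of geometric fibres -/

/-- The number of points of a fibre product with the spectrum of a field, for a scheme which is
finite (with `m` module generators) over an affine open of the base. -/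
theorem card_pullback_finite_model_le {R B : Type u} [CommRing R] [CommRing B] [Algebra R B]
    (m : ℕ) (s : Fin m → B) (hs : Submodule.span R (Set.range s) = ⊤)
    (ι : Spec (.of R) ⟶ Y) [IsOpenImmersion ι] {K : Type u} [Field K]
    (ybar : Spec (.of K) ⟶ Y) :
    ENat.card ↑(pullback (Spec.map (CommRingCat.ofHom (algebraMap R B)) ≫ ι) ybar) ≤ m := by
  haveI : Subsingleton ↥(Spec (.of K)) := inferInstanceAs (Subsingleton (PrimeSpectrum K))
  by_cases hr : Set.range ybar ⊆ Set.range ι
  · let y₀ : Spec (.of K) ⟶ Spec (.of R) := IsOpenImmersion.lift ι ybar hr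
    have hy₀ : y₀ ≫ ι = ybar := IsOpenImmersion.lift_fac _ _ _
    letI : Algebra R K := (Spec.preimage y₀).hom.toAlgebra
    have hy₀' : Spec.map (CommRingCat.ofHom (algebraMap R K)) = y₀ := Spec.map_preimage y₀
    let μ : pullback (Spec.map (CommRingCat.ofHom (algebraMap R B))) y₀ ⟶
        pullback (Spec.map (CommRingCat.ofHom (algebraMap R B)) ≫ ι) ybar :=
      pullback.map _ _ _ _ (𝟙 _) (𝟙 _) ι (by simp) (by simp [hy₀])
    have hμ : Function.Surjective μ := by
      intro z
      have : z ∈ Set.range μ := by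
        rw [Scheme.Pullback.range_map]
        exact ⟨⟨_, rfl⟩, ⟨_, rfl⟩⟩
      exact this
    have h1 : ENat.card ↑(pullback (Spec.map (CommRingCat.ofHom (algebraMap R B)) ≫ ι) ybar) ≤
        ENat.card ↑(pullback (Spec.map (CommRingCat.ofHom (algebraMap R B))) y₀) := by
      rw [← Set.encard_univ, ← Set.encard_univ, ← hμ.range_eq, ← Set.image_univ]
      exact Set.encard_image_le _ _
    refine h1.trans ?_
    let ε : pullback (Spec.map (CommRingCat.ofHom (algebraMap R B))) y₀ ≅
        Spec (.of (K ⊗[R] B)) :=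
      pullbackSymmetry _ _ ≪≫ eqToIso (by rw [hy₀']) ≪≫ pullbackSpecIso R K B
    rw [ENat.card_congr (Scheme.homeoOfIso ε).toEquiv]
    exact card_primeSpectrum_tensor_le m s hs
  · haveI : IsEmpty ↑(pullback (Spec.map (CommRingCat.ofHom (algebraMap R B)) ≫ ι) ybar) := by
      refine ⟨fun z => hr ?_⟩
      rintro _ ⟨p, rfl⟩
      have hp : p = (pullback.snd (Spec.map (CommRingCat.ofHom (algebraMap R B)) ≫ ι) ybar) z :=
        Subsingleton.elim _ _
      have := congrArg (fun φ : pullback (Spec.map (CommRingCat.ofHom (algebraMap R B)) ≫ ι)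
        ybar ⟶ Y => φ z) (pullback.condition
          (f := Spec.map (CommRingCat.ofHom (algebraMap R B)) ≫ ι) (g := ybar))
      rw [hp]
      exact ⟨_, this⟩
    haveI := Fintype.ofIsEmpty
      (α := ↑(pullback (Spec.map (CommRingCat.ofHom (algebraMap R B)) ≫ ι) ybar))
    rw [ENat.card_eq_coe_fintype_card, Fintype.card_eq_zero]
    simp

/-- Local bound. -/
theorem exists_nhds_card_pullback_le (f : X ⟶ Y) [LocallyOfFiniteType f] (x : X)
    (hx : f.QuasiFiniteAt x) :
    ∃ (D : X.Opens), x ∈ D ∧ ∃ m : ℕ, ∀ (K : Type u) [Field K] (ybar : Spec (.of K) ⟶ Y),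
      ENat.card ↑(pullback (D.ι ≫ f) ybar) ≤ m := by
  obtain ⟨D, hxD, R, B, _, _, _, m, s, ι, j, hs, hι, hj, hcomm⟩ :=
    exists_local_finite_model f x hx
  refine ⟨D, hxD, m, fun K _ ybar => ?_⟩
  let μ : pullback (D.ι ≫ f) ybar ⟶
      pullback (Spec.map (CommRingCat.ofHom (algebraMap R B)) ≫ ι) ybar :=
    pullback.map _ _ _ _ j (𝟙 _) (𝟙 _) (by rw [Category.comp_id, ← hcomm]) (by simp)
  have hμ : Function.Injective μ := μ.isOpenEmbedding.injective
  exact (ENat.card_le_card_of_injective hμ).trans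
    (card_pullback_finite_model_le m s hs ι ybar)

/-- Global bound for quasi-compact source. -/
theorem exists_card_pullback_le (f : X ⟶ Y) [LocallyQuasiFinite f] [LocallyOfFiniteType f]
    [CompactSpace X] :
    ∃ d : ℕ, ∀ (K : Type u) [Field K] (ybar : Spec (.of K) ⟶ Y),
      ENat.card ↑(pullback f ybar) ≤ d := by
  classical
  choose D hxD m hm using fun x : X => exists_nhds_card_pullback_le f x (f.quasiFiniteAt x)
  obtain ⟨t, ht⟩ := isCompact_univ.elim_finite_subcover (fun x => (D x : Set X))
    (fun x => (D x).isOpen) (fun x _ => Set.mem_iUnion.mpr ⟨x, hxD x⟩)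
  refine ⟨∑ x ∈ t, m x, fun K _ ybar => ?_⟩
  let μ : ∀ x : X, pullback ((D x).ι ≫ f) ybar ⟶ pullback f ybar := fun x =>
    pullback.map _ _ _ _ (D x).ι (𝟙 _) (𝟙 _) (by simp) (by simp)
  have hcover : (Set.univ : Set ↑(pullback f ybar)) ⊆ ⋃ x ∈ t, Set.range (μ x) := by
    intro z _
    have hz := ht (Set.mem_univ (pullback.fst f ybar z))
    obtain ⟨x, hz⟩ := Set.mem_iUnion.mp hz
    obtain ⟨hxt, hz⟩ := Set.mem_iUnion.mp hz
    refine Set.mem_iUnion.mpr ⟨x, Set.mem_iUnion.mpr ⟨hxt, ?_⟩⟩
    rw [Scheme.Pullback.range_map]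
    refine ⟨?_, ⟨_, rfl⟩⟩
    show pullback.fst f ybar z ∈ Set.range (D x).ι
    rw [Scheme.Opens.range_ι]
    exact hz
  calc ENat.card ↑(pullback f ybar) = (Set.univ : Set ↑(pullback f ybar)).encard :=
        (Set.encard_univ _).symm
    _ ≤ (⋃ x ∈ t, Set.range (μ x)).encard := Set.encard_le_encard hcover
    _ ≤ ∑ x ∈ t, (Set.range (μ x)).encard := t.set_encard_biUnion_le _
    _ ≤ ∑ x ∈ t, (m x : ℕ∞) := by
        refine Finset.sum_le_sum fun x _ => ?_
        rw [← Set.image_univ]
        exact (Set.encard_image_le _ _).trans ((Set.encard_univ _).le.trans (hm x K ybar))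
    _ = ((∑ x ∈ t, m x : ℕ) : ℕ∞) := by push_cast; rfl

/-! ### Geometric fibres -/

section GeomFibre

variable (f : X ⟶ Y) [LocallyQuasiFinite f] (y : Y)

instance : LocallyQuasiFinite (f.fiberToSpecResidueField y) :=
  MorphismProperty.pullback_snd _ _ inferInstance

theorem discreteTopology_geomFiber : DiscreteTopology ↥(MoreMor.geomFiber f y) := by
  have h := (pullback.snd (f.fiberToSpecResidueField y)
    (Spec.map (CommRingCat.ofHom (algebraMap (Y.residueField y)
      (SeparableClosure (Y.residueField y)))))).isDiscrete_preimage_singleton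
    (IsLocalRing.closedPoint (SeparableClosure (Y.residueField y)))
  haveI : Subsingleton ↥(Spec (CommRingCat.of (SeparableClosure (Y.residueField y)))) :=
    inferInstanceAs (Subsingleton (PrimeSpectrum (SeparableClosure (Y.residueField y))))
  have huniv : (pullback.snd (f.fiberToSpecResidueField y)
      (Spec.map (CommRingCat.ofHom (algebraMap (Y.residueField y)
        (SeparableClosure (Y.residueField y)))))) ⁻¹'
      {IsLocalRing.closedPoint (SeparableClosure (Y.residueField y))} = Set.univ := by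
    ext z
    simp only [Set.mem_preimage, Set.mem_univ, iff_true]
    exact Subsingleton.elim _ _
  have h2 : _root_.IsDiscrete (Set.univ : Set ↥(pullback (f.fiberToSpecResidueField y)
      (Spec.map (CommRingCat.ofHom (algebraMap (Y.residueField y)
        (SeparableClosure (Y.residueField y))))))) := by
    rw [← huniv]
    exact h
  exact isDiscrete_univ_iff.mp h2

/-- The geometric fibre, as a fibre product of `f` with the spectrum of a field. -/
noncomputable def geomFiberIso : MoreMor.geomFiber f y ≅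
    pullback f (Spec.map (CommRingCat.ofHom (algebraMap (Y.residueField y)
      (SeparableClosure (Y.residueField y)))) ≫ Y.fromSpecResidueField y) :=
  ((IsPullback.of_hasPullback (f.fiberToSpecResidueField y)
    (Spec.map (CommRingCat.ofHom (algebraMap (Y.residueField y)
      (SeparableClosure (Y.residueField y)))))).paste_horiz
    (IsPullback.of_hasPullback f (Y.fromSpecResidueField y))).isoPullback

theorem nGeomIrredComp_eq_card : MoreMor.nGeomIrredComp f y = ENat.card ↥(MoreMor.geomFiber f y) := by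
  haveI := discreteTopology_geomFiber f y
  exact encard_irreducibleComponents_eq_card _

theorem nGeomConnComp_eq_card : MoreMor.nGeomConnComp f y = ENat.card ↥(MoreMor.geomFiber f y) := by
  haveI := discreteTopology_geomFiber f y
  exact card_connectedComponents_eq_card _

end GeomFibre

/-- Stacks 0BR1-type statement for locally quasi-finite morphisms. -/
theorem nGeomComp_of_locallyQuasiFinite (f : X ⟶ Y) [LocallyQuasiFinite f]
    [LocallyOfFiniteType f] :
    (∀ y : Y, MoreMor.nGeomIrredComp f y = MoreMor.nGeomConnComp f y) ∧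
      (CompactSpace ↑X → ∃ d : ℕ, ∀ y : Y, MoreMor.nGeomConnComp f y ≤ d) := by
  refine ⟨fun y => (nGeomIrredComp_eq_card f y).trans (nGeomConnComp_eq_card f y).symm,
    fun hX => ?_⟩
  obtain ⟨d, hd⟩ := exists_card_pullback_le f
  refine ⟨d, fun y => ?_⟩
  rw [nGeomConnComp_eq_card, ENat.card_congr (Scheme.homeoOfIso (geomFiberIso f y)).toEquiv]
  exact hd _ _

end Groth.Agent.H7
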