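import Groth.Agent.H7.WeightingConstructible

set_option autoImplicit false
set_option linter.style.haveILetI false
universe u

namespace Groth.Agent.H7

open AlgebraicGeometry CategoryTheory Limits IsLocalRing Topology Set.Notation

variable {X Y : Scheme.{u}}

theorem fibreIntegral_add (f : X ⟶ Y) (a b : X → ℤ) (y : Y) (hfib : (f ⁻¹' {y}).Finite) :
    MoreMor.fibreIntegral f (fun x => a x + b x) y =
      MoreMor.fibreIntegral f a y + MoreMor.fibreIntegral f b y := by
  rw [fibreIntegral_eq_finsum_mem, fibreIntegral_eq_finsum_mem, fibreIntegral_eq_finsum_mem,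
    ← finsum_mem_add_distrib hfib]
  apply finsum_mem_congr rfl
  intro x _
  unfold fibreTerm
  ring

open scoped Classical in
theorem cfun_fibreIntegral_cover [IsAffine Y] (f : X ⟶ Y) [LocallyQuasiFinite f]
    [LocallyOfFinitePresentation f] [QuasiCompact f] [QuasiSeparatedSpace X] {d : ℕ}
    (hd : SecCardLE f d) (O : X → X.Opens) (hO : ∀ x, IsAffineOpen (O x)) (M : ℤ) :
    ∀ (s : Finset X) (w₀ : X → ℤ), CFun w₀ → (∀ x, |w₀ x| ≤ M) →
      (∀ z, (∀ x ∈ s, z ∉ O x) → w₀ z = 0) → CFun (MoreMor.fibreIntegral f w₀) := by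
  intro s
  induction s using Finset.induction_on with
  | empty =>
    intro w₀ _ _ h0
    exact (cfun_const 0).of_eq fun y => fibreIntegral_eq_zero_of_forall f w₀ y fun x _ =>
      h0 x (fun _ h => absurd h (Finset.notMem_empty _))
  | insert i s hi IH =>
    intro w₀ hw₀ hM h0
    have hRc : IsCompact (O i : Set X) := (hO i).isCompact
    have hR : IsLocallyConstructible (O i : Set X) :=
      (hRc.isConstructible (O i).isOpen).isLocallyConstructible
    have h1 : CFun (fun z => if z ∈ (O i : Set X) then w₀ z else 0) := hw₀.indicator hR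
    have h2 : CFun (fun z => if z ∈ (O i : Set X)ᶜ then w₀ z else 0) :=
      hw₀.indicator (isLocallyConstructible_compl hR)
    have hb2 : ∀ z, |(if z ∈ (O i : Set X)ᶜ then w₀ z else 0)| ≤ M := by
      intro z
      by_cases hz : z ∈ (O i : Set X)ᶜ
      · rw [if_pos hz]; exact hM z
      · rw [if_neg hz, abs_zero]; exact (abs_nonneg _).trans (hM z)
    have hI2 : CFun (MoreMor.fibreIntegral f
        (fun z => if z ∈ (O i : Set X)ᶜ then w₀ z else 0)) := by
      apply IH _ h2 hb2
      intro z hz
      by_cases hzi : z ∈ (O i : Set X)ᶜ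
      · rw [if_pos hzi]
        apply h0
        intro x hx
        rcases Finset.mem_insert.mp hx with rfl | hx
        · exact hzi
        · exact hz x hx
      · rw [if_neg hzi]
    haveI : IsAffine ((O i : X.Opens) : Scheme.{u}) := hO i
    have hI1 : CFun (MoreMor.fibreIntegral f
        (fun z => if z ∈ (O i : Set X) then w₀ z else 0)) := by
      have hc := cfun_fibreIntegral ((O i).ι ≫ f) (fun z => w₀ ((O i).ι z)) M (fun z => hM _)
        (hw₀.comp_hom (O i).ι)
      refine hc.of_eq fun y => ?_
      rw [fibreIntegral_indicator f (O i : Set X) w₀ y (f.finite_preimage_singleton _),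
        fibreIntegral_opens_ι f (O i) w₀ y]
    have hI2b : ∀ y, |MoreMor.fibreIntegral f
        (fun z => if z ∈ (O i : Set X)ᶜ then w₀ z else 0) y| ≤ d * |M| := fun y =>
      abs_fibreIntegral_le f hd _ |M| (abs_nonneg _) (fun z => (hb2 z).trans (le_abs_self _)) y
    refine (hI1.add_of_bounded hI2 _ hI2b).of_eq fun y => ?_
    rw [← fibreIntegral_add f _ _ y (f.finite_preimage_singleton _)]
    congr 1
    funext z
    by_cases hz : z ∈ (O i : Set X)
    · have hz' : ¬ z ∈ (O i : Set X)ᶜ := fun h => h hz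
      rw [if_pos hz, if_neg hz', add_zero]
    · have hz' : z ∈ (O i : Set X)ᶜ := hz
      rw [if_neg hz, if_pos hz', zero_add]

theorem cfun_fibreIntegral_of_isWeighting_affine [IsAffine Y] (f : X ⟶ Y) [LocallyQuasiFinite f]
    [LocallyOfFinitePresentation f] [QuasiCompact f] [QuasiSeparated f] (w : X → ℤ)
    (hw : MoreMor.IsWeighting f w) : CFun (MoreMor.fibreIntegral f w) := by
  haveI : CompactSpace X := HasAffineProperty.iff_of_isAffine.mp ‹QuasiCompact f›
  haveI : QuasiSeparatedSpace X := HasAffineProperty.iff_of_isAffine.mp ‹QuasiSeparated f›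
  obtain ⟨d, M, hd, hM⟩ := isWeighting_bounded f w hw
  have hcw := cfun_of_isWeighting_fp f w hw
  have hex : ∀ x : X, ∃ O : X.Opens, IsAffineOpen O ∧ x ∈ O := fun x => by
    obtain ⟨_, ⟨O, hO, rfl⟩, hxO, -⟩ :=
      X.isBasis_affineOpens.exists_subset_of_mem_open (Set.mem_univ x) isOpen_univ
    exact ⟨O, hO, hxO⟩
  choose O hO hxO using hex
  obtain ⟨t, ht⟩ := isCompact_univ.elim_finite_subcover (fun x => (O x : Set X))
    (fun x => (O x).isOpen) (fun x _ => Set.mem_iUnion.mpr ⟨x, hxO x⟩)
  refine cfun_fibreIntegral_cover f hd O hO M t w hcw hM ?_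
  intro z hz
  exfalso
  obtain ⟨x, hx⟩ := Set.mem_iUnion.mp (ht (Set.mem_univ z))
  obtain ⟨hxt, hzx⟩ := Set.mem_iUnion.mp hx
  exact hz x hxt hzx

/-- **Level sets of the fibre integral of a weighting are locally constructible.** -/
theorem cfun_fibreIntegral_of_isWeighting (f : X ⟶ Y) [LocallyQuasiFinite f]
    [LocallyOfFinitePresentation f] [QuasiCompact f] [QuasiSeparated f] (w : X → ℤ)
    (hw : MoreMor.IsWeighting f w) : CFun (MoreMor.fibreIntegral f w) := by
  intro n
  refine IsLocallyConstructible.of_isOpenCover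
    (U := fun i : Y.affineCover.I₀ => (Y.affineCover.f i).opensRange)
    Y.affineCover.isOpenCover_opensRange (fun i => ?_)
  haveI : IsAffine ((Y.affineCover.f i).opensRange : Scheme.{u}) := isAffineOpen_opensRange _
  have hsq : IsPullback (f ⁻¹ᵁ (Y.affineCover.f i).opensRange).ι
      (f ∣_ (Y.affineCover.f i).opensRange) f (Y.affineCover.f i).opensRange.ι :=
    (isPullback_morphismRestrict f (Y.affineCover.f i).opensRange).flip
  haveI : LocallyQuasiFinite (f ∣_ (Y.affineCover.f i).opensRange) :=
    MorphismProperty.of_isPullback (P := @LocallyQuasiFinite) hsq inferInstance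
  haveI : QuasiCompact (f ∣_ (Y.affineCover.f i).opensRange) :=
    MorphismProperty.of_isPullback (P := @QuasiCompact) hsq inferInstance
  haveI : QuasiSeparated (f ∣_ (Y.affineCover.f i).opensRange) :=
    MorphismProperty.of_isPullback (P := @QuasiSeparated) hsq inferInstance
  have hw₀ := isWeighting_baseChange f w hw (f ∣_ (Y.affineCover.f i).opensRange)
    (f ⁻¹ᵁ (Y.affineCover.f i).opensRange).ι (Y.affineCover.f i).opensRange.ι hsq
  have hc := cfun_fibreIntegral_of_isWeighting_affine (f ∣_ (Y.affineCover.f i).opensRange) _ hw₀ n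
  have heq : (((Y.affineCover.f i).opensRange : Set Y) ↓∩ {y | MoreMor.fibreIntegral f w y = n}) =
      {y₀ : ((Y.affineCover.f i).opensRange : Scheme.{u}) |
        MoreMor.fibreIntegral (f ∣_ (Y.affineCover.f i).opensRange)
          (w ∘ ⇑(f ⁻¹ᵁ (Y.affineCover.f i).opensRange).ι) y₀ = n} := by
    ext y₀
    have := (fibreIntegral_baseChange f (f ∣_ (Y.affineCover.f i).opensRange)
      (f ⁻¹ᵁ (Y.affineCover.f i).opensRange).ι (Y.affineCover.f i).opensRange.ι hsq w y₀
      (f.finite_preimage_singleton _)).2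
    show MoreMor.fibreIntegral f w y₀.1 = n ↔
      MoreMor.fibreIntegral (f ∣_ (Y.affineCover.f i).opensRange) _ y₀ = n
    rw [this]
    rfl
  rw [heq]
  exact hc

end Groth.Agent.H7
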