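import Mathlib
import Groth.Agent.H7.ConnCompFibre

set_option autoImplicit false
set_option linter.style.haveILetI false
universe u

namespace Groth.Agent.H7

open AlgebraicGeometry CategoryTheory Limits TopologicalSpace Topology IsLocalRing

/-- An irreducible set contained in a finite union of closed sets is contained in one. -/
theorem IsIrreducible.subset_of_subset_iUnion {A : Type*} [TopologicalSpace A] {s : Set A}
    (hs : IsIrreducible s) {ι : Type*} [Finite ι] (S : ι → Set A) (hclosed : ∀ i, IsClosed (S i))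
    (hsub : s ⊆ ⋃ i, S i) : ∃ i, s ⊆ S i := by
  classical
  haveI := Fintype.ofFinite ι
  obtain ⟨z, hz, hsz⟩ := (isIrreducible_iff_sUnion_isClosed.mp hs)
    ((Finset.univ : Finset ι).image S)
    (fun z hz => by
      obtain ⟨i, -, rfl⟩ := Finset.mem_image.mp hz
      exact hclosed i)
    (fun a ha => by
      obtain ⟨i, hi⟩ := Set.mem_iUnion.mp (hsub ha)
      exact Set.mem_sUnion.mpr ⟨S i, Finset.mem_coe.mpr (Finset.mem_image.mpr ⟨i, Finset.mem_univ i, rfl⟩), hi⟩)
  obtain ⟨i, -, rfl⟩ := Finset.mem_image.mp hz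
  exact ⟨i, hsz⟩

/-- A finite closed cover with "private points" bounds the number of irreducible components from
below. -/
theorem card_le_encard_irreducibleComponents_of_cover {A : Type*} [TopologicalSpace A]
    {P : Type*} [Finite P] (S : P → Set A) (hclosed : ∀ c, IsClosed (S c))
    (hcov : ∀ a, ∃ c, a ∈ S c) (hpriv : ∀ c, ∃ a ∈ S c, ∀ c', c' ≠ c → a ∉ S c') :
    ENat.card P ≤ (irreducibleComponents A).encard := by
  choose a ha hpa using hpriv
  have hcov' : ∀ s : Set A, s ⊆ ⋃ c, S c := fun s x _ => by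
    obtain ⟨c, hc⟩ := hcov x
    exact Set.mem_iUnion.mpr ⟨c, hc⟩
  show ENat.card P ≤ ENat.card ↥(irreducibleComponents A)
  refine ENat.card_le_card_of_injective (f := fun c =>
    (⟨irreducibleComponent (a c), irreducibleComponent_mem_irreducibleComponents (a c)⟩ :
      ↥(irreducibleComponents A))) ?_
  intro c c' h
  have h' : irreducibleComponent (a c) = irreducibleComponent (a c') := congrArg Subtype.val h
  obtain ⟨c'', hc''⟩ := IsIrreducible.subset_of_subset_iUnion
    (isIrreducible_irreducibleComponent (x := a c)) S hclosed (hcov' _)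
  have h1 : a c ∈ S c'' := hc'' mem_irreducibleComponent
  have h2 : a c' ∈ S c'' := hc'' (h' ▸ mem_irreducibleComponent)
  have e1 : c'' = c := by
    by_contra hne
    exact hpa c c'' hne h1
  have e2 : c'' = c' := by
    by_contra hne
    exact hpa c' c'' hne h2
  exact e1.symm.trans e2

/-- EGA IV 9.7.8-type statement for irreducible components. -/
theorem le_encard_irreducibleComponents_fibre_near_generic {X Y : Scheme.{u}} (f : X ⟶ Y)
    [IrreducibleSpace ↑Y] [LocallyOfFiniteType f] [QuasiCompact f] (n : ℕ)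
    (h : (irreducibleComponents ↑(f.fiber (genericPoint ↑Y))).encard = n) :
    ∃ V : Y.Opens, (V : Set ↑Y).Nonempty ∧
      ∀ y ∈ V, (n : ℕ∞) ≤ (irreducibleComponents ↑(f.fiber y)).encard := by
  haveI : Finite ↥(irreducibleComponents ↑(f.fiber (genericPoint ↑Y))) :=
    (Set.finite_of_encard_eq_coe h).to_subtype
  have hZclosed : ∀ c : ↥(irreducibleComponents ↑(f.fiber (genericPoint ↑Y))),
      IsClosed (c : Set ↑(f.fiber (genericPoint ↑Y))) :=
    fun c => isClosed_of_mem_irreducibleComponents c.1 c.2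
  let T : ↥(irreducibleComponents ↑(f.fiber (genericPoint ↑Y))) → Set X :=
    fun c => closure ((f.fiberι (genericPoint ↑Y)) '' (c : Set ↑(f.fiber (genericPoint ↑Y))))
  have hTη : ∀ c x, x ∈ T c → f x = genericPoint ↑Y →
      ∃ z ∈ (c : Set ↑(f.fiber (genericPoint ↑Y))), (f.fiberι (genericPoint ↑Y)) z = x := by
    intro c x hxT hfx
    obtain ⟨z, rfl⟩ : x ∈ Set.range (f.fiberι (genericPoint ↑Y)) := by
      rw [Scheme.Hom.range_fiberι]
      exact hfx
    refine ⟨z, ?_, rfl⟩
    have h1 := (f.fiberι (genericPoint ↑Y)).isEmbedding.isInducing.closure_eq_preimage_closure_image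
      (c : Set ↑(f.fiber (genericPoint ↑Y)))
    rw [(hZclosed c).closure_eq] at h1
    rw [h1]
    exact hxT
  have hfι : ∀ (y : Y) (w : ↑(f.fiber y)), f ((f.fiberι y) w) = y := by
    intro y w
    have : (f.fiberι y) w ∈ f ⁻¹' {y} := by
      rw [← Scheme.Hom.range_fiberι]
      exact ⟨w, rfl⟩
    exact this
  obtain ⟨V₁, hV₁ne, hV₁⟩ := exists_opens_preimage_subset_closure_genericFibre f
  have hV₁η : genericPoint ↑Y ∈ V₁ := by
    obtain ⟨v, hv⟩ := hV₁ne
    exact (genericPoint_specializes v).mem_open V₁.2 hv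
  -- private points
  have hV₃ : ∀ c : ↥(irreducibleComponents ↑(f.fiber (genericPoint ↑Y))),
      ∃ V : Y.Opens, genericPoint ↑Y ∈ V ∧ ∀ y ∈ V, ∃ x ∈ T c, f x = y ∧
        ∀ c', c' ≠ c → x ∉ T c' := by
    intro c
    -- a point of `c` in no other component
    obtain ⟨z, hzc, hz⟩ : ∃ z ∈ (c : Set ↑(f.fiber (genericPoint ↑Y))), ∀ c' :
        ↥(irreducibleComponents ↑(f.fiber (genericPoint ↑Y))), c' ≠ c →
        z ∉ (c' : Set ↑(f.fiber (genericPoint ↑Y))) := by
      by_contra hall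
      push Not at hall
      have hsub : (c : Set ↑(f.fiber (genericPoint ↑Y))) ⊆
          ⋃ c' : {c' : ↥(irreducibleComponents ↑(f.fiber (genericPoint ↑Y))) // c' ≠ c},
            (c'.1 : Set ↑(f.fiber (genericPoint ↑Y))) := by
        intro z hz
        obtain ⟨c', hc', hzc'⟩ := hall z hz
        exact Set.mem_iUnion.mpr ⟨⟨c', hc'⟩, hzc'⟩
      obtain ⟨c', hcc'⟩ := IsIrreducible.subset_of_subset_iUnion c.2.1
        (fun c' : {c' : ↥(irreducibleComponents ↑(f.fiber (genericPoint ↑Y))) // c' ≠ c} =>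
          (c'.1 : Set ↑(f.fiber (genericPoint ↑Y))))
        (fun c' => hZclosed c'.1) hsub
      have : (c'.1 : Set ↑(f.fiber (genericPoint ↑Y))) ≤ c := c.2.2 c'.1.2.1 hcc'
      exact c'.2 (Subtype.ext (le_antisymm this hcc'))
    let G : Set X := (⋃ c' : {c' : ↥(irreducibleComponents ↑(f.fiber (genericPoint ↑Y))) //
      c' ≠ c}, T c'.1)ᶜ
    have hGopen : IsOpen G :=
      (isClosed_iUnion_of_finite fun c' : {c' :
        ↥(irreducibleComponents ↑(f.fiber (genericPoint ↑Y))) // c' ≠ c} =>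
        (isClosed_closure : IsClosed (T c'.1))).isOpen_compl
    let I := Scheme.IdealSheafData.vanishingIdeal (⟨T c, isClosed_closure⟩ : Closeds X)
    have hrange : Set.range I.subschemeι = T c := by
      rw [Scheme.IdealSheafData.range_subschemeι,
        Scheme.IdealSheafData.coe_support_vanishingIdeal]
      rfl
    let O : I.subscheme.Opens := I.subschemeι ⁻¹ᵁ ⟨G, hGopen⟩
    have hfz : f ((f.fiberι (genericPoint ↑Y)) z) = genericPoint ↑Y := hfι _ z
    have hzT : (f.fiberι (genericPoint ↑Y)) z ∈ T c := subset_closure ⟨z, hzc, rfl⟩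
    have hzG : (f.fiberι (genericPoint ↑Y)) z ∈ G := by
      intro hmem
      obtain ⟨c', hc'⟩ := Set.mem_iUnion.mp hmem
      obtain ⟨z', hz'c', hz'⟩ := hTη c'.1 _ hc' hfz
      have : z' = z := (f.fiberι (genericPoint ↑Y)).isEmbedding.injective hz'
      exact hz c'.1 c'.2 (this ▸ hz'c')
    obtain ⟨t₀, ht₀⟩ : (f.fiberι (genericPoint ↑Y)) z ∈ Set.range I.subschemeι := by
      rw [hrange]
      exact hzT
    have ht₀O : t₀ ∈ O := by
      show I.subschemeι t₀ ∈ G
      rw [ht₀]
      exact hzG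
    have hgt₀ : (O.ι ≫ I.subschemeι ≫ f) (⟨t₀, ht₀O⟩ : ↥O) = genericPoint ↑Y := by
      have : (O.ι ≫ I.subschemeι ≫ f) (⟨t₀, ht₀O⟩ : ↥O) = f (I.subschemeι t₀) := rfl
      rw [this, ht₀]
      exact hfz
    obtain ⟨V, hVη, hV⟩ := exists_opens_subset_range_of_generic_mem (O.ι ≫ I.subschemeι ≫ f)
      (⟨t₀, ht₀O⟩ : ↥O) hgt₀
    refine ⟨V, hVη, fun y hy => ?_⟩
    obtain ⟨t, rfl⟩ := hV hy
    refine ⟨I.subschemeι t.1, ?_, rfl, ?_⟩
    · rw [← hrange]
      exact ⟨t.1, rfl⟩
    · intro c' hc' hmem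
      have htG : I.subschemeι t.1 ∈ G := t.2
      exact htG (Set.mem_iUnion.mpr ⟨⟨c', hc'⟩, hmem⟩)
  choose V₃ hV₃η hV₃pt using hV₃
  refine ⟨⟨(V₁ : Set Y) ∩ ⋂ c, (V₃ c : Set Y),
    V₁.2.inter (isOpen_iInter_of_finite fun c => (V₃ c).2)⟩,
    ⟨genericPoint ↑Y, hV₁η, Set.mem_iInter.mpr hV₃η⟩, ?_⟩
  rintro y ⟨hy1, hy3⟩
  have hn : (n : ℕ∞) = ENat.card ↥(irreducibleComponents ↑(f.fiber (genericPoint ↑Y))) := h.symm
  rw [hn]
  refine card_le_encard_irreducibleComponents_of_cover (fun c => (f.fiberι y) ⁻¹' T c)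
    (fun c => isClosed_closure.preimage (f.fiberι y).continuous) ?_ ?_
  · intro w
    have hx : (f.fiberι y) w ∈ f ⁻¹' (V₁ : Set Y) := by
      show f ((f.fiberι y) w) ∈ V₁
      rw [hfι y w]
      exact hy1
    have h1 := hV₁ hx
    have h2 : f ⁻¹' {genericPoint ↑Y} = ⋃ c : ↥(irreducibleComponents
        ↑(f.fiber (genericPoint ↑Y))), (f.fiberι (genericPoint ↑Y)) ''
          (c : Set ↑(f.fiber (genericPoint ↑Y))) := by
      rw [← Set.image_iUnion]
      have : ⋃ c : ↥(irreducibleComponents ↑(f.fiber (genericPoint ↑Y))),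
          (c : Set ↑(f.fiber (genericPoint ↑Y))) = Set.univ := by
        rw [Set.eq_univ_iff_forall]
        intro z
        exact Set.mem_iUnion.mpr ⟨⟨irreducibleComponent z,
          irreducibleComponent_mem_irreducibleComponents z⟩, mem_irreducibleComponent⟩
      rw [this, Set.image_univ, Scheme.Hom.range_fiberι]
    rw [h2, closure_iUnion_of_finite] at h1
    obtain ⟨c, hc⟩ := Set.mem_iUnion.mp h1
    exact ⟨c, hc⟩
  · intro c
    have hyc : y ∈ (V₃ c : Set Y) := Set.mem_iInter.mp hy3 c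
    obtain ⟨x, hxT, hfx, hxpriv⟩ := hV₃pt c y hyc
    obtain ⟨w, hw⟩ : x ∈ Set.range (f.fiberι y) := by
      rw [Scheme.Hom.range_fiberι]
      exact hfx
    refine ⟨w, show (f.fiberι y) w ∈ T c from hw ▸ hxT, fun c' hc' hmem => ?_⟩
    have : (f.fiberι y) w ∈ T c' := hmem
    rw [hw] at this
    exact hxpriv c' hc' this

end Groth.Agent.H7
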