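import Mathlib

/-!
# Base change of the dominant irreducible component (EGA IV 15.6 preliminaries)
-/

set_option autoImplicit false
set_option linter.style.haveILetI false
open CategoryTheory CategoryTheory.Limits AlgebraicGeometry
universe u

namespace Groth.Agent.H7

/-- If the generic fibre of `f₀` is irreducible, an irreducible component of the source meeting it
contains it. -/
theorem preimage_genericPoint_subset_component {X₀ Y₀ : Scheme.{u}} [IsIntegral Y₀] (f₀ : X₀ ⟶ Y₀)
    (hirr : IsIrreducible (f₀.base ⁻¹' {genericPoint Y₀}))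
    (C : Set X₀) (hC : C ∈ irreducibleComponents (X₀ : Type u))
    (hCη : (C ∩ f₀.base ⁻¹' {genericPoint Y₀}).Nonempty) :
    f₀.base ⁻¹' {genericPoint Y₀} ⊆ C := by
  obtain ⟨x, hxC, hxF⟩ := hCη
  have hCcl : IsClosed C := isClosed_of_mem_irreducibleComponents C hC
  obtain ⟨ζ, hζ⟩ := QuasiSober.sober hC.1 hCcl
  have h1 : ζ ⤳ x := by rw [specializes_iff_mem_closure, hζ.def]; exact hxC
  have h2 : f₀.base ζ ⤳ f₀.base x := h1.map f₀.continuous
  have h3 : f₀.base x = genericPoint Y₀ := hxF
  have h4 : f₀.base ζ = genericPoint Y₀ := by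
    rw [h3] at h2
    exact (h2.antisymm (genericPoint_specializes _)).eq
  have hζF : ζ ∈ f₀.base ⁻¹' {genericPoint Y₀} := h4
  have h5 : C ⊆ closure (f₀.base ⁻¹' {genericPoint Y₀}) := by
    rw [← hζ.def]
    exact closure_mono (Set.singleton_subset_iff.mpr hζF)
  have h6 : closure (f₀.base ⁻¹' {genericPoint Y₀}) ⊆ C := hC.2 hirr.closure h5
  exact subset_closure.trans h6

/-- A dominant morphism of integral schemes maps the generic point to the generic point. -/
theorem genericPoint_of_isDominant {Y Y₀ : Scheme.{u}} [IsIntegral Y₀] [IsIntegral Y]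
    (g : Y ⟶ Y₀) [IsDominant g] : g.base (genericPoint Y) = genericPoint Y₀ := by
  apply ((genericPoint_spec Y₀).eq _).symm
  have := (genericPoint_spec Y).image g.continuous
  rwa [Set.image_univ, g.denseRange.closure_range] at this

/-- **EGA IV 15.6.x.** Base change of the dominant irreducible component. -/
theorem isIso_pullback_map_component {X₀ Y₀ Y : Scheme.{u}} [IsIntegral Y₀] [IsIntegral Y]
    (g : Y ⟶ Y₀) [IsDominant g] (f₀ : X₀ ⟶ Y₀)
    (hirr : IsIrreducible (f₀.base ⁻¹' {genericPoint Y₀}))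
    (C : TopologicalSpace.Closeds X₀) (hC : (C : Set X₀) ∈ irreducibleComponents (X₀ : Type u))
    (hCη : ((C : Set X₀) ∩ f₀.base ⁻¹' {genericPoint Y₀}).Nonempty) [IsIntegral (pullback f₀ g)]
    (e₁ : ((Scheme.IdealSheafData.vanishingIdeal C).subschemeι ≫ f₀) ≫ 𝟙 Y₀ =
      (Scheme.IdealSheafData.vanishingIdeal C).subschemeι ≫ f₀) (e₂ : g ≫ 𝟙 Y₀ = 𝟙 Y ≫ g) :
    IsIso (pullback.map ((Scheme.IdealSheafData.vanishingIdeal C).subschemeι ≫ f₀) g f₀ g
      (Scheme.IdealSheafData.vanishingIdeal C).subschemeι (𝟙 Y) (𝟙 Y₀) e₁ e₂) := by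
  set ι := (Scheme.IdealSheafData.vanishingIdeal C).subschemeι with hι
  set j := pullback.map (ι ≫ f₀) g f₀ g ι (𝟙 Y) (𝟙 Y₀) e₁ e₂ with hj
  have hj1 : j ≫ pullback.fst f₀ g = pullback.fst (ι ≫ f₀) g ≫ ι := pullback.lift_fst _ _ _
  have hj2 : j ≫ pullback.snd f₀ g = pullback.snd (ι ≫ f₀) g :=
    (pullback.lift_snd _ _ _).trans (Category.comp_id _)
  have hsq : IsPullback (pullback.fst (ι ≫ f₀) g) j ι (pullback.fst f₀ g) := by
    refine IsPullback.of_bot ?_ hj1.symm (IsPullback.of_hasPullback f₀ g)
    rw [hj2]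
    exact IsPullback.of_hasPullback (ι ≫ f₀) g
  haveI : IsClosedImmersion j :=
    MorphismProperty.of_isPullback (P := @IsClosedImmersion) hsq inferInstance
  have hrange : ∀ z : ↥(pullback f₀ g), (pullback.fst f₀ g).base z ∈ (C : Set X₀) →
      z ∈ Set.range j.base := by
    intro z hz
    have h1 : z ∈ (pullback.fst f₀ g).base ⁻¹' Set.range ι.base := by
      rw [Set.mem_preimage]
      have : Set.range ι.base = (C : Set X₀) := by
        rw [hι, Scheme.IdealSheafData.range_subschemeι,
          Scheme.IdealSheafData.coe_support_vanishingIdeal]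
      rw [this]
      exact hz
    rw [← Scheme.Pullback.range_snd] at h1
    obtain ⟨w, hw⟩ := h1
    refine ⟨hsq.isoPullback.inv.base w, ?_⟩
    rw [← Scheme.Hom.comp_apply, hsq.isoPullback_inv_snd]
    exact hw
  -- the generic fibre lies in `C`
  have hFC := preimage_genericPoint_subset_component f₀ hirr (C : Set X₀) hC hCη
  obtain ⟨x, hxC, hxF⟩ := hCη
  have hgη := genericPoint_of_isDominant g
  have hx : f₀.base x = g.base (genericPoint Y) := by rw [hgη]; exact hxF
  obtain ⟨z, hz1, hz2⟩ := Scheme.Pullback.exists_preimage_pullback x (genericPoint Y) hx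
  -- the generic point of the fibre product
  have hξz : genericPoint ↥(pullback f₀ g) ⤳ z := genericPoint_specializes z
  have h1 : (pullback.snd f₀ g).base (genericPoint ↥(pullback f₀ g)) ⤳ genericPoint Y := by
    have := hξz.map (pullback.snd f₀ g).continuous
    rwa [hz2] at this
  have h2 : (pullback.snd f₀ g).base (genericPoint ↥(pullback f₀ g)) = genericPoint Y :=
    (h1.antisymm (genericPoint_specializes _)).eq
  have hcond : f₀.base ((pullback.fst f₀ g).base (genericPoint ↥(pullback f₀ g))) =
      g.base ((pullback.snd f₀ g).base (genericPoint ↥(pullback f₀ g))) := by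
    rw [← Scheme.Hom.comp_apply, ← Scheme.Hom.comp_apply, pullback.condition]
  have h3 : (pullback.fst f₀ g).base (genericPoint ↥(pullback f₀ g)) ∈
      f₀.base ⁻¹' {genericPoint Y₀} := by
    show f₀.base _ = genericPoint Y₀
    rw [hcond, h2, hgη]
  have hξ : genericPoint ↥(pullback f₀ g) ∈ Set.range j.base := hrange _ (hFC h3)
  have hcl : IsClosed (Set.range j.base) := j.isClosedEmbedding.isClosed_range
  haveI : Surjective j := by
    refine ⟨fun t => ?_⟩
    have h4 : closure ({genericPoint ↥(pullback f₀ g)} : Set ↥(pullback f₀ g)) ⊆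
        Set.range j.base := closure_minimal (Set.singleton_subset_iff.mpr hξ) hcl
    have h5 : t ∈ closure ({genericPoint ↥(pullback f₀ g)} : Set ↥(pullback f₀ g)) := by
      rw [(genericPoint_spec _).def]; trivial
    exact h4 h5
  exact isIso_of_isClosedImmersion_of_surjective j

end Groth.Agent.H7
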