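import Mathlib
import Groth.Prelude.Def_LinSer
import Groth.Prelude.Def_Curve
import Groth.Agent.H17.InvSection
import Groth.Agent.H8.QCohStalk

/-!
# S14471 (vanishing orders of a linear series at a point of a smooth proper curve): skeleton
-/

set_option autoImplicit false
set_option linter.style.haveILetI false
universe u
open CategoryTheory AlgebraicGeometry Opposite

namespace Groth.Agent.H7.LinSerOrdSkel

/-- (CNT) pure linear algebra: a valuation-like function on a finite-dimensional space takes exactly
`dim V` values on the nonzero vectors. -/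
theorem ncard_image_of_valuationLike {k V : Type u} [Field k] [AddCommGroup V] [Module k V]
    [Module.Finite k V] (ν : V → ℕ∞)
    (h0 : ∀ v, ν v = ⊤ ↔ v = 0)
    (hadd : ∀ v w, min (ν v) (ν w) ≤ ν (v + w))
    (hsmul : ∀ (a : k) v, a ≠ 0 → ν (a • v) = ν v)
    (hlead : ∀ v w, ν v = ν w → ν v ≠ ⊤ → ∃ a : k, a ≠ 0 ∧ ν v < ν (v - a • w)) :
    Set.ncard (ν '' {v | v ≠ 0}) = Module.finrank k V := by
  sorry

/-- (LEN) length of `M ⧸ (m)` for `M` free of rank one over a DVR. -/
theorem length_quotient_span_eq_addVal {O M : Type u} [CommRing O] [IsDomain O]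
    [IsDiscreteValuationRing O] [AddCommGroup M] [Module O M] (e : M ≃ₗ[O] O) (m : M) :
    Module.length O (M ⧸ Submodule.span O {m}) = IsDiscreteValuationRing.addVal O (e m) := by
  sorry

/-- (LEAD) leading coefficients in a DVR whose residue field is the coefficient field. -/
theorem exists_lead {k O : Type u} [Field k] [CommRing O] [IsDomain O]
    [IsDiscreteValuationRing O] (ι : k →+* O)
    (hι : Function.Bijective ((IsLocalRing.residue O).comp ι)) (x y : O) (hx : x ≠ 0)
    (h : IsDiscreteValuationRing.addVal O x = IsDiscreteValuationRing.addVal O y) :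
    ∃ a : k, a ≠ 0 ∧
      IsDiscreteValuationRing.addVal O x < IsDiscreteValuationRing.addVal O (x - ι a * y) := by
  sorry

/-- (DVR) the local ring of a smooth proper curve over an algebraically closed field at a closed
point is a DVR. -/
theorem isDVR_stalk (k : Type u) [Field k] [IsAlgClosed k] (C : Scheme.{u})
    [C.Over (Spec (CommRingCat.of k))]
    (hC : Curve.IsSmoothProperCurve k C (C ↘ (Spec (CommRingCat.of k)))) (p : C)
    (hp : IsClosed ({p} : Set C)) :
    ∃ _ : IsDomain ↑(C.presheaf.stalk p), IsDiscreteValuationRing ↑(C.presheaf.stalk p) := by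
  sorry

/-- (RES) the residue field at a closed point is the (algebraically closed) base field. -/
theorem bijective_residue_toGlobal (k : Type u) [Field k] [IsAlgClosed k] (C : Scheme.{u})
    [C.Over (Spec (CommRingCat.of k))]
    (hC : Curve.IsSmoothProperCurve k C (C ↘ (Spec (CommRingCat.of k)))) (p : C)
    (hp : IsClosed ({p} : Set C)) :
    Function.Bijective ((IsLocalRing.residue ↑(C.presheaf.stalk p)).comp
      ((C.presheaf.germ ⊤ p trivial).hom.comp (Coh.toGlobal (C ↘ Spec (CommRingCat.of k))))) := by
  sorry

/-- (INJ) on an integral scheme a global section of an invertible module with zero germ is zero. -/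
theorem eq_zero_of_germ_eq_zero (C : Scheme.{u}) [IsIntegral C] (L : C.Modules)
    (hL : PicF.IsInvertible L) (p : C) (σ : LinSer.Sect C L)
    (h : L.presheaf.germ ⊤ p trivial σ = 0) : σ = 0 := by
  sorry

end Groth.Agent.H7.LinSerOrdSkel
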