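import Mathlib

/-!
# The difference homomorphism of two flat lifts over a semismall extension

`exists_diff_hom` (piece (RL) of the S12329 squad).
-/

set_option autoImplicit false
universe u

namespace Groth.Agent.H7.LocHilbRL

/-- If `S ⧸ I` is flat over `B` and `N` is an ideal of `B`, then `I ⊓ N S = N S * I`. -/
theorem mem_map_mul_of_mem_inf {B S : Type u} [CommRing B] [CommRing S] (β : B →+* S)
    (I : Ideal S) (hf : ((Ideal.Quotient.mk I).comp β).Flat) (N : Ideal B) {x : S}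
    (hxI : x ∈ I) (hxN : x ∈ N.map β) : x ∈ N.map β * I := by
  letI algQ : Algebra B (S ⧸ I) := ((Ideal.Quotient.mk I).comp β).toAlgebra
  haveI : Module.Flat B (S ⧸ I) := hf
  have hsmul : ∀ (b : B) (q : S ⧸ I), b • q = Ideal.Quotient.mk I (β b) * q := fun b q => rfl
  obtain ⟨n, c, g, rfl⟩ := Submodule.mem_span_set'.mp hxN
  choose b hbN hb using fun i => (g i).2
  have hrel : ∑ i, b i • (Ideal.Quotient.mk I (c i)) = 0 := by
    have h0 : Ideal.Quotient.mk I (∑ i, c i • (g i : S)) = 0 :=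
      Ideal.Quotient.eq_zero_iff_mem.mpr hxI
    rw [map_sum] at h0
    rw [← h0]
    refine Finset.sum_congr rfl fun i _ => ?_
    rw [hsmul, smul_eq_mul, map_mul, hb i, mul_comm]
  obtain ⟨k, a, y, hy, ha⟩ := Module.Flat.isTrivialRelation_of_sum_smul_eq_zero (R := B)
    (M := S ⧸ I) (f := b) (x := fun i => Ideal.Quotient.mk I (c i)) hrel
  choose u hu using fun j => Ideal.Quotient.mk_surjective (y j)
  have hy' : ∀ i, Ideal.Quotient.mk I (c i) = ∑ j, a i j • y j := hy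
  have ht : ∀ i, c i - ∑ j, β (a i j) * u j ∈ I := by
    intro i
    rw [← Ideal.Quotient.eq_zero_iff_mem, map_sub, map_sum, hy' i, sub_eq_zero]
    refine Finset.sum_congr rfl fun j _ => ?_
    rw [map_mul, hu j, hsmul]
  have h2 : ∑ i, β (b i) * ∑ j, β (a i j) * u j = 0 := by
    simp_rw [Finset.mul_sum]
    rw [Finset.sum_comm]
    refine Finset.sum_eq_zero fun j _ => ?_
    have h3 := congrArg β (ha j)
    rw [map_sum, map_zero] at h3
    calc ∑ i, β (b i) * (β (a i j) * u j) = (∑ i, β (b i * a i j)) * u j := by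
          rw [Finset.sum_mul]
          refine Finset.sum_congr rfl fun i _ => ?_
          rw [map_mul, mul_assoc]
      _ = 0 := by rw [h3, zero_mul]
  have hx : ∑ i, c i • (g i : S) = ∑ i, β (b i) * (c i - ∑ j, β (a i j) * u j) := by
    simp_rw [mul_sub]
    rw [Finset.sum_sub_distrib, h2, sub_zero]
    refine Finset.sum_congr rfl fun i _ => ?_
    rw [smul_eq_mul, hb i, mul_comm]
  rw [hx]
  exact Ideal.sum_mem _ fun i _ => Ideal.mul_mem_mul (Ideal.mem_map_of_mem _ (hbN i)) (ht i)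

/-- If `S` is flat over `B` and `j` is a minimal system (all relations have coefficients in `𝔪`),
then every relation `∑ β (j l) * t l = 0` in `S` has coefficients in `𝔪 S`. -/
theorem mem_map_of_sum_eq_zero {B S : Type u} [CommRing B] [CommRing S] (β : B →+* S)
    (hβ : β.Flat) (𝔪 : Ideal B) {r : ℕ} (j : Fin r → B)
    (hj : ∀ c : Fin r → B, ∑ l, c l * j l = 0 → ∀ l, c l ∈ 𝔪) (t : Fin r → S)
    (ht : ∑ l, β (j l) * t l = 0) : ∀ l, t l ∈ 𝔪.map β := by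
  letI := β.toAlgebra
  haveI : Module.Flat B S := hβ
  have hsmul : ∀ (b : B) (q : S), b • q = β b * q := fun b q => rfl
  have hrel : ∑ l, j l • t l = 0 := by
    rw [← ht]
    exact Finset.sum_congr rfl fun l _ => hsmul _ _
  obtain ⟨k, a, y, hy, ha⟩ := Module.Flat.isTrivialRelation_of_sum_smul_eq_zero (R := B)
    (M := S) (f := j) (x := t) hrel
  intro l
  rw [hy l]
  refine Ideal.sum_mem _ fun i _ => ?_
  have hmem : a l i ∈ 𝔪 := hj (fun l' => a l' i) (by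
    rw [← ha i]
    exact Finset.sum_congr rfl fun l' _ => mul_comm _ _) l
  rw [hsmul]
  exact Ideal.mul_mem_right _ _ (Ideal.mem_map_of_mem β hmem)

/-- Elements of `span (range v) * I` are combinations of the `v m` with coefficients in `I`. -/
theorem exists_of_mem_span_mul {S : Type u} [CommRing S] {r : ℕ} (v : Fin r → S) (I : Ideal S)
    {x : S} (hx : x ∈ Ideal.span (Set.range v) * I) :
    ∃ c : Fin r → S, (∀ m, c m ∈ I) ∧ x = ∑ m, v m * c m := by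
  refine Submodule.mul_induction_on hx ?_ ?_
  · intro a ha b hb
    obtain ⟨c, rfl⟩ := Ideal.mem_span_range_iff_exists_fun.mp ha
    refine ⟨fun m => c m * b, fun m => Ideal.mul_mem_left _ _ hb, ?_⟩
    rw [Finset.sum_mul]
    refine Finset.sum_congr rfl fun m _ => ?_
    ring
  · rintro x y ⟨c, hc, rfl⟩ ⟨d, hd, rfl⟩
    refine ⟨fun m => c m + d m, fun m => Ideal.add_mem _ (hc m) (hd m), ?_⟩
    rw [← Finset.sum_add_distrib]
    refine Finset.sum_congr rfl fun m _ => ?_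
    ring

/-- (RL) difference homomorphism of two flat lifts over a semismall extension -/
theorem exists_diff_hom {B S R : Type u} [CommRing B] [CommRing S] [CommRing R]
    (β : B →+* S) (hβ : β.Flat) (𝔪 J : Ideal B) (h𝔪J : 𝔪 * J = ⊥) {r : ℕ} (j : Fin r → B)
    (hjJ : Ideal.span (Set.range j) = J)
    (hj : ∀ c : Fin r → B, ∑ l, c l * j l = 0 → ∀ l, c l ∈ 𝔪)
    (ρ : S →+* R) (hρs : Function.Surjective ρ) (hρk : RingHom.ker ρ = 𝔪.map β)
    (I₁ I₂ : Ideal S) (hf₁ : ((Ideal.Quotient.mk I₁).comp β).Flat)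
    (hf₂ : ((Ideal.Quotient.mk I₂).comp β).Flat)
    (hI : I₁ ⊔ J.map β = I₂ ⊔ J.map β)
    (I₀ : Ideal R) (h₁ : I₁.map ρ = I₀) (h₂ : I₂.map ρ = I₀) :
    ∃ φ : Fin r → (I₀ →ₗ[R] R ⧸ I₀),
      (∀ (l : Fin r) (a₁ a₂ : S) (s : Fin r → S) (h0 : ρ a₁ ∈ I₀), a₁ ∈ I₁ → a₂ ∈ I₂ →
          a₁ - a₂ = ∑ m, β (j m) * s m →
          φ l ⟨ρ a₁, h0⟩ = Ideal.Quotient.mk I₀ (ρ (s l))) ∧
      ((∀ l, φ l = 0) → I₁ ≤ I₂) := by
  -- `J S` is generated by the `β (j m)`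
  have hJS : J.map β = Ideal.span (Set.range fun m => β (j m)) := by
    rw [← hjJ, Ideal.map_span, ← Set.range_comp]
    rfl
  have hjmem : ∀ m, β (j m) ∈ J.map β := fun m =>
    Ideal.mem_map_of_mem β (hjJ ▸ Ideal.subset_span ⟨m, rfl⟩)
  -- `𝔪 S * J S = 0`
  have hmJ : 𝔪.map β * J.map β = ⊥ := by
    rw [← Ideal.map_mul, h𝔪J, Ideal.map_bot]
  have F1 : ∀ e ∈ 𝔪.map β, ∀ m, β (j m) * e = 0 := by
    intro e he m
    have : β (j m) * e ∈ 𝔪.map β * J.map β := Ideal.mul_mem_mul_rev he (hjmem m)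
    rwa [hmJ, Ideal.mem_bot] at this
  have hsumJ : ∀ s : Fin r → S, ∑ m, β (j m) * s m ∈ J.map β := fun s =>
    Ideal.sum_mem _ fun m _ => Ideal.mul_mem_right _ _ (hjmem m)
  -- decomposition of elements of `I₁`
  have DEC : ∀ a₁ ∈ I₁, ∃ a₂ ∈ I₂, ∃ s : Fin r → S, a₁ - a₂ = ∑ m, β (j m) * s m := by
    intro a₁ ha₁
    have h : a₁ ∈ I₂ ⊔ J.map β := hI ▸ (Ideal.mem_sup_left ha₁ : a₁ ∈ I₁ ⊔ J.map β)
    obtain ⟨a₂, ha₂, e, he, rfl⟩ := Submodule.mem_sup.mp h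
    rw [hJS] at he
    obtain ⟨s, rfl⟩ := Ideal.mem_span_range_iff_exists_fun.mp he
    refine ⟨a₂, ha₂, s, ?_⟩
    rw [add_sub_cancel_left]
    exact Finset.sum_congr rfl fun m _ => mul_comm _ _
  -- `𝔪 S * I₁ ≤ I₂`
  have hmI : 𝔪.map β * I₁ ≤ I₂ := by
    have h1 : I₁ ≤ I₂ ⊔ J.map β := hI ▸ le_sup_left
    calc 𝔪.map β * I₁ ≤ 𝔪.map β * (I₂ ⊔ J.map β) := Ideal.mul_mono_right h1
      _ = 𝔪.map β * I₂ ⊔ 𝔪.map β * J.map β := Ideal.mul_sup _ _ _
      _ = 𝔪.map β * I₂ := by rw [hmJ, sup_bot_eq]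
      _ ≤ I₂ := Ideal.mul_le_right
  -- well-definedness
  have WD : ∀ (a₁ a₁' a₂ a₂' : S) (s s' : Fin r → S), a₁ ∈ I₁ → a₁' ∈ I₁ → a₂ ∈ I₂ → a₂' ∈ I₂ →
      a₁ - a₂ = ∑ m, β (j m) * s m → a₁' - a₂' = ∑ m, β (j m) * s' m → ρ a₁ = ρ a₁' →
      ∀ l, Ideal.Quotient.mk I₀ (ρ (s l)) = Ideal.Quotient.mk I₀ (ρ (s' l)) := by
    intro a₁ a₁' a₂ a₂' s s' ha₁ ha₁' ha₂ ha₂' hs hs' hρ l
    have hd1 : a₁ - a₁' ∈ I₁ := Ideal.sub_mem _ ha₁ ha₁'
    have hd2 : a₁ - a₁' ∈ 𝔪.map β := by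
      rw [← hρk, RingHom.mem_ker, map_sub, hρ, sub_self]
    have hd3 : a₁ - a₁' ∈ I₂ := hmI (mem_map_mul_of_mem_inf β I₁ hf₁ 𝔪 hd1 hd2)
    have he : ∑ m, β (j m) * (s m - s' m) = (a₁ - a₁') - (a₂ - a₂') := by
      simp_rw [mul_sub]
      rw [Finset.sum_sub_distrib, ← hs, ← hs']
      ring
    have heI : ∑ m, β (j m) * (s m - s' m) ∈ I₂ := by
      rw [he]; exact Ideal.sub_mem _ hd3 (Ideal.sub_mem _ ha₂ ha₂')
    have heJ : ∑ m, β (j m) * (s m - s' m) ∈ J.map β := hsumJ _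
    have he2 := mem_map_mul_of_mem_inf β I₂ hf₂ J heI heJ
    rw [hJS] at he2
    obtain ⟨c, hc, hec⟩ := exists_of_mem_span_mul _ I₂ he2
    have h0 : ∑ m, β (j m) * (s m - s' m - c m) = 0 := by
      simp_rw [mul_sub (β (j _)) (s _ - s' _) (c _)]
      rw [Finset.sum_sub_distrib, hec, sub_self]
    have hk := mem_map_of_sum_eq_zero β hβ 𝔪 j hj _ h0 l
    rw [← hρk, RingHom.mem_ker, map_sub, map_sub, sub_eq_zero] at hk
    rw [Ideal.Quotient.eq, hk, ← h₂]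
    exact Ideal.mem_map_of_mem ρ (hc l)
  -- existence of lifts
  have EX : ∀ x : I₀, ∃ (a₁ a₂ : S) (s : Fin r → S), a₁ ∈ I₁ ∧ a₂ ∈ I₂ ∧ ρ a₁ = x ∧
      a₁ - a₂ = ∑ m, β (j m) * s m := by
    intro x
    have hx : (x : R) ∈ I₁.map ρ := h₁ ▸ x.2
    obtain ⟨a₁, ha₁, hρa⟩ := (Ideal.mem_map_iff_of_surjective ρ hρs).mp hx
    obtain ⟨a₂, ha₂, s, hs⟩ := DEC a₁ ha₁
    exact ⟨a₁, a₂, s, ha₁, ha₂, hρa, hs⟩
  choose A₁ A₂ Sx hA₁ hA₂ hρA hSx using EX
  -- the maps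
  have key : ∀ (l : Fin r) (x : I₀) (a₁ a₂ : S) (s : Fin r → S), a₁ ∈ I₁ → a₂ ∈ I₂ →
      ρ a₁ = x → a₁ - a₂ = ∑ m, β (j m) * s m →
      Ideal.Quotient.mk I₀ (ρ (Sx x l)) = Ideal.Quotient.mk I₀ (ρ (s l)) := by
    intro l x a₁ a₂ s ha₁ ha₂ hρa hs
    exact WD (A₁ x) a₁ (A₂ x) a₂ (Sx x) s (hA₁ x) ha₁ (hA₂ x) ha₂ (hSx x) hs
      ((hρA x).trans hρa.symm) l
  let φ : Fin r → (I₀ →ₗ[R] R ⧸ I₀) := fun l =>
    { toFun := fun x => Ideal.Quotient.mk I₀ (ρ (Sx x l))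
      map_add' := by
        intro x y
        have h := key l (x + y) (A₁ x + A₁ y) (A₂ x + A₂ y) (fun m => Sx x m + Sx y m)
          (Ideal.add_mem _ (hA₁ x) (hA₁ y)) (Ideal.add_mem _ (hA₂ x) (hA₂ y))
          (by rw [map_add, hρA x, hρA y]; rfl)
          (by
            simp_rw [mul_add]
            rw [Finset.sum_add_distrib, ← hSx x, ← hSx y]
            ring)
        rw [h, map_add, map_add]
      map_smul' := by
        intro c x
        obtain ⟨s₀, rfl⟩ := hρs c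
        have h := key l (ρ s₀ • x) (s₀ * A₁ x) (s₀ * A₂ x) (fun m => s₀ * Sx x m)
          (Ideal.mul_mem_left _ _ (hA₁ x)) (Ideal.mul_mem_left _ _ (hA₂ x))
          (by rw [map_mul, hρA x]; rfl)
          (by
            rw [← mul_sub, hSx x, Finset.mul_sum]
            refine Finset.sum_congr rfl fun m _ => ?_
            ring)
        rw [h, map_mul, map_mul, RingHom.id_apply]
        rfl }
  refine ⟨φ, ?_, ?_⟩
  · intro l a₁ a₂ s h0 ha₁ ha₂ hs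
    exact key l ⟨ρ a₁, h0⟩ a₁ a₂ s ha₁ ha₂ rfl hs
  · intro hφ a₁ ha₁
    obtain ⟨a₂, ha₂, s, hs⟩ := DEC a₁ ha₁
    have h0 : ρ a₁ ∈ I₀ := h₁ ▸ Ideal.mem_map_of_mem ρ ha₁
    have hsl : ∀ l, β (j l) * s l ∈ I₂ := by
      intro l
      have h1 : φ l ⟨ρ a₁, h0⟩ = Ideal.Quotient.mk I₀ (ρ (s l)) :=
        key l ⟨ρ a₁, h0⟩ a₁ a₂ s ha₁ ha₂ rfl hs
      rw [hφ l, LinearMap.zero_apply] at h1
      have h2 : ρ (s l) ∈ I₂.map ρ := h₂ ▸ Ideal.Quotient.eq_zero_iff_mem.mp h1.symm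
      obtain ⟨c, hc, hρc⟩ := (Ideal.mem_map_iff_of_surjective ρ hρs).mp h2
      have h3 : s l - c ∈ 𝔪.map β := by
        rw [← hρk, RingHom.mem_ker, map_sub, hρc, sub_self]
      have h4 := F1 _ h3 l
      rw [mul_sub, sub_eq_zero] at h4
      rw [h4]
      exact Ideal.mul_mem_left _ _ hc
    have : a₁ = a₂ + ∑ m, β (j m) * s m := by rw [← hs]; ring
    rw [this]
    exact Ideal.add_mem _ ha₂ (Ideal.sum_mem _ fun m _ => hsl m)

end Groth.Agent.H7.LocHilbRL
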