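import Mathlib.AlgebraicGeometry.QuasiAffine
import Mathlib.AlgebraicGeometry.ZariskisMainTheorem

set_option autoImplicit false
universe u

namespace Groth.Agent.H7

open AlgebraicGeometry CategoryTheory Limits

/-- In a quasi-affine scheme every finite set of points lies in an affine basic open of a global
section (prime avoidance). -/
theorem exists_basicOpen_of_isQuasiAffine (X : Scheme.{u}) [X.IsQuasiAffine] (T : Finset X) :
    ∃ r : Γ(X, ⊤), IsAffineOpen (X.basicOpen r) ∧ ∀ x ∈ T, x ∈ X.basicOpen r := by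
  classical
  by_cases hTne : T.Nonempty
  swap
  · refine ⟨0, ?_, fun x hx => (hTne ⟨x, hx⟩).elim⟩
    rw [Scheme.basicOpen_zero]
    exact isAffineOpen_bot X
  obtain ⟨x₀, -⟩ := hTne
  let j := X.toSpecΓ
  let Z : Set (PrimeSpectrum Γ(X, ⊤)) := (Set.range j)ᶜ
  have hZ : IsClosed Z := j.isOpenEmbedding.isOpen_range.isClosed_compl
  let I := PrimeSpectrum.vanishingIdeal Z
  have hI : PrimeSpectrum.zeroLocus (I : Set Γ(X, ⊤)) = Z := by
    rw [PrimeSpectrum.zeroLocus_vanishingIdeal_eq_closure, hZ.closure_eq]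
  have hnot : ¬ ((I : Set Γ(X, ⊤)) ⊆ ⋃ x ∈ (T : Set X), ((j x).asIdeal : Set Γ(X, ⊤))) := by
    intro h
    have := (Ideal.subset_union_prime (s := T) (f := fun x => (j x).asIdeal)
      x₀ x₀
      (fun x _ _ _ => (j x).isPrime)).mp h
    obtain ⟨x, -, hx⟩ := this
    have : j x ∈ Z := by
      rw [← hI]
      exact (PrimeSpectrum.mem_zeroLocus (j x) _).mpr hx
    exact this ⟨x, rfl⟩
  rw [Set.not_subset] at hnot
  obtain ⟨r, hrI, hr⟩ := hnot
  have hrange : PrimeSpectrum.basicOpen r ≤ j.opensRange := by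
    intro p hp
    by_contra hp'
    have : p ∈ PrimeSpectrum.zeroLocus (I : Set Γ(X, ⊤)) := by rw [hI]; exact hp'
    exact hp ((PrimeSpectrum.mem_zeroLocus p _).mp this hrI)
  refine ⟨r, ?_, fun x hx => ?_⟩
  · rw [← X.toSpecΓ_preimage_basicOpen r]
    exact (IsAffineOpen.Spec_basicOpen r).preimage_of_isOpenImmersion j hrange
  · rw [← X.toSpecΓ_preimage_basicOpen r]
    show j x ∈ PrimeSpectrum.basicOpen r
    refine (PrimeSpectrum.mem_basicOpen r (j x)).mpr ?_
    intro h
    exact hr (Set.mem_biUnion (Finset.mem_coe.mpr hx) h)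

/-- A quasi-compact scheme which is separated, locally quasi-finite and locally of finite type
over an affine scheme is quasi-affine (Zariski's main theorem). -/
theorem isQuasiAffine_of_locallyQuasiFinite {X Y : Scheme.{u}} (h : X ⟶ Y) [IsAffine Y]
    [CompactSpace X] [IsSeparated h] [LocallyQuasiFinite h] [LocallyOfFiniteType h] :
    X.IsQuasiAffine := by
  have : QuasiCompact h := by
    rw [HasAffineProperty.iff_of_isAffine (P := @QuasiCompact)]
    infer_instance
  have : IsAffineHom h.fromNormalization := inferInstance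
  have : IsAffine h.normalization := isAffine_of_isAffineHom h.fromNormalization
  exact Scheme.IsQuasiAffine.of_isImmersion h.toNormalization

/-- For a separated, locally quasi-finite morphism locally of finite type to an affine scheme,
every finite set of points of the source lies in an affine open. -/
theorem exists_isAffineOpen_of_locallyQuasiFinite {X Y : Scheme.{u}} (f : X ⟶ Y) [IsAffine Y]
    [IsSeparated f] [LocallyQuasiFinite f] [LocallyOfFiniteType f] (T : Finset X) :
    ∃ U : X.Opens, IsAffineOpen U ∧ ∀ x ∈ T, x ∈ U := by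
  classical
  -- a compact open containing `T`
  choose V hV hxV using fun x : X =>
    (X.isBasis_affineOpens.exists_subset_of_mem_open (Set.mem_univ x) isOpen_univ)
  obtain ⟨W, hWc, hTW⟩ : ∃ W : X.Opens, IsCompact (W : Set X) ∧ ∀ x ∈ T, x ∈ W := by
    have hV' : ∀ x : X, ∃ U : X.Opens, IsAffineOpen U ∧ x ∈ U := by
      intro x
      obtain ⟨_, ⟨U, hU, rfl⟩, hxU, -⟩ :=
        X.isBasis_affineOpens.exists_subset_of_mem_open (Set.mem_univ x) isOpen_univ
      exact ⟨U, hU, hxU⟩
    choose U hU hxU using hV'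
    refine ⟨⨆ x ∈ T, U x, ?_, fun x hx => ?_⟩
    · have : ((⨆ x ∈ T, U x : X.Opens) : Set X) = ⋃ x ∈ T, (U x : Set X) := by
        simp
      rw [this]
      exact T.isCompact_biUnion fun x _ => (hU x).isCompact
    · exact TopologicalSpace.Opens.mem_iSup.mpr ⟨x, TopologicalSpace.Opens.mem_iSup.mpr ⟨hx, hxU x⟩⟩
  have : CompactSpace (W : Scheme.{u}) := isCompact_iff_compactSpace.mp hWc
  have hqa : (W : Scheme.{u}).IsQuasiAffine := isQuasiAffine_of_locallyQuasiFinite (W.ι ≫ f)
  let T' : Finset W := T.attach.filterMap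
    (fun x => if h : x.1 ∈ W then some ⟨x.1, h⟩ else none) (by
      intro a b c hac hbc
      simp only [Option.mem_def] at hac hbc
      split_ifs at hac hbc with h1 h2
      · simp only [Option.some.injEq] at hac hbc
        rw [← hbc] at hac
        exact Subtype.ext (congrArg (fun w : W => (w : X)) hac))
  obtain ⟨r, hr, hrT⟩ := exists_basicOpen_of_isQuasiAffine (W : Scheme.{u}) T'
  refine ⟨W.ι ''ᵁ (W : Scheme.{u}).basicOpen r, hr.image_of_isOpenImmersion W.ι, fun x hx => ?_⟩
  refine ⟨⟨x, hTW x hx⟩, hrT _ ?_, rfl⟩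
  simp only [T', Finset.mem_filterMap, Finset.mem_attach, true_and]
  exact ⟨⟨x, hx⟩, by simp [hTW x hx]⟩

end Groth.Agent.H7
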