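import Mathlib
import Groth.Agent.S4357
import Groth.Agent.S1391
import Groth.Agent.H70.QuasiFlat
import Groth.Agent.H8.PullbackFinType

/-!
# Quasi-flat morphisms locally of finite presentation are universally open (EGA IV 2.4.6 / 11.3.1)
-/

set_option autoImplicit false
set_option linter.style.haveILetI false
open CategoryTheory CategoryTheory.Limits AlgebraicGeometry
universe u

namespace Groth.Agent.H7

/-- Quasi-flatness is stable under base change. -/
theorem isQuasiFlat_of_isPullback {X Y X' Y' : Scheme.{u}} {f : X ⟶ Y} {f' : X' ⟶ Y'}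
    {g' : X' ⟶ X} {g : Y' ⟶ Y} (hc : IsPullback g' f' f g) (hf : FDesc.IsQuasiFlat f) :
    FDesc.IsQuasiFlat f' := by
  obtain ⟨M, hcoh, hflat, hnt⟩ := hf
  haveI : M.IsQuasicoherent := hcoh.1
  haveI : Coh.IsQCoh M := hcoh.1
  haveI : SheafOfModules.IsFiniteType (R := X.ringCatSheaf) M := hcoh.2
  refine ⟨(Scheme.Modules.pullback g').obj M,
    ⟨Groth.Agent.H8.isQuasicoherent_pullback g' M, Groth.Agent.H8.isFiniteType_pullback g' M⟩,
    ?_, ?_⟩
  · intro x'
    exact Groth.Agent.S1391.result f f' g' g hc M hcoh.1 x' (hflat _)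
  · intro x'
    have h := Groth.Agent.S4357.result g' M hcoh.2
    have hx : x' ∈ CohB1.support ((Scheme.Modules.pullback g').obj M) := by
      rw [h]
      show ¬ Subsingleton _
      exact not_subsingleton_iff_nontrivial.mpr (hnt _)
    exact not_subsingleton_iff_nontrivial.mp hx

/-- **EGA IV 2.4.6 (quasi-flat form).** A quasi-flat morphism locally of finite presentation is
universally open. -/
theorem universallyOpen_of_isQuasiFlat {X Y : Scheme.{u}} (f : X ⟶ Y)
    (hf : FDesc.IsQuasiFlat f) [LocallyOfFinitePresentation f] : UniversallyOpen f := by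
  refine ⟨MorphismProperty.universally_mk' _ _ fun {T} g _ => ?_⟩
  have hqf : FDesc.IsQuasiFlat (pullback.fst g f) :=
    isQuasiFlat_of_isPullback (IsPullback.of_hasPullback g f).flip hf
  exact isOpenMap_of_generalizingMap _
    (Groth.Agent.H70.QuasiFlat.generalizingMap_of_isQuasiFlat _ hqf)

end Groth.Agent.H7
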