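import Mathlib
import Groth.Agent.H7.QuasiSection

/-!
# Quasi-finite closed subschemes through a point meeting an open set (helper7)
-/

set_option autoImplicit false
set_option linter.style.haveILetI false
universe u

namespace Groth.Agent.H7

open AlgebraicGeometry CategoryTheory TopologicalSpace IsLocalRing

/-- Variant of `exists_specialization_maximal` keeping the point inside an open set. -/
theorem exists_specialization_maximal_mem_open {X Y : Scheme.{u}} (f : X ⟶ Y) (x ξ : X)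
    (hξx : ξ ⤳ x) [IsNoetherianRing (X.presheaf.stalk x)] (hne : f ξ ≠ f x) (U : X.Opens)
    (hξU : ξ ∈ U) :
    ∃ x₁ : X, ξ ⤳ x₁ ∧ x₁ ⤳ x ∧ f x₁ ≠ f x ∧ x₁ ∈ U ∧
      ∀ z : X, x₁ ⤳ z → z ⤳ x → f z = f x → z = x := by
  obtain ⟨q₀, hq₀⟩ : ξ ∈ Set.range (X.fromSpecStalk x) := by
    rw [Scheme.range_fromSpecStalk]
    exact hξx
  have key : ∀ t : Spec (X.presheaf.stalk x), f (X.fromSpecStalk x t) = f x ↔
      (maximalIdeal (Y.presheaf.stalk (f x))).map (f.stalkMap x).hom ≤ t.asIdeal := by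
    intro t
    rw [map_fromSpecStalk_eq_iff', Ideal.map_le_iff_le_comap]
    constructor
    · intro h
      exact h.ge
    · intro h
      exact ((maximalIdeal.isMaximal _).eq_of_le (Ideal.comap_ne_top _ t.isPrime.ne_top) h).symm
  -- the ideal of the complement of `U`
  have hCcl : IsClosed ((X.fromSpecStalk x) ⁻¹' (U : Set X))ᶜ :=
    (U.isOpen.preimage (X.fromSpecStalk x).continuous).isClosed_compl
  obtain ⟨J, hJ⟩ : ∃ J : Ideal (X.presheaf.stalk x), ∀ t : Spec (X.presheaf.stalk x),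
      J ≤ t.asIdeal ↔ X.fromSpecStalk x t ∉ U := by
    refine ⟨PrimeSpectrum.vanishingIdeal ((X.fromSpecStalk x) ⁻¹' (U : Set X))ᶜ, fun t => ?_⟩
    have h1 : t ∈ PrimeSpectrum.zeroLocus (PrimeSpectrum.vanishingIdeal
        ((X.fromSpecStalk x) ⁻¹' (U : Set X))ᶜ : Set (X.presheaf.stalk x)) ↔
        t ∈ ((X.fromSpecStalk x) ⁻¹' (U : Set X))ᶜ := by
      rw [PrimeSpectrum.zeroLocus_vanishingIdeal_eq_closure]
      exact (congrArg (t ∈ ·) hCcl.closure_eq).to_iff
    exact (SetLike.coe_subset_coe.symm.trans (PrimeSpectrum.mem_zeroLocus _ _).symm).trans h1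
  have h₀ : ¬ (maximalIdeal (Y.presheaf.stalk (f x))).map (f.stalkMap x).hom * J ≤ q₀.asIdeal := by
    intro h
    haveI := q₀.isPrime
    rcases (Ideal.IsPrime.mul_le q₀.isPrime).mp h with h1 | h1
    · exact hne (by rw [← hq₀]; exact (key q₀).mpr h1)
    · exact (hJ q₀).mp h1 (by rw [hq₀]; exact hξU)
  haveI := q₀.isPrime
  obtain ⟨q, hqp, hq₀q, hIq, hmax⟩ := exists_prime_maximal_not_le _ q₀.asIdeal h₀
  let qpt : Spec (X.presheaf.stalk x) := ⟨q, hqp⟩
  refine ⟨X.fromSpecStalk x qpt, ?_, ?_, ?_, ?_, ?_⟩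
  · rw [← hq₀]
    have h1 : q₀ ⤳ qpt := (PrimeSpectrum.le_iff_specializes q₀ qpt).mp hq₀q
    exact h1.map (X.fromSpecStalk x).continuous
  · have h1 : X.fromSpecStalk x qpt ∈ Set.range (X.fromSpecStalk x) := ⟨qpt, rfl⟩
    rw [Scheme.range_fromSpecStalk] at h1
    exact h1
  · intro h
    exact hIq (Ideal.mul_le_left.trans ((key qpt).mp h))
  · by_contra h
    exact hIq (Ideal.mul_le_right.trans ((hJ qpt).mpr h))
  · intro z hz1 hz2 hfz
    obtain ⟨t, rfl⟩ : z ∈ Set.range (X.fromSpecStalk x) := by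
      rw [Scheme.range_fromSpecStalk]
      exact hz2
    have h2 : qpt ⤳ t := (X.fromSpecStalk x).isEmbedding.isInducing.specializes_iff.mp hz1
    have h3 : q ≤ t.asIdeal := (PrimeSpectrum.le_iff_specializes qpt t).mpr h2
    have h4 := hmax t.asIdeal t.isPrime h3 (Ideal.mul_le_left.trans ((key t).mp hfz))
    have h5 : t = closedPoint _ := PrimeSpectrum.ext h4
    rw [h5]
    exact Scheme.fromSpecStalk_closedPoint

/-- closedness in the fibre (subspace form) gives the specialization form -/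
theorem eq_of_specializes_of_isClosed_preimage {X S : Scheme.{u}} (f : X ⟶ S) (x : X)
    (hcl : IsClosed (Subtype.val ⁻¹' {x} : Set ↑(f ⁻¹' {f x}))) :
    ∀ x' : X, f x' = f x → x ⤳ x' → x' = x := by
  intro x' hx' hs
  have h1 : (⟨x, rfl⟩ : ↑(f ⁻¹' {f x})) ⤳ ⟨x', hx'⟩ :=
    Topology.IsInducing.subtypeVal.specializes_iff.mp hs
  have h2 : (⟨x', hx'⟩ : ↑(f ⁻¹' {f x})) ∈ closure {(⟨x, rfl⟩ : ↑(f ⁻¹' {f x}))} :=
    specializes_iff_mem_closure.mp h1
  have h3 : closure {(⟨x, rfl⟩ : ↑(f ⁻¹' {f x}))} ⊆ Subtype.val ⁻¹' {x} :=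
    closure_minimal (Set.singleton_subset_iff.mpr rfl) hcl
  exact h3 h2

set_option backward.isDefEq.respectTransparency false in
theorem closed_subscheme_quasiFinite_at_closed_point_meeting_open {X S : Scheme.{u}} (f : X ⟶ S) [LocallyOfFiniteType f] [IsLocallyNoetherian S] (x : X)
    (hcl : IsClosed (Subtype.val ⁻¹' {x} : Set ↑(f ⁻¹' {f x}))) (U : X.Opens) (hx' : ∃ x' : X, x' ∈ U ∧ x' ⤳ x ∧ f x' ≠ f x) :
    ∃ (I : X.IdealSheafData) (z₀ x₀ : ↑I.subscheme), I.subschemeι x₀ = x ∧ (I.subschemeι ≫ f).QuasiFiniteAt x₀ ∧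
      I.subschemeι z₀ ∈ U ∧ I.subschemeι z₀ ⤳ x ∧ f (I.subschemeι z₀) ≠ f x := by
  haveI : IsLocallyNoetherian X := LocallyOfFiniteType.isLocallyNoetherian f
  have hcl' := eq_of_specializes_of_isClosed_preimage f x hcl
  obtain ⟨x', hx'U, hx'x, hfx'⟩ := hx'
  obtain ⟨x₁, h1, h2, h3, h4, h5⟩ := exists_specialization_maximal_mem_open f x x' hx'x hfx' U hx'U
  obtain ⟨I, hI⟩ : ∃ I : X.IdealSheafData,
      I = Scheme.IdealSheafData.vanishingIdeal ⟨closure {x₁}, isClosed_closure⟩ := ⟨_, rfl⟩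
  have hrange : Set.range I.subschemeι = closure {x₁} := by
    rw [Scheme.IdealSheafData.range_subschemeι, hI,
      Scheme.IdealSheafData.coe_support_vanishingIdeal]
    rfl
  obtain ⟨zx, hzx⟩ : x ∈ Set.range I.subschemeι := by
    rw [hrange]
    exact specializes_iff_mem_closure.mp h2
  obtain ⟨z₁, hz₁⟩ : x₁ ∈ Set.range I.subschemeι := by
    rw [hrange]
    exact subset_closure rfl
  refine ⟨I, z₁, zx, hzx, ?_, ?_, ?_, ?_⟩
  · apply quasiFiniteAt_of_closure f I.subschemeι x₁ zx hrange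
    · rw [hzx]
      exact hcl'
    · rw [hzx]
      exact h5
  · rw [hz₁]
    exact h4
  · rw [hz₁]
    exact h2
  · rw [hz₁]
    exact h3

end Groth.Agent.H7
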