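import Mathlib
import Groth.Agent.H7.QuasiSectionOpen

/-!
# Points of the closure of an open set are specializations of points of the open (helper7)
-/

set_option autoImplicit false
set_option linter.style.haveILetI false
universe u

namespace Groth.Agent.H7

open AlgebraicGeometry CategoryTheory TopologicalSpace

/-- In a Noetherian quasi-sober space every point of the closure of an open set is a
specialization of a point of that open set. -/
theorem exists_specializes_of_mem_closure_of_noetherianSpace {W : Type*} [TopologicalSpace W]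
    [NoetherianSpace W] [QuasiSober W] {U : Set W} (hU : IsOpen U) {x : W}
    (hx : x ∈ closure U) : ∃ η ∈ U, η ⤳ x := by
  classical
  obtain ⟨S, hS⟩ : ∃ S : Set (Set W), S = {Z | Z ∈ irreducibleComponents W ∧ (Z ∩ U).Nonempty} :=
    ⟨_, rfl⟩
  have hSmem : ∀ Z, Z ∈ S ↔ Z ∈ irreducibleComponents W ∧ (Z ∩ U).Nonempty := by
    intro Z
    rw [hS]
    rfl
  have hfin : S.Finite :=
    (NoetherianSpace.finite_irreducibleComponents).subset (fun Z hZ => ((hSmem Z).mp hZ).1)
  have hcl : IsClosed (⋃ Z ∈ S, Z) :=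
    hfin.isClosed_biUnion (fun Z hZ => isClosed_of_mem_irreducibleComponents Z ((hSmem Z).mp hZ).1)
  have hsub : U ⊆ ⋃ Z ∈ S, Z := by
    intro w hw
    refine Set.mem_biUnion (x := irreducibleComponent w) ?_ mem_irreducibleComponent
    exact (hSmem _).mpr ⟨irreducibleComponent_mem_irreducibleComponents w,
      ⟨w, mem_irreducibleComponent, hw⟩⟩
  have hx' := closure_minimal hsub hcl hx
  rw [Set.mem_iUnion₂] at hx'
  obtain ⟨Z, hZS, hxZ⟩ := hx'
  obtain ⟨hZ, ⟨w, hwZ, hwU⟩⟩ := (hSmem Z).mp hZS
  have hirr : IsIrreducible Z := hZ.1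
  have hZcl := isClosed_of_mem_irreducibleComponents Z hZ
  obtain ⟨η, hη⟩ := QuasiSober.sober hirr hZcl
  refine ⟨η, ?_, ?_⟩
  · have h1 : η ⤳ w := hη.specializes hwZ
    exact h1.mem_open hU hwU
  · exact hη.specializes hxZ

/-- In a locally Noetherian scheme every point of the closure of an open set is a
specialization of a point of that open set. -/
theorem exists_specializes_of_mem_closure {X : Scheme.{u}} [IsLocallyNoetherian X] (U : X.Opens)
    (x : X) (hx : x ∈ closure (U : Set X)) : ∃ x' : X, x' ∈ U ∧ x' ⤳ x := by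
  obtain ⟨W, hW, hxW, -⟩ := exists_isAffineOpen_mem_and_subset (x := x) (U := ⊤) trivial
  haveI : IsNoetherianRing Γ(X, W) := IsLocallyNoetherian.component_noetherian ⟨W, hW⟩
  haveI : NoetherianSpace W := noetherianSpace_of_isAffineOpen W hW
  obtain ⟨x₀, rfl⟩ : x ∈ Set.range W.ι := by
    rw [Scheme.Opens.range_ι]
    exact hxW
  have hU' : IsOpen (W.ι ⁻¹' (U : Set X) : Set W.toScheme) := U.isOpen.preimage W.ι.continuous
  have hx0 : x₀ ∈ closure (W.ι ⁻¹' (U : Set X) : Set W.toScheme) := by
    rw [W.ι.isOpenEmbedding.isInducing.closure_eq_preimage_closure_image,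
      Set.image_preimage_eq_inter_range, Set.inter_comm]
    exact W.ι.isOpenEmbedding.isOpen_range.inter_closure ⟨⟨x₀, rfl⟩, hx⟩
  obtain ⟨η, hηU, hηx⟩ := exists_specializes_of_mem_closure_of_noetherianSpace hU' hx0
  exact ⟨W.ι η, hηU, hηx.map W.ι.continuous⟩

/-- Variant of `closed_subscheme_quasiFinite_at_closed_point_meeting_open` where the open set
misses the fibre through `x` but has `x` in its closure. -/
theorem closed_subscheme_quasiFinite_of_mem_closure {X S : Scheme.{u}} (f : X ⟶ S)
    [LocallyOfFiniteType f] [IsLocallyNoetherian S] (x : X)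
    (hcl : IsClosed (Subtype.val ⁻¹' {x} : Set ↑(f ⁻¹' {f x}))) (U : X.Opens)
    (hU : ∀ x' ∈ U, f x' ≠ f x) (hxU : x ∈ closure (U : Set ↑X)) :
    ∃ (I : X.IdealSheafData) (z₀ x₀ : ↑I.subscheme), I.subschemeι x₀ = x ∧
      (I.subschemeι ≫ f).QuasiFiniteAt x₀ ∧
      I.subschemeι z₀ ∈ U ∧ I.subschemeι z₀ ⤳ x ∧ f (I.subschemeι z₀) ≠ f x := by
  haveI : IsLocallyNoetherian X := LocallyOfFiniteType.isLocallyNoetherian f
  obtain ⟨x', hx'U, hx'x⟩ := exists_specializes_of_mem_closure U x hxU
  exact closed_subscheme_quasiFinite_at_closed_point_meeting_open f x hcl U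
    ⟨x', hx'U, hx'x, hU x' hx'U⟩

end Groth.Agent.H7
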