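import Mathlib
import Groth.Agent.H7.QuasiSection

/-!
# EGA IV 14.5.3-type statements: quasi-sections over a regular one-dimensional base (helper7)
-/

set_option autoImplicit false
set_option linter.style.haveILetI false
universe u

namespace Groth.Agent.H7

open AlgebraicGeometry CategoryTheory TopologicalSpace IsLocalRing

set_option backward.isDefEq.respectTransparency false in
theorem quasiSections_iff_components_dominate {X Y : Scheme.{u}} [IrreducibleSpace Y]
    [IsLocallyNoetherian Y] (hY : ∀ y : Y, IsRegularLocalRing (Y.presheaf.stalk y) ∧ ringKrullDim (Y.presheaf.stalk y) ≤ 1)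
    (f : X ⟶ Y) [LocallyOfFiniteType f] (y : Y) :
    (∀ Z ∈ irreducibleComponents (X : Type u), (Z ∩ f.base ⁻¹' {y}).Nonempty → Dense (f.base '' Z)) ↔
      ∀ x : X, f.base x = y → (∀ x' : X, f.base x' = y → x ⤳ x' → x' = x) →
        ∀ Xi ∈ irreducibleComponents (X : Type u), x ∈ Xi →
          ∃ (T : Scheme.{u}) (i : T ⟶ X), IsImmersion i ∧ IrreducibleSpace ↥T ∧ IsReduced T ∧ x ∈ Set.range i.base ∧
            Set.range i.base ⊆ Xi ∧
            LocallyOfFiniteType (i ≫ f) ∧ LocallyQuasiFinite (i ≫ f) ∧ QuasiCompact (i ≫ f) ∧ IsDominant (i ≫ f) := by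
  haveI : IsLocallyNoetherian X := LocallyOfFiniteType.isLocallyNoetherian f
  constructor
  · intro hd x hfx hxcl Xi hXi hxXi
    subst hfx
    have hXicl : IsClosed Xi := isClosed_of_mem_irreducibleComponents Xi hXi
    obtain ⟨ξ, hξ⟩ := QuasiSober.sober hXi.1 hXicl
    have hξx : ξ ⤳ x := by
      rw [specializes_iff_mem_closure, hξ.def]
      exact hxXi
    have hdense : Dense (f.base '' Xi) := hd Xi hXi ⟨x, hxXi, rfl⟩
    have hη : ∀ y' : Y, f ξ ⤳ y' := by
      intro y'
      rw [specializes_iff_mem_closure]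
      have h1 : f.base '' Xi ⊆ closure {f ξ} := by
        rw [← hξ.def]
        refine (image_closure_subset_closure_image f.continuous).trans ?_
        rw [Set.image_singleton]
      exact (closure_minimal h1 isClosed_closure) (hdense y')
    obtain ⟨x₁, h1, h2, h3, h4⟩ := exists_generic_fibre_point f x ξ hξx (hY (f x)).2
    obtain ⟨⟨T, i, hi1, hi2, hi3, hi4, hi5, hi6, hi7, hi8⟩, -⟩ :=
      exists_quasiFinite_immersion f x₁ x h2 (fun x' hx' hs => hxcl x' hx' hs) h4
    haveI := hi1
    haveI := hi8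
    refine ⟨T, i, hi1, hi2, hi3, hi4, ?_, inferInstance, hi7, inferInstance, ?_⟩
    · refine hi6.trans ?_
      have hx₁Xi : x₁ ∈ Xi := by
        rw [← hξ.def]
        exact specializes_iff_mem_closure.mp h1
      exact (IsClosed.closure_subset_iff hXicl).mpr (Set.singleton_subset_iff.mpr hx₁Xi)
    · constructor
      obtain ⟨t, ht⟩ := hi5
      intro y'
      have h5 : (i ≫ f) t = f ξ := by
        show f (i t) = f ξ
        rw [ht, h3]
      have h6 : y' ∈ closure {(i ≫ f) t} := by
        rw [h5]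
        exact specializes_iff_mem_closure.mp (hη y')
      exact closure_mono (Set.singleton_subset_iff.mpr (Set.mem_range_self t)) h6
  · intro he Z hZ hne
    obtain ⟨x₀, hx₀Z, hx₀y⟩ := hne
    have hZcl : IsClosed Z := isClosed_of_mem_irreducibleComponents Z hZ
    obtain ⟨a₀, ha₀⟩ : x₀ ∈ Set.range (f.fiberι y) := by
      rw [Scheme.Hom.range_fiberι]
      exact hx₀y
    have hCcl : IsClosed ((f.fiberι y) ⁻¹' Z) := hZcl.preimage (f.fiberι y).continuous
    obtain ⟨a, haC, hacl⟩ := nonempty_inter_closedPoints (X := f.fiber y)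
      (Z := (f.fiberι y) ⁻¹' Z)
      ⟨a₀, by show f.fiberι y a₀ ∈ Z; rw [ha₀]; exact hx₀Z⟩ hCcl.isLocallyClosed
    have hfx : f.base (f.fiberι y a) = y := by
      have h1 : f.fiberι y a ∈ f ⁻¹' {y} := by
        rw [← Scheme.Hom.range_fiberι]
        exact ⟨a, rfl⟩
      exact h1
    obtain ⟨T, i, -, -, -, -, hrange, -, -, -, hdom⟩ := he (f.fiberι y a) hfx (by
      intro x' hx' hs
      obtain ⟨b, rfl⟩ : x' ∈ Set.range (f.fiberι y) := by
        rw [Scheme.Hom.range_fiberι]
        exact hx'
      have h1 : a ⤳ b := (f.fiberι y).isEmbedding.isInducing.specializes_iff.mp hs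
      rw [eq_of_specializes_of_isClosed_singleton hacl b h1]) Z hZ haC
    refine hdom.denseRange.mono ?_
    rintro _ ⟨t, rfl⟩
    exact ⟨i t, hrange ⟨t, rfl⟩, rfl⟩

set_option backward.isDefEq.respectTransparency false in
theorem exists_closedPoint_genericFibre_specializing {R : Type u} [CommRing R] [IsDedekindDomain R]
    {X : Scheme.{u}} [IrreducibleSpace X] (f : X ⟶ Spec (CommRingCat.of R)) [LocallyOfFiniteType f] [QuasiCompact f]
    (hdom : DenseRange f.base) (x' : X) (hx' : IsClosed ({x'} : Set X)) (hs : (f.base x').asIdeal.IsMaximal) :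
    ∃ x : X, (f.base x).asIdeal = ⊥ ∧ (∀ z : X, (f.base z).asIdeal = ⊥ → x ⤳ z → z = x) ∧ x ⤳ x' := by
  haveI : IsLocallyNoetherian X := LocallyOfFiniteType.isLocallyNoetherian f
  have hξ : ∀ z : X, genericPoint X ⤳ z := fun z => genericPoint_specializes z
  have hfξ : (f.base (genericPoint X)).asIdeal = ⊥ := by
    have h1 : ∀ y' : Spec (CommRingCat.of R), f (genericPoint X) ⤳ y' := by
      intro y'
      rw [specializes_iff_mem_closure]
      have h2 : Set.range f.base ⊆ closure {f (genericPoint X)} := by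
        rintro _ ⟨z, rfl⟩
        exact specializes_iff_mem_closure.mp ((hξ z).map f.continuous)
      exact (closure_minimal h2 isClosed_closure) (hdom y')
    have h3 := h1 ⟨⊥, Ideal.isPrime_bot⟩
    have h4 : (f.base (genericPoint X)).asIdeal ≤ ⊥ :=
      (PrimeSpectrum.le_iff_specializes _ _).mpr h3
    exact le_bot_iff.mp h4
  by_cases hbot : (f.base x').asIdeal = ⊥
  · exact ⟨x', hbot, fun z _ hz => eq_of_specializes_of_isClosed_singleton hx' z hz,
      specializes_rfl⟩
  · have hne : f (genericPoint X) ≠ f x' := fun h => hbot (by rw [← h]; exact hfξ)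
    obtain ⟨x₁, h1, h2, h3, h4⟩ := exists_specialization_maximal f x' (genericPoint X) (hξ x') hne
    have hfx₁ : (f.base x₁).asIdeal = ⊥ := by
      by_contra hne1
      have hmax : (f.base x₁).asIdeal.IsMaximal := (f.base x₁).isPrime.isMaximal hne1
      have hle : (f.base x₁).asIdeal ≤ (f.base x').asIdeal :=
        (PrimeSpectrum.le_iff_specializes _ _).mpr (h2.map f.continuous)
      exact h3 (PrimeSpectrum.ext (hmax.eq_of_le hs.ne_top hle))
    obtain ⟨-, hcl⟩ := exists_quasiFinite_immersion f x₁ x' h2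
      (fun z _ hz => eq_of_specializes_of_isClosed_singleton hx' z hz) h4
    refine ⟨x₁, hfx₁, fun z hz hsz => hcl z ?_ hsz, h2⟩
    exact PrimeSpectrum.ext (hz.trans hfx₁.symm)

end Groth.Agent.H7
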