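import Mathlib
import Groth.Agent.H7.EquidimUnibranch
import Groth.Agent.H7.EquidimSection
import Groth.Agent.H60.EquidimFibMax
import Groth.Agent.H60.EquidimAtFlat
import Groth.Agent.H60.GenOpenComp
import Groth.Agent.H9.FibDimGeneric
import Groth.Agent.H9.CMFlatSch
import Groth.Agent.S4919

/-!
# EGA IV 14.5.9: universal openness along a fibre over a geometrically unibranch point and
quasi-sections (S4945)
-/

set_option autoImplicit false
set_option linter.style.haveILetI false
universe u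

namespace Groth.Agent.H7

open AlgebraicGeometry CategoryTheory Limits TopologicalSpace Topology

section FibMax

open Groth.Agent.H54 Groth.Agent.H9.DimFormulaEq
  Groth.Agent.H9.FibreFormula Groth.Agent.H9.FibDim Groth.Agent.H9.Equidim
  Groth.Agent.H60.EquidimAtFlat Groth.Agent.H60.EquidimAtConv Groth.Agent.H60.EquidimComp
  Groth.Agent.H60.EquidimFibMax

/-- Local version of `Groth.Agent.H60.EquidimFibMax.main` (proof copied from there): if for every
maximal point `z` of the fibre through `x` which specialises to `x` some irreducible component of `X`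
(with its reduced structure) is equidimensional over `S` at `z`, then the same holds at `x`. -/
theorem exists_component_isEquidimAt_of_fibre_maximal {X S : Scheme.{u}} (f : X ⟶ S)
    [LocallyOfFiniteType f] (x : X)
    (h : ∀ z : X, f.base z = f.base x → z ⤳ x →
      (∀ x' : X, f.base x' = f.base z → z ∈ closure ({x'} : Set X) → x' = z) →
      ∃ W : TopologicalSpace.Closeds X, (W : Set X) ∈ irreducibleComponents (X : Type u) ∧
      ∃ w : ↥((Scheme.IdealSheafData.vanishingIdeal W).subscheme),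
        (Scheme.IdealSheafData.vanishingIdeal W).subschemeι.base w = z ∧
        EGA43.IsEquidimAt ((Scheme.IdealSheafData.vanishingIdeal W).subschemeι ≫ f) w) :
    ∃ W : TopologicalSpace.Closeds X, (W : Set X) ∈ irreducibleComponents (X : Type u) ∧
      ∃ w : ↥((Scheme.IdealSheafData.vanishingIdeal W).subscheme),
        (Scheme.IdealSheafData.vanishingIdeal W).subschemeι.base w = x ∧
        EGA43.IsEquidimAt ((Scheme.IdealSheafData.vanishingIdeal W).subschemeι ≫ f) w := by
  -- a maximal point of the fibre through `x` of maximal dimension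
  obtain ⟨b, hb⟩ : ∃ b : ℕ, Order.coheight (f.asFiber x) = b :=
    ⟨_, (ENat.natCast_toNat (coheight_ne_top (fiberQ f (f.base x)) _)).symm⟩
  obtain ⟨ζ, hζx, hζmax, hζdeg⟩ := exists_generic_tdeg_eq (fiberQ f (f.base x)) (f.asFiber x) b hb
  have hfx := fibreDimAt_eq f x b hb
  set z := (f.fiberι (f.base x)).base ζ with hz
  have hfz : f.base z = f.base x := fiberι_mem f (f.base x) ζ
  have hzx : z ⤳ x := by
    have := hζx.map (f.fiberι (f.base x)).continuous
    rwa [f.fiberι_asFiber] at this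
  have hzmax : ∀ x' : X, f.base x' = f.base z → z ∈ closure ({x'} : Set X) → x' = z := by
    intro x' hx' hcl
    obtain ⟨ζ', hζ'⟩ : x' ∈ Set.range (f.fiberι (f.base x)).base := by
      rw [f.range_fiberι]; exact hx'.trans hfz
    have h1 : x' ⤳ z := specializes_iff_mem_closure.mpr hcl
    rw [← hζ', hz] at h1
    have h2 : ζ' ⤳ ζ := (f.fiberι (f.base x)).isEmbedding.isInducing.specializes_iff.mp h1
    rw [← hζ', hζmax ζ' h2]
  obtain ⟨W, hWc, zW, hzW, heq⟩ := h z hfz hzx hzmax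
  set ι := (Scheme.IdealSheafData.vanishingIdeal W).subschemeι with hι
  have hrange : Set.range ι.base = (W : Set X) := by
    rw [hι, Scheme.IdealSheafData.range_subschemeι,
      Scheme.IdealSheafData.coe_support_vanishingIdeal]
  have hemb : Topology.IsEmbedding ι.base := ι.isClosedEmbedding.isEmbedding
  have hzWmem : z ∈ (W : Set X) := by rw [← hrange]; exact ⟨zW, hzW⟩
  have hxW : x ∈ (W : Set X) := W.isClosed.closure_subset_iff.mpr
    (Set.singleton_subset_iff.mpr hzWmem) hzx.mem_closure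
  obtain ⟨w, hw⟩ : x ∈ Set.range ι.base := by rw [hrange]; exact hxW
  refine ⟨W, hWc, w, hw, ?_⟩
  -- the generic point of `W`
  obtain ⟨ξ, hξ⟩ : ∃ ξ : X, closure {ξ} = (W : Set X) :=
    ⟨hWc.1.genericPoint, hWc.1.closure_genericPoint W.isClosed⟩
  obtain ⟨ξZ, hξZ⟩ : ξ ∈ Set.range ι.base := by
    rw [hrange, ← hξ]; exact subset_closure rfl
  have hgen : ∀ t, ξZ ⤳ t := by
    intro t
    rw [← hemb.isInducing.specializes_iff, hξZ, specializes_iff_mem_closure, hξ, ← hrange]
    exact ⟨t, rfl⟩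
  obtain ⟨e, U, hzU, hB, hA⟩ := exists_of_isEquidimAt' (ι ≫ f) zW heq
  have hξU : ξZ ∈ U := (hgen zW).mem_open U.2 hzU
  have hξmax : ∀ t, t ⤳ ξZ → t = ξZ := fun t ht => ((hgen t).antisymm ht).eq.symm
  -- `e ≥ trdeg κ(z)/κ(s) = n + b = fibreDimAt f x ≥ fibreDimAt (ι ≫ f) w`
  have hle : FlatMor.fibreDimAt (ι ≫ f) w ≤ (e : WithBot ℕ∞) := by
    have h1 := localDim_inter_fibre_eq ι hemb (W : Set X) hrange f w x hw hxW
    have h2 : FlatMor.fibreDimAt (ι ≫ f) w ≤ FlatMor.fibreDimAt f x := by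
      rw [← h1, fibreDimAt_eq_tfd]
      exact localDim_le_of_isInducing
        (Topology.IsEmbedding.inclusion (Set.inter_subset_right)).isInducing
        (⟨x, ⟨hxW, rfl⟩⟩ : ↥((W : Set X) ∩ f.base ⁻¹' {f.base x}))
    refine h2.trans ?_
    rw [hfx, ← hζdeg]
    obtain ⟨n', b', hn', -, hform'⟩ := fibre_formula (ι ≫ f) zW
    have h3 := trdeg_comp_of_surjectiveOnStalks ι f zW
    have h4 := trdeg_congr_point f hzW
    have h5 := trdeg_fiber_eq f (f.base x) ζ
    have h6 : (n' : Cardinal.{u}) = (tdeg (fiberQ f (f.base x)) ζ : Cardinal.{u}) := by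
      rw [← hn', h3, h4, ← h5]
    have h7 : n' = tdeg (fiberQ f (f.base x)) ζ := by exact_mod_cast h6
    have h8 := hB zW hzU
    rw [hform'] at h8
    have h9 : n' + b' = e := by exact_mod_cast h8
    have h10 : tdeg (fiberQ f (f.base x)) ζ ≤ e := by omega
    exact_mod_cast h10
  let U₁ : (Scheme.IdealSheafData.vanishingIdeal W).subscheme.Opens :=
    ⟨{t | FlatMor.fibreDimAt (ι ≫ f) t ≤ (e : WithBot ℕ∞)}, isOpen_setOf_fibreDimAt_le (ι ≫ f) e⟩
  apply isEquidimAt_of_forall' (ι ≫ f) w e U₁ hle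
  · intro t _ htmax
    have ht : ξZ = t := htmax ξZ (hgen t)
    subst ht
    obtain ⟨hc, hs⟩ := hA ξZ hξU hξmax
    refine ⟨hc, ?_⟩
    have h1 : (ι ≫ f).base zW = (ι ≫ f).base w := by
      rw [Scheme.Hom.comp_apply, Scheme.Hom.comp_apply, hzW, hw, hfz]
    rw [← h1]; exact hs
  · intro t ht
    apply le_antisymm ht
    have hclosed := isClosed_setOf_natCast_le_fibreDimAt (ι ≫ f) e
    have hmemξ : ξZ ∈ {z' | (e : WithBot ℕ∞) ≤ FlatMor.fibreDimAt (ι ≫ f) z'} := by
      show (e : WithBot ℕ∞) ≤ FlatMor.fibreDimAt (ι ≫ f) ξZ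
      rw [hB ξZ hξU]
    have hsub : closure ({ξZ} : Set _) ⊆
        {z' | (e : WithBot ℕ∞) ≤ FlatMor.fibreDimAt (ι ≫ f) z'} :=
      hclosed.closure_subset_iff.mpr (Set.singleton_subset_iff.mpr hmemξ)
    exact hsub (hgen t).mem_closure


end FibMax

/-- For a morphism `j : Z ⟶ X` which is an embedding with image `X'`, the fibre of `j ≫ f` over `η`
is homeomorphic to `X' ∩ f⁻¹(η)`; in particular they have the same dimension. -/
theorem topologicalKrullDim_fiber_comp_eq {Z X Y : Scheme.{u}} (j : Z ⟶ X)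
    (hj : Topology.IsEmbedding j.base) (X' : Set X) (hr : Set.range j.base = X') (f : X ⟶ Y)
    (η : Y) :
    topologicalKrullDim ↥((j ≫ f).fiber η) = topologicalKrullDim ↥(X' ∩ f.base ⁻¹' {η}) := by
  have hmem : ∀ a : ↥((j ≫ f).fiber η),
      (j.base ∘ ((j ≫ f).fiberι η).base) a ∈ X' ∩ f.base ⁻¹' {η} := by
    intro a
    refine ⟨hr ▸ ⟨_, rfl⟩, ?_⟩
    have h1 : ((j ≫ f).fiberι η).base a ∈ (j ≫ f).base ⁻¹' {η} := by
      rw [← (j ≫ f).range_fiberι]; exact ⟨a, rfl⟩
    have h2 : (j ≫ f).base (((j ≫ f).fiberι η).base a) = η := h1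
    rw [Scheme.Hom.comp_apply] at h2
    exact h2
  have hemb : Topology.IsEmbedding (j.base ∘ ((j ≫ f).fiberι η).base) :=
    hj.comp ((j ≫ f).fiberι η).isEmbedding
  have hφ : IsHomeomorph (Set.codRestrict (j.base ∘ ((j ≫ f).fiberι η).base) _ hmem) := by
    rw [isHomeomorph_iff_isEmbedding_surjective]
    refine ⟨hemb.codRestrict _ hmem, ?_⟩
    rintro ⟨t, ht1, ht2⟩
    obtain ⟨w, rfl⟩ : t ∈ Set.range j.base := hr ▸ ht1
    have hw : w ∈ Set.range ((j ≫ f).fiberι η).base := by
      rw [(j ≫ f).range_fiberι]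
      show (j ≫ f).base w = η
      rw [Scheme.Hom.comp_apply]
      exact ht2
    obtain ⟨a, rfl⟩ := hw
    exact ⟨a, rfl⟩
  exact IsHomeomorph.topologicalKrullDim_eq _ hφ

open Groth.Agent.H54 Groth.Agent.H9.FibDim Groth.Agent.H9.Equidim
  Groth.Agent.H60.EquidimAtFlat in
/-- Over an irreducible locally Noetherian base, an irreducible closed subset `W` of `X` dominating
`Y` with `dim_z (W ∩ f⁻¹(f z)) = dim (W ∩ f⁻¹(η))` is (with its reduced structure) equidimensional
over `Y` at `z`. -/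
theorem isEquidimAt_component_of_dim_eq {X Y : Scheme.{u}} [IrreducibleSpace Y]
    [IsLocallyNoetherian Y] (f : X ⟶ Y) [LocallyOfFiniteType f] (W : TopologicalSpace.Closeds X)
    (hW : IsIrreducible (W : Set X)) (z : X) (hz : z ∈ (W : Set X))
    (hdense : Dense (f.base '' (W : Set X)))
    (hdim : FlatMor.localDim ↥((W : Set X) ∩ f.base ⁻¹' {f.base z}) ⟨z, ⟨hz, rfl⟩⟩ =
      topologicalKrullDim ↥((W : Set X) ∩ f.base ⁻¹' {genericPoint Y})) :
    ∃ w : ↥((Scheme.IdealSheafData.vanishingIdeal W).subscheme),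
      (Scheme.IdealSheafData.vanishingIdeal W).subschemeι.base w = z ∧
      EGA43.IsEquidimAt ((Scheme.IdealSheafData.vanishingIdeal W).subschemeι ≫ f) w := by
  set ι := (Scheme.IdealSheafData.vanishingIdeal W).subschemeι with hι
  have hrange : Set.range ι.base = (W : Set X) := by
    rw [hι, Scheme.IdealSheafData.range_subschemeι,
      Scheme.IdealSheafData.coe_support_vanishingIdeal]
  have hemb : Topology.IsEmbedding ι.base := ι.isClosedEmbedding.isEmbedding
  obtain ⟨w, hw⟩ : z ∈ Set.range ι.base := by rw [hrange]; exact hz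
  refine ⟨w, hw, ?_⟩
  haveI hirr : IrreducibleSpace ↥((Scheme.IdealSheafData.vanishingIdeal W).subscheme) := by
    haveI : IrreducibleSpace ↥(Set.range ι.base) := Subtype.irreducibleSpace (hrange ▸ hW)
    exact (hemb.toHomeomorph.irreducibleSpace_iff).mpr inferInstance
  haveI hdom : IsDominant (ι ≫ f) := by
    refine ⟨?_⟩
    have hrg : Set.range (ι ≫ f).base = f.base '' (W : Set X) := by
      rw [← hrange]
      ext t
      constructor
      · rintro ⟨a, rfl⟩
        exact ⟨ι.base a, ⟨a, rfl⟩, (Scheme.Hom.comp_apply ι f a).symm⟩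
      · rintro ⟨_, ⟨a, rfl⟩, rfl⟩
        exact ⟨a, Scheme.Hom.comp_apply ι f a⟩
    show Dense (Set.range (ι ≫ f).base)
    rw [hrg]
    exact hdense
  have h1 := localDim_inter_fibre_eq ι hemb (W : Set X) hrange f w z hw hz
  have h2 := topologicalKrullDim_fiber_comp_eq ι hemb (W : Set X) hrange f (genericPoint Y)
  obtain ⟨e, he⟩ := Groth.Agent.H9.CMFlatSch.exists_nat_fibreDimAt (ι ≫ f) w
  have hgen : topologicalKrullDim ↥((ι ≫ f).fiber (genericPoint Y)) = (e : WithBot ℕ∞) := by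
    rw [h2, ← hdim, h1, he]
  let U₁ : (Scheme.IdealSheafData.vanishingIdeal W).subscheme.Opens :=
    ⟨{t | FlatMor.fibreDimAt (ι ≫ f) t ≤ (e : WithBot ℕ∞)}, isOpen_setOf_fibreDimAt_le (ι ≫ f) e⟩
  apply isEquidimAt_of_forall' (ι ≫ f) w e U₁ (le_of_eq he)
  · intro t _ htmax
    have ht : genericPoint _ = t := htmax _ (genericPoint_specializes t)
    have hgt : (ι ≫ f).base t = genericPoint Y := by
      rw [← ht]
      have h3 : IsGenericPoint ((ι ≫ f).base (genericPoint _))
          (closure ((ι ≫ f).base '' Set.univ)) :=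
        (genericPoint_spec _).image (ι ≫ f).continuous
      rw [Set.image_univ, (ι ≫ f).denseRange.closure_range] at h3
      exact h3.eq (genericPoint_spec Y)
    rw [hgt]
    refine ⟨?_, genericPoint_specializes _⟩
    rw [(genericPoint_spec Y).def, irreducibleComponents_eq_singleton]
    rfl
  · intro t ht
    apply le_antisymm ht
    rw [← hgen]
    exact dim_generic_fiber_le_fibreDimAt (ι ≫ f) t

/-- **EGA IV 14.5.9, b) ⇒ c)** at one maximal point of the fibre. -/
theorem exists_component_of_isOpenAt_fibre_maximal {X Y : Scheme.{u}} [IrreducibleSpace Y]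
    [IsLocallyNoetherian Y] (f : X ⟶ Y) [LocallyOfFiniteType f] (y : Y)
    (z : X) (hzy : f.base z = y) (hopen : EGA43.IsOpenAt f.base z)
    (hzmax : ∀ z' : X, f.base z' = y → z ∈ closure {z'} → z' = z) :
    ∃ Z ∈ irreducibleComponents (X : Type u), ∃ hz : z ∈ Z, Dense (f.base '' Z) ∧
      FlatMor.localDim ↥(Z ∩ f.base ⁻¹' {y}) ⟨z, ⟨hz, hzy⟩⟩ =
        topologicalKrullDim ↥(Z ∩ f.base ⁻¹' {genericPoint Y}) := by
  obtain ⟨Z₀, hZ₀⟩ : ∃ Z₀ : Set X, Z₀ = closure {z} ∩ f.base ⁻¹' {y} := ⟨_, rfl⟩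
  have hzZ₀ : z ∈ Z₀ := by rw [hZ₀]; exact ⟨subset_closure rfl, hzy⟩
  have hZ₀sub : Z₀ ⊆ closure {z} := by rw [hZ₀]; exact Set.inter_subset_left
  have hZ₀y : Z₀ ⊆ f.base ⁻¹' {y} := by rw [hZ₀]; exact Set.inter_subset_right
  have hZ₀irr : IsIrreducible Z₀ :=
    Groth.Agent.H60.GenOpenComp.isIrreducible_of_mem_of_subset_closure hzZ₀ hZ₀sub
  have hgen : ∀ ζ ∈ Z₀, Z₀ ⊆ closure {ζ} → ζ = z := by
    intro ζ hζ hsub
    exact hzmax ζ (hZ₀y hζ) (hsub hzZ₀)
  have hmax : ∀ Z' : Set X, IsIrreducible Z' → Z' ⊆ f.base ⁻¹' {y} → Z₀ ⊆ Z' → Z' = Z₀ := by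
    intro Z' hZ' hZ'y hsub
    obtain ⟨ξ, hξ⟩ := QuasiSober.sober hZ'.closure isClosed_closure
    have hξcl : closure {ξ} = closure Z' := hξ.def
    have hzZ' : z ∈ Z' := hsub hzZ₀
    have hξz : ξ ⤳ z := by
      rw [specializes_iff_mem_closure, hξcl]; exact subset_closure hzZ'
    have hfξ : f.base ξ = y := by
      have h1 : f.base ξ ⤳ y := hzy ▸ hξz.map f.continuous
      have h2 : y ⤳ f.base ξ := by
        rw [specializes_iff_mem_closure]
        have h3 : ξ ∈ closure Z' := hξcl ▸ subset_closure rfl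
        have h4 : f.base ξ ∈ closure (f.base '' Z') :=
          image_closure_subset_closure_image f.continuous ⟨ξ, h3, rfl⟩
        refine closure_mono ?_ h4
        rintro _ ⟨a, ha, rfl⟩
        exact hZ'y ha
      exact (h1.antisymm h2).eq
    have hξeq : ξ = z := hzmax ξ hfξ hξz.mem_closure
    apply subset_antisymm _ hsub
    intro a ha
    rw [hZ₀]
    refine ⟨?_, hZ'y ha⟩
    rw [← hξeq, hξcl]; exact subset_closure ha
  obtain ⟨X', hX', hsub, hdense, hloc, hdimeq⟩ :=
    Groth.Agent.S4919.result f y Z₀ hZ₀y hZ₀irr hmax (by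
      intro ζ hζ hζsub
      rw [hgen ζ hζ hζsub]; exact hopen)
  have hzX' : z ∈ X' := hsub hzZ₀
  refine ⟨X', hX', hzX', hdense, ?_⟩
  rw [hloc z hzZ₀ hZ₀sub ⟨hzX', hzy⟩, hdimeq]

/-- **EGA IV 14.5.9, c) ⇒ equidimensionality of a component at every point of the fibre.** -/
theorem exists_component_isEquidimAt_of_dim_eq {X Y : Scheme.{u}} [IrreducibleSpace Y]
    [IsLocallyNoetherian Y] (f : X ⟶ Y) [LocallyOfFiniteType f] (x : X)
    (hc : ∀ z : X, ∀ hzy : f.base z = f.base x,
      (∀ z' : X, f.base z' = f.base x → z ∈ closure {z'} → z' = z) →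
        ∃ Z ∈ irreducibleComponents (X : Type u), ∃ hz : z ∈ Z, Dense (f.base '' Z) ∧
          FlatMor.localDim ↥(Z ∩ f.base ⁻¹' {f.base x}) ⟨z, ⟨hz, hzy⟩⟩ =
            topologicalKrullDim ↥(Z ∩ f.base ⁻¹' {genericPoint Y})) :
    ∃ W : TopologicalSpace.Closeds X, (W : Set X) ∈ irreducibleComponents (X : Type u) ∧
      ∃ w : ↥((Scheme.IdealSheafData.vanishingIdeal W).subscheme),
        (Scheme.IdealSheafData.vanishingIdeal W).subschemeι.base w = x ∧
        EGA43.IsEquidimAt ((Scheme.IdealSheafData.vanishingIdeal W).subschemeι ≫ f) w := by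
  apply exists_component_isEquidimAt_of_fibre_maximal f x
  intro z hfz hzx hzmax
  obtain ⟨Z, hZ, hz, hdense, hdim⟩ := hc z hfz (by
    intro z' hz' hcl
    exact hzmax z' (hz'.trans hfz.symm) hcl)
  refine ⟨⟨Z, isClosed_of_mem_irreducibleComponents Z hZ⟩, hZ, ?_⟩
  have key : ∀ (t : Y) (ht : f.base z = t),
      FlatMor.localDim ↥(Z ∩ f.base ⁻¹' {t}) ⟨z, ⟨hz, ht⟩⟩ =
        topologicalKrullDim ↥(Z ∩ f.base ⁻¹' {genericPoint Y}) →
      FlatMor.localDim ↥(Z ∩ f.base ⁻¹' {f.base z}) ⟨z, ⟨hz, rfl⟩⟩ =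
        topologicalKrullDim ↥(Z ∩ f.base ⁻¹' {genericPoint Y}) := by
    rintro _ rfl h
    exact h
  exact isEquidimAt_component_of_dim_eq f ⟨Z, isClosed_of_mem_irreducibleComponents Z hZ⟩ hZ.1 z hz
    hdense (key _ hfz hdim)

/-- **EGA IV 14.5.9**: Let `Y` be an irreducible locally Noetherian scheme, `f : X ⟶ Y` locally of
finite type and `y` a geometrically unibranch point of `Y`. -/
theorem tfae_isUnivOpenAt_fibre_quasiSections {X Y : Scheme.{u}} [IrreducibleSpace Y]
    [IsLocallyNoetherian Y] (f : X ⟶ Y) [LocallyOfFiniteType f] (y : Y)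
    (hy : CAlg2.IsGeomUnibranch (Y.presheaf.stalk y)) :
    List.TFAE [∀ x : X, f.base x = y → EGA43.IsUnivOpenAt f x,
      ∀ x : X, f.base x = y → EGA43.IsOpenAt f.base x,
      ∀ z : X, ∀ hzy : f.base z = y, (∀ z' : X, f.base z' = y → z ∈ closure {z'} → z' = z) →
        ∃ Z ∈ irreducibleComponents (X : Type u), ∃ hz : z ∈ Z, Dense (f.base '' Z) ∧
          FlatMor.localDim ↥(Z ∩ f.base ⁻¹' {y}) ⟨z, ⟨hz, hzy⟩⟩ =
            topologicalKrullDim ↥(Z ∩ f.base ⁻¹' {genericPoint Y}),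
      ∀ x : X, f.base x = y → (∀ x' : X, f.base x' = y → x ⤳ x' → x' = x) →
        ∃ (T : Scheme.{u}) (i : T ⟶ X), IsImmersion i ∧ IrreducibleSpace ↥T ∧ IsReduced T ∧
        x ∈ Set.range i.base ∧
        LocallyOfFiniteType (i ≫ f) ∧ LocallyQuasiFinite (i ≫ f) ∧ QuasiCompact (i ≫ f) ∧
        IsDominant (i ≫ f)] := by
  tfae_have 1 → 2 := fun h x hx => isOpenAt_of_isUnivOpenAt f x (h x hx)
  tfae_have 2 → 3 := fun h z hzy hzmax =>
    exists_component_of_isOpenAt_fibre_maximal f y z hzy (h z hzy) hzmax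
  tfae_have 3 → 1 := by
    intro hc x hx
    subst hx
    obtain ⟨W, hWc, w, hw, heq⟩ := exists_component_isEquidimAt_of_dim_eq f x hc
    have key : ∀ t : Y, t = f.base x → CAlg2.IsGeomUnibranch (Y.presheaf.stalk t) := by
      rintro _ rfl; exact hy
    have h1 := isUnivOpenAt_of_isEquidimAt_of_isGeomUnibranch
      ((Scheme.IdealSheafData.vanishingIdeal W).subschemeι ≫ f) w heq
      (key _ (by rw [Scheme.Hom.comp_apply, hw]))
    have h2 := isUnivOpenAt_of_comp_left (Scheme.IdealSheafData.vanishingIdeal W).subschemeι f w h1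
    rwa [hw] at h2
  tfae_have 3 → 4 := by
    intro hc x hx hcl
    subst hx
    obtain ⟨W, hWc, w, hw, heq⟩ := exists_component_isEquidimAt_of_dim_eq f x hc
    obtain ⟨ι, hι⟩ : ∃ ι : (Scheme.IdealSheafData.vanishingIdeal W).subscheme ⟶ X,
      ι = (Scheme.IdealSheafData.vanishingIdeal W).subschemeι := ⟨_, rfl⟩
    rw [← hι] at hw heq
    haveI : IsClosedImmersion ι := by rw [hι]; infer_instance
    have hwcl : ∀ w' : ↥((Scheme.IdealSheafData.vanishingIdeal W).subscheme),
        (ι ≫ f).base w' = (ι ≫ f).base w → w ⤳ w' → w' = w := by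
      intro w' hfw' hsp
      have h1 : ι.base w' = x := by
        apply hcl
        · rw [Scheme.Hom.comp_apply, Scheme.Hom.comp_apply, hw] at hfw'
          exact hfw'
        · rw [← hw]; exact hsp.map ι.continuous
      exact ι.isClosedEmbedding.injective (h1.trans hw.symm)
    obtain ⟨T, i, hi, hT, hred, ⟨t, ht⟩, h1, h2, h3, h4⟩ :=
      exists_quasiSection_of_isEquidimAt (ι ≫ f) w heq hwcl
    haveI := hi
    refine ⟨T, i ≫ ι, inferInstance, hT, hred, ⟨t, ?_⟩, ?_, ?_, ?_, ?_⟩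
    · rw [Scheme.Hom.comp_apply, ht, hw]
    · rw [Category.assoc]; exact h1
    · rw [Category.assoc]; exact h2
    · rw [Category.assoc]; exact h3
    · rw [Category.assoc]; exact h4
  tfae_have 4 → 2 := by
    intro hd x₁ hx₁
    subst hx₁
    intro U hU
    obtain ⟨U', hU'sub, hU'open, hx₁U'⟩ := mem_nhds_iff.mp hU
    obtain ⟨a, ha⟩ : ∃ a : ↥(f.fiber (f.base x₁)), a = f.asFiber x₁ := ⟨_, rfl⟩
    have hSne : (closure {a} ∩ (f.fiberι (f.base x₁)).base ⁻¹' U').Nonempty := by
      refine ⟨a, subset_closure rfl, ?_⟩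
      show (f.fiberι (f.base x₁)).base a ∈ U'
      rw [ha, f.fiberι_asFiber]; exact hx₁U'
    have hSlc : IsLocallyClosed (closure {a} ∩ (f.fiberι (f.base x₁)).base ⁻¹' U') :=
      (isClosed_closure.isLocallyClosed).inter
        (hU'open.preimage (f.fiberι (f.base x₁)).continuous).isLocallyClosed
    obtain ⟨c, ⟨-, hcS2⟩, hcclosed⟩ := nonempty_inter_closedPoints hSne hSlc
    have hfx : f.base ((f.fiberι (f.base x₁)).base c) = f.base x₁ := by
      have : (f.fiberι (f.base x₁)).base c ∈ f.base ⁻¹' {f.base x₁} := by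
        rw [← f.range_fiberι]; exact ⟨c, rfl⟩
      exact this
    have hxcl : ∀ x' : X, f.base x' = f.base x₁ → (f.fiberι (f.base x₁)).base c ⤳ x' →
        x' = (f.fiberι (f.base x₁)).base c := by
      intro x' hx' hsp
      obtain ⟨c', rfl⟩ : x' ∈ Set.range (f.fiberι (f.base x₁)).base := by
        rw [f.range_fiberι]; exact hx'
      have h1 : c ⤳ c' := (f.fiberι (f.base x₁)).isEmbedding.isInducing.specializes_iff.mp hsp
      have h2 : c' ∈ ({c} : Set _) := h1.mem_closed hcclosed (Set.mem_singleton c)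
      rw [Set.mem_singleton_iff.mp h2]
    obtain ⟨T, i, hi, hT, hred, ⟨t₀, ht₀⟩, h1, h2, h3, h4⟩ :=
      hd ((f.fiberι (f.base x₁)).base c) hfx hxcl
    haveI := hT
    haveI := h1
    haveI := h2
    haveI := h4
    have h6 : (i ≫ f).base t₀ = f.base x₁ := by rw [Scheme.Hom.comp_apply, ht₀, hfx]
    have hopen : EGA43.IsOpenAt (i ≫ f).base t₀ := by
      have key : ∀ t : Y, t = f.base x₁ → CAlg2.IsUnibranch (Y.presheaf.stalk t) := by
        rintro _ rfl; exact hy.1
      have hgen : (i ≫ f).base (genericPoint T) = genericPoint Y := by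
        have h3 : IsGenericPoint ((i ≫ f).base (genericPoint T))
            (closure ((i ≫ f).base '' Set.univ)) :=
          (genericPoint_spec T).image (i ≫ f).continuous
        rw [Set.image_univ, (i ≫ f).denseRange.closure_range] at h3
        exact h3.eq (genericPoint_spec Y)
      refine Groth.Agent.H69.GeomUnibranch.isOpenAt_of_quasiFiniteAt_of_isUnibranch' (i ≫ f) t₀
        ((i ≫ f).quasiFiniteAt t₀) (key _ h6) (genericPoint T) (genericPoint_specializes t₀) ?_
      intro w hw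
      rw [hgen] at hw ⊢
      exact ((genericPoint_specializes w).antisymm hw).eq.symm
    have hpre : (i.base ⁻¹' U') ∈ nhds t₀ :=
      (hU'open.preimage i.continuous).mem_nhds (by
        show i.base t₀ ∈ U'
        rw [ht₀]; exact hcS2)
    have h5 := hopen _ hpre
    rw [h6] at h5
    refine Filter.mem_of_superset h5 ?_
    rintro _ ⟨t, ht, rfl⟩
    exact ⟨i.base t, hU'sub ht, (Scheme.Hom.comp_apply i f t).symm⟩
  tfae_finish

end Groth.Agent.H7
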