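import Groth.Agent.H7.GeomFibre
import Mathlib.AlgebraicGeometry.Morphisms.Etale
import Mathlib.AlgebraicGeometry.Morphisms.UniversallyOpen

set_option autoImplicit false
set_option linter.style.haveILetI false
universe u

namespace Groth.Agent.H7

open AlgebraicGeometry CategoryTheory Limits IsLocalRing

variable {U V : Scheme.{u}}

/-- Precomposing with an open immersion does not change the weighted terms. -/
theorem fibreTerm_comp_of_isOpenImmersion {W : Scheme.{u}} (j : W ⟶ U) [IsOpenImmersion j]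
    (π : U ⟶ V) (w : U → ℤ) (p : W) :
    fibreTerm (j ≫ π) (fun p => w (j p)) p = fibreTerm π w (j p) := by
  unfold fibreTerm
  congr 2
  symm
  refine sepDegHom_eq_of_equiv _ _ (RingEquiv.refl _)
    (asIso (j.residueFieldMap p)).commRingCatIsoToRingEquiv (fun a => ?_)
  rw [Scheme.residueFieldMap_comp]
  rfl

/-- The fibre integral of the restriction to an open subscheme. -/
theorem fibreIntegral_opens_ι (π : U ⟶ V) (W : U.Opens) (w : U → ℤ) (v : V) :
    MoreMor.fibreIntegral (W.ι ≫ π) (fun p => w (W.ι p)) v =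
      ∑ᶠ x ∈ π ⁻¹' {v} ∩ (W : Set U), fibreTerm π w x := by
  rw [fibreIntegral_eq_finsum_mem]
  have himg : π ⁻¹' {v} ∩ (W : Set U) = W.ι '' ((W.ι ≫ π) ⁻¹' {v}) := by
    have : ((W.ι ≫ π) ⁻¹' {v} : Set W) = W.ι ⁻¹' (π ⁻¹' {v}) := rfl
    rw [this, Set.image_preimage_eq_inter_range, Scheme.Opens.range_ι]
  rw [himg, finsum_mem_image (W.ι.isOpenEmbedding.injective.injOn)]
  exact finsum_mem_congr rfl fun p _ => fibreTerm_comp_of_isOpenImmersion W.ι π w p

theorem finsum_mem_nonneg' {α : Type*} (s : Set α) (f : α → ℤ) (h : ∀ a ∈ s, 0 ≤ f a) :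
    0 ≤ ∑ᶠ a ∈ s, f a :=
  finsum_nonneg fun a => finsum_nonneg fun ha => h a ha

/-- For nonnegative weights the integral over an open part is at most the whole integral. -/
theorem fibreIntegral_opens_ι_le (π : U ⟶ V) (W : U.Opens) (w : U → ℤ) (hw : ∀ x, 0 ≤ w x) (v : V)
    (hfib : (π ⁻¹' {v}).Finite) :
    MoreMor.fibreIntegral (W.ι ≫ π) (fun p => w (W.ι p)) v ≤ MoreMor.fibreIntegral π w v := by
  rw [fibreIntegral_opens_ι, fibreIntegral_eq_finsum_mem,
    ← finsum_mem_inter_add_sdiff (W : Set U) hfib]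
  have := finsum_mem_nonneg' (π ⁻¹' {v} \ (W : Set U)) (fibreTerm π w)
    (fun a _ => fibreTerm_nonneg π w a (hw a))
  linarith

/-- If the open part contains the whole fibre, the integrals agree. -/
theorem fibreIntegral_opens_ι_eq (π : U ⟶ V) (W : U.Opens) (w : U → ℤ) (v : V)
    (hW : ∀ x, π x = v → x ∈ W) :
    MoreMor.fibreIntegral (W.ι ≫ π) (fun p => w (W.ι p)) v = MoreMor.fibreIntegral π w v := by
  rw [fibreIntegral_opens_ι, fibreIntegral_eq_finsum_mem]
  have : π ⁻¹' {v} ∩ (W : Set U) = π ⁻¹' {v} :=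
    Set.inter_eq_left.mpr fun x hx => hW x hx
  rw [this]

end Groth.Agent.H7
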