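import Groth.Agent.H7.GeomFibreCard
import Groth.Agent.H7.Weighting

set_option autoImplicit false
set_option linter.style.haveILetI false
universe u

namespace Groth.Agent.H7

open AlgebraicGeometry CategoryTheory Limits IsLocalRing

variable {X Y : Scheme.{u}}

/-- The number of sections over any point with values in a field is at most `N`. -/
def SecCardLE (f : X ⟶ Y) (N : ℕ) : Prop :=
  ∀ (Ω : Type u) [Field Ω] (ybar : Spec (.of Ω) ⟶ Y),
    ENat.card {s : Spec (.of Ω) ⟶ X // s ≫ f = ybar} ≤ N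

/-- Two sections of a scheme over a field with the same image point agree. -/
theorem section_ext_of_apply_eq {Ω : Type u} [Field Ω] {P : Scheme.{u}} (q : P ⟶ Spec (.of Ω))
    (σ₁ σ₂ : Spec (.of Ω) ⟶ P) (h₁ : σ₁ ≫ q = 𝟙 _) (h₂ : σ₂ ≫ q = 𝟙 _)
    (hpt : σ₁ (closedPoint Ω) = σ₂ (closedPoint Ω)) : σ₁ = σ₂ := by
  have key : ∀ (t : P) (φ₁ φ₂ : P.residueField t ⟶ .of Ω),
      (Spec.map φ₁ ≫ P.fromSpecResidueField t) ≫ q = 𝟙 _ →
      (Spec.map φ₂ ≫ P.fromSpecResidueField t) ≫ q = 𝟙 _ → φ₁ = φ₂ := by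
    intro t φ₁ φ₂ e₁ e₂
    let ψ : CommRingCat.of Ω ⟶ P.residueField t :=
      Spec.preimage (P.fromSpecResidueField t ≫ q)
    have hψ : Spec.map ψ = P.fromSpecResidueField t ≫ q := Spec.map_preimage _
    have c₁ : ψ ≫ φ₁ = 𝟙 _ := by
      apply Spec.map_injective
      rw [Spec.map_comp, hψ, ← Category.assoc, e₁, Spec.map_id]
    have c₂ : ψ ≫ φ₂ = 𝟙 _ := by
      apply Spec.map_injective
      rw [Spec.map_comp, hψ, ← Category.assoc, e₂, Spec.map_id]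
    have d₁ : ∀ b : Ω, φ₁.hom (ψ.hom b) = b := fun b =>
      congrArg (fun χ : CommRingCat.of Ω ⟶ CommRingCat.of Ω => χ.hom b) c₁
    have d₂ : ∀ b : Ω, φ₂.hom (ψ.hom b) = b := fun b =>
      congrArg (fun χ : CommRingCat.of Ω ⟶ CommRingCat.of Ω => χ.hom b) c₂
    have hinj : Function.Injective φ₁.hom := φ₁.hom.injective
    apply CommRingCat.hom_ext
    apply RingHom.ext
    intro a
    have ha : ψ.hom (φ₁.hom a) = a := hinj (d₁ _)
    calc φ₁.hom a = φ₂.hom (ψ.hom (φ₁.hom a)) := (d₂ _).symm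
      _ = φ₂.hom a := by rw [ha]
  obtain ⟨t₁, φ₁, hσ₁, ht₁⟩ : ∃ (t : P) (φ : P.residueField t ⟶ .of Ω),
      Spec.map φ ≫ P.fromSpecResidueField t = σ₁ ∧ t = σ₁ (closedPoint Ω) :=
    ⟨_, _, Scheme.descResidueField_stalkClosedPointTo_fromSpecResidueField Ω P σ₁, rfl⟩
  obtain ⟨t₂, φ₂, hσ₂, ht₂⟩ : ∃ (t : P) (φ : P.residueField t ⟶ .of Ω),
      Spec.map φ ≫ P.fromSpecResidueField t = σ₂ ∧ t = σ₂ (closedPoint Ω) :=
    ⟨_, _, Scheme.descResidueField_stalkClosedPointTo_fromSpecResidueField Ω P σ₂, rfl⟩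
  have htt : t₁ = t₂ := by rw [ht₁, ht₂, hpt]
  subst htt
  rw [← hσ₁, ← hσ₂, key t₁ φ₁ φ₂ (by rw [hσ₁]; exact h₁) (by rw [hσ₂]; exact h₂)]

theorem secCardLE_of_card_pullback_le (f : X ⟶ Y) (d : ℕ)
    (h : ∀ (K : Type u) [Field K] (ybar : Spec (.of K) ⟶ Y), ENat.card ↑(pullback f ybar) ≤ d) :
    SecCardLE f d := by
  intro Ω _ ybar
  refine le_trans ?_ (h Ω ybar)
  have hlift : ∀ s : {s : Spec (.of Ω) ⟶ X // s ≫ f = ybar}, s.1 ≫ f = 𝟙 _ ≫ ybar := fun s => by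
    rw [s.2, Category.id_comp]
  let Φ : {s : Spec (.of Ω) ⟶ X // s ≫ f = ybar} → ↑(pullback f ybar) := fun s =>
    (pullback.lift s.1 (𝟙 _) (hlift s)) (closedPoint Ω)
  apply ENat.card_le_card_of_injective (f := Φ)
  intro s₁ s₂ hs
  apply Subtype.ext
  have h0 := section_ext_of_apply_eq (pullback.snd f ybar) (pullback.lift s₁.1 (𝟙 _) (hlift s₁))
    (pullback.lift s₂.1 (𝟙 _) (hlift s₂)) (pullback.lift_snd _ _ _) (pullback.lift_snd _ _ _) hs
  have e1 : pullback.lift s₁.1 (𝟙 _) (hlift s₁) ≫ pullback.fst f ybar = s₁.1 :=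
    pullback.lift_fst _ _ _
  have e2 : pullback.lift s₂.1 (𝟙 _) (hlift s₂) ≫ pullback.fst f ybar = s₂.1 :=
    pullback.lift_fst _ _ _
  rw [← e1, ← e2, h0]

theorem SecCardLE.of_isPullback {U V U' V' : Scheme.{u}} {π : U ⟶ V} {N : ℕ} (hπ : SecCardLE π N)
    {π' : U' ⟶ V'} {h : U' ⟶ U} {g : V' ⟶ V} (hc : IsPullback h π' π g) : SecCardLE π' N := by
  intro Ω _ vbar
  refine le_trans ?_ (hπ Ω (vbar ≫ g))
  let Φ : {s : Spec (.of Ω) ⟶ U' // s ≫ π' = vbar} →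
      {s : Spec (.of Ω) ⟶ U // s ≫ π = vbar ≫ g} :=
    fun s => ⟨s.1 ≫ h, by rw [Category.assoc, hc.w, ← Category.assoc, s.2]⟩
  apply ENat.card_le_card_of_injective (f := Φ)
  intro s₁ s₂ hs
  apply Subtype.ext
  apply hc.hom_ext
  · exact congrArg Subtype.val hs
  · rw [s₁.2, s₂.2]

theorem SecCardLE.comp_mono {U V W : Scheme.{u}} {π : U ⟶ V} {N : ℕ} (hπ : SecCardLE π N)
    (j : W ⟶ U) [Mono j] : SecCardLE (j ≫ π) N := by
  intro Ω _ vbar
  refine le_trans ?_ (hπ Ω vbar)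
  let Φ : {s : Spec (.of Ω) ⟶ W // s ≫ j ≫ π = vbar} →
      {s : Spec (.of Ω) ⟶ U // s ≫ π = vbar} :=
    fun s => ⟨s.1 ≫ j, by rw [Category.assoc]; exact s.2⟩
  apply ENat.card_le_card_of_injective (f := Φ)
  intro s₁ s₂ hs
  apply Subtype.ext
  exact (cancel_mono j).mp (congrArg Subtype.val hs)

theorem SecCardLE.sub_section {T U : Scheme.{u}} {p : T ⟶ U} {N : ℕ} (hp : SecCardLE p (N + 1))
    (Δ : U ⟶ T) (hΔ : Δ ≫ p = 𝟙 U) (W : T.Opens) (hW : ∀ u : U, Δ u ∉ W) :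
    SecCardLE (W.ι ≫ p) N := by
  intro Ω _ ubar
  let Φ : {s : Spec (.of Ω) ⟶ (W : Scheme.{u}) // s ≫ W.ι ≫ p = ubar} →
      {s : Spec (.of Ω) ⟶ T // s ≫ p = ubar} :=
    fun s => ⟨s.1 ≫ W.ι, by rw [Category.assoc]; exact s.2⟩
  have hΦ : Function.Injective Φ := by
    intro s₁ s₂ hs
    apply Subtype.ext
    exact (cancel_mono W.ι).mp (congrArg Subtype.val hs)
  let b₀ : {s : Spec (.of Ω) ⟶ T // s ≫ p = ubar} :=
    ⟨ubar ≫ Δ, by rw [Category.assoc, hΔ, Category.comp_id]⟩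
  have hb₀ : b₀ ∉ Set.range Φ := by
    rintro ⟨s, hs⟩
    have h1 : s.1 ≫ W.ι = ubar ≫ Δ := congrArg Subtype.val hs
    have h2 := congrArg (fun φ : Spec (.of Ω) ⟶ T => φ (closedPoint Ω)) h1
    have h3 : W.ι (s.1 (closedPoint Ω)) = Δ (ubar (closedPoint Ω)) := h2
    have h4 : W.ι (s.1 (closedPoint Ω)) ∈ Set.range W.ι := ⟨_, rfl⟩
    rw [Scheme.Opens.range_ι, h3] at h4
    exact hW _ h4
  have hB : ENat.card {s : Spec (.of Ω) ⟶ T // s ≫ p = ubar} ≤ (N : ℕ∞) + 1 := by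
    have := hp Ω ubar
    simpa using this
  have h5 : (Set.range Φ).encard + 1 ≤ ENat.card {s : Spec (.of Ω) ⟶ T // s ≫ p = ubar} := by
    rw [← Set.encard_univ, ← Set.encard_sdiff_singleton_add_one (Set.mem_univ b₀)]
    gcongr
    intro b hb
    exact ⟨Set.mem_univ _, fun hbb => hb₀ (hbb ▸ hb)⟩
  have h6 : ENat.card {s : Spec (.of Ω) ⟶ (W : Scheme.{u}) // s ≫ W.ι ≫ p = ubar} + 1 ≤
      (N : ℕ∞) + 1 := (add_le_add_left hΦ.encard_range 1).trans (h5.trans hB)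
  exact (ENat.add_le_add_iff_right ENat.one_ne_top).mp h6

theorem SecCardLE.isEmpty {f : X ⟶ Y} (h : SecCardLE f 0) : IsEmpty X := by
  constructor
  intro x
  have h1 := h (X.residueField x) (X.fromSpecResidueField x ≫ f)
  have h2 : ENat.card {s : Spec (.of (X.residueField x)) ⟶ X //
      s ≫ f = X.fromSpecResidueField x ≫ f} = 0 := by
    apply le_antisymm _ zero_le
    simpa using h1
  exact ((ENat.card_eq_zero_iff_empty _).mp h2).false ⟨X.fromSpecResidueField x, rfl⟩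

theorem abs_fibreIntegral_le_aux (f : X ⟶ Y) [LocallyQuasiFinite f] {N : ℕ} (hN : SecCardLE f N)
    (w : X → ℤ) (M : ℤ) (hM0 : 0 ≤ M) (hM : ∀ x, |w x| ≤ M) (y : Y) {Ω : Type u} [Field Ω]
    [IsAlgClosed Ω] (ι : Y.residueField y ⟶ .of Ω) :
    |MoreMor.fibreIntegral f w y| ≤ N * M := by
  classical
  have hres : ∀ x, f x = y → (f.residueFieldMap x).hom.Finite :=
    fun x _ => finite_residueFieldMap f x (f.quasiFiniteAt x)
  have hcard := hN Ω (Spec.map ι ≫ Y.fromSpecResidueField y)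
  have hS : Finite {s : Spec (.of Ω) ⟶ X // s ≫ f = Spec.map ι ≫ Y.fromSpecResidueField y} :=
    ENat.card_lt_top.mp (lt_of_le_of_lt hcard (ENat.natCast_lt_top N))
  have hfib : (f ⁻¹' {y}).Finite := by
    refine (Set.finite_range (fun s => (geomPtsToFibre f y ι s).1)).subset ?_
    intro x hx
    obtain ⟨s, hs⟩ := geomPtsToFibre_surjective f y ι hres ⟨x, hx⟩
    exact ⟨s, congrArg Subtype.val hs⟩
  obtain ⟨-, hI⟩ := fibreIntegral_eq_finsum_geomPts f w y ι hfib hres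
  haveI := Fintype.ofFinite
    {s : Spec (.of Ω) ⟶ X // s ≫ f = Spec.map ι ≫ Y.fromSpecResidueField y}
  have hle : (Fintype.card
      {s : Spec (.of Ω) ⟶ X // s ≫ f = Spec.map ι ≫ Y.fromSpecResidueField y} : ℤ) ≤ N := by
    have := hcard
    rw [ENat.card_eq_coe_fintype_card] at this
    exact_mod_cast this
  rw [hI, finsum_eq_sum_of_fintype]
  calc |∑ s : {s : Spec (.of Ω) ⟶ X // s ≫ f = Spec.map ι ≫ Y.fromSpecResidueField y},
        w (s.1 (closedPoint Ω))|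
      ≤ ∑ s : {s : Spec (.of Ω) ⟶ X // s ≫ f = Spec.map ι ≫ Y.fromSpecResidueField y},
        |w (s.1 (closedPoint Ω))| := Finset.abs_sum_le_sum_abs _ _
    _ ≤ ∑ _s : {s : Spec (.of Ω) ⟶ X // s ≫ f = Spec.map ι ≫ Y.fromSpecResidueField y}, M :=
        Finset.sum_le_sum fun s _ => hM _
    _ = (Fintype.card
          {s : Spec (.of Ω) ⟶ X // s ≫ f = Spec.map ι ≫ Y.fromSpecResidueField y} : ℤ) * M := by
        rw [Finset.sum_const, Finset.card_univ, nsmul_eq_mul]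
    _ ≤ N * M := mul_le_mul_of_nonneg_right hle hM0

/-- A bound for fibre integrals in terms of a bound of the weights. -/
theorem abs_fibreIntegral_le (f : X ⟶ Y) [LocallyQuasiFinite f] {N : ℕ} (hN : SecCardLE f N)
    (w : X → ℤ) (M : ℤ) (hM0 : 0 ≤ M) (hM : ∀ x, |w x| ≤ M) (y : Y) :
    |MoreMor.fibreIntegral f w y| ≤ N * M :=
  abs_fibreIntegral_le_aux f hN w M hM0 hM y
    (Ω := AlgebraicClosure (Y.residueField y))
    (CommRingCat.ofHom (algebraMap (Y.residueField y) (AlgebraicClosure (Y.residueField y))))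

end Groth.Agent.H7
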