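import Mathlib
import Groth.Agent.H7.DimOpenAt
import Groth.Agent.H60.Miracle
import Groth.Agent.H29.FlatCM
import Groth.Agent.H29.FiberStalkAt
import Groth.Agent.H9.CMFlatSch
import Groth.Agent.S0386

/-!
# Flatness, universal openness and the dimension formula: CM over regular (helper7)
-/

set_option autoImplicit false
set_option linter.style.haveILetI false
universe u

namespace Groth.Agent.H7

open AlgebraicGeometry CategoryTheory Limits TopologicalSpace Topology IsLocalRing

/-- If the restriction of `f` to an open `U` is universally open, then `f` is open at every point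
of `U`. -/
theorem isOpenAt_of_universallyOpen_restrict {X Y : Scheme.{u}} (f : X ⟶ Y) (U : X.Opens)
    [UniversallyOpen (U.ι ≫ f)] (z : X) (hz : z ∈ U) : EGA43.IsOpenAt f.base z := by
  intro N hN
  obtain ⟨N₀, hN₀N, hN₀open, hzN₀⟩ := mem_nhds_iff.mp hN
  have h1 : f.base '' (N₀ ∩ (U : Set X)) =
      (U.ι ≫ f).base '' (U.ι.base ⁻¹' (N₀ ∩ (U : Set X))) := by
    have h2 : (U.ι ≫ f).base = f.base ∘ U.ι.base := by
      ext a
      rfl
    rw [h2, Set.image_comp, Set.image_preimage_eq_inter_range, Scheme.Opens.range_ι,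
      Set.inter_assoc, Set.inter_self]
  have h3 : IsOpen (f.base '' (N₀ ∩ (U : Set X))) := by
    rw [h1]
    exact (U.ι ≫ f).isOpenMap _ ((hN₀open.inter U.2).preimage U.ι.continuous)
  exact Filter.mem_of_superset (h3.mem_nhds ⟨z, ⟨hzN₀, hz⟩, rfl⟩)
    (Set.image_mono (Set.inter_subset_left.trans hN₀N))

/-- **EGA IV 15.4.2-type equivalences** for a morphism locally of finite type with regular target
local ring and Cohen–Macaulay source local ring. -/
theorem tfae_flat_univOpen_dim_formula {X Y : Scheme.{u}} [IsLocallyNoetherian Y] (f : X ⟶ Y)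
    [LocallyOfFiniteType f] (x : X) (hreg : IsRegularLocalRing (Y.presheaf.stalk (f.base x)))
    (hCM : LocCoh.IsCohenMacaulayLocalRing (X.presheaf.stalk x)) :
    List.TFAE [
      (f.stalkMap x).hom.Flat ∧ LocCoh.IsCohenMacaulayLocalRing ((f.fiber (f.base x)).presheaf.stalk (f.asFiber x)),
      (f.stalkMap x).hom.Flat,
      ∃ U : X.Opens, x ∈ U ∧ UniversallyOpen (U.ι ≫ f),
      (∀ z : ↥(f.fiber (f.base x)), f.asFiber x ∈ closure {z} →
          (∀ z' : ↥(f.fiber (f.base x)), z ∈ closure {z'} → z' = z) →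
          EGA43.IsOpenAt f.base ((f.fiberι (f.base x)).base z)),
      ringKrullDim (X.presheaf.stalk x) =
        ringKrullDim (Y.presheaf.stalk (f.base x)) + ringKrullDim ((f.fiber (f.base x)).presheaf.stalk (f.asFiber x)) ] := by
  haveI : IsLocallyNoetherian X := LocallyOfFiniteType.isLocallyNoetherian f
  haveI : IsNoetherianRing (X.presheaf.stalk x) := inferInstance
  tfae_have 1 → 2 := fun h => h.1
  tfae_have 2 → 1 := by
    intro hfl
    refine ⟨hfl, ?_⟩
    letI : Algebra (Y.presheaf.stalk (f.base x)) (X.presheaf.stalk x) :=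
      (f.stalkMap x).hom.toAlgebra
    haveI : IsLocalHom (algebraMap (Y.presheaf.stalk (f.base x)) (X.presheaf.stalk x)) :=
      inferInstanceAs (IsLocalHom (f.stalkMap x).hom)
    haveI : IsNoetherianRing (Y.presheaf.stalk (f.base x)) := inferInstance
    haveI : Module.Flat (Y.presheaf.stalk (f.base x)) (X.presheaf.stalk x) := hfl
    obtain ⟨e⟩ := Groth.Agent.H29.FiberStalkAt.nonempty_fiberStalkEquiv f x
    have hF := (Groth.Agent.H29.FlatCM.isCM_of_flat_of_isCM (A := Y.presheaf.stalk (f.base x))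
        (B := X.presheaf.stalk x) hCM).2
    haveI := hF
    haveI : IsLocalRing (X.presheaf.stalk x ⧸ Ideal.map (f.stalkMap x).hom
      (maximalIdeal (Y.presheaf.stalk (f.base x)))) :=
      inferInstanceAs (IsLocalRing (EGA4.FibRing (Y.presheaf.stalk (f.base x)) (X.presheaf.stalk x)))
    exact Groth.Agent.H29.FlatCM.isCM_ringEquiv e hF
  tfae_have 2 → 3 := by
    intro hfl
    have hopen := Groth.Agent.S0386.result f
    obtain ⟨U, hU⟩ : ∃ U : X.Opens, (U : Set X) = {x : X | (f.stalkMap x).hom.Flat} :=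
      ⟨⟨_, hopen⟩, rfl⟩
    have hmem : ∀ z : X, z ∈ U ↔ (f.stalkMap z).hom.Flat := fun z => by
      rw [← SetLike.mem_coe, hU]
      rfl
    refine ⟨U, (hmem x).mpr hfl, ?_⟩
    haveI : Flat (U.ι ≫ f) := by
      rw [Flat.iff_flat_stalkMap]
      intro z
      rw [Groth.Agent.H9.CMFlatSch.flat_stalkMap_comp_left]
      exact (hmem _).mp z.2
    infer_instance
  tfae_have 3 → 4 := by
    rintro ⟨U, hxU, hU⟩ z hz -
    haveI := hU
    have h1 : z ⤳ f.asFiber x := specializes_iff_mem_closure.mpr hz
    have h2 : (f.fiberι (f.base x)).base z ⤳ (f.fiberι (f.base x)).base (f.asFiber x) :=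
      h1.map (f.fiberι (f.base x)).continuous
    have h3 : (f.fiberι (f.base x)).base (f.asFiber x) = x := f.fiberι_asFiber x
    rw [h3] at h2
    exact isOpenAt_of_universallyOpen_restrict f U _ (h2.mem_open U.2 hxU)
  tfae_have 4 → 5 := ringKrullDim_stalk_eq_of_isOpenAt f x
  tfae_have 5 → 2 := Groth.Agent.H60.Miracle.flat_stalkMap_of_dim_eq f x hreg hCM
  tfae_finish

end Groth.Agent.H7
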