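import Mathlib
import Groth.Agent.H7.UnivOpenPoly

set_option autoImplicit false
universe u

namespace Groth.Agent.H7

open AlgebraicGeometry CategoryTheory Limits TopologicalSpace Topology

set_option backward.isDefEq.respectTransparency false in
/-- If all irreducible components of all finite type irreducible base changes dominate, then `f`
is universally open (EGA IV 14.3-type criterion). -/
theorem universallyOpen_of_components_dominate {X Y : Scheme.{u}} (f : X ⟶ Y)
    [LocallyOfFinitePresentation f]
    (h : ∀ (Y' : Scheme.{u}) (g : Y' ⟶ Y) [IrreducibleSpace Y'] [LocallyOfFiniteType g]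
      [QuasiCompact g],
      ∀ Z ∈ irreducibleComponents (↥(pullback f g) : Type u),
        Dense ((pullback.snd f g).base '' Z)) :
    UniversallyOpen f := by
  apply universallyOpen_of_isOpenMap_affineSpace_map
  intro n
  have hpb := AffineSpace.isPullback_map (n := ULift.{u} (Fin n)) f
  haveI : LocallyOfFinitePresentation (AffineSpace.map (ULift.{u} (Fin n)) f) :=
    MorphismProperty.of_isPullback hpb.flip ‹_›
  apply isOpenMap_of_generalizingMap
  intro x' y'' hy
  -- the closed subscheme on the closure of y''
  let C : TopologicalSpace.Closeds ↥(𝔸(ULift.{u} (Fin n); Y)) := ⟨closure {y''}, isClosed_closure⟩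
  let I := Scheme.IdealSheafData.vanishingIdeal C
  have hrange : Set.range I.subschemeι = closure {y''} := by
    rw [Scheme.IdealSheafData.range_subschemeι, Scheme.IdealSheafData.coe_support_vanishingIdeal]
    rfl
  obtain ⟨w'', hw''⟩ : y'' ∈ Set.range I.subschemeι := by
    rw [hrange]; exact subset_closure rfl
  obtain ⟨w₀, hw₀⟩ : (AffineSpace.map (ULift.{u} (Fin n)) f) x' ∈ Set.range I.subschemeι := by
    rw [hrange]; exact hy.mem_closure
  have hgen : IsGenericPoint w'' (Set.univ : Set ↥I.subscheme) := by
    rw [isGenericPoint_def, Set.eq_univ_iff_forall]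
    intro w
    rw [I.subschemeι.isEmbedding.isInducing.closure_eq_preimage_closure_image, Set.image_singleton,
      hw'', Set.mem_preimage, ← hrange]
    exact ⟨w, rfl⟩
  haveI : IrreducibleSpace ↥I.subscheme := (irreducibleSpace_def _).mpr hgen.isIrreducible
  -- the pullback over the closed subscheme
  let g : I.subscheme ⟶ Y := I.subschemeι ≫ (𝔸(ULift.{u} (Fin n); Y) ↘ Y)
  let θ : pullback f g ⟶ 𝔸(ULift.{u} (Fin n); X) :=
    hpb.lift (pullback.snd f g ≫ I.subschemeι) (pullback.fst f g)
      (by rw [Category.assoc]; exact pullback.condition.symm)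
  have hθ1 : θ ≫ AffineSpace.map (ULift.{u} (Fin n)) f = pullback.snd f g ≫ I.subschemeι :=
    hpb.lift_fst _ _ _
  have hθ2 : θ ≫ (𝔸(ULift.{u} (Fin n); X) ↘ X) = pullback.fst f g := hpb.lift_snd _ _ _
  have hsq : IsPullback θ (pullback.snd f g) (AffineSpace.map (ULift.{u} (Fin n)) f)
      I.subschemeι := by
    refine IsPullback.of_right ?_ hθ1 hpb.flip
    rw [hθ2]
    exact IsPullback.of_hasPullback f g
  obtain ⟨z, hz1, hz2⟩ := Scheme.exists_preimage_of_isPullback hsq x' w₀ hw₀.symm
  -- irreducible component through z and its generic point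
  have hZc := irreducibleComponent_mem_irreducibleComponents z
  obtain ⟨ζ, hζ⟩ := QuasiSober.sober (isIrreducible_irreducibleComponent (x := z))
    (isClosed_irreducibleComponent (x := z))
  have hdense := h I.subscheme g (irreducibleComponent z) hZc
  have hgen2 : IsGenericPoint ((pullback.snd f g) ζ) (Set.univ : Set ↥I.subscheme) := by
    have := hζ.image (pullback.snd f g).continuous
    rwa [hdense.closure_eq] at this
  have hsnd : (pullback.snd f g) ζ = w'' := hgen2.eq hgen
  refine ⟨θ ζ, ?_, ?_⟩
  · have hspec : ζ ⤳ z := hζ.specializes mem_irreducibleComponent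
    have := hspec.map θ.continuous
    rwa [hz1] at this
  · have := congrArg (fun φ : pullback f g ⟶ 𝔸(ULift.{u} (Fin n); Y) => φ ζ) hθ1
    simp only [Scheme.Hom.comp_apply] at this
    rw [this, hsnd, hw'']

end Groth.Agent.H7
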