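import Mathlib
import Groth.Agent.H7.UnivOpenPoly
import Groth.Agent.S10837
import Groth.Agent.H73.DVRSpec

set_option autoImplicit false
universe u

namespace Groth.Agent.H7

open AlgebraicGeometry CategoryTheory Limits TopologicalSpace Topology

set_option backward.isDefEq.respectTransparency false in
/-- General test-scheme criterion for universal openness of a morphism locally of finite
presentation: it suffices that every nontrivial specialization in an affine space over the base
can be realised by an irreducible test scheme over which all irreducible components of the base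
change dominate. -/
theorem universallyOpen_of_forall_exists_test {X Y : Scheme.{u}} (f : X ⟶ Y)
    [LocallyOfFinitePresentation f]
    (H : ∀ (n : ℕ) (y'' y' : ↥(𝔸(ULift.{u} (Fin n); Y))), y'' ⤳ y' → y'' ≠ y' →
      ∃ (W : Scheme.{u}) (ι : W ⟶ 𝔸(ULift.{u} (Fin n); Y)) (w'' w₀ : W),
        IsGenericPoint w'' (Set.univ : Set W) ∧ ι w'' = y'' ∧ ι w₀ = y' ∧
        ∀ Z ∈ irreducibleComponents
            (↥(pullback f (ι ≫ (𝔸(ULift.{u} (Fin n); Y) ↘ Y))) : Type u),
          Dense ((pullback.snd f (ι ≫ (𝔸(ULift.{u} (Fin n); Y) ↘ Y))).base '' Z)) :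
    UniversallyOpen f := by
  apply universallyOpen_of_isOpenMap_affineSpace_map
  intro n
  have hpb := AffineSpace.isPullback_map (n := ULift.{u} (Fin n)) f
  haveI : LocallyOfFinitePresentation (AffineSpace.map (ULift.{u} (Fin n)) f) :=
    MorphismProperty.of_isPullback hpb.flip ‹_›
  apply isOpenMap_of_generalizingMap
  intro x' y'' hy
  by_cases hne : y'' = (AffineSpace.map (ULift.{u} (Fin n)) f) x'
  · exact ⟨x', specializes_rfl, hne.symm⟩
  obtain ⟨W, ι, w'', w₀, hgen, hw'', hw₀, h⟩ := H n y'' _ hy hne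
  let g : W ⟶ Y := ι ≫ (𝔸(ULift.{u} (Fin n); Y) ↘ Y)
  let θ : pullback f g ⟶ 𝔸(ULift.{u} (Fin n); X) :=
    hpb.lift (pullback.snd f g ≫ ι) (pullback.fst f g)
      (by rw [Category.assoc]; exact pullback.condition.symm)
  have hθ1 : θ ≫ AffineSpace.map (ULift.{u} (Fin n)) f = pullback.snd f g ≫ ι :=
    hpb.lift_fst _ _ _
  have hθ2 : θ ≫ (𝔸(ULift.{u} (Fin n); X) ↘ X) = pullback.fst f g := hpb.lift_snd _ _ _
  have hsq : IsPullback θ (pullback.snd f g) (AffineSpace.map (ULift.{u} (Fin n)) f) ι := by
    refine IsPullback.of_right ?_ hθ1 hpb.flip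
    rw [hθ2]
    exact IsPullback.of_hasPullback f g
  obtain ⟨z, hz1, hz2⟩ := Scheme.exists_preimage_of_isPullback hsq x' w₀ hw₀.symm
  have hZc := irreducibleComponent_mem_irreducibleComponents z
  obtain ⟨ζ, hζ⟩ := QuasiSober.sober (isIrreducible_irreducibleComponent (x := z))
    (isClosed_irreducibleComponent (x := z))
  have hdense := h (irreducibleComponent z) hZc
  have hgen2 : IsGenericPoint ((pullback.snd f g) ζ) (Set.univ : Set ↥W) := by
    have := hζ.image (pullback.snd f g).continuous
    rwa [hdense.closure_eq] at this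
  have hsnd : (pullback.snd f g) ζ = w'' := hgen2.eq hgen
  refine ⟨θ ζ, ?_, ?_⟩
  · have hspec : ζ ⤳ z := hζ.specializes mem_irreducibleComponent
    have := hspec.map θ.continuous
    rwa [hz1] at this
  · have := congrArg (fun φ : pullback f g ⟶ 𝔸(ULift.{u} (Fin n); Y) => φ ζ) hθ1
    simp only [Scheme.Hom.comp_apply] at this
    rw [this, hsnd, hw'']

/-- If `f` is universally open, irreducible components of any base change to an irreducible scheme
with a generic point dominate. -/
theorem dense_image_of_universallyOpen {X Y W : Scheme.{u}} (f : X ⟶ Y) [UniversallyOpen f]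
    (g : W ⟶ Y) (ξ : W) (hξ : IsGenericPoint ξ (Set.univ : Set W))
    (Z : Set ↥(pullback f g)) (hZ : Z ∈ irreducibleComponents (↥(pullback f g) : Type u)) :
    Dense ((pullback.snd f g).base '' Z) := by
  have hopen : IsOpenMap (pullback.snd f g).base := (pullback.snd f g).isOpenMap
  have hgen := Groth.Agent.S10837.result (pullback.snd f g) hopen
  obtain ⟨ζ, hζ⟩ := QuasiSober.sober hZ.1 (isClosed_of_mem_irreducibleComponents Z hZ)
  obtain ⟨ζ', hζ'1, hζ'2⟩ := hgen (hξ.specializes (Set.mem_univ ((pullback.snd f g).base ζ)))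
  have hsub : Z ≤ closure {ζ'} := by
    rw [← hζ.def]
    exact closure_minimal (Set.singleton_subset_iff.mpr hζ'1.mem_closure) isClosed_closure
  have hle : closure {ζ'} ≤ Z := hZ.2 isIrreducible_singleton.closure hsub
  have hmem : ζ' ∈ Z := hle (subset_closure rfl)
  rw [dense_iff_closure_eq, Set.eq_univ_iff_forall]
  intro w
  have h1 : w ∈ closure {ξ} := by rw [hξ.def]; trivial
  refine closure_mono ?_ h1
  rw [Set.singleton_subset_iff]
  exact ⟨ζ', hmem, hζ'2⟩

/-- EGA IV 14.5-type criterion: over a locally Noetherian base, universal openness can be tested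
on discrete valuation rings. -/
theorem universallyOpen_iff_dvr_components_dominate {X Y : Scheme.{u}} [IsLocallyNoetherian Y]
    (f : X ⟶ Y) [LocallyOfFiniteType f] :
    UniversallyOpen f ↔
      ∀ (A : Type u) [CommRing A] [IsDomain A] [IsDiscreteValuationRing A]
        (g : Spec (CommRingCat.of A) ⟶ Y),
        ∀ Z ∈ irreducibleComponents (↥(pullback f g) : Type u),
          Dense ((pullback.snd f g).base '' Z) := by
  constructor
  · intro hUO A _ _ _ g Z hZ
    refine dense_image_of_universallyOpen f g (⟨⊥, Ideal.isPrime_bot⟩ : PrimeSpectrum A) ?_ Z hZ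
    rw [isGenericPoint_def]
    exact (PrimeSpectrum.closure_singleton _).trans PrimeSpectrum.zeroLocus_bot
  · intro h
    apply universallyOpen_of_forall_exists_test
    intro n y'' y' hsp hne
    haveI : IsLocallyNoetherian (𝔸(ULift.{u} (Fin n); Y)) :=
      LocallyOfFiniteType.isLocallyNoetherian (𝔸(ULift.{u} (Fin n); Y) ↘ Y)
    obtain ⟨A, hA, hDVR, hcl, hcomp⟩ := Groth.Agent.H73.KA.exists_dvr_through_specialization
      (𝟙 (𝔸(ULift.{u} (Fin n); Y))) y'' y' hsp (Ne.symm hne)
    haveI := hDVR
    have hbot : (Spec.map (CommRingCat.ofHom A.subtype)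
        (IsLocalRing.closedPoint ((𝔸(ULift.{u} (Fin n); Y)).residueField y''))).asIdeal = ⊥ := by
      ext x
      show (A.subtype x) ∈ IsLocalRing.maximalIdeal _ ↔ x ∈ (⊥ : Ideal A)
      rw [IsLocalRing.maximalIdeal_eq_bot, Ideal.mem_bot, Ideal.mem_bot]
      exact ⟨fun h => Subtype.ext h, fun h => by rw [h]; rfl⟩
    refine ⟨Spec (CommRingCat.of A), hA, Spec.map (CommRingCat.ofHom A.subtype)
      (IsLocalRing.closedPoint ((𝔸(ULift.{u} (Fin n); Y)).residueField y'')),
      IsLocalRing.closedPoint A, ?_, ?_, hcl, ?_⟩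
    · rw [isGenericPoint_def]
      refine (PrimeSpectrum.closure_singleton _).trans ?_
      rw [hbot, PrimeSpectrum.zeroLocus_bot]
      rfl
    · have := congrArg (fun φ : Spec ((𝔸(ULift.{u} (Fin n); Y)).residueField y'') ⟶
          𝔸(ULift.{u} (Fin n); Y) => φ (IsLocalRing.closedPoint _)) hcomp
      simp only [Scheme.Hom.comp_apply] at this
      rw [this, Scheme.fromSpecResidueField_apply]
      rfl
    · exact h A (hA ≫ (𝔸(ULift.{u} (Fin n); Y) ↘ Y))

end Groth.Agent.H7
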