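import Mathlib
import Groth.Prelude.Def_SGA1
import Groth.Agent.H7.EquidimSectionComplete

/-!
# Universally submersive morphisms dominated by finite families (helper7)
-/

set_option autoImplicit false
set_option linter.style.haveILetI false
universe u

namespace Groth.Agent.H7

open AlgebraicGeometry CategoryTheory TopologicalSpace IsLocalRing Limits

set_option backward.isDefEq.respectTransparency false in
/-- A surjective morphism `g` such that a finite jointly surjective family `h i : T i ⟶ S'` has all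
composites `h i ≫ g` finite is universally submersive. -/
theorem univSubmersive_of_finite_family {S' S : Scheme.{u}} (g : S' ⟶ S) [Surjective g]
    {ι : Type*} [Finite ι] (T : ι → Scheme.{u}) (h : ∀ i, T i ⟶ S')
    (hfin : ∀ i, IsFinite (h i ≫ g)) (hcov : ∀ t : S', ∃ i, t ∈ Set.range (h i)) :
    SGA1.UnivSubmersive g := by
  intro X' Y' i₁ i₂ f' hsq
  show Topology.IsQuotientMap f'
  haveI : Surjective f' := MorphismProperty.of_isPullback (P := @Surjective) hsq.flip inferInstance
  rw [Topology.isQuotientMap_iff_isClosed]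
  refine ⟨f'.surjective, fun C => ⟨fun hC => hC.preimage f'.continuous, fun hC => ?_⟩⟩
  -- the finite pieces over `Y'`
  have hk : ∀ i, ∃ k : pullback (h i ≫ g) i₂ ⟶ X', k ≫ f' = pullback.snd (h i ≫ g) i₂ ∧
      k ≫ i₁ = pullback.fst (h i ≫ g) i₂ ≫ h i := by
    intro i
    have hcond : pullback.snd (h i ≫ g) i₂ ≫ i₂ = (pullback.fst (h i ≫ g) i₂ ≫ h i) ≫ g := by
      rw [Category.assoc]
      exact pullback.condition.symm
    exact ⟨hsq.lift _ _ hcond, hsq.lift_fst _ _ hcond, hsq.lift_snd _ _ hcond⟩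
  choose k hk1 hk2 using hk
  have hleft : ∀ i, IsPullback (k i) (pullback.fst (h i ≫ g) i₂) i₁ (h i) := by
    intro i
    refine IsPullback.of_right ?_ (hk2 i) hsq
    rw [hk1]
    exact (IsPullback.of_hasPullback (h i ≫ g) i₂).flip
  have hclosed : ∀ i, IsClosed ((pullback.snd (h i ≫ g) i₂) '' ((k i) ⁻¹' (f' ⁻¹' C))) := by
    intro i
    haveI := hfin i
    haveI : IsFinite (pullback.snd (h i ≫ g) i₂) := MorphismProperty.pullback_snd _ _ inferInstance
    exact (pullback.snd (h i ≫ g) i₂).isClosedMap _ ((hC.preimage (k i).continuous))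
  have hC' : C = ⋃ i, (pullback.snd (h i ≫ g) i₂) '' ((k i) ⁻¹' (f' ⁻¹' C)) := by
    apply Set.Subset.antisymm
    · intro c hc
      obtain ⟨x', rfl⟩ := f'.surjective c
      obtain ⟨i, τ, hτ⟩ := hcov (i₁ x')
      obtain ⟨z, hz1, -⟩ := Scheme.exists_preimage_of_isPullback (hleft i) x' τ hτ.symm
      refine Set.mem_iUnion.mpr ⟨i, z, ?_, ?_⟩
      · show f' (k i z) ∈ C
        rw [hz1]
        exact hc
      · rw [← hk1 i, Scheme.Hom.comp_apply, hz1]
    · intro c hc
      obtain ⟨i, z, hz, rfl⟩ := Set.mem_iUnion.mp hc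
      have h1 : f' (k i z) ∈ C := hz
      rwa [← Scheme.Hom.comp_apply, hk1 i] at h1
  rw [hC']
  exact isClosed_iUnion_of_finite hclosed

/-- A morphism locally of finite type is quasi-finite at the points of a finite fibre. -/
theorem quasiFiniteAt_of_finite_fibre {X Y : Scheme.{u}} (f : X ⟶ Y) [LocallyOfFiniteType f]
    (x : X) (hfin : (f ⁻¹' {f x}).Finite) : f.QuasiFiniteAt x := by
  rw [Scheme.Hom.quasiFiniteAt_iff_isOpen_singleton_asFiber]
  haveI : Finite ↑(f ⁻¹' {f x}) := hfin.to_subtype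
  haveI : Finite ↥(f.fiber (f x)) := Finite.of_equiv _ (f.fiberHomeo (f x)).symm.toEquiv
  exact isOpen_discrete _

set_option backward.isDefEq.respectTransparency false in
/-- Over a complete Noetherian local ring, near a point of the closed fibre where the morphism is
quasi-finite there is a piece finite over the base containing all generizations of the point. -/
theorem exists_finite_piece {A : Type u} [CommRing A] [IsNoetherianRing A] [IsLocalRing A]
    [IsAdicComplete (maximalIdeal A) A] {S' : Scheme.{u}} (g : S' ⟶ Spec (CommRingCat.of A))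
    [LocallyOfFiniteType g] (s' : S') (hs' : g s' = closedPoint A) (hqf : g.QuasiFiniteAt s') :
    ∃ (T : Scheme.{u}) (h : T ⟶ S'), IsFinite (h ≫ g) ∧ ∀ t : S', t ⤳ s' → t ∈ Set.range h := by
  obtain ⟨V, hV, hsV, hVW⟩ := exists_isAffineOpen_mem_and_subset (X := S') (x := s')
    (U := g.quasiFiniteLocus) hqf
  haveI : IsAffine V.toScheme := hV
  haveI : LocallyQuasiFinite (V.ι ≫ g) := by
    rw [← Scheme.Hom.quasiFiniteLocus_eq_top_iff, Scheme.Hom.quasiFiniteLocus_comp]
    ext t
    simpa using hVW t.2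
  haveI : LocallyOfFiniteType (V.toScheme.isoSpec.inv ≫ V.ι ≫ g) := inferInstance
  haveI : LocallyQuasiFinite (V.toScheme.isoSpec.inv ≫ V.ι ≫ g) := inferInstance
  obtain ⟨φ, hφ⟩ : ∃ φ : CommRingCat.of A ⟶ Γ(V.toScheme, ⊤),
      Spec.map φ = V.toScheme.isoSpec.inv ≫ V.ι ≫ g :=
    ⟨Spec.preimage _, Spec.map_preimage _⟩
  have hft : φ.hom.FiniteType := by
    rw [← HasRingHomProperty.Spec_iff (P := @LocallyOfFiniteType), hφ]
    infer_instance
  have hqf' : φ.hom.QuasiFinite := by
    rw [← HasRingHomProperty.Spec_iff (P := @LocallyQuasiFinite), hφ]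
    infer_instance
  letI : Algebra A Γ(V.toScheme, ⊤) := φ.hom.toAlgebra
  haveI : Algebra.FiniteType A Γ(V.toScheme, ⊤) := hft
  haveI : Algebra.QuasiFinite A Γ(V.toScheme, ⊤) := hqf'
  haveI : HenselianLocalRing A := henselianLocalRing_of_isAdicComplete A
  have hinv : ∀ s : V.toScheme, V.toScheme.isoSpec.inv (V.toScheme.isoSpec.hom s) = s := by
    intro s
    rw [← Scheme.Hom.comp_apply, Iso.hom_inv_id]
    rfl
  have hval : ∀ s : V.toScheme, Spec.map φ (V.toScheme.isoSpec.hom s) = g (V.ι s) := by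
    intro s
    rw [hφ]
    simp only [Scheme.Hom.comp_apply]
    rw [hinv]
  obtain ⟨e, heid, hfin, htop⟩ :=
    Groth.Agent.H3.quasiFinite_split_of_henselian A Γ(V.toScheme, ⊤)
  obtain ⟨σ', hσ'⟩ : s' ∈ Set.range V.ι := by
    rw [Scheme.Opens.range_ι]
    exact hsV
  -- the prime of `s'` contains `m_A C`
  have hmP : (maximalIdeal A).map (algebraMap A Γ(V.toScheme, ⊤)) ≤
      (V.toScheme.isoSpec.hom σ').asIdeal := by
    rw [Ideal.map_le_iff_le_comap]
    have h1 : Spec.map φ (V.toScheme.isoSpec.hom σ') = closedPoint A := by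
      rw [hval, hσ']
      exact hs'
    have h2 := congrArg PrimeSpectrum.asIdeal h1
    exact h2.ge
  have hsup : (maximalIdeal A).map (algebraMap A Γ(V.toScheme, ⊤)) ⊔
      Ideal.span ({e} : Set Γ(V.toScheme, ⊤)) = ⊤ := by
    have h2 : (Ideal.map (algebraMap A Γ(V.toScheme, ⊤)) (maximalIdeal A)).map
        (Ideal.Quotient.mk (Ideal.span ({e} : Set Γ(V.toScheme, ⊤)))) = ⊤ := by
      rw [Ideal.map_map]
      exact htop
    have h3 := congrArg (Ideal.comap (Ideal.Quotient.mk
      (Ideal.span ({e} : Set Γ(V.toScheme, ⊤))))) h2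
    rw [Ideal.comap_map_of_surjective _ Ideal.Quotient.mk_surjective, Ideal.comap_top,
      ← RingHom.ker_eq_comap_bot, Ideal.mk_ker] at h3
    exact h3
  have heP : e ∉ (V.toScheme.isoSpec.hom σ').asIdeal := by
    intro he
    have h1 : (⊤ : Ideal Γ(V.toScheme, ⊤)) ≤ (V.toScheme.isoSpec.hom σ').asIdeal := by
      rw [← hsup]
      exact sup_le hmP ((Ideal.span_singleton_le_iff_mem _).mpr he)
    exact (V.toScheme.isoSpec.hom σ').isPrime.ne_top (top_le_iff.mp h1)
  refine ⟨Spec (CommRingCat.of (Γ(V.toScheme, ⊤) ⧸ Ideal.span ({1 - e} : Set Γ(V.toScheme, ⊤)))),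
    Spec.map (CommRingCat.ofHom (Ideal.Quotient.mk (Ideal.span ({1 - e} : Set Γ(V.toScheme, ⊤)))))
      ≫ V.toScheme.isoSpec.inv ≫ V.ι, ?_, ?_⟩
  · rw [Category.assoc, Category.assoc, ← hφ, ← Spec.map_comp, IsFinite.SpecMap_iff]
    exact RingHom.finite_algebraMap.mpr hfin
  · intro t ht
    have htV : t ∈ V := ht.mem_open V.isOpen hsV
    obtain ⟨τ, hτ⟩ : t ∈ Set.range V.ι := by
      rw [Scheme.Opens.range_ι]
      exact htV
    have hsp : τ ⤳ σ' := by
      rw [← V.ι.isOpenEmbedding.isInducing.specializes_iff, hτ, hσ']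
      exact ht
    have hsp' : V.toScheme.isoSpec.hom τ ⤳ V.toScheme.isoSpec.hom σ' :=
      hsp.map V.toScheme.isoSpec.hom.continuous
    have hle : (V.toScheme.isoSpec.hom τ).asIdeal ≤ (V.toScheme.isoSpec.hom σ').asIdeal :=
      (PrimeSpectrum.le_iff_specializes _ _).mpr hsp'
    have h1e : 1 - e ∈ (V.toScheme.isoSpec.hom τ).asIdeal := by
      have h0 : e * (1 - e) ∈ (V.toScheme.isoSpec.hom τ).asIdeal := by
        rw [mul_sub, mul_one, heid.eq, sub_self]
        exact Ideal.zero_mem _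
      rcases (V.toScheme.isoSpec.hom τ).isPrime.mem_or_mem h0 with h | h
      · exact absurd (hle h) heP
      · exact h
    have hmem : V.toScheme.isoSpec.hom τ ∈ Set.range (PrimeSpectrum.comap
        (Ideal.Quotient.mk (Ideal.span ({1 - e} : Set Γ(V.toScheme, ⊤))))) := by
      rw [range_comap_of_surjective _ _ Ideal.Quotient.mk_surjective,
        Ideal.mk_ker, PrimeSpectrum.mem_zeroLocus]
      exact (Ideal.span_singleton_le_iff_mem _).mpr h1e
    obtain ⟨Q', hQ'⟩ := hmem
    refine ⟨Q', ?_⟩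
    show (Spec.map (CommRingCat.ofHom (Ideal.Quotient.mk _)) ≫ V.toScheme.isoSpec.inv ≫ V.ι) Q' = t
    simp only [Scheme.Hom.comp_apply]
    have hQ'' : Spec.map (CommRingCat.ofHom (Ideal.Quotient.mk
        (Ideal.span ({1 - e} : Set Γ(V.toScheme, ⊤))))) Q' = V.toScheme.isoSpec.hom τ := hQ'
    have e1 := congrArg (fun z => V.ι (V.toScheme.isoSpec.inv z)) hQ''
    exact e1.trans ((congrArg (fun z => V.ι z) (hinv τ)).trans hτ)

/-- **SGA 1 IX-type criterion.** -/
theorem univSubmersive_of_specializes_to_closedFibre (A : Type u) [CommRing A]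
    [IsNoetherianRing A] [IsLocalRing A] [IsAdicComplete (IsLocalRing.maximalIdeal A) A]
    {S' : Scheme.{u}} (g : S' ⟶ Spec (CommRingCat.of A)) [LocallyOfFiniteType g]
    [Surjective g]
    (hfin : (g.base ⁻¹' {IsLocalRing.closedPoint A}).Finite)
    (hsp : ∀ t : S', ∃ s' : S', g.base s' = IsLocalRing.closedPoint A ∧ t ⤳ s') :
    SGA1.UnivSubmersive g := by
  haveI : Finite ↑(g.base ⁻¹' {IsLocalRing.closedPoint A}) := hfin.to_subtype
  have hpiece : ∀ s' : ↑(g.base ⁻¹' {IsLocalRing.closedPoint A}), ∃ (T : Scheme.{u})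
      (h : T ⟶ S'), IsFinite (h ≫ g) ∧ ∀ t : S', t ⤳ s'.1 → t ∈ Set.range h := by
    intro s'
    have h1 : g s'.1 = closedPoint A := s'.2
    refine exists_finite_piece g s'.1 h1 (quasiFiniteAt_of_finite_fibre g s'.1 ?_)
    rw [h1]
    exact hfin
  choose T h hfinT hcovT using hpiece
  refine univSubmersive_of_finite_family g T h hfinT (fun t => ?_)
  obtain ⟨s', hs', hts'⟩ := hsp t
  exact ⟨⟨s', hs'⟩, hcovT ⟨s', hs'⟩ t hts'⟩

end Groth.Agent.H7
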