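import Groth.Agent.H7.CFunIntegral

set_option autoImplicit false
set_option linter.style.haveILetI false
universe u

namespace Groth.Agent.H7

open AlgebraicGeometry CategoryTheory Limits IsLocalRing Topology

variable {X Y : Scheme.{u}}

open scoped Classical in
/-- The inductive step for a finite morphism of finite presentation over an affine base. -/
theorem cfun_finite_step (N : ℕ)
    (IH : ∀ {X Y : Scheme.{u}} (f : X ⟶ Y) [LocallyQuasiFinite f]
      [LocallyOfFinitePresentation f], SecCardLE f N → ∀ w : X → ℤ,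
        MoreMor.IsWeighting f w → CFun w)
    {U V : Scheme.{u}} (π : U ⟶ V) [IsAffine V] [IsFinite π] [LocallyOfFinitePresentation π]
    (hN : SecCardLE π (N + 1)) (w : U → ℤ) (hw : MoreMor.IsWeighting π w) : CFun w := by
  haveI : IsAffine U := isAffine_of_isAffineHom π
  let W : (pullback π π).Opens := ⟨(Set.range (pullback.diagonal π))ᶜ,
    (pullback.diagonal π).isClosedEmbedding.isClosed_range.isOpen_compl⟩
  have hWc : IsCompact (W : Set ↑(pullback π π)) := isCompact_compl_range_diagonal π
  haveI : CompactSpace (W : Scheme.{u}) := isCompact_iff_compactSpace.mp hWc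
  have hc : IsPullback (pullback.snd π π) (pullback.fst π π) π π :=
    (IsPullback.of_hasPullback π π).flip
  have hNq : SecCardLE (W.ι ≫ pullback.fst π π) N :=
    (hN.of_isPullback hc).sub_section (pullback.diagonal π) (pullback.diagonal_fst π) W
      (fun p hp => hp ⟨p, rfl⟩)
  have hwq : MoreMor.IsWeighting (W.ι ≫ pullback.fst π π)
      (fun z => w (pullback.snd π π (W.ι z))) :=
    isWeighting_openImmersion_comp (pullback.fst π π) (w ∘ ⇑(pullback.snd π π))
      (isWeighting_baseChange π w hw (pullback.fst π π) (pullback.snd π π) π hc) W.ι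
  have hcw : CFun (fun z : (W : Scheme.{u}) => w (pullback.snd π π (W.ι z))) :=
    IH (W.ι ≫ pullback.fst π π) hNq _ hwq
  obtain ⟨M₂, hM₂⟩ := isWeighting_bounded_aux N (W.ι ≫ pullback.fst π π) hNq _ hwq
  have hg : CFun (fun z : ↑(pullback π π) =>
      if z ∈ (W : Set ↑(pullback π π)) then w (pullback.snd π π z) else 0) :=
    CFun.extend_opens W hWc _ (fun z hz => if_neg hz) (hcw.of_eq fun z => if_pos z.2)
  have hgb : ∀ z : ↑(pullback π π),
      |(if z ∈ (W : Set ↑(pullback π π)) then w (pullback.snd π π z) else 0)| ≤ |M₂| := by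
    intro z
    by_cases hz : z ∈ (W : Set ↑(pullback π π))
    · rw [if_pos hz]
      exact (hM₂ ⟨z, hz⟩).trans (le_abs_self _)
    · rw [if_neg hz, abs_zero]
      exact abs_nonneg _
  have hψ := cfun_fibreIntegral (pullback.fst π π) _ |M₂| hgb hg
  have hψeq : ∀ x, MoreMor.fibreIntegral (pullback.fst π π) (fun z : ↑(pullback π π) =>
      if z ∈ (W : Set ↑(pullback π π)) then w (pullback.snd π π z) else 0) x =
      MoreMor.fibreIntegral (W.ι ≫ pullback.fst π π)
        (fun z => w (pullback.snd π π (W.ι z))) x := by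
    intro x
    rw [fibreIntegral_indicator (pullback.fst π π) (W : Set ↑(pullback π π))
      (fun z => w (pullback.snd π π z)) x ((pullback.fst π π).finite_preimage_singleton _),
      fibreIntegral_opens_ι (pullback.fst π π) W (fun z => w (pullback.snd π π z)) x]
  have hJ : IsLocallyConstant (MoreMor.fibreIntegral π w) :=
    isLocallyConstant_fibreIntegral_of_isFinite π w hw
  have hJc : CFun (fun x => MoreMor.fibreIntegral π w (π x)) :=
    (cfun_of_isLocallyConstant hJ).comp_hom π
  have hψb : ∀ x, |MoreMor.fibreIntegral (pullback.fst π π) (fun z : ↑(pullback π π) =>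
      if z ∈ (W : Set ↑(pullback π π)) then w (pullback.snd π π z) else 0) x| ≤ N * |M₂| := by
    intro x
    rw [hψeq]
    exact abs_fibreIntegral_le (W.ι ≫ pullback.fst π π) hNq _ |M₂| (abs_nonneg _)
      (fun z => (hM₂ z).trans (le_abs_self _)) x
  have hsub := hJc.sub_of_bounded hψ _ hψb
  refine hsub.of_eq fun x => ?_
  have hfib : (π ⁻¹' {π x}).Finite := π.finite_preimage_singleton _
  have hform := fibreIntegral_diag_formula π W rfl w x hfib
  rw [hψeq, hform]
  ring

/-- The inductive step for affine source. -/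
theorem cfun_step_affine (N : ℕ)
    (IH : ∀ {X Y : Scheme.{u}} (f : X ⟶ Y) [LocallyQuasiFinite f]
      [LocallyOfFinitePresentation f], SecCardLE f N → ∀ w : X → ℤ,
        MoreMor.IsWeighting f w → CFun w)
    {X Y : Scheme.{u}} [IsAffine X] (f : X ⟶ Y) [LocallyQuasiFinite f]
    [LocallyOfFinitePresentation f] (hN : SecCardLE f (N + 1)) (w : X → ℤ)
    (hw : MoreMor.IsWeighting f w) : CFun w := by
  classical
  choose U V π e hV hfin he hx hwπ hNπ hefp hπfp using
    fun x => exists_finite_etale_local f w hw (N + 1) hN x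
  obtain ⟨t, ht⟩ := isCompact_univ.elim_finite_subcover (fun x => Set.range (e x))
    (fun x => (he x).isOpen_range) (fun x _ => Set.mem_iUnion.mpr ⟨x, hx x⟩)
  have hc : ∀ x, CFun (fun a => w (e x a)) := fun x => by
    haveI := hV x
    haveI := hfin x
    haveI := hπfp x inferInstance
    exact cfun_finite_step N IH (π x) (hNπ x) _ (hwπ x)
  intro n
  have hset : {x | w x = n} = ⋃ x ∈ (↑t : Set X), (e x) '' {a | w (e x a) = n} := by
    ext x'
    simp only [Set.mem_iUnion, exists_prop]
    constructor
    · intro hx'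
      obtain ⟨x, hxx⟩ := Set.mem_iUnion.mp (ht (Set.mem_univ x'))
      obtain ⟨hxt, ⟨a, rfl⟩⟩ := Set.mem_iUnion.mp hxx
      exact ⟨x, hxt, a, hx', rfl⟩
    · rintro ⟨x, -, a, ha, rfl⟩
      exact ha
  rw [hset]
  refine IsLocallyConstructible.biUnion t.finite_toSet fun x _ => ?_
  haveI := hV x
  haveI := hfin x
  haveI : IsAffine (U x) := isAffine_of_isAffineHom (π x)
  haveI := hefp x
  exact isLocallyConstructible_image (e x) (hc x n)

theorem cfun_of_isWeighting_aux : ∀ (N : ℕ) {X Y : Scheme.{u}} (f : X ⟶ Y) [LocallyQuasiFinite f]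
    [LocallyOfFinitePresentation f], SecCardLE f N → ∀ w : X → ℤ,
    MoreMor.IsWeighting f w → CFun w := by
  intro N
  induction N with
  | zero =>
    intro X Y f _ _ hN w _
    haveI := hN.isEmpty
    intro n
    have : {x | w x = n} = ∅ := Set.eq_empty_of_isEmpty _
    rw [this]
    exact IsLocallyConstructible.empty
  | succ N IH =>
    intro X Y f _ _ hN w hw
    have haff : ∀ (X₀ : X.Opens), IsAffineOpen X₀ →
        CFun (fun z : (X₀ : Scheme.{u}) => w (X₀.ι z)) := by
      intro X₀ hX₀
      haveI : IsAffine (X₀ : Scheme.{u}) := hX₀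
      have hw₀ := isWeighting_openImmersion_comp f w hw X₀.ι
      have hN₀ : SecCardLE (X₀.ι ≫ f) (N + 1) := hN.comp_mono X₀.ι
      exact cfun_step_affine N (fun f => IH f) (X₀.ι ≫ f) hN₀ _ hw₀
    intro n
    refine IsLocallyConstructible.of_isOpenCover
      (U := fun i : X.affineCover.I₀ => (X.affineCover.f i).opensRange)
      X.affineCover.isOpenCover_opensRange (fun i => ?_)
    exact haff _ (isAffineOpen_opensRange _) n

/-- **Level sets of a weighting are locally constructible** (finite presentation case). -/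
theorem cfun_of_isWeighting_fp (f : X ⟶ Y) [LocallyQuasiFinite f] [LocallyOfFinitePresentation f]
    (w : X → ℤ) (hw : MoreMor.IsWeighting f w) : CFun w := by
  intro n
  refine IsLocallyConstructible.of_isOpenCover
    (U := fun i : X.affineCover.I₀ => (X.affineCover.f i).opensRange)
    X.affineCover.isOpenCover_opensRange (fun i => ?_)
  have hX₀ : IsAffineOpen (X.affineCover.f i).opensRange := isAffineOpen_opensRange _
  haveI : IsAffine ((X.affineCover.f i).opensRange : Scheme.{u}) := hX₀
  obtain ⟨d, hd⟩ := exists_card_pullback_le ((X.affineCover.f i).opensRange.ι ≫ f)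
  have hN := secCardLE_of_card_pullback_le _ d hd
  exact cfun_of_isWeighting_aux d _ hN _ (isWeighting_openImmersion_comp f w hw _) n

end Groth.Agent.H7
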