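import Groth.Agent.H7.WeightingConstructible
import Mathlib.AlgebraicGeometry.Morphisms.Immersion
import Mathlib.RingTheory.FinitePresentation
import Mathlib.RingTheory.IntegralClosure.IsIntegralClosure.Basic

set_option autoImplicit false
set_option linter.style.haveILetI false
universe u

namespace Groth.Agent.H7

open AlgebraicGeometry CategoryTheory Limits IsLocalRing Topology Set.Notation

/-! ### A finite algebra is a quotient of a finite algebra of finite presentation -/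

theorem exists_finite_fp_cover (R B : Type u) [CommRing R] [CommRing B] [Algebra R B]
    [Module.Finite R B] :
    ∃ (B₁ : Type u) (_ : CommRing B₁) (_ : Algebra R B₁) (φ : B₁ →ₐ[R] B),
      Module.Finite R B₁ ∧ Algebra.FinitePresentation R B₁ ∧ Function.Surjective φ := by
  classical
  obtain ⟨m, s, hs⟩ := Module.Finite.exists_fin (R := R) (M := B)
  have hint : ∀ i, IsIntegral R (s i) := fun i => Algebra.IsIntegral.isIntegral (s i)
  choose P hPm hP0 using hint
  let ψ : MvPolynomial (Fin m) R →ₐ[R] B := MvPolynomial.aeval s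
  let Q : Fin m → MvPolynomial (Fin m) R :=
    fun i => Polynomial.aeval (MvPolynomial.X i : MvPolynomial (Fin m) R) (P i)
  let I : Ideal (MvPolynomial (Fin m) R) := Ideal.span (Set.range Q)
  have hψQ : ∀ i, ψ (Q i) = 0 := fun i => by
    show ψ (Polynomial.aeval (MvPolynomial.X i) (P i)) = 0
    rw [← Polynomial.aeval_algHom_apply, MvPolynomial.aeval_X]
    exact hP0 i
  have hψI : ∀ a ∈ I, ψ a = 0 := by
    intro a ha
    have hle : I ≤ RingHom.ker ψ.toRingHom :=
      Ideal.span_le.mpr (by rintro _ ⟨i, rfl⟩; exact hψQ i)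
    exact hle ha
  have hψsurj : Function.Surjective ψ := by
    rw [← AlgHom.range_eq_top, ← Algebra.adjoin_range_eq_range_aeval]
    exact Algebra.toSubmodule_eq_top.mp (top_unique (hs ▸ Algebra.span_le_adjoin R _))
  have hIfg : I.FG := ⟨Finset.univ.image Q, by
    rw [Finset.coe_image, Finset.coe_univ, Set.image_univ]⟩
  haveI hfp : Algebra.FinitePresentation R (MvPolynomial (Fin m) R ⧸ I) :=
    Algebra.FinitePresentation.quotient hIfg
  haveI hft : Algebra.FiniteType R (MvPolynomial (Fin m) R ⧸ I) := inferInstance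
  have hxint : ∀ i, IsIntegral R (Ideal.Quotient.mkₐ R I (MvPolynomial.X i)) := fun i => by
    refine ⟨P i, hPm i, ?_⟩
    show Polynomial.aeval (Ideal.Quotient.mkₐ R I (MvPolynomial.X i)) (P i) = 0
    rw [Polynomial.aeval_algHom_apply]
    exact Ideal.Quotient.eq_zero_iff_mem.mpr (Ideal.subset_span ⟨i, rfl⟩)
  have hadj : Algebra.adjoin R (Set.range fun i : Fin m =>
      Ideal.Quotient.mkₐ R I (MvPolynomial.X i)) = ⊤ := by
    have h1 : (Algebra.adjoin R (Set.range (MvPolynomial.X : Fin m → MvPolynomial (Fin m) R))).map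
        (Ideal.Quotient.mkₐ R I) = ⊤ := by
      rw [MvPolynomial.adjoin_range_X, Algebra.map_top, AlgHom.range_eq_top]
      exact Ideal.Quotient.mkₐ_surjective R I
    rw [AlgHom.map_adjoin, ← Set.range_comp] at h1
    exact h1
  haveI hint' : Algebra.IsIntegral R (MvPolynomial (Fin m) R ⧸ I) := by
    rw [← integralClosure_eq_top_iff]
    apply top_unique
    rw [← hadj]
    apply Algebra.adjoin_le
    rintro _ ⟨i, rfl⟩
    exact hxint i
  have hfin : Module.Finite R (MvPolynomial (Fin m) R ⧸ I) := Algebra.IsIntegral.finite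
  refine ⟨MvPolynomial (Fin m) R ⧸ I, inferInstance, inferInstance,
    Ideal.Quotient.liftₐ I ψ hψI, hfin, hfp, ?_⟩
  intro b
  obtain ⟨a, rfl⟩ := hψsurj b
  exact ⟨Ideal.Quotient.mkₐ R I a, rfl⟩

/-! ### Fibre integrals and injective morphisms with trivial residue field extensions -/

section Comp

variable {U V W : Scheme.{u}}

theorem fibreTerm_comp_of_bijective (j : W ⟶ U) (π : U ⟶ V) (w : U → ℤ) (p : W)
    (hres : Function.Bijective (j.residueFieldMap p).hom) :
    fibreTerm (j ≫ π) (fun p => w (j p)) p = fibreTerm π w (j p) := by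
  unfold fibreTerm
  congr 2
  symm
  refine sepDegHom_eq_of_equiv _ _ (RingEquiv.refl _) (RingEquiv.ofBijective _ hres) (fun a => ?_)
  rw [Scheme.residueFieldMap_comp]
  rfl

theorem fibreIntegral_comp_of_bijective (j : W ⟶ U) (hinj : Function.Injective j)
    (hres : ∀ p, Function.Bijective (j.residueFieldMap p).hom) (π : U ⟶ V) (w : U → ℤ) (b : V) :
    MoreMor.fibreIntegral (j ≫ π) (fun p => w (j p)) b =
      ∑ᶠ x ∈ π ⁻¹' {b} ∩ Set.range j, fibreTerm π w x := by
  rw [fibreIntegral_eq_finsum_mem]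
  have himg : π ⁻¹' {b} ∩ Set.range j = j '' ((j ≫ π) ⁻¹' {b}) := by
    have : ((j ≫ π) ⁻¹' {b} : Set W) = j ⁻¹' (π ⁻¹' {b}) := rfl
    rw [this, Set.image_preimage_eq_inter_range]
  rw [himg, finsum_mem_image hinj.injOn]
  exact finsum_mem_congr rfl fun p _ => fibreTerm_comp_of_bijective j π w p (hres p)

theorem bijective_residueFieldMap_of_isClosedImmersion (j : W ⟶ U) [IsClosedImmersion j] (p : W) :
    Function.Bijective (j.residueFieldMap p).hom := by
  refine ⟨(j.residueFieldMap p).hom.injective, ?_⟩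
  intro l
  obtain ⟨a, rfl⟩ := Ideal.Quotient.mk_surjective (I := maximalIdeal (W.presheaf.stalk p)) l
  obtain ⟨a', rfl⟩ := j.stalkMap_surjective p a
  refine ⟨U.residue (j p) a', ?_⟩
  have := congrArg (fun φ : U.presheaf.stalk (j p) ⟶ W.residueField p => φ.hom a')
    (Scheme.residue_residueFieldMap j p)
  exact this

end Comp

/-! ### Extension by zero along a closed immersion -/

section Extend

variable {D O Y : Scheme.{u}}

open scoped Classical in
theorem isWeighting_extend_closedImmersion (i : D ⟶ O) [IsClosedImmersion i] (f₁ : O ⟶ Y)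
    (w : D → ℤ) (hw : MoreMor.IsWeighting (i ≫ f₁) w) :
    MoreMor.IsWeighting f₁ (Function.extend i w 0) := by
  intro V γ _ U₁ hU₁
  have hiinj : Function.Injective i := i.isClosedEmbedding.injective
  let m : pullback (i ≫ f₁) γ ⟶ pullback f₁ γ :=
    pullback.map (i ≫ f₁) γ f₁ γ i (𝟙 V) (𝟙 Y) (by simp) (by simp)
  have hmfst : m ≫ pullback.fst f₁ γ = pullback.fst (i ≫ f₁) γ ≫ i := pullback.lift_fst _ _ _
  have hmsnd : m ≫ pullback.snd f₁ γ = pullback.snd (i ≫ f₁) γ :=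
    (pullback.lift_snd _ _ _).trans (Category.comp_id _)
  have hmpb : IsPullback m (pullback.fst (i ≫ f₁) γ) (pullback.fst f₁ γ) i := by
    have h1 : IsPullback (pullback.snd (i ≫ f₁) γ) (pullback.fst (i ≫ f₁) γ) γ (i ≫ f₁) :=
      (IsPullback.of_hasPullback (i ≫ f₁) γ).flip
    have h2 : IsPullback (pullback.snd f₁ γ) (pullback.fst f₁ γ) γ f₁ :=
      (IsPullback.of_hasPullback f₁ γ).flip
    exact IsPullback.of_right (by rw [hmsnd]; exact h1) hmfst h2
  haveI : IsClosedImmersion m :=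
    MorphismProperty.of_isPullback (P := @IsClosedImmersion) hmpb.flip inferInstance
  -- the restriction of `m` over `U₁`
  have hκι : (m ∣_ U₁) ≫ U₁.ι = (m ⁻¹ᵁ U₁).ι ≫ m := morphismRestrict_ι m U₁
  haveI : IsClosedImmersion (m ∣_ U₁) :=
    MorphismProperty.of_isPullback (P := @IsClosedImmersion)
      (isPullback_morphismRestrict m U₁).flip inferInstance
  have hκπ : (m ∣_ U₁) ≫ U₁.ι ≫ pullback.snd f₁ γ =
      (m ⁻¹ᵁ U₁).ι ≫ pullback.snd (i ≫ f₁) γ := by
    rw [← Category.assoc, hκι, Category.assoc, hmsnd]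
  haveI : IsFinite (U₁.ι ≫ pullback.snd f₁ γ) := hU₁
  have hfinU : IsFinite ((m ⁻¹ᵁ U₁).ι ≫ pullback.snd (i ≫ f₁) γ) := by
    rw [← hκπ]; infer_instance
  have key := hw V γ (m ⁻¹ᵁ U₁) hfinU
  -- compare the two integrals
  have hA : ∀ a : ↥(m ⁻¹ᵁ U₁), Function.extend i w 0
      (pullback.fst f₁ γ (U₁.ι ((m ∣_ U₁) a))) = w (pullback.fst (i ≫ f₁) γ ((m ⁻¹ᵁ U₁).ι a)) := by
    intro a
    have e1 : U₁.ι ((m ∣_ U₁) a) = m ((m ⁻¹ᵁ U₁).ι a) :=
      congrArg (fun φ : (m ⁻¹ᵁ U₁).toScheme ⟶ pullback f₁ γ => φ a) hκι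
    have e2 : pullback.fst f₁ γ (m ((m ⁻¹ᵁ U₁).ι a)) =
        i (pullback.fst (i ≫ f₁) γ ((m ⁻¹ᵁ U₁).ι a)) :=
      congrArg (fun φ : pullback (i ≫ f₁) γ ⟶ O => φ ((m ⁻¹ᵁ U₁).ι a)) hmfst
    rw [e1, e2, hiinj.extend_apply]
  have hB : ∀ u₁ : ↥U₁, u₁ ∉ Set.range (m ∣_ U₁) →
      Function.extend i w 0 (pullback.fst f₁ γ (U₁.ι u₁)) = 0 := by
    intro u₁ hu₁
    rw [Function.extend_apply']
    · rfl
    · rintro ⟨d, hd⟩
      obtain ⟨z, hz1, -⟩ := Scheme.exists_preimage_of_isPullback hmpb (U₁.ι u₁) d hd.symm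
      have hzU : z ∈ m ⁻¹ᵁ U₁ := by
        show m z ∈ U₁
        rw [hz1]
        exact u₁.2
      apply hu₁
      refine ⟨⟨z, hzU⟩, ?_⟩
      apply U₁.ι.isOpenEmbedding.injective
      have e1 : U₁.ι ((m ∣_ U₁) ⟨z, hzU⟩) = m ((m ⁻¹ᵁ U₁).ι ⟨z, hzU⟩) :=
        congrArg (fun φ : (m ⁻¹ᵁ U₁).toScheme ⟶ pullback f₁ γ => φ ⟨z, hzU⟩) hκι
      rw [e1]
      exact hz1
  have heq : MoreMor.fibreIntegral (U₁.ι ≫ pullback.snd f₁ γ)
      (fun u => Function.extend i w 0 (pullback.fst f₁ γ (U₁.ι u))) =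
      MoreMor.fibreIntegral ((m ⁻¹ᵁ U₁).ι ≫ pullback.snd (i ≫ f₁) γ)
        (fun u => w (pullback.fst (i ≫ f₁) γ ((m ⁻¹ᵁ U₁).ι u))) := by
    funext v
    have hfib : ((U₁.ι ≫ pullback.snd f₁ γ) ⁻¹' {v}).Finite :=
      (U₁.ι ≫ pullback.snd f₁ γ).finite_preimage_singleton v
    have h1 := fibreIntegral_comp_of_bijective (m ∣_ U₁)
      (m ∣_ U₁).isClosedEmbedding.injective
      (bijective_residueFieldMap_of_isClosedImmersion (m ∣_ U₁)) (U₁.ι ≫ pullback.snd f₁ γ)
      (fun u => Function.extend i w 0 (pullback.fst f₁ γ (U₁.ι u))) v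
    have h2 : MoreMor.fibreIntegral (U₁.ι ≫ pullback.snd f₁ γ)
        (fun u => Function.extend i w 0 (pullback.fst f₁ γ (U₁.ι u))) v =
        ∑ᶠ x ∈ (U₁.ι ≫ pullback.snd f₁ γ) ⁻¹' {v} ∩ Set.range (m ∣_ U₁),
          fibreTerm (U₁.ι ≫ pullback.snd f₁ γ)
            (fun u => Function.extend i w 0 (pullback.fst f₁ γ (U₁.ι u))) x := by
      rw [fibreIntegral_eq_finsum_mem,
        ← finsum_mem_inter_add_sdiff (Set.range (m ∣_ U₁)) hfib]
      have h0 : ∑ᶠ x ∈ (U₁.ι ≫ pullback.snd f₁ γ) ⁻¹' {v} \ Set.range (m ∣_ U₁),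
          fibreTerm (U₁.ι ≫ pullback.snd f₁ γ)
            (fun u => Function.extend i w 0 (pullback.fst f₁ γ (U₁.ι u))) x = 0 := by
        apply finsum_mem_of_eqOn_zero
        intro x hx
        show fibreTerm _ _ x = 0
        unfold fibreTerm
        show Function.extend i w 0 (pullback.fst f₁ γ (U₁.ι x)) * _ = 0
        rw [hB x hx.2, zero_mul]
      rw [h0, add_zero]
    rw [h2, ← h1]
    have h3 : (fun p => Function.extend i w 0 (pullback.fst f₁ γ (U₁.ι ((m ∣_ U₁) p)))) =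
        fun u => w (pullback.fst (i ≫ f₁) γ ((m ⁻¹ᵁ U₁).ι u)) := funext hA
    rw [h3]
    have h4 : ∀ (φ₁ φ₂ : (m ⁻¹ᵁ U₁).toScheme ⟶ V) (hφ : φ₁ = φ₂) (g : ↥(m ⁻¹ᵁ U₁) → ℤ),
        MoreMor.fibreIntegral φ₁ g v = MoreMor.fibreIntegral φ₂ g v := by
      rintro φ₁ _ rfl g
      rfl
    exact h4 _ _ hκπ _
  rw [heq]
  exact key

end Extend

/-! ### Weightings and monomorphisms of the base -/

theorem isWeighting_of_comp_mono {D R' Y : Scheme.{u}} (g : D ⟶ R') (ι : R' ⟶ Y) [Mono ι]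
    [LocallyQuasiFinite (g ≫ ι)] [LocallyOfFiniteType (g ≫ ι)] (w : D → ℤ)
    (hw : MoreMor.IsWeighting (g ≫ ι) w) : MoreMor.IsWeighting g w := by
  have hc : IsPullback (𝟙 D) g (g ≫ ι) ι := by
    have h1 : IsPullback (𝟙 D) g g (𝟙 R') := IsPullback.id_horiz g
    have h2 : IsPullback (𝟙 R') (𝟙 R') ι ι := IsKernelPair.id_of_mono ι
    have h3 := h1.paste_vert h2
    rwa [Category.comp_id] at h3
  have h := isWeighting_baseChange (g ≫ ι) w hw g (𝟙 D) ι hc
  have hww : (w ∘ ⇑(𝟙 D : D ⟶ D)) = w := by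
    funext a
    rfl
  rwa [hww] at h

end Groth.Agent.H7
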