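import Groth.Agent.H7.WeightingFT
import Mathlib.RingTheory.RingHom.FinitePresentation

set_option autoImplicit false
set_option linter.style.haveILetI false
universe u

namespace Groth.Agent.H7

open AlgebraicGeometry CategoryTheory Limits IsLocalRing Topology Set.Notation

variable {X Y : Scheme.{u}}

/-- Locally, a morphism locally of finite type which is quasi-finite at a point is a closed
subscheme of a locally quasi-finite scheme of finite presentation over an affine open of the
base. -/
theorem exists_local_fp_model (f : X ⟶ Y) [LocallyOfFiniteType f] (x : X)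
    (hx : f.QuasiFiniteAt x) :
    ∃ (D : X.Opens), x ∈ D ∧ ∃ (O R' : Scheme.{u}) (i : D.toScheme ⟶ O) (f₁ : O ⟶ R')
      (ι : R' ⟶ Y), IsClosedImmersion i ∧ LocallyQuasiFinite f₁ ∧
      LocallyOfFinitePresentation f₁ ∧ IsOpenImmersion ι ∧ i ≫ f₁ ≫ ι = D.ι ≫ f := by
  classical
  obtain ⟨D, hxD, R, B, _, _, _, m, s, ι, j, hs, hι, hj, hcomm⟩ :=
    exists_local_finite_model f x hx
  haveI := hι
  haveI := hj
  haveI : Module.Finite R B := ⟨⟨Finset.univ.image s, by
    rw [Finset.coe_image, Finset.coe_univ, Set.image_univ]; exact hs⟩⟩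
  obtain ⟨B₁, _, _, φ, hfin, hfp, hφ⟩ := exists_finite_fp_cover R B
  haveI : IsClosedImmersion (Spec.map (CommRingCat.ofHom φ.toRingHom)) :=
    IsClosedImmersion.spec_of_surjective _ hφ
  haveI : IsImmersion (j ≫ Spec.map (CommRingCat.ofHom φ.toRingHom)) := inferInstance
  haveI : IsFinite (Spec.map (CommRingCat.ofHom (algebraMap R B₁))) :=
    (IsFinite.SpecMap_iff _).mpr (RingHom.finite_algebraMap.mpr hfin)
  haveI : LocallyOfFinitePresentation (Spec.map (CommRingCat.ofHom (algebraMap R B₁))) :=
    (HasRingHomProperty.Spec_iff (P := @LocallyOfFinitePresentation)).mpr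
      (RingHom.finitePresentation_algebraMap.mpr hfp)
  have hca : Spec.map (CommRingCat.ofHom φ.toRingHom) ≫
      Spec.map (CommRingCat.ofHom (algebraMap R B₁)) =
      Spec.map (CommRingCat.ofHom (algebraMap R B)) := by
    rw [← Spec.map_comp]
    congr 1
    apply CommRingCat.hom_ext
    apply RingHom.ext
    intro r
    exact φ.commutes r
  refine ⟨D, hxD, (j ≫ Spec.map (CommRingCat.ofHom φ.toRingHom)).coborderRange.toScheme,
    Spec (.of R), (j ≫ Spec.map (CommRingCat.ofHom φ.toRingHom)).liftCoborder,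
    (j ≫ Spec.map (CommRingCat.ofHom φ.toRingHom)).coborderRange.ι ≫
      Spec.map (CommRingCat.ofHom (algebraMap R B₁)), ι,
    inferInstance, inferInstance, inferInstance, hι, ?_⟩
  rw [Category.assoc, ← Category.assoc, Scheme.Hom.liftCoborder_ι, Category.assoc,
    ← Category.assoc (Spec.map (CommRingCat.ofHom φ.toRingHom)), hca]
  exact hcomm

/-- **Level sets of a weighting are locally constructible.** -/
theorem cfun_of_isWeighting (f : X ⟶ Y) [LocallyQuasiFinite f] [LocallyOfFiniteType f]
    (w : X → ℤ) (hw : MoreMor.IsWeighting f w) : CFun w := by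
  intro n
  choose D hxD O R' i f₁ ι hi hqf hfp hι hcomm using
    fun x => exists_local_fp_model f x (f.quasiFiniteAt x)
  have hcover : TopologicalSpace.IsOpenCover D :=
    TopologicalSpace.IsOpenCover.mk
      (eq_top_iff.mpr fun z _ => TopologicalSpace.Opens.mem_iSup.mpr ⟨z, hxD z⟩)
  refine IsLocallyConstructible.of_isOpenCover hcover (fun x => ?_)
  haveI := hi x
  haveI := hqf x
  haveI := hfp x
  haveI := hι x
  have hw₀ : MoreMor.IsWeighting ((D x).ι ≫ f) (fun z => w ((D x).ι z)) :=
    isWeighting_openImmersion_comp f w hw (D x).ι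
  have hw₀' : MoreMor.IsWeighting ((i x ≫ f₁ x) ≫ ι x) (fun z => w ((D x).ι z)) := by
    rw [Category.assoc, hcomm x]
    exact hw₀
  haveI : LocallyQuasiFinite ((i x ≫ f₁ x) ≫ ι x) := inferInstance
  haveI : LocallyOfFiniteType ((i x ≫ f₁ x) ≫ ι x) := inferInstance
  have hw₁ := isWeighting_of_comp_mono (i x ≫ f₁ x) (ι x) _ hw₀'
  have hw₂ := isWeighting_extend_closedImmersion (i x) (f₁ x) _ hw₁
  have hc := cfun_of_isWeighting_fp (f₁ x) _ hw₂ n
  have hpre := isLocallyConstructible_preimage (i x) hc
  have heq : ((D x : Set X) ↓∩ {z | w z = n}) =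
      (i x) ⁻¹' {o | Function.extend (i x) (fun z => w ((D x).ι z)) 0 o = n} := by
    ext z
    show w z.1 = n ↔ Function.extend (i x) (fun z => w ((D x).ι z)) 0 (i x z) = n
    rw [(i x).isClosedEmbedding.injective.extend_apply]
    rfl
  rw [heq]
  exact hpre

end Groth.Agent.H7
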