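import Groth.Agent.H7.WeightingBC
import Mathlib.Topology.Semicontinuity.Defs

set_option autoImplicit false
set_option linter.style.haveILetI false
universe u

namespace Groth.Agent.H7

open AlgebraicGeometry CategoryTheory Limits IsLocalRing

variable {X Y V : Scheme.{u}}

theorem le_finsum_mem_of_nonneg {α : Type*} (s : Set α) (hs : s.Finite) (f : α → ℤ)
    (hf : ∀ a ∈ s, 0 ≤ f a) (a : α) (ha : a ∈ s) : f a ≤ ∑ᶠ x ∈ s, f x := by
  rw [← finsum_mem_inter_add_sdiff {a} hs]
  have h1 : s ∩ {a} = {a} := Set.inter_eq_right.mpr (Set.singleton_subset_iff.mpr ha)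
  rw [h1, finsum_mem_singleton]
  have := finsum_mem_nonneg' (s \ {a}) f (fun x hx => hf x hx.1)
  linarith

theorem fibreTerm_pos {U B : Scheme.{u}} (π : U ⟶ B) [LocallyQuasiFinite π] (w : U → ℤ) (x : U)
    (hw : 0 < w x) : w x ≤ fibreTerm π w x := by
  have h := sepDegHom_ne_zero _ (finite_residueFieldMap π x (π.quasiFiniteAt x))
  have h1 : (1 : ℤ) ≤ (sepDegHom (π.residueFieldMap x).hom : ℤ) := by
    exact_mod_cast Nat.one_le_iff_ne_zero.mpr h
  unfold fibreTerm
  nlinarith

/-- If the residue field extension of `f` at `fst ρ` has separable degree one, so does that of the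
base change at `ρ`. -/
theorem sepDegHom_snd_eq_one (f : X ⟶ Y) [LocallyQuasiFinite f] (γ : V ⟶ Y) (ρ : ↑(pullback f γ))
    (hsd : sepDegHom (f.residueFieldMap (pullback.fst f γ ρ)).hom = 1) :
    sepDegHom ((pullback.snd f γ).residueFieldMap ρ).hom = 1 := by
  have hfin := finite_residueFieldMap (pullback.snd f γ) ρ ((pullback.snd f γ).quasiFiniteAt ρ)
  obtain ⟨hF, hcard⟩ := finite_and_card_geomPts_at (pullback.snd f γ) ρ _ rfl
    (CommRingCat.ofHom (algebraMap (V.residueField (pullback.snd f γ ρ))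
      (AlgebraicClosure (V.residueField (pullback.snd f γ ρ))))) hfin
  rw [← hcard, Nat.card_eq_one_iff_unique]
  refine ⟨⟨fun s₁ s₂ => ?_⟩, ?_⟩
  · apply Subtype.ext
    refine geomPt_ext_of_sepDeg_eq_one f γ _ _ s₁.1 s₂.1 s₁.2.1 s₂.2.1 (pullback.fst f γ ρ)
      ?_ ?_ (finite_residueFieldMap f _ (f.quasiFiniteAt _)) hsd
    · show pullback.fst f γ (s₁.1 (closedPoint _)) = _
      rw [s₁.2.2]
    · show pullback.fst f γ (s₂.1 (closedPoint _)) = _
      rw [s₂.2.2]
  · have hne := sepDegHom_ne_zero _ hfin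
    rw [← hcard] at hne
    exact (Nat.card_ne_zero.mp hne).1

section

variable (f : X ⟶ Y) [LocallyQuasiFinite f] [LocallyOfFiniteType f] (w : X → ℤ)

/-- A locally quasi-finite morphism with a positive weighting is open. -/
theorem isOpenMap_of_isWeighting_pos (hw : MoreMor.IsWeighting f w) (hpos : ∀ x, 0 < w x) :
    IsOpenMap f := by
  intro O hO
  rw [isOpen_iff_mem_nhds]
  rintro _ ⟨x, hxO, rfl⟩
  obtain ⟨V₂, g₂, v₂, hg₂, hgv₂, hres₂, W, t, htW, hWfin, hsndt, htuniq, hfstt⟩ :=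
    exists_etale_nbhd_of_quasiFiniteAt f x (f.quasiFiniteAt x)
  haveI := hg₂
  haveI := hWfin
  have hH := hw V₂ g₂ W hWfin
  have hHform : ∀ b, MoreMor.fibreIntegral (W.ι ≫ pullback.snd f g₂)
      (fun u => w (pullback.fst f g₂ (W.ι u))) b =
      ∑ᶠ p ∈ pullback.snd f g₂ ⁻¹' {b} ∩ (W : Set ↑(pullback f g₂)),
        fibreTerm (pullback.snd f g₂) (fun p => w (pullback.fst f g₂ p)) p := fun b =>
    fibreIntegral_opens_ι (pullback.snd f g₂) W (fun p => w (pullback.fst f g₂ p)) b
  have hC : IsClosed (pullback.snd f g₂ ''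
      ((W : Set ↑(pullback f g₂)) \ (pullback.fst f g₂ ⁻¹' O))) := by
    have := isClosed_image_diff W.ι (pullback.snd f g₂) (pullback.fst f g₂ ⁻¹' O)
      (hO.preimage (pullback.fst f g₂).continuous)
    rwa [Scheme.Opens.range_ι] at this
  have hv₂C : v₂ ∉ pullback.snd f g₂ ''
      ((W : Set ↑(pullback f g₂)) \ (pullback.fst f g₂ ⁻¹' O)) := by
    rintro ⟨p, ⟨hpW, hpO⟩, hp⟩
    have := htuniq p hpW hp
    subst this
    exact hpO (by show pullback.fst f g₂ p ∈ O; rw [hfstt]; exact hxO)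
  have hfibt : pullback.snd f g₂ ⁻¹' {v₂} ∩ (W : Set ↑(pullback f g₂)) = {t} := by
    ext p
    constructor
    · rintro ⟨hp1, hp2⟩
      exact htuniq p hp2 hp1
    · rintro rfl
      exact ⟨hsndt, htW⟩
  have hHv : 0 < MoreMor.fibreIntegral (W.ι ≫ pullback.snd f g₂)
      (fun u => w (pullback.fst f g₂ (W.ι u))) v₂ := by
    rw [hHform, hfibt, finsum_mem_singleton]
    exact lt_of_lt_of_le (hpos _) (fibreTerm_pos (pullback.snd f g₂) _ t (hpos _))
  have hNopen : IsOpen ({b | MoreMor.fibreIntegral (W.ι ≫ pullback.snd f g₂)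
      (fun u => w (pullback.fst f g₂ (W.ι u))) b = MoreMor.fibreIntegral (W.ι ≫ pullback.snd f g₂)
      (fun u => w (pullback.fst f g₂ (W.ι u))) v₂} ∩ (pullback.snd f g₂ ''
      ((W : Set ↑(pullback f g₂)) \ (pullback.fst f g₂ ⁻¹' O)))ᶜ) :=
    (hH.isOpen_fiber _).inter hC.isOpen_compl
  refine Filter.mem_of_superset ((g₂.isOpenMap _ hNopen).mem_nhds ⟨v₂, ⟨rfl, hv₂C⟩, hgv₂⟩) ?_
  rintro _ ⟨b, ⟨hb1, hb2⟩, rfl⟩
  have hHb : 0 < MoreMor.fibreIntegral (W.ι ≫ pullback.snd f g₂)
      (fun u => w (pullback.fst f g₂ (W.ι u))) b := by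
    rw [Set.mem_ofPred_eq] at hb1
    rw [hb1]; exact hHv
  have hne : (pullback.snd f g₂ ⁻¹' {b} ∩ (W : Set ↑(pullback f g₂))).Nonempty := by
    by_contra hne
    rw [Set.not_nonempty_iff_eq_empty] at hne
    rw [hHform, hne, finsum_mem_empty] at hHb
    exact lt_irrefl _ hHb
  obtain ⟨p, hpb, hpW⟩ := hne
  have hpO : pullback.fst f g₂ p ∈ O := by
    by_contra h
    exact hb2 ⟨p, ⟨hpW, h⟩, hpb⟩
  refine ⟨pullback.fst f g₂ p, hpO, ?_⟩
  have := congrArg (fun φ : pullback f g₂ ⟶ Y => φ p) (pullback.condition (f := f) (g := g₂))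
  refine this.trans ?_
  show g₂ (pullback.snd f g₂ p) = g₂ b
  rw [hpb]

/-- A locally quasi-finite morphism with a positive weighting is universally open. -/
theorem universallyOpen_of_isWeighting_pos (hw : MoreMor.IsWeighting f w) (hpos : ∀ x, 0 < w x) :
    UniversallyOpen f := by
  refine ⟨fun X' Y' i₁ i₂ f' hc => ?_⟩
  haveI : LocallyQuasiFinite f' :=
    MorphismProperty.of_isPullback (P := @LocallyQuasiFinite) hc.flip inferInstance
  haveI : LocallyOfFiniteType f' :=
    MorphismProperty.of_isPullback (P := @LocallyOfFiniteType) hc.flip inferInstance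
  exact isOpenMap_of_isWeighting_pos f' (w ∘ ⇑i₁)
    (isWeighting_baseChange f w hw f' i₁ i₂ hc.flip) (fun x => hpos _)

/-- A positive weighting of a locally quasi-finite morphism is upper semicontinuous. -/
theorem upperSemicontinuous_of_isWeighting_pos (hw : MoreMor.IsWeighting f w)
    (hpos : ∀ x, 0 < w x) : UpperSemicontinuous w := by
  intro x c hc
  obtain ⟨V, gV, v, hgV, hv, hPI⟩ := exists_etale_nbhd_sepDeg_eq_one f (f x) {x}
    (Set.finite_singleton x) (by simp) (fun x _ => f.quasiFiniteAt x)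
  haveI := hgV
  obtain ⟨z, hz1, hz2⟩ := Scheme.Pullback.exists_preimage_pullback (f := f) (g := gV) x v hv.symm
  have hsdz : sepDegHom ((pullback.snd f gV).residueFieldMap z).hom = 1 :=
    hPI z hz2 (by rw [hz1]; rfl)
  have hw₁ := isWeighting_snd_of_etale f w hw gV
  obtain ⟨V₂, g₂, v₂, hg₂, hgv₂, hres₂, W, t, htW, hWfin, hsndt, htuniq, hfstt⟩ :=
    exists_etale_nbhd_of_quasiFiniteAt (pullback.snd f gV) z ((pullback.snd f gV).quasiFiniteAt z)
  haveI := hg₂
  haveI := hWfin
  have hH := hw₁ V₂ g₂ W hWfin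
  have hHform : ∀ b, MoreMor.fibreIntegral (W.ι ≫ pullback.snd (pullback.snd f gV) g₂)
      (fun u => (fun p => w (pullback.fst f gV p))
        (pullback.fst (pullback.snd f gV) g₂ (W.ι u))) b =
      ∑ᶠ p ∈ pullback.snd (pullback.snd f gV) g₂ ⁻¹' {b} ∩
          (W : Set ↑(pullback (pullback.snd f gV) g₂)),
        fibreTerm (pullback.snd (pullback.snd f gV) g₂)
          (fun p => w (pullback.fst f gV (pullback.fst (pullback.snd f gV) g₂ p))) p := fun b =>
    fibreIntegral_opens_ι (pullback.snd (pullback.snd f gV) g₂) W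
      (fun p => w (pullback.fst f gV (pullback.fst (pullback.snd f gV) g₂ p))) b
  have hsdt : sepDegHom ((pullback.snd (pullback.snd f gV) g₂).residueFieldMap t).hom = 1 :=
    sepDegHom_snd_eq_one (pullback.snd f gV) g₂ t (by rw [hfstt]; exact hsdz)
  have hfibt : pullback.snd (pullback.snd f gV) g₂ ⁻¹' {v₂} ∩
      (W : Set ↑(pullback (pullback.snd f gV) g₂)) = {t} := by
    ext p
    constructor
    · rintro ⟨hp1, hp2⟩
      exact htuniq p hp2 hp1
    · rintro rfl
      exact ⟨hsndt, htW⟩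
  have hHv : MoreMor.fibreIntegral (W.ι ≫ pullback.snd (pullback.snd f gV) g₂)
      (fun u => (fun p => w (pullback.fst f gV p))
        (pullback.fst (pullback.snd f gV) g₂ (W.ι u))) v₂ = w x := by
    rw [hHform, hfibt, finsum_mem_singleton]
    unfold fibreTerm
    rw [hsdt]
    show w (pullback.fst f gV (pullback.fst (pullback.snd f gV) g₂ t)) * ((1 : ℕ) : ℤ) = w x
    rw [hfstt, hz1]
    simp
  have hle : ∀ p ∈ W, MoreMor.fibreIntegral (W.ι ≫ pullback.snd (pullback.snd f gV) g₂)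
      (fun u => (fun p => w (pullback.fst f gV p))
        (pullback.fst (pullback.snd f gV) g₂ (W.ι u))) (pullback.snd (pullback.snd f gV) g₂ p) =
      MoreMor.fibreIntegral (W.ι ≫ pullback.snd (pullback.snd f gV) g₂)
      (fun u => (fun p => w (pullback.fst f gV p))
        (pullback.fst (pullback.snd f gV) g₂ (W.ι u))) v₂ →
      w (pullback.fst f gV (pullback.fst (pullback.snd f gV) g₂ p)) ≤ w x := by
    intro p hpW hp
    rw [hHv, hHform] at hp
    rw [← hp]
    have hfinfib := finite_fibre_inter_range W.ι (pullback.snd (pullback.snd f gV) g₂)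
      (pullback.snd (pullback.snd f gV) g₂ p)
    rw [Scheme.Opens.range_ι] at hfinfib
    refine le_trans (fibreTerm_pos (pullback.snd (pullback.snd f gV) g₂)
      (fun p => w (pullback.fst f gV (pullback.fst (pullback.snd f gV) g₂ p))) p (hpos _)) ?_
    exact le_finsum_mem_of_nonneg _ hfinfib _
      (fun a _ => fibreTerm_nonneg _ _ a (hpos _).le) p ⟨rfl, hpW⟩
  have hOopen : IsOpen ((pullback.fst (pullback.snd f gV) g₂ ≫ pullback.fst f gV) ''
      ((W : Set ↑(pullback (pullback.snd f gV) g₂)) ∩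
        pullback.snd (pullback.snd f gV) g₂ ⁻¹' {b | MoreMor.fibreIntegral
          (W.ι ≫ pullback.snd (pullback.snd f gV) g₂)
          (fun u => (fun p => w (pullback.fst f gV p))
            (pullback.fst (pullback.snd f gV) g₂ (W.ι u))) b =
          MoreMor.fibreIntegral (W.ι ≫ pullback.snd (pullback.snd f gV) g₂)
          (fun u => (fun p => w (pullback.fst f gV p))
            (pullback.fst (pullback.snd f gV) g₂ (W.ι u))) v₂})) :=
    (pullback.fst (pullback.snd f gV) g₂ ≫ pullback.fst f gV).isOpenMap _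
      (W.2.inter ((hH.isOpen_fiber _).preimage
        (pullback.snd (pullback.snd f gV) g₂).continuous))
  refine Filter.eventually_of_mem (hOopen.mem_nhds ⟨t, ⟨htW, ?_⟩, ?_⟩) ?_
  · show MoreMor.fibreIntegral _ _ (pullback.snd (pullback.snd f gV) g₂ t) =
      MoreMor.fibreIntegral _ _ v₂
    rw [hsndt]
  · show pullback.fst f gV (pullback.fst (pullback.snd f gV) g₂ t) = x
    rw [hfstt, hz1]
  · rintro _ ⟨p, ⟨hpW, hp⟩, rfl⟩
    exact lt_of_le_of_lt (hle p hpW hp) hc

end

end Groth.Agent.H7
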